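import Cfsg.Agent.Lib.Lie.GoodA

/-! Checks used for perfectness and irreducibility. -/

set_option autoImplicit false
set_option maxRecDepth 8000

namespace Cfsg.Agent.Chev

open Cfsg.Lie

namespace Tab

/-- `p_i` is the only commutator term of some pair, with coefficient `±k` -/
def checkPair (T : Tab) (k i : ℕ) : Bool :=
  anyBelow (fun j => anyBelow (fun s =>
    !Nat.beq s (T.neg (T.smp j)) && !Nat.beq s (T.smp j) &&
    match T.cTerms (T.neg (T.smp j)) s with
    | [(a, C, 1, 1)] => Nat.beq a (T.smp i) && Nat.beq C.natAbs k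
    | _ => false) T.n) T.l

/-- every fundamental root is a commutator term with unit coefficient -/
def checkPerf1 (T : Tab) : Bool := allBelow (fun i => T.checkPair 1 i) T.l

/-- the weaker condition, valid for fields with at least three elements -/
def checkPerf2 (T : Tab) : Bool :=
  allBelow (fun i => T.checkPair 1 i || T.checkPair 2 i ||
    anyBelow (fun j => Nat.beq ((T.A j (T.smp i)).natAbs % 2) 1) T.l) T.l

/-- the diagram is connected -/
def checkConn (T : Tab) : Bool :=
  allBelow (fun m => !anyBelow (fun i => Nat.testBit m i) T.l ||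
    !anyBelow (fun i => !Nat.testBit m i) T.l ||
    anyBelow (fun i => anyBelow (fun j =>
      Nat.testBit m i && !Nat.testBit m j && !(T.A i (T.smp j) == 0)) T.l) T.l) (2 ^ T.l)

/-- The extra checks. -/
structure GoodS (T : Tab) : Prop extends T.GoodA where
  perf2 : T.checkPerf2 = true
  conn : T.checkConn = true

end Tab

theorem exists_goodS {D : ChevalleyDatum}
    (hD : D ∈ [chevG2, chevB2, chevD4, chevF4, chevE6, chevE7, chevE8]) :
    ∃ T : Tab, T.GoodS ∧ T.D = D ∧
      (¬(D = chevG2 ∨ D = chevB2) → T.checkPerf1 = true) := by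
  simp only [List.mem_cons, List.not_mem_nil, or_false] at hD
  rcases hD with rfl | rfl | rfl | rfl | rfl | rfl | rfl
  · exact ⟨_, ⟨⟨G2Data.good, by decide +kernel⟩, by decide +kernel, by decide +kernel⟩, rfl,
      fun h => absurd (Or.inl rfl) h⟩
  · exact ⟨_, ⟨⟨B2Data.good, by decide +kernel⟩, by decide +kernel, by decide +kernel⟩, rfl,
      fun h => absurd (Or.inr rfl) h⟩
  · exact ⟨_, ⟨⟨D4Data.good, by decide +kernel⟩, by decide +kernel, by decide +kernel⟩, rfl,
      fun _ => by decide +kernel⟩
  · exact ⟨_, ⟨⟨F4Data.good, by decide +kernel⟩, by decide +kernel, by decide +kernel⟩, rfl,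
      fun _ => by decide +kernel⟩
  · exact ⟨_, ⟨⟨E6Data.good, by decide +kernel⟩, by decide +kernel, by decide +kernel⟩, rfl,
      fun _ => by decide +kernel⟩
  · exact ⟨_, ⟨⟨E7Data.good, by decide +kernel⟩, by decide +kernel, by decide +kernel⟩, rfl,
      fun _ => by decide +kernel⟩
  · exact ⟨_, ⟨⟨E8Data.good, by decide +kernel⟩, by decide +kernel, by decide +kernel⟩, rfl,
      fun _ => by decide +kernel⟩

end Cfsg.Agent.Chev
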