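import Mathlib.GroupTheory.DoubleCoset
import Mathlib.GroupTheory.QuotientGroup.Basic
import Mathlib.GroupTheory.Coxeter.Basic
import Cfsg.Prelude.Def_LieExceptional

/-!
# Tits systems: the standard theory of a `Cfsg.BNPair`

Bruhat decomposition with uniqueness, the length function on `W = N / (B ⊓ N)`, the exchange
condition, standard parabolic subgroups and the comparison with Coxeter groups.
-/

set_option autoImplicit false

namespace Cfsg.Agent.BN

variable {G : Type*} [Group G] (P : Cfsg.BNPair G)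

/-- `B ⊓ N` as a subgroup of `N`. -/
abbrev hSub : Subgroup P.N := (P.B ⊓ P.N).subgroupOf P.N

instance hSub_normal : (hSub P).Normal where
  conj_mem n hn g := by
    simp only [Subgroup.mem_subgroupOf, Subgroup.mem_inf, Subgroup.coe_mul, Subgroup.coe_inv] at hn ⊢
    exact ⟨P.conj_mem g g.2 n hn, P.N.mul_mem (P.N.mul_mem g.2 hn.2) (P.N.inv_mem g.2)⟩

/-- The Weyl group `N / (B ⊓ N)`. -/
abbrev W := P.N ⧸ hSub P

/-- The image in `W` of an element of `N`. -/
abbrev wmk (n : G) (hn : n ∈ P.N) : W P := QuotientGroup.mk ⟨n, hn⟩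

/-- The distinguished involution attached to a representative. -/
def σ (s : P.S) : W P := wmk P s (P.subset s.2)

/-- The product in `W` of a word in the distinguished involutions. -/
def wp (l : List P.S) : W P := (l.map (σ P)).prod

/-- The double coset `B g B`. -/
abbrev dc (g : G) : Set G := DoubleCoset.doubleCoset g (P.B : Set G) P.B

theorem wmk_mul {a b : G} (ha : a ∈ P.N) (hb : b ∈ P.N) :
    wmk P (a * b) (P.N.mul_mem ha hb) = wmk P a ha * wmk P b hb := rfl

theorem wmk_inv {a : G} (ha : a ∈ P.N) :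
    wmk P a⁻¹ (P.N.inv_mem ha) = (wmk P a ha)⁻¹ := rfl

theorem wmk_eq_iff {a b : G} (ha : a ∈ P.N) (hb : b ∈ P.N) :
    wmk P a ha = wmk P b hb ↔ a⁻¹ * b ∈ P.B := by
  rw [wmk, wmk, QuotientGroup.eq]
  simp only [Subgroup.mem_subgroupOf, Subgroup.mem_inf, Subgroup.coe_mul, Subgroup.coe_inv]
  exact ⟨And.left, fun h => ⟨h, P.N.mul_mem (P.N.inv_mem ha) hb⟩⟩

theorem wmk_eq_one_iff {a : G} (ha : a ∈ P.N) : wmk P a ha = 1 ↔ a ∈ P.B := by
  rw [wmk, QuotientGroup.eq_one_iff]
  simp only [Subgroup.mem_subgroupOf, Subgroup.mem_inf]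
  exact ⟨And.left, fun h => ⟨h, ha⟩⟩

theorem exists_rep (w : W P) : ∃ n, ∃ hn : n ∈ P.N, wmk P n hn = w := by
  obtain ⟨⟨n, hn⟩, rfl⟩ := QuotientGroup.mk_surjective w
  exact ⟨n, hn, rfl⟩

theorem not_mem_B {s : G} (hs : s ∈ P.S) : s ∉ P.B := by
  intro hB
  apply P.conj_ne s hs
  ext x
  constructor
  · rintro ⟨b, hb, rfl⟩
    exact P.B.mul_mem (P.B.mul_mem hB hb) hB
  · intro hx
    exact ⟨s⁻¹ * x * s⁻¹, P.B.mul_mem (P.B.mul_mem (P.B.inv_mem hB) hx) (P.B.inv_mem hB), by group⟩

theorem σ_ne_one (s : P.S) : σ P s ≠ 1 := by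
  rw [σ, Ne, wmk_eq_one_iff]
  exact not_mem_B P s.2

theorem σ_mul_self (s : P.S) : σ P s * σ P s = 1 := by
  rw [σ, ← wmk_mul, wmk_eq_one_iff]
  exact P.sq_mem s s.2

theorem σ_inv (s : P.S) : (σ P s)⁻¹ = σ P s := inv_eq_of_mul_eq_one_right (σ_mul_self P s)

theorem σ_inj {s t : P.S} (h : σ P s = σ P t) : s = t := by
  rw [σ, σ, wmk_eq_iff] at h
  exact Subtype.ext (P.inj s s.2 t t.2 h)

theorem σ_cancel (s : P.S) (w : W P) : σ P s * (σ P s * w) = w := by
  rw [← mul_assoc, σ_mul_self, one_mul]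

@[simp] theorem wp_nil : wp P [] = 1 := rfl

@[simp] theorem wp_cons (s : P.S) (l : List P.S) : wp P (s :: l) = σ P s * wp P l := by
  simp [wp]

@[simp] theorem wp_append (l l' : List P.S) : wp P (l ++ l') = wp P l * wp P l' := by
  simp [wp]

theorem wp_reverse (l : List P.S) : wp P l.reverse = (wp P l)⁻¹ := by
  induction l with
  | nil => simp
  | cons s l ih => simp [ih, σ_inv]

theorem exists_word (w : W P) : ∃ l, wp P l = w := by
  obtain ⟨n, hn, rfl⟩ := exists_rep P w
  let T : Subgroup G :=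
    { carrier := {g | ∃ hg : g ∈ P.N, ∃ l, wp P l = wmk P g hg}
      one_mem' := ⟨P.N.one_mem, [], rfl⟩
      mul_mem' := by
        rintro a b ⟨ha, l, hl⟩ ⟨hb, l', hl'⟩
        exact ⟨P.N.mul_mem ha hb, l ++ l', by rw [wmk_mul P ha hb, wp_append, hl, hl']⟩
      inv_mem' := by
        rintro a ⟨ha, l, hl⟩
        exact ⟨P.N.inv_mem ha, l.reverse, by rw [wmk_inv P ha, wp_reverse, hl]⟩ }
  have hle : Subgroup.closure P.S ⊔ (P.B ⊓ P.N) ≤ T := by
    refine sup_le ((Subgroup.closure_le _).2 fun s hs => ?_) fun g hg => ?_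
    · exact ⟨P.subset hs, [⟨s, hs⟩], by simp [σ]⟩
    · exact ⟨hg.2, [], by rw [wp_nil, eq_comm, wmk_eq_one_iff]; exact hg.1⟩
  rw [P.closure_sup] at hle
  obtain ⟨_, l, hl⟩ := hle hn
  exact ⟨l, hl⟩

/-- The length of an element of `W`. -/
noncomputable def len (w : W P) : ℕ := sInf {k | ∃ l, l.length = k ∧ wp P l = w}

theorem exists_reduced (w : W P) : ∃ l : List P.S, l.length = len P w ∧ wp P l = w := by
  obtain ⟨l, hl⟩ := exists_word P w
  exact Nat.sInf_mem (s := {k | ∃ l, l.length = k ∧ wp P l = w}) ⟨_, l, rfl, hl⟩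

theorem len_wp_le (l : List P.S) : len P (wp P l) ≤ l.length := Nat.sInf_le ⟨l, rfl, rfl⟩

theorem len_eq_zero {w : W P} : len P w = 0 ↔ w = 1 := by
  constructor
  · intro h
    obtain ⟨l, hl, rfl⟩ := exists_reduced P w
    rw [h, List.length_eq_zero_iff] at hl
    simp [hl]
  · rintro rfl
    simpa using len_wp_le P []

@[simp] theorem len_one : len P 1 = 0 := (len_eq_zero P).2 rfl

theorem len_inv (w : W P) : len P w⁻¹ = len P w := by
  have key : ∀ w : W P, len P w⁻¹ ≤ len P w := fun w => by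
    obtain ⟨l, hl, rfl⟩ := exists_reduced P w
    rw [← wp_reverse, ← hl]
    simpa using len_wp_le P l.reverse
  exact le_antisymm (key w) (by simpa using key w⁻¹)

theorem len_σ_mul_le (s : P.S) (w : W P) : len P (σ P s * w) ≤ len P w + 1 := by
  obtain ⟨l, hl, rfl⟩ := exists_reduced P w
  rw [← hl]
  simpa using len_wp_le P (s :: l)

theorem len_le_σ_mul (s : P.S) (w : W P) : len P w ≤ len P (σ P s * w) + 1 := by
  simpa [σ_cancel] using len_σ_mul_le P s (σ P s * w)

theorem len_σ (s : P.S) : len P (σ P s) = 1 := by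
  refine le_antisymm (by simpa using len_wp_le P [s]) (Nat.one_le_iff_ne_zero.2 fun h => ?_)
  exact σ_ne_one P s ((len_eq_zero P).1 h)

/-- The Bruhat cell of an element of `W`. -/
noncomputable def cell (w : W P) : Set G := dc P ((Quotient.out w : P.N) : G)

theorem dc_eq_of_mem {a b : G} (h : b ∈ dc P a) : dc P b = dc P a :=
  DoubleCoset.doubleCoset_eq_of_mem h

theorem self_mem_dc (a : G) : a ∈ dc P a := DoubleCoset.mem_doubleCoset_self P.B P.B a

theorem dc_mul_left {b g : G} (hb : b ∈ P.B) : dc P (b * g) = dc P g :=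
  dc_eq_of_mem P (DoubleCoset.mem_doubleCoset.2 ⟨b, hb, 1, P.B.one_mem, by simp⟩)

theorem dc_mul_right {b g : G} (hb : b ∈ P.B) : dc P (g * b) = dc P g :=
  dc_eq_of_mem P (DoubleCoset.mem_doubleCoset.2 ⟨1, P.B.one_mem, b, hb, by simp⟩)

theorem cell_mk {n : G} (hn : n ∈ P.N) : cell P (wmk P n hn) = dc P n := by
  obtain ⟨⟨m, hm⟩, hm'⟩ : ∃ x : P.N, x = Quotient.out (wmk P n hn) := ⟨_, rfl⟩
  have hq : wmk P m hm = wmk P n hn := by
    show QuotientGroup.mk (⟨m, hm⟩ : P.N) = _
    rw [hm']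
    exact Quotient.out_eq _
  rw [wmk_eq_iff] at hq
  rw [cell, ← hm']
  conv_rhs => rw [show n = m * (m⁻¹ * n) by group, dc_mul_right P hq]

theorem dc_one : dc P 1 = (P.B : Set G) := by
  ext x
  rw [DoubleCoset.mem_doubleCoset]
  constructor
  · rintro ⟨a, ha, b, hb, rfl⟩
    simpa using P.B.mul_mem ha hb
  · exact fun hx => ⟨x, hx, 1, P.B.one_mem, by simp⟩

theorem cell_one : cell P 1 = (P.B : Set G) := by
  have := cell_mk P P.N.one_mem
  rw [dc_one] at this
  exact this

theorem cell_σ (s : P.S) : cell P (σ P s) = dc P (s : G) := cell_mk P _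

theorem cell_nonempty (w : W P) : (cell P w).Nonempty := ⟨_, self_mem_dc P _⟩

theorem cell_mul_left {w : W P} {b g : G} (hb : b ∈ P.B) (hg : g ∈ cell P w) :
    b * g ∈ cell P w := by
  have := self_mem_dc P (b * g)
  rwa [dc_mul_left P hb, dc_eq_of_mem P hg] at this

theorem cell_mul_right {w : W P} {b g : G} (hb : b ∈ P.B) (hg : g ∈ cell P w) :
    g * b ∈ cell P w := by
  have := self_mem_dc P (g * b)
  rwa [dc_mul_right P hb, dc_eq_of_mem P hg] at this

theorem cell_inv {w : W P} {g : G} (hg : g ∈ cell P w) : g⁻¹ ∈ cell P w⁻¹ := by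
  obtain ⟨n, hn, rfl⟩ := exists_rep P w
  rw [cell_mk] at hg
  rw [← wmk_inv P hn, cell_mk]
  obtain ⟨a, ha, b, hb, rfl⟩ := DoubleCoset.mem_doubleCoset.1 hg
  exact DoubleCoset.mem_doubleCoset.2
    ⟨b⁻¹, P.B.inv_mem hb, a⁻¹, P.B.inv_mem ha, by group⟩

theorem mul_mem_cell (s : P.S) (w : W P) {x y : G} (hx : x ∈ cell P (σ P s)) (hy : y ∈ cell P w) :
    x * y ∈ cell P (σ P s * w) ∨ x * y ∈ cell P w := by
  obtain ⟨n, hn, rfl⟩ := exists_rep P w
  rw [cell_σ] at hx
  rw [cell_mk] at hy ⊢
  rw [σ, ← wmk_mul P (P.subset s.2) hn, cell_mk]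
  obtain ⟨a, ha, b, hb, rfl⟩ := DoubleCoset.mem_doubleCoset.1 hx
  obtain ⟨c, hc, d, hd, rfl⟩ := DoubleCoset.mem_doubleCoset.1 hy
  have e : a * s * b * (c * n * d) = a * (s * (b * c) * n) * d := by group
  rw [e]
  rcases P.mul_mem_union s s.2 n hn (b * c) (P.B.mul_mem hb hc) with h | h
  · left
    have := self_mem_dc P (a * (s * (b * c) * n) * d)
    rwa [dc_mul_right P hd, dc_mul_left P ha, dc_eq_of_mem P h] at this
  · right
    have := self_mem_dc P (a * (s * (b * c) * n) * d)
    rwa [dc_mul_right P hd, dc_mul_left P ha, dc_eq_of_mem P h] at this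

theorem mul_mem_cell' (s : P.S) (w : W P) {x y : G} (hy : y ∈ cell P w) (hx : x ∈ cell P (σ P s)) :
    y * x ∈ cell P (w * σ P s) ∨ y * x ∈ cell P w := by
  have hx' := cell_inv P hx
  rw [σ_inv] at hx'
  rcases mul_mem_cell P s w⁻¹ hx' (cell_inv P hy) with h | h
  · left
    simpa [σ_inv] using cell_inv P h
  · right
    simpa using cell_inv P h

theorem self_mem_cell_σ (s : P.S) : (s : G) ∈ cell P (σ P s) := by
  rw [cell_σ]; exact self_mem_dc P _

theorem inv_mem_cell_σ (s : P.S) : (s : G)⁻¹ ∈ cell P (σ P s) := by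
  simpa [σ_inv] using cell_inv P (self_mem_cell_σ P s)

theorem bruhat (g : G) : ∃ w, g ∈ cell P w := by
  suffices h : ∀ w, ∀ y ∈ cell P w, ∃ w', g * y ∈ cell P w' by
    simpa using h 1 1 (by rw [cell_one]; exact P.B.one_mem)
  have hg : g ∈ P.B ⊔ P.N := by rw [P.sup_eq_top]; trivial
  rw [← P.closure_sup] at hg
  have hS : P.B ⊔ (Subgroup.closure P.S ⊔ (P.B ⊓ P.N)) =
      Subgroup.closure ((P.B : Set G) ∪ P.S) := by
    rw [Subgroup.closure_union, Subgroup.closure_eq]
    refine le_antisymm (sup_le le_sup_left (sup_le le_sup_right (inf_le_left.trans le_sup_left)))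
      (sup_le le_sup_left (le_sup_left.trans le_sup_right))
  rw [hS] at hg
  induction hg using Subgroup.closure_induction_left with
  | one => exact fun w y hy => ⟨w, by simpa using hy⟩
  | mul_left x hx z _ ih =>
    intro w y hy
    obtain ⟨w', hw'⟩ := ih w y hy
    rw [mul_assoc]
    rcases hx with hx | hx
    · exact ⟨w', cell_mul_left P hx hw'⟩
    · rcases mul_mem_cell P ⟨x, hx⟩ w' (self_mem_cell_σ P ⟨x, hx⟩) hw' with h | h <;> exact ⟨_, h⟩
  | inv_mul_cancel x hx z _ ih =>
    intro w y hy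
    obtain ⟨w', hw'⟩ := ih w y hy
    rw [mul_assoc]
    rcases hx with hx | hx
    · exact ⟨w', cell_mul_left P (P.B.inv_mem hx) hw'⟩
    · rcases mul_mem_cell P ⟨x, hx⟩ w' (inv_mem_cell_σ P ⟨x, hx⟩) hw' with h | h <;> exact ⟨_, h⟩

theorem cell_eq_of_mem {w w' : W P} {g : G} (h : g ∈ cell P w) (h' : g ∈ cell P w') :
    cell P w = cell P w' := by
  unfold cell at h h' ⊢
  rw [← dc_eq_of_mem P h, ← dc_eq_of_mem P h']

theorem cell_injective {w w' : W P} (h : cell P w = cell P w') : w = w' := by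
  suffices H : ∀ k w w', len P w = k → len P w ≤ len P w' → cell P w = cell P w' → w = w' by
    rcases le_total (len P w) (len P w') with hle | hle
    · exact H _ w w' rfl hle h
    · exact (H _ w' w rfl hle h.symm).symm
  intro k
  induction k using Nat.strong_induction_on with
  | _ k IH =>
    intro w w' hk hle h
    obtain ⟨l, hl, rfl⟩ := exists_reduced P w
    cases l with
    | nil =>
      obtain ⟨n, hn, rfl⟩ := exists_rep P w'
      rw [wp_nil, cell_one, cell_mk] at h
      have hn' : n ∈ (P.B : Set G) := by rw [h]; exact self_mem_dc P n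
      rw [wp_nil, eq_comm, wmk_eq_one_iff]
      exact hn'
    | cons s l =>
      simp only [List.length_cons] at hl
      have hu : len P (wp P l) ≤ l.length := len_wp_le P l
      have hsw := len_le_σ_mul P s w'
      obtain ⟨n, hn, hnu⟩ := exists_rep P (wp P l)
      have hy : (s : G) * n ∈ cell P w' := by
        rw [← h, wp_cons, ← hnu, σ, ← wmk_mul P (P.subset s.2) hn, cell_mk]
        exact self_mem_dc P _
      have hn2 : n ∈ cell P (wp P l) := by rw [← hnu, cell_mk]; exact self_mem_dc P n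
      have hx := mul_mem_cell P s w' (inv_mem_cell_σ P s) hy
      rw [inv_mul_cancel_left] at hx
      rcases hx with h' | h'
      · have := IH _ (by omega) _ _ rfl (by omega) (cell_eq_of_mem P hn2 h')
        rw [wp_cons, this, σ_cancel]
      · have := IH _ (by omega) _ _ rfl (by omega) (cell_eq_of_mem P hn2 h')
        exact absurd (this ▸ hle) (by omega)

theorem eq_of_mem_cell {w w' : W P} {g : G} (h : g ∈ cell P w) (h' : g ∈ cell P w') : w = w' :=
  cell_injective P (cell_eq_of_mem P h h')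

theorem mul_mem_cell_of_le (s : P.S) (w : W P) (hle : len P w ≤ len P (σ P s * w))
    {x y : G} (hx : x ∈ cell P (σ P s)) (hy : y ∈ cell P w) : x * y ∈ cell P (σ P s * w) := by
  induction hk : len P w using Nat.strong_induction_on generalizing w x y with
  | _ k IH =>
    rcases mul_mem_cell P s w hx hy with h | h
    · exact h
    obtain ⟨l, hl, rfl⟩ := exists_reduced P w
    induction l using List.reverseRecOn with
    | nil =>
      simp only [wp_nil, mul_one, cell_one] at *
      have := cell_mul_right P hy hx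
      exact this
    | append_singleton l t _ =>
      exfalso
      simp only [List.length_append, List.length_singleton] at hl
      have hu : len P (wp P l) ≤ l.length := len_wp_le P l
      have hwt : wp P (l ++ [t]) = wp P l * σ P t := by simp
      have h2 : len P (σ P s * wp P (l ++ [t])) ≤ len P (σ P s * wp P l) + 1 := by
        have := len_σ_mul_le P t (σ P s * wp P l)⁻¹
        rw [len_inv] at this
        rw [← len_inv P (σ P s * wp P (l ++ [t])), hwt]
        simpa [mul_assoc, σ_inv] using this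
      -- split `y` as a product along `wp l * σ t`
      obtain ⟨n, hn, hnu⟩ := exists_rep P (wp P l)
      have hnt : cell P (wp P (l ++ [t])) = dc P (n * (t : G)) := by
        rw [hwt, ← hnu, σ, ← wmk_mul P hn (P.subset t.2), cell_mk]
      rw [hnt] at hy
      obtain ⟨a, ha, b, hb, rfl⟩ := DoubleCoset.mem_doubleCoset.1 hy
      have hn2 : a * n ∈ cell P (wp P l) := by
        rw [← hnu, cell_mk, ← dc_mul_left P (g := n) ha]; exact self_mem_dc P _
      have hxn := IH _ (by omega) (wp P l) (by omega) hx hn2 rfl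
      have htb : (t : G) * b ∈ cell P (σ P t) := cell_mul_right P hb (self_mem_cell_σ P t)
      have e : x * (a * (n * t) * b) = x * (a * n) * (t * b) := by group
      rw [e] at h
      rcases mul_mem_cell' P t _ hxn htb with h' | h' <;> have hh := eq_of_mem_cell P h h'
      · rw [hwt, mul_assoc] at hh
        exact σ_ne_one P s (mul_eq_right.1 hh.symm)
      · rw [hh, σ_cancel] at hle
        rw [hh] at hl
        omega

theorem exists_sq_mem (s : P.S) : ∃ b ∈ P.B, (s : G) * b * s ∈ cell P (σ P s) := by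
  by_contra hc
  push Not at hc
  apply P.conj_ne s s.2
  have hsub : ∀ b ∈ P.B, (s : G) * b * s ∈ P.B := by
    intro b hb
    rcases mul_mem_cell P s (σ P s) (cell_mul_right P hb (self_mem_cell_σ P s))
      (self_mem_cell_σ P s) with h | h
    · rwa [σ_mul_self, cell_one] at h
    · exact absurd h (hc b hb)
  ext x
  constructor
  · rintro ⟨b, hb, rfl⟩
    exact hsub b hb
  · intro hx
    refine ⟨(s : G)⁻¹ * x * (s : G)⁻¹, ?_, by group⟩
    have h2 := P.sq_mem s s.2
    have e : (s : G)⁻¹ * x * (s : G)⁻¹ =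
        ((s : G) * s)⁻¹ * ((s : G) * x * s) * ((s : G) * s)⁻¹ := by group
    rw [e]
    exact P.B.mul_mem (P.B.mul_mem (P.B.inv_mem h2) (hsub x hx)) (P.B.inv_mem h2)

theorem len_σ_mul_ne (s : P.S) (w : W P) : len P (σ P s * w) ≠ len P w := by
  intro he
  obtain ⟨b, hb, hbs⟩ := exists_sq_mem P s
  obtain ⟨y, hy⟩ := cell_nonempty P w
  have h1 := mul_mem_cell_of_le P s w he.ge hbs hy
  have h2 := mul_mem_cell_of_le P s w he.ge (self_mem_cell_σ P s) hy
  have h3 := mul_mem_cell_of_le P s (σ P s * w) (by rw [σ_cancel]; omega)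
    (cell_mul_right P hb (self_mem_cell_σ P s)) h2
  rw [σ_cancel] at h3
  have e : (s : G) * b * s * y = (s : G) * b * (s * y) := by group
  rw [e] at h1
  exact σ_ne_one P s (mul_eq_right.1 (eq_of_mem_cell P h1 h3))

theorem len_lt_or_gt (s : P.S) (w : W P) :
    len P (σ P s * w) < len P w ∨ len P w < len P (σ P s * w) :=
  (len_σ_mul_ne P s w).lt_or_gt

/-- If `s` shortens `w`, some element of `s B` carries the cell of `w` to itself. -/
theorem exists_mem_of_lt (s : P.S) (w : W P) (hlt : len P (σ P s * w) < len P w)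
    {y : G} (hy : y ∈ cell P w) : ∃ b ∈ P.B, (s : G) * b * y ∈ cell P w := by
  obtain ⟨b, hb, hbs⟩ := exists_sq_mem P s
  obtain ⟨n, hn, hnu⟩ := exists_rep P (σ P s * w)
  have hn' : n ∈ cell P (σ P s * w) := by rw [← hnu, cell_mk]; exact self_mem_dc P n
  have hw : cell P w = dc P ((s : G) * n) := by
    rw [← cell_mk P (P.N.mul_mem (P.subset s.2) hn), wmk_mul P (P.subset s.2) hn, hnu]
    exact congrArg _ (σ_cancel P s w).symm
  rw [hw] at hy
  obtain ⟨c, hc, d, hd, rfl⟩ := DoubleCoset.mem_doubleCoset.1 hy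
  refine ⟨b * c⁻¹, P.B.mul_mem hb (P.B.inv_mem hc), ?_⟩
  have := mul_mem_cell_of_le P s (σ P s * w) (by rw [σ_cancel]; omega) hbs (cell_mul_right P hd hn')
  rw [σ_cancel] at this
  have e : (s : G) * (b * c⁻¹) * (c * (s * n) * d) = (s : G) * b * s * (n * d) := by group
  rw [e]
  exact this

/-- The exchange condition, in the form: a shortened product deletes one letter. -/
theorem exchange (s : P.S) (l : List P.S) (hl : len P (wp P l) = l.length)
    (hlt : len P (σ P s * wp P l) < l.length) :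
    ∃ i, i < l.length ∧ σ P s * wp P l = wp P (l.eraseIdx i) := by
  induction l using List.reverseRecOn generalizing s with
  | nil => simp at hlt
  | append_singleton l t ih =>
    have hlen : (l ++ [t]).length = l.length + 1 := by simp
    rw [hlen] at hl hlt
    have hwt : wp P (l ++ [t]) = wp P l * σ P t := by simp
    have hu : len P (wp P l) = l.length := by
      refine le_antisymm (len_wp_le P l) ?_
      have := len_σ_mul_le P t (wp P l)⁻¹
      rw [len_inv] at this
      rw [← len_inv P, hwt, mul_inv_rev, σ_inv] at hl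
      omega
    obtain ⟨n, hn, hnu⟩ := exists_rep P (wp P l)
    have hn' : n ∈ cell P (wp P l) := by rw [← hnu, cell_mk]; exact self_mem_dc P n
    have hnt : n * (t : G) ∈ cell P (wp P (l ++ [t])) := by
      rw [hwt, ← hnu, σ, ← wmk_mul P hn (P.subset t.2), cell_mk]
      exact self_mem_dc P _
    by_cases hsu : len P (σ P s * wp P l) < l.length
    · obtain ⟨i, hi, he⟩ := ih s hu hsu
      refine ⟨i, by omega, ?_⟩
      rw [hwt, ← mul_assoc, he, List.eraseIdx_append_of_lt_length hi]
      simp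
    · refine ⟨l.length, by omega, ?_⟩
      rw [List.eraseIdx_append_of_length_le le_rfl, hwt]
      simp only [Nat.sub_self, List.eraseIdx_cons_zero, List.append_nil]
      obtain ⟨b, hb, hbm⟩ := exists_mem_of_lt P s _ (by omega) hnt
      have hxn := mul_mem_cell_of_le P s (wp P l) (by omega)
        (cell_mul_right P hb (self_mem_cell_σ P s)) hn'
      rw [show (s : G) * b * (n * t) = (s : G) * b * n * t by group] at hbm
      rcases mul_mem_cell' P t _ hxn (self_mem_cell_σ P t) with h' | h' <;>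
        have hh := eq_of_mem_cell P hbm h'
      · rw [hwt, mul_assoc] at hh
        exact absurd (mul_eq_right.1 hh.symm) (σ_ne_one P s)
      · rw [hwt] at hh
        rw [hh, σ_cancel]

/-! ### Parabolic subgroups -/

/-- The subgroup of `W` generated by the image of a set of representatives. -/
def wJ (J : Set G) : Subgroup (W P) := Subgroup.closure {w | ∃ s : P.S, (s : G) ∈ J ∧ w = σ P s}

theorem wp_mem_wJ {J : Set G} {l : List P.S} (h : ∀ s ∈ l, (s : G) ∈ J) : wp P l ∈ wJ P J := by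
  induction l with
  | nil => exact one_mem _
  | cons s l ih =>
    rw [wp_cons]
    exact mul_mem (Subgroup.subset_closure ⟨s, h s List.mem_cons_self, rfl⟩)
      (ih fun x hx => h x (List.mem_cons_of_mem _ hx))

theorem mem_wJ_iff {J : Set G} {w : W P} :
    w ∈ wJ P J ↔ ∃ l : List P.S, (∀ s ∈ l, (s : G) ∈ J) ∧ wp P l = w := by
  refine ⟨fun h => ?_, fun ⟨l, hl, he⟩ => he ▸ wp_mem_wJ P hl⟩
  induction h using Subgroup.closure_induction with
  | mem x hx => obtain ⟨s, hs, rfl⟩ := hx; exact ⟨[s], by simpa using hs, by simp⟩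
  | one => exact ⟨[], by simp, rfl⟩
  | mul x y _ _ hx hy =>
    obtain ⟨l, hl, rfl⟩ := hx; obtain ⟨m, hm, rfl⟩ := hy
    exact ⟨l ++ m, by simpa [or_imp, forall_and] using And.intro hl hm, by simp⟩
  | inv x _ hx =>
    obtain ⟨l, hl, rfl⟩ := hx
    exact ⟨l.reverse, by simpa using hl, by simp [wp_reverse]⟩

theorem exists_reduced_in {J : Set G} (l : List P.S) (hl : ∀ s ∈ l, (s : G) ∈ J) :
    ∃ m : List P.S, (∀ s ∈ m, (s : G) ∈ J) ∧ wp P m = wp P l ∧ m.length = len P (wp P l) := by
  induction hn : l.length using Nat.strong_induction_on generalizing l with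
  | _ k IH =>
    cases l with
    | nil => exact ⟨[], by simp, rfl, by simp⟩
    | cons s l =>
      have hl' : ∀ x ∈ l, (x : G) ∈ J := fun x hx => hl x (List.mem_cons_of_mem _ hx)
      simp only [List.length_cons] at hn
      obtain ⟨m, hm, hme, hmlen⟩ := IH l.length (by omega) l hl' rfl
      have hmle : m.length ≤ l.length := hmlen ▸ len_wp_le P l
      rcases len_lt_or_gt P s (wp P l) with h | h
      · obtain ⟨i, hi, he⟩ := exchange P s m (by rw [hme, hmlen]) (by rw [hme]; omega)
        have hi' := List.length_eraseIdx_of_lt hi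
        obtain ⟨r, hr, hre, hrl⟩ := IH (m.eraseIdx i).length (by omega) (m.eraseIdx i)
          (fun x hx => hm x (List.mem_of_mem_eraseIdx hx)) rfl
        rw [← he, hme, ← wp_cons] at hre hrl
        exact ⟨r, hr, hre, hrl⟩
      · refine ⟨s :: m, fun x hx => ?_, by simp [hme], ?_⟩
        · rcases List.mem_cons.1 hx with rfl | hx
          · exact hl _ List.mem_cons_self
          · exact hm x hx
        · have := len_σ_mul_le P s (wp P l)
          simp only [List.length_cons, wp_cons]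
          omega

theorem σ_mem_wJ_iff {J : Set G} (s : P.S) : σ P s ∈ wJ P J ↔ (s : G) ∈ J := by
  refine ⟨fun h => ?_, fun h => Subgroup.subset_closure ⟨s, h, rfl⟩⟩
  obtain ⟨l, hl, he⟩ := (mem_wJ_iff P).1 h
  obtain ⟨m, hm, hme, hmlen⟩ := exists_reduced_in P l hl
  rw [he] at hme hmlen
  rw [len_σ] at hmlen
  obtain ⟨t, rfl⟩ := List.length_eq_one_iff.1 hmlen
  have := σ_inj P (by simpa using hme)
  exact this ▸ hm t List.mem_cons_self

theorem parabolic_mem_cell {J : Set G} (hJ : J ⊆ P.S) {g : G} (hg : g ∈ P.parabolic J) :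
    ∃ n ∈ Subgroup.closure J, ∃ hn : n ∈ P.N, wmk P n hn ∈ wJ P J ∧ g ∈ dc P n := by
  have hJN : Subgroup.closure J ≤ P.N := (Subgroup.closure_le _).2 (hJ.trans P.subset)
  have hW : ∀ n, ∀ hn : n ∈ Subgroup.closure J, wmk P n (hJN hn) ∈ wJ P J := by
    intro n hn
    induction hn using Subgroup.closure_induction with
    | mem x hx => exact Subgroup.subset_closure ⟨⟨x, hJ hx⟩, hx, rfl⟩
    | one => exact one_mem _
    | mul x y hx hy ihx ihy => rw [wmk_mul P (hJN hx) (hJN hy)]; exact mul_mem ihx ihy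
    | inv x hx ih => rw [wmk_inv P (hJN hx)]; exact inv_mem ih
  suffices h : ∀ n ∈ Subgroup.closure J, ∀ y ∈ dc P n, ∃ m ∈ Subgroup.closure J, g * y ∈ dc P m by
    obtain ⟨m, hm, hgm⟩ := h 1 (one_mem _) 1 (self_mem_dc P 1)
    exact ⟨m, hm, hJN hm, hW m hm, by simpa using hgm⟩
  have e : P.parabolic J = Subgroup.closure ((P.B : Set G) ∪ J) := by
    rw [Subgroup.closure_union, Subgroup.closure_eq]; rfl
  rw [e] at hg
  have step : ∀ t : P.S, (t : G) ∈ J → ∀ x ∈ cell P (σ P t), ∀ n, n ∈ Subgroup.closure J →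
      ∀ y ∈ dc P n, ∃ m ∈ Subgroup.closure J, x * y ∈ dc P m := by
    intro t ht x hx n hn y hy
    rw [← cell_mk P (hJN hn)] at hy
    rcases mul_mem_cell P t _ hx hy with h | h
    · refine ⟨t * n, mul_mem (Subgroup.subset_closure ht) hn, ?_⟩
      rwa [σ, ← wmk_mul P (P.subset t.2) (hJN hn), cell_mk] at h
    · exact ⟨n, hn, by rwa [cell_mk] at h⟩
  induction hg using Subgroup.closure_induction_left with
  | one => exact fun n hn y hy => ⟨n, hn, by simpa using hy⟩
  | mul_left x hx z _ ih =>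
    intro n hn y hy
    obtain ⟨m, hm, h⟩ := ih n hn y hy
    rw [mul_assoc]
    rcases hx with hx | hx
    · refine ⟨m, hm, ?_⟩
      rw [← cell_mk P (hJN hm)] at h ⊢
      exact cell_mul_left P hx h
    · exact step ⟨x, hJ hx⟩ hx x (self_mem_cell_σ P ⟨x, hJ hx⟩) m hm _ h
  | inv_mul_cancel x hx z _ ih =>
    intro n hn y hy
    obtain ⟨m, hm, h⟩ := ih n hn y hy
    rw [mul_assoc]
    rcases hx with hx | hx
    · refine ⟨m, hm, ?_⟩
      rw [← cell_mk P (hJN hm)] at h ⊢
      exact cell_mul_left P (P.B.inv_mem hx) h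
    · exact step ⟨x, hJ hx⟩ hx x⁻¹ (inv_mem_cell_σ P ⟨x, hJ hx⟩) m hm _ h

theorem B_le_parabolic (J : Set G) : P.B ≤ P.parabolic J := le_sup_left

theorem subset_parabolic (J : Set G) : J ⊆ (P.parabolic J : Set G) :=
  Subgroup.subset_closure.trans (SetLike.coe_subset_coe.2 le_sup_right)

theorem dc_subset {M : Subgroup G} (hM : P.B ≤ M) {n g : G} (hn : n ∈ M) (hg : g ∈ dc P n) :
    g ∈ M := by
  obtain ⟨a, ha, b, hb, rfl⟩ := DoubleCoset.mem_doubleCoset.1 hg
  exact M.mul_mem (M.mul_mem (hM ha) hn) (hM hb)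

theorem mem_of_dc {M : Subgroup G} (hM : P.B ≤ M) {n g : G} (hg : g ∈ dc P n) (hgM : g ∈ M) :
    n ∈ M := by
  obtain ⟨a, ha, b, hb, rfl⟩ := DoubleCoset.mem_doubleCoset.1 hg
  have := M.mul_mem (M.mul_mem (M.inv_mem (hM ha)) hgM) (M.inv_mem (hM hb))
  simpa [mul_assoc] using this

theorem mem_of_wmk_eq {M : Subgroup G} (hM : P.B ≤ M) {a b : G} {ha : a ∈ P.N} {hb : b ∈ P.N}
    (h : wmk P a ha = wmk P b hb) (haM : a ∈ M) : b ∈ M := by
  rw [wmk_eq_iff] at h
  simpa using M.mul_mem haM (hM h)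

/-- A subgroup containing `B` and a conjugate `n B n⁻¹` contains `n`. -/
theorem mem_of_conj_le (M : Subgroup G) (hM : P.B ≤ M) {n : G} (hn : n ∈ P.N)
    (h : ∀ b ∈ P.B, n * b * n⁻¹ ∈ M) : n ∈ M := by
  induction hk : len P (wmk P n hn) using Nat.strong_induction_on generalizing n with
  | _ k IH =>
    obtain ⟨l, hl, hle⟩ := exists_reduced P (wmk P n hn)
    cases l with
    | nil => exact hM ((wmk_eq_one_iff P hn).1 hle.symm)
    | cons s l =>
      simp only [List.length_cons] at hl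
      rw [wp_cons] at hle
      have hsN := P.N.mul_mem (P.N.inv_mem (P.subset s.2)) hn
      have hsn : wmk P ((s : G)⁻¹ * n) hsN = wp P l := by
        rw [wmk_mul P (P.N.inv_mem (P.subset s.2)) hn, wmk_inv P (P.subset s.2), ← hle]
        exact inv_mul_cancel_left _ _
      have hlen := len_wp_le P l
      have hlt : len P (σ P s * wmk P n hn) < len P (wmk P n hn) := by
        rw [← hle, σ_cancel, hle]; omega
      obtain ⟨b, hb, hbn⟩ := exists_mem_of_lt P s (wmk P n hn) hlt
        (by rw [cell_mk]; exact self_mem_dc P n)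
      rw [cell_mk] at hbn
      obtain ⟨b₁, hb₁, b₂, hb₂, e⟩ := DoubleCoset.mem_doubleCoset.1 hbn
      have hs : (s : G) ∈ M := by
        have e2 : (s : G) = b₁ * (n * b₂ * n⁻¹) * b⁻¹ := by
          calc (s : G) = (s : G) * b * n * n⁻¹ * b⁻¹ := by group
            _ = _ := by rw [e]; group
        rw [e2]
        exact M.mul_mem (M.mul_mem (hM hb₁) (h b₂ hb₂)) (M.inv_mem (hM hb))
      have := IH (len P (wmk P ((s : G)⁻¹ * n) hsN)) (by rw [hsn]; omega) hsN ?_ rfl
      · simpa using M.mul_mem hs this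
      · intro c hc
        have e3 : (s : G)⁻¹ * n * c * ((s : G)⁻¹ * n)⁻¹ = (s : G)⁻¹ * (n * c * n⁻¹) * s := by
          group
        rw [e3]
        exact M.mul_mem (M.mul_mem (M.inv_mem hs) (h c hc)) hs

/-- The letters of a reduced word of an element of an overgroup of `B` lie in that overgroup. -/
theorem letters_mem (M : Subgroup G) (hM : P.B ≤ M) {n : G} (hn : n ∈ P.N) (hnM : n ∈ M)
    (l : List P.S) (hl : wp P l = wmk P n hn) (hlen : len P (wmk P n hn) = l.length) :
    ∀ s ∈ l, (s : G) ∈ M := by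
  induction l generalizing n with
  | nil => simp
  | cons s l ih =>
    rw [wp_cons] at hl
    simp only [List.length_cons] at hlen
    have hsN := P.N.mul_mem (P.N.inv_mem (P.subset s.2)) hn
    have hsn : wmk P ((s : G)⁻¹ * n) hsN = wp P l := by
      rw [wmk_mul P (P.N.inv_mem (P.subset s.2)) hn, wmk_inv P (P.subset s.2), ← hl]
      exact inv_mul_cancel_left _ _
    have hlw := len_wp_le P l
    have hlt : len P (σ P s * wmk P n hn) < len P (wmk P n hn) := by
      rw [← hl, σ_cancel, hl]; omega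
    obtain ⟨b, hb, hbn⟩ := exists_mem_of_lt P s (wmk P n hn) hlt
      (by rw [cell_mk]; exact self_mem_dc P n)
    rw [cell_mk] at hbn
    have h1 := dc_subset P hM hnM hbn
    have hs : (s : G) ∈ M := by
      simpa [mul_assoc] using M.mul_mem h1 (M.mul_mem (M.inv_mem hnM) (M.inv_mem (hM hb)))
    intro x hx
    rcases List.mem_cons.1 hx with rfl | hx
    · exact hs
    · refine ih hsN (M.mul_mem (M.inv_mem hs) hnM) hsn.symm ?_ x hx
      have := len_σ_mul_le P s (wp P l)
      rw [hl] at this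
      rw [hsn]; omega

/-- Every subgroup containing `B` is a standard parabolic subgroup. -/
theorem eq_parabolic (M : Subgroup G) (hM : P.B ≤ M) :
    M = P.parabolic {s | s ∈ P.S ∧ s ∈ M} := by
  refine le_antisymm (fun g hg => ?_) (sup_le hM ((Subgroup.closure_le _).2 fun x hx => hx.2))
  obtain ⟨w, hw⟩ := bruhat P g
  obtain ⟨n, hn, rfl⟩ := exists_rep P w
  rw [cell_mk] at hw
  have hnM := mem_of_dc P hM hw hg
  obtain ⟨l, hlen, hl⟩ := exists_reduced P (wmk P n hn)
  have hls := letters_mem P M hM hn hnM l hl hlen.symm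
  have hprod : ∀ l : List P.S, (∀ s ∈ l, (s : G) ∈ M) →
      ∃ m ∈ P.parabolic {s | s ∈ P.S ∧ s ∈ M}, ∃ hm : m ∈ P.N, wmk P m hm = wp P l := by
    intro l
    induction l with
    | nil => exact fun _ => ⟨1, one_mem _, P.N.one_mem, rfl⟩
    | cons s l ih =>
      intro h
      obtain ⟨m, hm, hmN, he⟩ := ih fun x hx => h x (List.mem_cons_of_mem _ hx)
      refine ⟨s * m, mul_mem (subset_parabolic P _ ⟨s.2, h s List.mem_cons_self⟩) hm,
        P.N.mul_mem (P.subset s.2) hmN, ?_⟩
      rw [wmk_mul P (P.subset s.2) hmN, he, wp_cons]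
      rfl
  obtain ⟨m, hm, hmN, he⟩ := hprod l hls
  exact dc_subset P (B_le_parabolic P _)
    (mem_of_wmk_eq P (B_le_parabolic P _) (he.trans hl) hm) hw

theorem wmk_mem_wJ {J : Set G} (hJ : J ⊆ P.S) {n : G} (hn : n ∈ P.N) (h : n ∈ P.parabolic J) :
    wmk P n hn ∈ wJ P J := by
  obtain ⟨m, _, hm, hw, hd⟩ := parabolic_mem_cell P hJ h
  rw [← cell_mk P hm] at hd
  have h' : n ∈ cell P (wmk P n hn) := by rw [cell_mk]; exact self_mem_dc P n
  rwa [eq_of_mem_cell P h' hd]

theorem mem_parabolic_iff {J : Set G} (hJ : J ⊆ P.S) {s : G} (hs : s ∈ P.S) :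
    s ∈ P.parabolic J ↔ s ∈ J := by
  refine ⟨fun h => ?_, fun h => subset_parabolic P J h⟩
  exact (σ_mem_wJ_iff P ⟨s, hs⟩).1 (wmk_mem_wJ P hJ (P.subset hs) h)

theorem parabolic_inj {J K : Set G} (hJ : J ⊆ P.S) (hK : K ⊆ P.S)
    (h : P.parabolic J = P.parabolic K) : J = K := by
  ext s
  constructor
  · exact fun hs => (mem_parabolic_iff P hK (hJ hs)).1 (h ▸ subset_parabolic P J hs)
  · exact fun hs => (mem_parabolic_iff P hJ (hK hs)).1 (h.symm ▸ subset_parabolic P K hs)

end Cfsg.Agent.BN
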