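import Cfsg.Agent.Lib.Lie.Good

/-! A further check: a root is determined by its Cartan integers against the fundamental roots. -/

set_option autoImplicit false
set_option maxRecDepth 8000

namespace Cfsg.Agent.Chev

open Cfsg.Lie

namespace Tab

/-- a root with the Cartan integers of a fundamental root is that fundamental root -/
def checkASmp (T : Tab) : Bool :=
  allBelow (fun i => allBelow (fun s => Nat.beq s (T.smp i) ||
    anyBelow (fun j => !(T.A j s == T.A j (T.smp i))) T.l) T.n) T.l

/-- The checks of `Good` together with `checkASmp`. -/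
structure GoodA (T : Tab) : Prop extends T.Good where
  aSmp : T.checkASmp = true

end Tab

theorem exists_goodA {D : ChevalleyDatum}
    (hD : D ∈ [chevG2, chevB2, chevD4, chevF4, chevE6, chevE7, chevE8]) :
    ∃ T : Tab, T.GoodA ∧ T.D = D := by
  simp only [List.mem_cons, List.not_mem_nil, or_false] at hD
  rcases hD with rfl | rfl | rfl | rfl | rfl | rfl | rfl
  exacts [⟨_, ⟨G2Data.good, by decide +kernel⟩, rfl⟩, ⟨_, ⟨B2Data.good, by decide +kernel⟩, rfl⟩,
    ⟨_, ⟨D4Data.good, by decide +kernel⟩, rfl⟩, ⟨_, ⟨F4Data.good, by decide +kernel⟩, rfl⟩,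
    ⟨_, ⟨E6Data.good, by decide +kernel⟩, rfl⟩, ⟨_, ⟨E7Data.good, by decide +kernel⟩, rfl⟩,
    ⟨_, ⟨E8Data.good, by decide +kernel⟩, rfl⟩]

end Cfsg.Agent.Chev
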