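import Cfsg.Agent.Lib.Lie.ChevBN
import Cfsg.Agent.Lib.Lie.BNPair
import Cfsg.Agent.Lib.Lie.GoodA

/-! `U` is a Sylow `p`-subgroup of a Chevalley group over a finite field of characteristic `p`. -/

set_option autoImplicit false

namespace Cfsg.Agent.Chev

open Cfsg.Lie
open Matrix hiding zpow_mul inv_zpow mul_inv_rev zpow_add zpow_neg one_zpow

namespace Tab

variable {T : Tab} {F : Type*} [Field F]

theorem posU_isPGroup (g : T.Good) (p : ℕ) [Fact p.Prime] [CharP F p] :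
    IsPGroup p (genS g F (Set.Ico T.N T.n)) := by
  rintro ⟨x, hx⟩
  obtain ⟨k, hk⟩ : ∃ k, T.l + T.n ≤ p ^ k :=
    ⟨T.l + T.n, (Nat.lt_pow_self (Fact.out : p.Prime).one_lt).le⟩
  refine ⟨k, Subtype.ext (Units.ext ?_)⟩
  simp only [Subgroup.coe_pow, Units.val_pow_eq_pow_val, Subgroup.coe_one, Units.val_one]
  rcases isEmpty_or_nonempty T.D.Idx with h | h
  · ext a; exact isEmptyElim a
  haveI := Matrix.charP (n := T.D.Idx) (R := F) p
  have h0 : ((x : Matrix T.D.Idx T.D.Idx F) - 1) ^ p ^ k = 0 :=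
    pow_eq_zero_of_le hk (pos_sub_one_pow g hx)
  rw [sub_pow_char_pow_of_commute p k (Commute.one_right _), one_pow, sub_eq_zero] at h0
  exact h0

theorem borel_normalizes (g : T.Good) {b : GL T.D.Idx F} (hb : b ∈ T.D.borelSubgroup F) :
    b ∈ Subgroup.normalizer (genS g F (Set.Ico T.N T.n) : Set (GL T.D.Idx F)) := by
  obtain ⟨u, hu, c, rfl⟩ := (mem_borel_iff g).1 hb
  exact mul_mem (Subgroup.le_normalizer hu) (tor_normalizes g (fun r hr => hr.2) c)

/-- An element of `N` normalising `U` lies in `B`. -/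
theorem monomial_mem_borel_of_normalizes (g : T.Good) {n : GL T.D.Idx F}
    (hn : n ∈ T.D.monomialSubgroup F)
    (hN : n ∈ Subgroup.normalizer (genS g F (Set.Ico T.N T.n) : Set (GL T.D.Idx F))) :
    n ∈ T.D.borelSubgroup F := by
  obtain ⟨L, hL, c, rfl⟩ := (mem_monomial_iff g).1 hn
  have hpos : ∀ s, T.N ≤ s → s < T.n → T.N ≤ T.rw' L s := by
    intro s h1 h2
    obtain ⟨v, hv⟩ := mono_conj (F := F) g hL c h2
    have hmem := (Subgroup.mem_normalizer_iff.1 hN _).1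
      (xg_mem_genS g (S := Set.Ico T.N T.n) ⟨h1, h2⟩ (1 : F))
    rw [hv, mul_one] at hmem
    by_contra hlt
    have h3 : xg g (T.rw' L s) (v : F) = 1 := borel_inf_neg g
      (Subgroup.mem_sup_left (by rw [posUnipotent_eq g]; exact hmem))
      (xg_mem_genS g (S := Set.Iio T.N) (not_le.1 hlt) _)
    rw [← xg_zero g (T.rw' L s)] at h3
    exact v.ne_zero (xg_injective g (rw'_lt g hL h2) h3)
  obtain ⟨⟨d, hd⟩, -⟩ := nWd_torus_of_pos (F := F) g L.length le_rfl hL hpos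
  rw [hd, ← map_mul]
  exact torus_le_borel g _

theorem mem_borel_of_normalizes (g : T.GoodA) {x : GL T.D.Idx F} (hx : x ∈ T.D.group F)
    (hN : x ∈ Subgroup.normalizer (genS g.toGood F (Set.Ico T.N T.n) : Set (GL T.D.Idx F))) :
    x ∈ T.D.borelSubgroup F := by
  have hg := g.toGood
  obtain ⟨w, hw⟩ := BN.bruhat (bnPair g F) ⟨x, hx⟩
  obtain ⟨n, hn, rfl⟩ := BN.exists_rep (bnPair g F) w
  rw [BN.cell_mk] at hw
  obtain ⟨b₁, h1, b₂, h2, e⟩ := DoubleCoset.mem_doubleCoset.1 hw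
  have h1' : (b₁ : GL T.D.Idx F) ∈ T.D.borelSubgroup F := h1
  have h2' : (b₂ : GL T.D.Idx F) ∈ T.D.borelSubgroup F := h2
  have hn' : (n : GL T.D.Idx F) ∈ T.D.monomialSubgroup F := hn
  have e' : x = b₁ * n * b₂ := congrArg Subtype.val e
  have hnN : (n : GL T.D.Idx F) ∈
      Subgroup.normalizer (genS hg F (Set.Ico T.N T.n) : Set (GL T.D.Idx F)) := by
    rw [show (n : GL T.D.Idx F) = (b₁ : GL T.D.Idx F)⁻¹ * x * (b₂ : GL T.D.Idx F)⁻¹ by rw [e']; group]
    exact mul_mem (mul_mem (inv_mem (borel_normalizes hg h1')) hN) (inv_mem (borel_normalizes hg h2'))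
  rw [e']
  exact mul_mem (mul_mem h1' (monomial_mem_borel_of_normalizes hg hn' hnN)) h2'

theorem mem_posU_of_borel [Fintype F] (g : T.Good) (p : ℕ) [Fact p.Prime] [CharP F p]
    {x : GL T.D.Idx F} (hx : x ∈ T.D.borelSubgroup F) {k : ℕ} (hk : x ^ p ^ k = 1) :
    x ∈ genS g F (Set.Ico T.N T.n) := by
  classical
  obtain ⟨u, hu, c, hc⟩ := (mem_borel_iff g).1 hx
  set U := genS g F (Set.Ico T.N T.n) with hU
  set q := Fintype.card F - 1 with hq
  have hnorm : tor T F c ∈ Subgroup.normalizer (U : Set (GL T.D.Idx F)) :=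
    tor_normalizes g (fun r hr => hr.2) c
  have hc1 : tor T F c ^ q = 1 := by
    rw [← map_pow, show c ^ q = 1 from funext fun i => Units.ext ?_, map_one]
    rw [Pi.pow_apply, Units.val_pow_eq_pow_val]
    exact FiniteField.pow_card_sub_one_eq_one _ (c i).ne_zero
  have hpow : ∀ m : ℕ, ∃ u' ∈ U, x ^ m = u' * tor T F c ^ m := by
    intro m
    induction m with
    | zero => exact ⟨1, one_mem _, by simp⟩
    | succ m ih =>
      obtain ⟨u', hu', e⟩ := ih
      refine ⟨u' * (tor T F c ^ m * u * (tor T F c ^ m)⁻¹), mul_mem hu' ?_, ?_⟩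
      · exact (Subgroup.mem_normalizer_iff.1 (pow_mem hnorm m) u).1 hu
      · rw [pow_succ, e, hc, pow_succ]; group
  have hxq : x ^ q ∈ U := by
    obtain ⟨u', hu', e⟩ := hpow q
    rw [e, hc1, mul_one]; exact hu'
  obtain ⟨a, -, ha⟩ : ∃ a : ℕ+, p.Prime ∧ Fintype.card F = p ^ (a : ℕ) := by
    obtain ⟨a, h1, h2⟩ := FiniteField.card F p
    exact ⟨a, h1, h2⟩
  have hcop : Nat.Coprime (p ^ k) q := by
    refine Nat.Coprime.pow_left _ (((Fact.out : p.Prime).coprime_iff_not_dvd).2 fun h => ?_)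
    have hd : p ∣ Fintype.card F := ha ▸ dvd_pow_self p a.2.ne'
    have hone : 1 ≤ Fintype.card F := Fintype.card_pos
    have := Nat.dvd_sub hd h
    rw [hq, Nat.sub_sub_self hone] at this
    exact (Fact.out : p.Prime).ne_one (Nat.dvd_one.1 this)
  have hgcd := Nat.gcd_eq_gcd_ab (p ^ k) q
  rw [hcop, Nat.cast_one] at hgcd
  have : x = (x ^ p ^ k) ^ (Nat.gcdA (p ^ k) q) * (x ^ q) ^ (Nat.gcdB (p ^ k) q) := by
    rw [← zpow_natCast, ← zpow_natCast x q, ← zpow_mul, ← zpow_mul, ← _root_.zpow_add, ← hgcd,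
      zpow_one]
  rw [this, hk, _root_.one_zpow, one_mul]
  exact Subgroup.zpow_mem _ hxq _

theorem posU_le_group (g : T.Good) : genS g F (Set.Ico T.N T.n) ≤ T.D.group F :=
  genS_le g fun r _ t => xg_mem_group g r t

theorem exists_sylow_posU [Fintype F] (g : T.GoodA) (p : ℕ) [Fact p.Prime] [CharP F p] :
    ∃ P : Sylow p ↥(T.D.group F),
      (P : Subgroup ↥(T.D.group F)) = (T.D.posUnipotent F).subgroupOf (T.D.group F) := by
  classical
  have hg := g.toGood
  rw [posUnipotent_eq hg]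
  set U' := (genS hg F (Set.Ico T.N T.n)).subgroupOf (T.D.group F) with hU'
  have hp : IsPGroup p U' :=
    (posU_isPGroup hg p).of_equiv (Subgroup.subgroupOfEquivOfLe (posU_le_group hg)).symm
  obtain ⟨P, hP⟩ := hp.exists_le_sylow
  refine ⟨P, le_antisymm ?_ hP⟩
  by_contra hne
  haveI := P.2.isNilpotent
  set H := U'.subgroupOf (P : Subgroup ↥(T.D.group F)) with hH
  have hlt : H < ⊤ := by
    rw [lt_top_iff_ne_top, ne_eq, Subgroup.subgroupOf_eq_top]
    exact hne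
  obtain ⟨y, hy, hy'⟩ := SetLike.exists_of_lt (Group.normalizerCondition_of_isNilpotent H hlt)
  apply hy'
  rw [Subgroup.mem_subgroupOf, Subgroup.mem_subgroupOf]
  have hN : ((y : ↥(T.D.group F)) : GL T.D.Idx F) ∈
      Subgroup.normalizer (genS hg F (Set.Ico T.N T.n) : Set (GL T.D.Idx F)) := by
    rw [Subgroup.mem_normalizer_iff]
    intro z
    have key : ∀ y : (P : Subgroup ↥(T.D.group F)), y ∈ Subgroup.normalizer (H : Set _) →
        ∀ z ∈ genS hg F (Set.Ico T.N T.n),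
          ((y : ↥(T.D.group F)) : GL T.D.Idx F) * z * ((y : ↥(T.D.group F)) : GL T.D.Idx F)⁻¹ ∈
            genS hg F (Set.Ico T.N T.n) := by
      intro y hy z hz
      have hzU : (⟨z, posU_le_group hg hz⟩ : ↥(T.D.group F)) ∈ U' := hz
      exact (Subgroup.mem_normalizer_iff.1 hy ⟨_, hP hzU⟩).1 hzU
    refine ⟨key y hy z, fun h => ?_⟩
    have := key y⁻¹ (inv_mem hy) _ h
    simpa [mul_assoc] using this
  obtain ⟨k, hk⟩ := P.2 y
  exact mem_posU_of_borel hg p
    (mem_borel_of_normalizes g (y : ↥(T.D.group F)).2 hN) (k := k)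
    (by simpa using congrArg (fun t : (P : Subgroup ↥(T.D.group F)) =>
      ((t : ↥(T.D.group F)) : GL T.D.Idx F)) hk)

end Tab

end Cfsg.Agent.Chev
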