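import Cfsg.Agent.Lib.Lie.ChevParabolic
import Cfsg.Agent.Lib.Lie.ChevSylow
import Mathlib.Analysis.Normed.Module.FiniteDimension
import Mathlib.Topology.Order.Lattice

/-!
# The Borel–Tits property of the finite Chevalley groups

For a non-trivial `p`-subgroup `U` we look for a linear form `φ` on the roots, of norm one and
non-negative on the positive roots, and a level `k`, as large as possible, such that a conjugate of `U`
lies in the product of the root groups of positive roots with `k ≤ φ`.  A maximiser is unique, so the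
normaliser of `U` fixes it, and lies in the parabolic subgroup of the roots with `φ = 0`.
-/

set_option autoImplicit false

namespace Cfsg.Agent.Chev

open Cfsg.Lie
open Matrix hiding zpow_mul inv_zpow mul_inv_rev zpow_add zpow_neg one_zpow

namespace Tab

namespace BTi

variable {T : Tab} {K : List (List ℕ)} {F : Type*} [Field F]

/-! ### Linear forms on roots -/

/-- the linear combination of the rows of Cartan integers -/
def lin (T : Tab) (y : ℕ → ℝ) (r : ℕ) : ℝ := ∑ j ∈ Finset.range T.l, y j * (T.A j r : ℝ)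

/-- a linear form on the roots -/
def IsLin (T : Tab) (φ : ℕ → ℝ) : Prop := ∃ y, ∀ r < T.n, φ r = lin T y r

theorem IsLin.neg (g : T.Good) {φ : ℕ → ℝ} (h : IsLin T φ) {r : ℕ} (hr : r < T.n) :
    φ (T.neg r) = -φ r := by
  obtain ⟨y, hy⟩ := h
  rw [hy _ (neg_lt hr), hy r hr, lin, lin, ← Finset.sum_neg_distrib]
  refine Finset.sum_congr rfl fun j hj => ?_
  rw [((g.sign' hr).1 j (Finset.mem_range.1 hj)).2.2.2]
  push_cast; ring

theorem IsLin.lincomb {φ : ℕ → ℝ} (h : IsLin T φ) {r s t : ℕ} (hr : r < T.n) (hs : s < T.n)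
    (ht : t < T.n) {i j : ℤ} (hA : ∀ m < T.l, T.A m t = i * T.A m r + j * T.A m s) :
    φ t = i * φ r + j * φ s := by
  obtain ⟨y, hy⟩ := h
  rw [hy t ht, hy r hr, hy s hs, lin, lin, lin, Finset.mul_sum, Finset.mul_sum,
    ← Finset.sum_add_distrib]
  refine Finset.sum_congr rfl fun m hm => ?_
  rw [hA m (Finset.mem_range.1 hm)]
  push_cast; ring

theorem IsLin.add {φ ψ : ℕ → ℝ} (h : IsLin T φ) (h' : IsLin T ψ) :
    IsLin T fun r => φ r + ψ r := by
  obtain ⟨y, hy⟩ := h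
  obtain ⟨z, hz⟩ := h'
  refine ⟨fun j => y j + z j, fun r hr => ?_⟩
  show φ r + ψ r = _
  rw [hy r hr, hz r hr, lin, lin, lin, ← Finset.sum_add_distrib]
  exact Finset.sum_congr rfl fun j _ => by ring

theorem IsLin.smul {φ : ℕ → ℝ} (h : IsLin T φ) (a : ℝ) : IsLin T fun r => a * φ r := by
  obtain ⟨y, hy⟩ := h
  refine ⟨fun j => a * y j, fun r hr => ?_⟩
  show a * φ r = _
  rw [hy r hr, lin, lin, Finset.mul_sum]
  exact Finset.sum_congr rfl fun j _ => by ring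

theorem IsLin.comp_ref (g : T.Good) {φ : ℕ → ℝ} (h : IsLin T φ) {i : ℕ} (hi : i < T.l) :
    (∀ r < T.n, φ (T.ref i r) = φ r - (T.A i r : ℝ) * φ (T.smp i)) ∧
      IsLin T (fun r => φ (T.ref i r)) := by
  obtain ⟨y, hy⟩ := h
  have key : ∀ r < T.n, φ (T.ref i r) = φ r - (T.A i r : ℝ) * φ (T.smp i) := by
    intro r hr
    rw [hy _ (g.ref_lt hi hr), hy r hr, hy _ (g.smp_lt hi), lin, lin, lin, Finset.mul_sum,
      ← Finset.sum_sub_distrib]
    refine Finset.sum_congr rfl fun j hj => ?_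
    rw [A_ref g hi (Finset.mem_range.1 hj) hr]
    push_cast; ring
  refine ⟨key, fun j => y j - if j = i then φ (T.smp i) else 0, fun r hr => ?_⟩
  show φ (T.ref i r) = lin T _ r
  rw [key r hr, hy r hr]
  simp only [lin, sub_mul, Finset.sum_sub_distrib, ite_mul, zero_mul, Finset.sum_ite_eq',
    Finset.mem_range, hi, if_true]
  ring

theorem IsLin.congr {φ ψ : ℕ → ℝ} (h : IsLin T φ) (e : ∀ r < T.n, φ r = ψ r) : IsLin T ψ := by
  obtain ⟨y, hy⟩ := h
  exact ⟨y, fun r hr => (e r hr).symm.trans (hy r hr)⟩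

theorem IsLin.comp_rw' (g : T.Good) : ∀ {L : List ℕ}, T.Wd L → ∀ {φ : ℕ → ℝ}, IsLin T φ →
    IsLin T fun r => φ (T.rw' L r)
  | [], _, _, h => h
  | i :: L, hL, φ, h => by
    obtain ⟨hi, hL'⟩ := Wd.cons_iff.1 hL
    exact (IsLin.comp_rw' g hL' ((h.comp_ref g hi).2))

/-- a linear form which is positive exactly on the positive roots -/
def phi0 (T : Tab) (K : List (List ℕ)) (s : ℕ) : ℝ :=
  ∑ k ∈ Finset.range T.l, (T.phi K k s : ℝ)

theorem phi0_lin (T : Tab) (K : List (List ℕ)) : IsLin T (phi0 T K) := by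
  refine ⟨fun j => ∑ k ∈ Finset.range T.l, (((K.getD k []).getD j 0 : ℕ) : ℝ), fun r _ => ?_⟩
  simp only [phi0, lin, phi_eq, Finset.sum_mul]
  rw [Finset.sum_comm]
  push_cast
  rfl

theorem phi0_pos (g : T.GoodK K) {r : ℕ} (hr : T.N ≤ r) (hrn : r < T.n) : 0 < phi0 T K r := by
  have hg := g.toGood
  obtain ⟨m, hm, hne⟩ : ∃ m ∈ Finset.range T.l, T.c r m ≠ 0 := by
    by_contra hh
    push Not at hh
    have h2 := (hg.sign' hrn).2.1
    rw [Finset.sum_eq_zero (fun m hm => by rw [hh m hm, zero_mul])] at h2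
    exact absurd h2 (by norm_num)
  refine Finset.sum_pos' (fun k hk => ?_) ⟨m, hm, ?_⟩
  · have hk' := Finset.mem_range.1 hk
    have h1 := ((hg.sign' hrn).1 k hk').1 hr
    have h2 := (phi_sign g hk' hrn).2
    by_contra hh
    have : T.phi K k r < 0 := by
      by_contra h3
      exact hh (by exact_mod_cast not_lt.1 h3)
    have := h2.1 this
    omega
  · have hm' := Finset.mem_range.1 hm
    have h1 := ((hg.sign' hrn).1 m hm').1 hr
    have := (phi_sign g hm' hrn).1.2 (by omega)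
    exact_mod_cast this

theorem phi0_neg (g : T.GoodK K) {r : ℕ} (hr : r < T.N) : phi0 T K r < 0 := by
  have hrn : r < T.n := by have := n_def (T := T); omega
  have h := phi0_pos g ((N_le_neg_iff hrn).2 hr) (neg_lt hrn)
  rw [(phi0_lin T K).neg g.toGood hrn] at h
  linarith

/-- non-negative on the positive roots -/
def Dom (T : Tab) (φ : ℕ → ℝ) : Prop := ∀ r, T.N ≤ r → r < T.n → 0 ≤ φ r

theorem dom_of_simple (g : T.Good) {φ : ℕ → ℝ} (hl : IsLin T φ)
    (h : ∀ i < T.l, 0 ≤ φ (T.smp i)) : Dom T φ := by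
  intro s
  induction s using Nat.strong_induction_on with
  | _ s ih =>
    intro hN hs
    rcases exists_descent g hs hN with ⟨i, hi, rfl⟩ | ⟨i, hi, h1, h2, m, hm, hk⟩
    · exact h i hi
    · have hu := g.ref_lt hi hs
      obtain ⟨-, hA, -⟩ := chRoot_spec g (g.smp_lt hi) hu hm hk
      have e := hl.lincomb (g.smp_lt hi) hu hs (i := (m : ℤ)) (j := 1)
        (fun j hj => by rw [hA j hj]; ring)
      have := ih _ h2 h1 hu
      have := h i hi
      rw [e]
      push_cast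
      positivity

/-- squared norm -/
def nsq (T : Tab) (φ : ℕ → ℝ) : ℝ := ∑ r ∈ Finset.range T.n, φ r ^ 2

theorem nsq_comp (g : T.Good) {L : List ℕ} (hL : T.Wd L) (φ : ℕ → ℝ) :
    nsq T (fun r => φ (T.rw' L r)) = nsq T φ := by
  refine Finset.sum_nbij' (fun r => T.rw' L r) (fun r => T.rw' L.reverse r) ?_ ?_ ?_ ?_ ?_
  · exact fun r hr => Finset.mem_range.2 (rw'_lt g hL (Finset.mem_range.1 hr))
  · exact fun r hr => Finset.mem_range.2 (rw'_lt g hL.reverse (Finset.mem_range.1 hr))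
  · exact fun r hr => rw'_rev g hL (Finset.mem_range.1 hr)
  · exact fun r hr => rw'_rev' g hL (Finset.mem_range.1 hr)
  · exact fun r _ => rfl

/-- every linear form becomes non-negative on the positive roots after a Weyl group element -/
theorem exists_dom (g : T.Good) {φ : ℕ → ℝ} (hl : IsLin T φ) :
    ∃ M, T.Wd M ∧ Dom T fun r => φ (T.rw' M r) := by
  classical
  let V : Finset (Fin T.n → Fin T.n) := Finset.univ.filter fun v =>
    ∃ M, T.Wd M ∧ ∀ r : Fin T.n, (v r).val = T.rw' M r.val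
  have hV : V.Nonempty := ⟨id, by
    simp only [V, Finset.mem_filter, Finset.mem_univ, true_and]
    exact ⟨[], by simp [Wd], fun r => rfl⟩⟩
  let score : (Fin T.n → Fin T.n) → ℝ := fun v =>
    ∑ r ∈ Finset.univ.filter (fun r : Fin T.n => T.N ≤ r.val), φ (v r).val
  obtain ⟨v, hv, hmax⟩ := V.exists_max_image score hV
  simp only [V, Finset.mem_filter, Finset.mem_univ, true_and] at hv
  obtain ⟨M, hM, hvM⟩ := hv
  refine ⟨M, hM, dom_of_simple g (hl.comp_rw' g hM) fun i hi => ?_⟩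
  by_contra hneg
  have hMi : T.Wd (M ++ [i]) := Wd.append_iff.2 ⟨hM, by simp [Wd, hi]⟩
  let w : Fin T.n → Fin T.n := fun r => ⟨T.rw' (M ++ [i]) r.val, rw'_lt g hMi r.2⟩
  have hw := hmax w (by
    simp only [V, Finset.mem_filter, Finset.mem_univ, true_and]
    exact ⟨M ++ [i], hMi, fun r => rfl⟩)
  have conv : ∀ (M' : List ℕ) (u : Fin T.n → Fin T.n), (∀ r : Fin T.n, (u r).val = T.rw' M' r.val) →
      score u = ∑ r ∈ Finset.Ico T.N T.n, φ (T.rw' M' r) := by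
    intro M' u hu
    refine Finset.sum_bij (fun r _ => r.val) ?_ ?_ ?_ ?_
    · intro r hr
      exact Finset.mem_Ico.2 ⟨(Finset.mem_filter.1 hr).2, r.2⟩
    · exact fun a _ b _ h => Fin.ext h
    · intro b hb
      exact ⟨⟨b, (Finset.mem_Ico.1 hb).2⟩, Finset.mem_filter.2 ⟨Finset.mem_univ _,
        (Finset.mem_Ico.1 hb).1⟩, rfl⟩
    · intro r _
      rw [hu r]
  rw [conv _ v hvM, conv _ w (fun r => rfl)] at hw
  have hp : T.smp i ∈ Finset.Ico T.N T.n := Finset.mem_Ico.2 ⟨g.smp_ge hi, g.smp_lt hi⟩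
  rw [← Finset.add_sum_erase _ _ hp, ← Finset.add_sum_erase _ _ hp] at hw
  simp only [rw'_append, rw'_cons, rw'_nil] at hw
  have e : ∑ r ∈ (Finset.Ico T.N T.n).erase (T.smp i), φ (T.rw' M (T.ref i r)) =
      ∑ r ∈ (Finset.Ico T.N T.n).erase (T.smp i), φ (T.rw' M r) := by
    have hmem : ∀ r ∈ (Finset.Ico T.N T.n).erase (T.smp i),
        T.ref i r ∈ (Finset.Ico T.N T.n).erase (T.smp i) := by
      intro r hr
      obtain ⟨hne, hr'⟩ := Finset.mem_erase.1 hr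
      obtain ⟨h1, h2⟩ := Finset.mem_Ico.1 hr'
      refine Finset.mem_erase.2 ⟨fun e => ?_, Finset.mem_Ico.2
        ⟨g.ref_pos hi h2 h1 hne, g.ref_lt hi h2⟩⟩
      have h := g.ref_ref hi h2
      rw [e, g.ref_smp hi] at h
      have := (neg_lt_N_iff (g.smp_lt hi)).2 (g.smp_ge hi)
      omega
    have hinv : ∀ r ∈ (Finset.Ico T.N T.n).erase (T.smp i), T.ref i (T.ref i r) = r := fun r hr =>
      g.ref_ref hi (Finset.mem_Ico.1 (Finset.mem_of_mem_erase hr)).2
    exact Finset.sum_nbij' (fun r => T.ref i r) (fun r => T.ref i r) hmem hmem hinv hinv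
      (fun r _ => rfl)
  rw [e, g.ref_smp hi, rw'_neg g hM (g.smp_lt hi),
    hl.neg g (rw'_lt g hM (g.smp_lt hi))] at hw
  push Not at hneg
  linarith

/-! ### Closed sets of positive roots -/

/-- a set of positive roots closed under commutators -/
structure Cl (T : Tab) (S : Set ℕ) : Prop where
  pos : S ⊆ Set.Ico T.N T.n
  comm : ∀ r ∈ S, ∀ s ∈ S, ∀ c ∈ T.cTerms r s, c.1 ∈ S

theorem Cl.inter {A B : Set ℕ} (hA : Cl T A) (hB : Cl T B) : Cl T (A ∩ B) :=
  ⟨fun _ h => hA.pos h.1, fun r hr s hs c hc =>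
    ⟨hA.comm r hr.1 s hs.1 c hc, hB.comm r hr.2 s hs.2 c hc⟩⟩

theorem cl_pos (g : T.Good) : Cl T (Set.Ico T.N T.n) := by
  refine ⟨subset_rfl, fun r hr s hs c hc => ?_⟩
  obtain ⟨q1, -, -, -, q5⟩ := cTerms_mem g hr.2 hs.2 hc
  exact ⟨le_trans hr.1 (q5 hr.1 hs.1).1.le, q1⟩

/-- level sets of a linear form for an additive condition -/
theorem cl_cond (g : T.Good) {φ : ℕ → ℝ} (hl : IsLin T φ) (P : ℝ → Prop)
    (hP : ∀ a b : ℝ, ∀ i j : ℕ, 1 ≤ i → 1 ≤ j → P a → P b → P ((i : ℝ) * a + (j : ℝ) * b)) :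
    Cl T {r | (T.N ≤ r ∧ r < T.n) ∧ P (φ r)} := by
  refine ⟨fun r hr => hr.1, fun r hr s hs c hc => ?_⟩
  obtain ⟨q1, q2, q3, q4, q5⟩ := cTerms_mem g hr.1.2 hs.1.2 hc
  refine ⟨⟨le_trans hr.1.1 (q5 hr.1.1 hs.1.1).1.le, q1⟩, ?_⟩
  have e := hl.lincomb hr.1.2 hs.1.2 q1 q4
  rw [e]
  push_cast
  exact hP _ _ _ _ q2 q3 hr.2 hs.2

/-- positive roots of level at least `k` -/
def lvl (T : Tab) (φ : ℕ → ℝ) (k : ℝ) : Set ℕ := {r | (T.N ≤ r ∧ r < T.n) ∧ k ≤ φ r}

theorem cl_lvl (g : T.Good) {φ : ℕ → ℝ} (hl : IsLin T φ) {k : ℝ} (hk : 0 ≤ k) :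
    Cl T (lvl T φ k) := by
  refine cl_cond g hl (fun a => k ≤ a) fun a b i j hi hj ha hb => ?_
  have hi' : (1 : ℝ) ≤ i := by exact_mod_cast hi
  have hj' : (0 : ℝ) ≤ j := Nat.cast_nonneg j
  nlinarith

theorem Cl.ico (g : T.Good) {S : Set ℕ} (hS : Cl T S) {k : ℕ} : Cl T (S ∩ Set.Ico k T.n) := by
  refine ⟨fun r hr => hS.pos hr.1, fun r hr s hs c hc => ⟨hS.comm r hr.1 s hs.1 c hc, ?_⟩⟩
  obtain ⟨q1, -, -, -, q5⟩ := cTerms_mem g hr.2.2 hs.2.2 hc
  exact ⟨le_trans hr.2.1 (q5 (hS.pos hr.1).1 (hS.pos hs.1).1).1.le, q1⟩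

theorem Cl.normalized (g : T.GoodA) {S : Set ℕ} (hS : Cl T S) {k : ℕ} (hk : k ∈ S) (t : F) :
    xg g.toGood k t ∈
      Subgroup.normalizer (genS g.toGood F (S ∩ Set.Ico (k + 1) T.n) : Set (GL T.D.Idx F)) := by
  obtain ⟨hkN, hkn⟩ := hS.pos hk
  refine xg_normalizes g hkn (fun s hs => ⟨hs.2.2, ?_, fun _ c hc => ?_⟩) t
  · have := (neg_lt_N_iff hkn).2 hkN
    have := (hS.pos hs.1).1
    omega
  · obtain ⟨q1, -, -, -, q5⟩ := cTerms_mem g.toGood hkn hs.2.2 hc
    refine ⟨hS.comm k hk s hs.1 c hc, ?_, q1⟩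
    have := (q5 hkN (hS.pos hs.1).1).1
    omega

theorem step_split (g : T.GoodA) {S : Set ℕ} (hS : Cl T S) (k : ℕ) {x : GL T.D.Idx F}
    (hx : x ∈ genS g.toGood F (S ∩ Set.Ico k T.n)) :
    ∃ t : F, (k ∉ S → t = 0) ∧ ∃ y ∈ genS g.toGood F (S ∩ Set.Ico (k + 1) T.n),
      x = xg g.toGood k t * y := by
  have hg := g.toGood
  refine genS_induction hg (p := fun x => ∃ t : F, (k ∉ S → t = 0) ∧
    ∃ y ∈ genS hg F (S ∩ Set.Ico (k + 1) T.n), x = xg hg k t * y)
    ⟨0, fun _ => rfl, 1, one_mem _, by simp⟩ ?_ hx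
  rintro r ⟨hrS, hrk, hrn⟩ u _ ⟨t, ht, y, hy, rfl⟩
  rcases eq_or_lt_of_le hrk with rfl | hlt
  · exact ⟨u + t, fun h => absurd hrS h, y, hy, by rw [← mul_assoc, xg_add]⟩
  have hr' : xg hg r u ∈ genS hg F (S ∩ Set.Ico (k + 1) T.n) :=
    xg_mem_genS hg (S := S ∩ Set.Ico (k + 1) T.n) ⟨hrS, hlt, hrn⟩ u
  by_cases hkS : k ∈ S
  · refine ⟨t, ht, (xg hg k t)⁻¹ * xg hg r u * xg hg k t * y, mul_mem ?_ hy, by group⟩
    have := (Subgroup.mem_normalizer_iff.1 (inv_mem (hS.normalized g hkS t)) _).1 hr'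
    rwa [inv_inv] at this
  · obtain rfl := ht hkS
    exact ⟨0, fun _ => rfl, xg hg r u * y, mul_mem hr' hy, by simp⟩

/-- coordinates supported in a closed set -/
theorem exists_coords (g : T.GoodA) {S : Set ℕ} (hS : Cl T S) : ∀ m k, T.n ≤ k + m →
    ∀ x ∈ genS g.toGood F (S ∩ Set.Ico k T.n),
      ∃ t : ℕ → F, x = ordProd g.toGood k t ∧ ∀ r, k ≤ r → r < T.n → r ∉ S → t r = 0
  | 0, k, hle, x, hx => by
    refine ⟨0, ?_, fun r _ _ _ => rfl⟩
    rw [ordProd_end g.toGood (by omega)]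
    exact genS_induction g.toGood (p := fun x => x = 1) rfl
      (fun r hr => absurd hr.2.2 (by have := hr.2.1; omega)) hx
  | m + 1, k, hle, x, hx => by
    by_cases hkn : k < T.n
    swap
    · exact exists_coords g hS m k (by omega) x hx
    obtain ⟨a, ha, y, hy, rfl⟩ := step_split g hS k hx
    obtain ⟨t, rfl, ht⟩ := exists_coords g hS m (k + 1) (by omega) y hy
    refine ⟨Function.update t k a, ?_, fun r h1 h2 h3 => ?_⟩
    · rw [ordProd_step g.toGood hkn, Function.update_self,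
        ordProd_congr g.toGood (k := k + 1) (t := Function.update t k a) (u := t)
          fun r h1 h2 => Function.update_of_ne (by omega) _ _]
    · rcases eq_or_lt_of_le h1 with rfl | hlt
      · rw [Function.update_self]; exact ha h3
      · rw [Function.update_of_ne (by omega)]; exact ht r hlt h2 h3

theorem genS_inter (g : T.GoodA) {A B : Set ℕ} (hA : Cl T A) (hB : Cl T B) {x : GL T.D.Idx F}
    (hxA : x ∈ genS g.toGood F A) (hxB : x ∈ genS g.toGood F B) :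
    x ∈ genS g.toGood F (A ∩ B) := by
  have hg := g.toGood
  have hA' : A ∩ Set.Ico T.N T.n = A := Set.inter_eq_left.2 hA.pos
  have hB' : B ∩ Set.Ico T.N T.n = B := Set.inter_eq_left.2 hB.pos
  obtain ⟨t, ht, ht0⟩ := exists_coords g hA T.n T.N (by omega) x (hA'.symm ▸ hxA)
  obtain ⟨u, hu, hu0⟩ := exists_coords g hB T.n T.N (by omega) x (hB'.symm ▸ hxB)
  have e := (ordProd_spec g T.n T.N le_rfl (by omega)).2 t u (ht.symm.trans hu)
  rw [ht]
  refine Subgroup.list_prod_mem _ fun y hy => ?_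
  obtain ⟨r, hr, rfl⟩ := List.mem_map.1 hy
  rw [List.mem_range'_1] at hr
  by_cases hrA : r ∈ A
  · by_cases hrB : r ∈ B
    · exact xg_mem_genS hg (S := A ∩ B) ⟨hrA, hrB⟩ _
    · rw [e r hr.1 (by omega), hu0 r hr.1 (by omega) hrB, xg_zero]; exact one_mem _
  · rw [ht0 r hr.1 (by omega) hrA, xg_zero]; exact one_mem _

theorem split_two (g : T.GoodA) {S A B : Set ℕ} (hS : Cl T S) (hcov : ∀ r ∈ S, r ∈ A ∨ r ∈ B) :
    ∀ m k, T.n ≤ k + m → ∀ x ∈ genS g.toGood F (S ∩ Set.Ico k T.n),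
      ∃ y₁ ∈ genS g.toGood F A, ∃ y₂ ∈ genS g.toGood F B, x = y₁ * y₂
  | 0, k, hle, x, hx => ⟨1, one_mem _, 1, one_mem _, by
      rw [mul_one]
      exact genS_induction g.toGood (p := fun x => x = 1) rfl
        (fun r hr => absurd hr.2.2 (by have := hr.2.1; omega)) hx⟩
  | m + 1, k, hle, x, hx => by
    have hg := g.toGood
    obtain ⟨t, ht, y, hy, rfl⟩ := step_split g hS k hx
    by_cases hkS : k ∈ S
    swap
    · obtain rfl := ht hkS
      rw [xg_zero, one_mul]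
      exact split_two g hS hcov m (k + 1) (by omega) y hy
    rcases hcov k hkS with hk | hk
    · obtain ⟨y₁, h1, y₂, h2, rfl⟩ := split_two g hS hcov m (k + 1) (by omega) y hy
      exact ⟨xg hg k t * y₁, mul_mem (xg_mem_genS hg hk t) h1, y₂, h2, by rw [mul_assoc]⟩
    · have hy' := (Subgroup.mem_normalizer_iff.1 (hS.normalized g hkS t) y).1 hy
      obtain ⟨y₁, h1, y₂, h2, e⟩ := split_two g hS hcov m (k + 1) (by omega) _ hy'
      refine ⟨y₁, h1, y₂ * xg hg k t, mul_mem h2 (xg_mem_genS hg hk t), ?_⟩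
      rw [← mul_assoc, ← e]
      group

/-- The part of a closed root subgroup which a Weyl group element brings into `U`. -/
theorem inter_conj (g : T.GoodK K) {L : List ℕ} (hL : T.Wd L) {S : Set ℕ} (hS : Cl T S)
    {z : GL T.D.Idx F} (hz : z ∈ genS g.toGood F (Set.Ico T.N T.n))
    (hzS : nWd g.toGood F L * z * (nWd g.toGood F L)⁻¹ ∈ genS g.toGood F S) :
    z ∈ genS g.toGood F {s | (T.N ≤ s ∧ s < T.n) ∧ T.rw' L s ∈ S} := by
  have hg := g.toGood
  set n := nWd hg F L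
  set w := fun r => T.rw' L.reverse r with hw
  set A : Set ℕ := {r | r ∈ S ∧ T.N ≤ w r}
  set B : Set ℕ := {r | r ∈ S ∧ w r < T.N}
  have hz' : n * z * n⁻¹ ∈ genS hg F (S ∩ Set.Ico T.N T.n) := by
    rwa [Set.inter_eq_left.2 hS.pos]
  obtain ⟨y₁, h1, y₂, h2, e⟩ := split_two g.toGoodA hS (A := A) (B := B)
    (fun r hr => (le_or_gt T.N (w r)).imp (fun h => ⟨hr, h⟩) (fun h => ⟨hr, h⟩))
    T.n T.N (by omega) _ hz'
  set P : Set ℕ := {s | (T.N ≤ s ∧ s < T.n) ∧ T.rw' L s ∈ S}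
  set Q : Set ℕ := Set.Iio T.N
  have hA : genS hg F A ≤ (genS hg F P).map (MulAut.conj n).toMonoidHom := by
    rw [genS_map_nWd hg hL fun r hr => hr.1.2]
    refine genS_mono hg fun r hr => ?_
    have hrn := (hS.pos hr.1).2
    exact ⟨w r, ⟨⟨hr.2, rw'_lt hg hL.reverse hrn⟩,
      by rw [hw, rw'_rev' hg hL hrn]; exact hr.1⟩, rw'_rev' hg hL hrn⟩
  have hB : genS hg F B ≤ (genS hg F Q).map (MulAut.conj n).toMonoidHom := by
    rw [genS_map_nWd hg hL (S := Q) fun r (hr : r < T.N) => by have := n_def (T := T); omega]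
    exact genS_mono hg fun r hr => ⟨w r, hr.2, rw'_rev' hg hL (hS.pos hr.1).2⟩
  obtain ⟨a, ha, ea⟩ := hA h1
  obtain ⟨b, hb, eb⟩ := hB h2
  simp only [MulEquiv.coe_toMonoidHom, MulAut.conj_apply] at ea eb
  have ez : z = a * b := by
    have : n * z * n⁻¹ = n * (a * b) * n⁻¹ := by rw [e, ← ea, ← eb]; group
    exact mul_left_cancel (mul_right_cancel this)
  have haP : a ∈ genS hg F (Set.Ico T.N T.n) := genS_mono hg (fun s hs => hs.1) ha
  have hb1 : b = 1 := borel_inf_neg hg (genS_pos_le_borel hg (fun r hr => hr)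
    (by rw [show b = a⁻¹ * z by rw [ez]; group]; exact mul_mem (inv_mem haP) hz)) hb
  rw [ez, hb1, mul_one]
  exact ha

theorem borel_normalizes_lvl (g : T.GoodA) {φ : ℕ → ℝ} (hl : IsLin T φ) (hd : Dom T φ) {k : ℝ}
    (hk : 0 ≤ k) :
    T.D.borelSubgroup F ≤
      Subgroup.normalizer (genS g.toGood F (lvl T φ k) : Set (GL T.D.Idx F)) := by
  have hg := g.toGood
  intro b hb
  obtain ⟨u, hu, c, rfl⟩ := (mem_borel_iff hg).1 hb
  refine mul_mem ?_ (tor_normalizes hg (fun r hr => hr.1.2) c)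
  refine genS_le hg (fun r hr t => xg_normalizes g hr.2 (fun s hs => ⟨hs.1.2, ?_, fun _ c hc => ?_⟩) t) hu
  · have := (neg_lt_N_iff hr.2).2 hr.1
    have := hs.1.1
    omega
  · obtain ⟨q1, q2, q3, q4, q5⟩ := cTerms_mem hg hr.2 hs.1.2 hc
    refine ⟨⟨le_trans hr.1 (q5 hr.1 hs.1.1).1.le, q1⟩, ?_⟩
    rw [hl.lincomb hr.2 hs.1.2 q1 q4]
    push_cast
    have hj : (1 : ℝ) ≤ (c.2.2.2 : ℝ) := by exact_mod_cast q3
    have := hd r hr.1 hr.2
    have := hs.2
    nlinarith [Nat.cast_nonneg (α := ℝ) c.2.2.1]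

/-! ### The optimum -/

/-- `U` is carried by `x` into the root subgroup of `S` -/
def Into (g : T.Good) (U : Subgroup (GL T.D.Idx F)) (x : GL T.D.Idx F) (S : Set ℕ) : Prop :=
  ∀ z ∈ U, x⁻¹ * z * x ∈ genS g F S

/-- the forms to optimise over -/
def X (T : Tab) : Set (Fin T.n → ℝ) :=
  {f | (∃ y : Fin T.l → ℝ, ∀ r : Fin T.n, f r = ∑ j : Fin T.l, y j * (T.A j.val r.val : ℝ)) ∧
    ∑ r, f r ^ 2 = 1 ∧ ∀ r : Fin T.n, T.N ≤ r.val → 0 ≤ f r}

theorem isCompact_X (T : Tab) : IsCompact (X T) := by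
  let Λ : (Fin T.l → ℝ) →ₗ[ℝ] (Fin T.n → ℝ) :=
    { toFun := fun y r => ∑ j : Fin T.l, y j * (T.A j.val r.val : ℝ)
      map_add' := fun y z => by
        funext r; simp [add_mul, Finset.sum_add_distrib]
      map_smul' := fun a y => by
        funext r; simp [Finset.mul_sum, mul_assoc] }
  have hX : X T = (LinearMap.range Λ : Set (Fin T.n → ℝ)) ∩
      ({f | ∑ r, f r ^ 2 = 1} ∩ {f | ∀ r : Fin T.n, T.N ≤ r.val → 0 ≤ f r}) := by
    ext f
    constructor
    · rintro ⟨⟨y, hy⟩, h2, h3⟩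
      exact ⟨⟨y, funext fun r => (hy r).symm⟩, h2, h3⟩
    · rintro ⟨⟨y, rfl⟩, h2, h3⟩
      exact ⟨⟨y, fun r => rfl⟩, h2, h3⟩
  have hcl : IsClosed (X T) := by
    rw [hX]
    refine (Submodule.closed_of_finiteDimensional _).inter (IsClosed.inter ?_ ?_)
    · exact isClosed_eq (by fun_prop) continuous_const
    · simp only [Set.ofPred_forall]
      exact isClosed_iInter fun r => isClosed_iInter fun _ =>
        isClosed_le continuous_const (continuous_apply r)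
  refine (isCompact_univ_pi fun _ : Fin T.n =>
    isCompact_Icc (a := (-1 : ℝ)) (b := 1)).of_isClosed_subset hcl ?_
  rintro f ⟨-, h2, -⟩ r -
  have h : f r ^ 2 ≤ 1 := h2 ▸ Finset.single_le_sum (fun s _ => sq_nonneg (f s)) (Finset.mem_univ r)
  exact ⟨by nlinarith, by nlinarith⟩

open scoped Classical in
/-- a function on `Fin n` extended by zero -/
noncomputable def ext0 (f : Fin T.n → ℝ) (r : ℕ) : ℝ := if h : r < T.n then f ⟨r, h⟩ else 0

theorem ext0_val (f : Fin T.n → ℝ) (r : Fin T.n) : ext0 f r.val = f r := by simp [ext0, r.2]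

theorem ext0_mem {f : Fin T.n → ℝ} (hf : f ∈ X T) :
    IsLin T (ext0 f) ∧ nsq T (ext0 f) = 1 ∧ Dom T (ext0 f) := by
  obtain ⟨⟨y, hy⟩, h2, h3⟩ := hf
  refine ⟨⟨fun j => if h : j < T.l then y ⟨j, h⟩ else 0, fun r hr => ?_⟩, ?_, fun r h1 h => ?_⟩
  · rw [show ext0 f r = f ⟨r, hr⟩ by simp [ext0, hr], hy, lin, ← Fin.sum_univ_eq_sum_range]
    exact Finset.sum_congr rfl fun j _ => by simp [j.2]
  · rw [nsq, ← h2, ← Fin.sum_univ_eq_sum_range]
    exact Finset.sum_congr rfl fun r _ => by rw [ext0_val]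
  · rw [show ext0 f r = f ⟨r, h⟩ by simp [ext0, h]]
    exact h3 _ h1

theorem mem_X {φ : ℕ → ℝ} (hl : IsLin T φ) (hn : nsq T φ = 1) (hd : Dom T φ) :
    (fun r : Fin T.n => φ r.val) ∈ X T := by
  obtain ⟨y, hy⟩ := hl
  refine ⟨⟨fun j => y j.val, fun r => ?_⟩, ?_, fun r hr => hd _ hr r.2⟩
  · show φ r.val = _
    rw [hy _ r.2, lin, ← Fin.sum_univ_eq_sum_range]
  · rwa [nsq, ← Fin.sum_univ_eq_sum_range] at hn

/-- `(x, φ, k)` is optimal for `U` -/
structure Opt (g : T.Good) (U : Subgroup (GL T.D.Idx F)) (x : GL T.D.Idx F) (φ : ℕ → ℝ) (k : ℝ) :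
    Prop where
  mem : x ∈ T.D.group F
  lin : IsLin T φ
  norm : nsq T φ = 1
  dom : Dom T φ
  kpos : 0 < k
  into : Into g U x (lvl T φ k)
  max : ∀ x' ∈ T.D.group F, ∀ φ', IsLin T φ' → nsq T φ' = 1 → Dom T φ' → ∀ k', 0 < k' →
    Into g U x' (lvl T φ' k') → k' ≤ k

theorem into_ne (g : T.Good) {U : Subgroup (GL T.D.Idx F)} (hne : U ≠ ⊥) {x : GL T.D.Idx F}
    {S : Set ℕ} (h : Into g U x S) : S.Nonempty := by
  rcases S.eq_empty_or_nonempty with rfl | h'
  · refine absurd ?_ hne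
    rw [eq_bot_iff]
    intro z hz
    have : x⁻¹ * z * x = 1 :=
      genS_induction g (p := fun y => y = 1) rfl (fun r hr => absurd hr (Set.notMem_empty r)) (h z hz)
    rw [Subgroup.mem_bot]
    calc z = x * (x⁻¹ * z * x) * x⁻¹ := by group
      _ = 1 := by rw [this]; group
  · exact h'

theorem nsq_pos {φ : ℕ → ℝ} {r : ℕ} (hr : r < T.n) (h : φ r ≠ 0) : 0 < nsq T φ :=
  lt_of_lt_of_le (by positivity)
    (Finset.single_le_sum (fun s _ => sq_nonneg (φ s)) (Finset.mem_range.2 hr))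

theorem nsq_normalize {φ : ℕ → ℝ} (h : 0 < nsq T φ) :
    nsq T (fun r => (Real.sqrt (nsq T φ))⁻¹ * φ r) = 1 := by
  have e : ∀ c : ℝ, nsq T (fun r => c * φ r) = c ^ 2 * nsq T φ := fun c => by
    simp only [nsq, Finset.mul_sum, mul_pow]
  rw [e, inv_pow, Real.sq_sqrt h.le]
  exact inv_mul_cancel₀ h.ne'

theorem exists_opt [Fintype F] (g : T.GoodK K) (p : ℕ) [Fact p.Prime] [CharP F p]
    (U : Subgroup (GL T.D.Idx F)) (hUG : U ≤ T.D.group F) (hU : IsPGroup p U) (hne : U ≠ ⊥) :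
    ∃ x φ k, Opt g.toGood U x φ k := by
  classical
  have hg := g.toGood
  -- some conjugate of `U` lies in the positive unipotent group
  obtain ⟨P, hP⟩ := exists_sylow_posU (F := F) g.toGoodA p
  have hU' : IsPGroup p (U.subgroupOf (T.D.group F)) :=
    hU.of_equiv (Subgroup.subgroupOfEquivOfLe hUG).symm
  obtain ⟨Q, hQ⟩ := hU'.exists_le_sylow
  obtain ⟨y, hy⟩ := MulAction.exists_smul_eq ↥(T.D.group F) Q P
  have h0 : Into hg U ((y : GL T.D.Idx F)⁻¹) (Set.Ico T.N T.n) := by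
    intro z hz
    have h1 : MulAut.conj y ⟨z, hUG hz⟩ ∈ (P : Subgroup ↥(T.D.group F)) := by
      rw [← hy, Sylow.coe_subgroup_smul]
      exact Subgroup.smul_mem_pointwise_smul _ _ _ (hQ hz)
    rw [hP, Subgroup.mem_subgroupOf, posUnipotent_eq hg] at h1
    simpa using h1
  let 𝒮 : Finset (Finset ℕ) := (Finset.Ico T.N T.n).powerset.filter fun S : Finset ℕ =>
    ∃ x ∈ T.D.group F, Into hg U x (↑S : Set ℕ)
  have hS0 : Finset.Ico T.N T.n ∈ 𝒮 := by
    simp only [𝒮, Finset.mem_filter, Finset.mem_powerset]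
    exact ⟨subset_rfl, _, inv_mem y.2, by rwa [Finset.coe_Ico]⟩
  have hne' : ∀ S ∈ 𝒮, S.Nonempty := by
    intro S hS
    obtain ⟨x, -, hx⟩ := (Finset.mem_filter.1 hS).2
    exact Finset.coe_nonempty.1 (into_ne hg hne hx)
  have hN := (hne' _ hS0)
  obtain ⟨r₀, hr₀⟩ := hN
  obtain ⟨hr₀N, hr₀n⟩ := Finset.mem_Ico.1 hr₀
  -- the starting form
  have hν : 0 < nsq T (phi0 T K) := nsq_pos hr₀n (phi0_pos g hr₀N hr₀n).ne'
  set φ₀ : ℕ → ℝ := fun r => (Real.sqrt (nsq T (phi0 T K)))⁻¹ * phi0 T K r with hφ₀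
  have hφ₀l : IsLin T φ₀ := (phi0_lin T K).smul _
  have hφ₀p : ∀ r, T.N ≤ r → r < T.n → 0 < φ₀ r := fun r h1 h2 =>
    mul_pos (inv_pos.2 (Real.sqrt_pos.2 hν)) (phi0_pos g h1 h2)
  have hf₀ := mem_X hφ₀l (nsq_normalize hν) fun r h1 h2 => (hφ₀p r h1 h2).le
  have key : ∀ S ∈ 𝒮, ∃ f ∈ X T, ∀ f' ∈ X T, ∀ k', (∀ r ∈ S, k' ≤ ext0 f' r) →
      ∀ r ∈ S, ∃ s ∈ S, ext0 f s ≤ ext0 f r ∧ k' ≤ ext0 f s := by
    intro S hS
    have hc : Continuous fun f : Fin T.n → ℝ => S.inf' (hne' S hS) fun r => ext0 f r := by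
      refine Continuous.finset_inf'_apply (hne' S hS) fun r _ => ?_
      unfold ext0
      split_ifs <;> fun_prop
    obtain ⟨f, hf, hfmax⟩ := (isCompact_X T).exists_isMaxOn ⟨_, hf₀⟩ hc.continuousOn
    refine ⟨f, hf, fun f' hf' k' hk' r hr => ?_⟩
    obtain ⟨s, hs, hse⟩ := S.exists_mem_eq_inf' (hne' S hS) fun r => ext0 f r
    refine ⟨s, hs, hse ▸ Finset.inf'_le _ hr, ?_⟩
    have h' : S.inf' (hne' S hS) (fun r => ext0 f' r) ≤ S.inf' (hne' S hS) (fun r => ext0 f r) :=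
      hfmax hf'
    rw [← hse]
    exact le_trans (Finset.le_inf' _ _ hk') h'
  choose! fS hfS hkey using key
  let val : Finset ℕ → ℝ := fun S =>
    if h : S.Nonempty then S.inf' h (fun r => ext0 (fS S) r) else 0
  obtain ⟨S, hS, hSmax⟩ := 𝒮.exists_max_image val ⟨_, hS0⟩
  have hval : ∀ S' ∈ 𝒮, ∀ f' ∈ X T, ∀ k', (∀ r ∈ S', k' ≤ ext0 f' r) → k' ≤ val S := by
    intro S' hS' f' hf' k' hk'
    refine le_trans ?_ (hSmax S' hS')
    simp only [val, dif_pos (hne' S' hS')]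
    refine Finset.le_inf' _ _ fun r hr => ?_
    obtain ⟨s, -, h1, h2⟩ := hkey S' hS' f' hf' k' hk' r hr
    exact le_trans h2 h1
  obtain ⟨hSsub, x, hx, hint⟩ := Finset.mem_filter.1 hS
  obtain ⟨hl, hn, hd⟩ := ext0_mem (hfS S hS)
  have hkv : ∀ r ∈ S, val S ≤ ext0 (fS S) r := fun r hr => by
    simp only [val, dif_pos (hne' S hS)]
    exact Finset.inf'_le _ hr
  refine ⟨x, ext0 (fS S), val S, hx, hl, hn, hd, ?_, fun z hz => ?_, ?_⟩
  · obtain ⟨r₁, hr₁, hmin⟩ := (Finset.Ico T.N T.n).exists_min_image φ₀ ⟨r₀, hr₀⟩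
    obtain ⟨h1, h2⟩ := Finset.mem_Ico.1 hr₁
    refine lt_of_lt_of_le (hφ₀p r₁ h1 h2) (hval _ hS0 _ hf₀ _ fun r hr => ?_)
    rw [show ext0 (fun r : Fin T.n => φ₀ r.val) r = φ₀ r by simp [ext0, (Finset.mem_Ico.1 hr).2]]
    exact hmin r hr
  · refine genS_mono hg (fun r hr => ?_) (hint z hz)
    have := Finset.mem_Ico.1 (Finset.mem_powerset.1 hSsub hr)
    exact ⟨this, hkv r hr⟩
  · intro x' hx' φ' hl' hn' hd' k' _ hint'
    let S' := (Finset.Ico T.N T.n).filter fun r => k' ≤ φ' r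
    have hS' : S' ∈ 𝒮 := by
      simp only [𝒮, Finset.mem_filter, Finset.mem_powerset]
      refine ⟨Finset.filter_subset _ _, x', hx', fun z hz => genS_mono hg (fun r hr => ?_) (hint' z hz)⟩
      exact Finset.mem_coe.2 (Finset.mem_filter.2 ⟨Finset.mem_Ico.2 hr.1, hr.2⟩)
    refine hval S' hS' _ (mem_X hl' hn' hd') k' fun r hr => ?_
    obtain ⟨h1, h2⟩ := Finset.mem_filter.1 hr
    rw [show ext0 (fun r : Fin T.n => φ' r.val) r = φ' r by simp [ext0, (Finset.mem_Ico.1 h1).2]]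
    exact h2

/-- An optimal form is fixed by any Weyl group element fixing its level set on a conjugate of `U`. -/
theorem opt_fixed (g : T.Good) {U : Subgroup (GL T.D.Idx F)} (hne : U ≠ ⊥)
    {x : GL T.D.Idx F} {φ : ℕ → ℝ} {k : ℝ} (o : Opt g U x φ k) {L : List ℕ} (hL : T.Wd L)
    {x' : GL T.D.Idx F} (hx' : x' ∈ T.D.group F)
    (h : Into g U x' {r | (T.N ≤ r ∧ r < T.n) ∧ k ≤ φ r ∧ k ≤ φ (T.rw' L r)}) :
    ∀ r < T.n, φ (T.rw' L r) = φ r := by
  set ψ : ℕ → ℝ := fun r => (1 / 2 : ℝ) * (φ r + φ (T.rw' L r)) with hψ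
  have hψl : IsLin T ψ := (o.lin.add (o.lin.comp_rw' g hL)).smul _
  set C : Set ℕ := {r | (T.N ≤ r ∧ r < T.n) ∧ k ≤ φ r ∧ k ≤ φ (T.rw' L r)}
  have hC : ∀ r ∈ C, k ≤ ψ r := fun r hr => by
    have h1 := hr.2.1
    have h2 := hr.2.2
    rw [hψ]
    dsimp only
    linarith
  obtain ⟨r₁, hr₁⟩ := into_ne g hne h
  have hpos : 0 < nsq T ψ := nsq_pos hr₁.1.2 (by have := hC r₁ hr₁; have := o.kpos; linarith)
  have hle : 4 * nsq T ψ + ∑ r ∈ Finset.range T.n, (φ r - φ (T.rw' L r)) ^ 2 = 4 := by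
    have e1 : ∑ r ∈ Finset.range T.n, φ r ^ 2 = 1 := o.norm
    have e2 : ∑ r ∈ Finset.range T.n, φ (T.rw' L r) ^ 2 = 1 := (nsq_comp g hL φ).trans o.norm
    calc _ = ∑ r ∈ Finset.range T.n, (2 * φ r ^ 2 + 2 * φ (T.rw' L r) ^ 2) := by
          rw [nsq, Finset.mul_sum, ← Finset.sum_add_distrib]
          exact Finset.sum_congr rfl fun r _ => by rw [hψ]; ring
      _ = _ := by rw [Finset.sum_add_distrib, ← Finset.mul_sum, ← Finset.mul_sum, e1, e2]; norm_num
  intro r hr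
  by_contra hrne
  have hlt : nsq T ψ < 1 := by
    have : 0 < (φ r - φ (T.rw' L r)) ^ 2 := by
      have : φ r - φ (T.rw' L r) ≠ 0 := sub_ne_zero.2 (Ne.symm hrne)
      positivity
    have := Finset.single_le_sum (fun s _ => sq_nonneg (φ s - φ (T.rw' L s))) (Finset.mem_range.2 hr)
    linarith
  obtain ⟨M, hM, hdom⟩ := exists_dom g hψl
  set ψ' : ℕ → ℝ := fun r => ψ (T.rw' M r) with hψ'
  change Dom T ψ' at hdom
  have hν : nsq T ψ' = nsq T ψ := nsq_comp g hM ψ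
  set a : ℝ := (Real.sqrt (nsq T ψ'))⁻¹ with ha
  have hapos : 1 < a := by
    rw [ha]
    refine one_lt_inv_iff₀.2 ⟨Real.sqrt_pos.2 (hν ▸ hpos), ?_⟩
    rw [hν, Real.sqrt_lt' one_pos]
    linarith
  have hn : nWd g F M ∈ T.D.group F :=
    monomial_le_group g ((mem_monomial_iff g).2 ⟨M, hM, 1, by simp⟩)
  have hinto : Into g U (x' * nWd g F M) (lvl T (fun r => a * ψ' r) (a * k)) := by
    intro z hz
    have h1 := h z hz
    have hsub : genS g F C ≤
        (genS g F (lvl T (fun r => a * ψ' r) (a * k))).map (MulAut.conj (nWd g F M)).toMonoidHom := by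
      rw [genS_map_nWd g hM fun r hr => hr.1.2]
      refine genS_mono g fun s hs => ?_
      have hs' := rw'_lt g hM.reverse hs.1.2
      have hval : ψ' (T.rw' M.reverse s) = ψ s := by rw [hψ']; simp [rw'_rev' g hM hs.1.2]
      refine ⟨_, ⟨⟨?_, hs'⟩, ?_⟩, rw'_rev' g hM hs.1.2⟩
      · by_contra hneg
        have hp := hdom _ ((N_le_neg_iff hs').2 (not_le.1 hneg)) (neg_lt hs')
        rw [(show IsLin T ψ' from hψl.comp_rw' g hM).neg g hs'] at hp
        have := hC s hs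
        have := o.kpos
        rw [hval] at hp
        linarith
      · show a * k ≤ a * ψ' _
        rw [hval]
        exact mul_le_mul_of_nonneg_left (hC s hs) (by linarith)
    obtain ⟨w, hw, e⟩ := hsub h1
    simp only [MulEquiv.coe_toMonoidHom, MulAut.conj_apply] at e
    have : (x' * nWd g F M)⁻¹ * z * (x' * nWd g F M) = w := by
      calc _ = (nWd g F M)⁻¹ * (x'⁻¹ * z * x') * nWd g F M := by group
        _ = _ := by rw [← e]; group
    rwa [this]
  have := o.max _ (mul_mem hx' hn) _ ((hψl.comp_rw' g hM).smul a)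
    (nsq_normalize (hν ▸ hpos)) (fun r h1 h2 => mul_nonneg (by linarith) (hdom r h1 h2))
    (a * k) (mul_pos (by linarith) o.kpos) hinto
  nlinarith [o.kpos]

theorem borel_le_parabolic (J : Set ℕ) :
    T.D.borelSubgroup F ≤ T.D.parabolicSubgroup F J := le_sup_left

theorem nG_mem_parabolic (g : T.Good) {J : Set ℕ} {i : ℕ} (hi : i < T.l) (hJ : i ∈ J) :
    nG g F i ∈ T.D.parabolicSubgroup F J :=
  Subgroup.mem_sup_right (Subgroup.subset_closure
    ⟨i, hJ, by rw [g.rank_eq]; exact hi, by rw [nG_val g hi, nM]⟩)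

/-- A Weyl group element fixing a dominant form lies in its parabolic subgroup. -/
theorem stab_parabolic (g : T.Good) {φ : ℕ → ℝ} (hl : IsLin T φ) (hd : Dom T φ) :
    ∀ (m : ℕ) {L : List ℕ}, T.Wd L → (T.invSet L).card ≤ m →
      (∀ r < T.n, φ (T.rw' L r) = φ r) →
      nWd g F L ∈ T.D.parabolicSubgroup F {j | j < T.l ∧ φ (T.smp j) = 0} := by
  have base : ∀ {L : List ℕ}, T.Wd L → (T.invSet L).card = 0 →
      nWd g F L ∈ T.D.parabolicSubgroup F {j | j < T.l ∧ φ (T.smp j) = 0} := by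
    intro L hL h0
    obtain ⟨⟨c, hc⟩, -⟩ :=
      nWd_torus_of_pos (F := F) g L.length le_rfl hL (invSet_empty g h0)
    rw [hc]
    exact borel_le_parabolic _ (torus_le_borel g c)
  intro m
  induction m with
  | zero => exact fun hL h _ => base hL (Nat.le_zero.1 h)
  | succ m ih =>
    intro L hL hle hfix
    rcases Nat.eq_zero_or_eq_sub_one_add_one (n := (T.invSet L).card) with h0 | hs
    · exact base hL h0
    obtain ⟨i, hi, hneg, hcard, -⟩ := invSet_peel g hL hs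
    have hp := g.smp_lt hi
    have hlt := rw'_lt g hL hp
    have hz : φ (T.smp i) = 0 := by
      refine le_antisymm ?_ (hd _ (g.smp_ge hi) hp)
      have h2 := hd _ ((N_le_neg_iff hlt).2 hneg) (neg_lt hlt)
      rw [hl.neg g hlt, hfix _ hp] at h2
      linarith
    have hL' : T.Wd (L ++ [i]) := Wd.append_iff.2 ⟨hL, by simp [Wd, hi]⟩
    have h1 := ih hL' (by omega) fun r hr => by
      rw [rw'_append, rw'_cons, rw'_nil, hfix _ (g.ref_lt hi hr), (hl.comp_ref g hi).1 r hr, hz,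
        mul_zero, sub_zero]
    rw [nWd_snoc] at h1
    have := mul_mem h1 (inv_mem (nG_mem_parabolic (F := F) g
      (J := {j | j < T.l ∧ φ (T.smp j) = 0}) hi ⟨hi, hz⟩))
    rwa [mul_inv_cancel_right] at this

/-- the normaliser of `U` stabilises the optimum -/
theorem normalizer_le (g : T.GoodK K) {U : Subgroup (GL T.D.Idx F)} (hne : U ≠ ⊥)
    {x : GL T.D.Idx F} {φ : ℕ → ℝ} {k : ℝ} (o : Opt g.toGood U x φ k) {m : GL T.D.Idx F}
    (hmG : m ∈ T.D.group F) (hm : m ∈ Subgroup.normalizer (U : Set (GL T.D.Idx F))) :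
    x⁻¹ * m * x ∈ T.D.parabolicSubgroup F {j | j < T.l ∧ φ (T.smp j) = 0} := by
  have hg := g.toGood
  have hy : x⁻¹ * m * x ∈ T.D.group F := mul_mem (mul_mem (inv_mem o.mem) hmG) o.mem
  obtain ⟨b, hb, _, -, L, hL, ⟨c, rfl⟩, u, hu, hbnu⟩ := bruhat_exists g.toGoodA hy
  have huB : u ∈ T.D.borelSubgroup F :=
    genS_pos_le_borel hg (fun r hr => hr) (uMinus_le_pos hg _ hu)
  have hN := borel_normalizes_lvl (F := F) g.toGoodA o.lin o.dom o.kpos.le
  have hS := cl_lvl hg o.lin o.kpos.le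
  have key : ∀ z ∈ U, (x * u⁻¹)⁻¹ * z * (x * u⁻¹) ∈ genS hg F
      {r | (T.N ≤ r ∧ r < T.n) ∧ k ≤ φ r ∧ k ≤ φ (T.rw' L r)} := by
    intro z hz
    set R := (x * u⁻¹)⁻¹ * z * (x * u⁻¹)
    have hR : R ∈ genS hg F (lvl T φ k) := by
      have := (Subgroup.mem_normalizer_iff.1 (hN huB) _).1 (o.into z hz)
      have e : R = u * (x⁻¹ * z * x) * u⁻¹ := by simp only [R]; group
      rwa [e]
    have hbt : (b * tor T F c)⁻¹ ∈ T.D.borelSubgroup F :=
      inv_mem (mul_mem hb (torus_le_borel hg c))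
    have hconj : nWd hg F L * R * (nWd hg F L)⁻¹ ∈ genS hg F (lvl T φ k) := by
      have h1 := o.into _ ((Subgroup.mem_normalizer_iff.1 hm z).1 hz)
      have h2 := (Subgroup.mem_normalizer_iff.1 (hN hbt) _).1 h1
      have e : nWd hg F L * R * (nWd hg F L)⁻¹ =
          (b * tor T F c)⁻¹ * (x⁻¹ * (m * z * m⁻¹) * x) * ((b * tor T F c)⁻¹)⁻¹ := by
        have e' : m = x * (b * (tor T F c * nWd hg F L) * u) * x⁻¹ := by
          rw [← hbnu]; group
        rw [e']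
        simp only [R]
        group
      rwa [e]
    have h3 := inter_conj g hL hS (genS_mono hg hS.pos hR) hconj
    have hcl : Cl T {s | (T.N ≤ s ∧ s < T.n) ∧ T.rw' L s ∈ lvl T φ k} := by
      have h4 := cl_lvl hg (o.lin.comp_rw' hg hL) o.kpos.le
      have h5 := cl_cond hg ((phi0_lin T K).comp_rw' hg hL) (fun a => 0 < a)
        fun a b i j hi hj ha hb => by positivity
      convert h4.inter h5 using 1
      ext s
      simp only [lvl, Set.mem_inter_iff, Set.mem_setOf_eq]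
      constructor
      · rintro ⟨hs, ⟨h1, h2⟩, h3⟩
        exact ⟨⟨hs, h3⟩, hs, phi0_pos g h1 h2⟩
      · rintro ⟨⟨hs, h1⟩, -, h2⟩
        refine ⟨hs, ⟨?_, rw'_lt hg hL hs.2⟩, h1⟩
        by_contra hneg
        exact absurd h2 (not_lt.2 (phi0_neg g (not_le.1 hneg)).le)
    refine genS_mono hg (fun s hs => ?_) (genS_inter g.toGoodA hS hcl hR h3)
    exact ⟨hs.1.1, hs.1.2, hs.2.2.2⟩
  have hfix := opt_fixed hg hne o hL (mul_mem o.mem (inv_mem (borel_le_group hg huB))) key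
  rw [hbnu]
  exact mul_mem (mul_mem (borel_le_parabolic _ hb)
    (mul_mem (borel_le_parabolic _ (torus_le_borel hg c))
      (stab_parabolic hg o.lin o.dom _ hL le_rfl hfix))) (borel_le_parabolic _ huB)

/-- the level set lies outside the root system of the zero set -/
theorem lvl_subset_outJ (g : T.Good) {φ : ℕ → ℝ} (hl : IsLin T φ) {k : ℝ} (hk : 0 < k) :
    lvl T φ k ⊆ T.outJ {j | j < T.l ∧ φ (T.smp j) = 0} := by
  intro r hr
  rcases outJ_or_inJ (J := {j | j < T.l ∧ φ (T.smp j) = 0}) hr.1.1 hr.1.2 with h | h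
  · exact h
  exfalso
  have key : ∀ r, T.N ≤ r → r ∈ T.inJ {j | j < T.l ∧ φ (T.smp j) = 0} → φ r = 0 := by
    intro r
    induction r using Nat.strong_induction_on with
    | _ r ih =>
      intro hN hr
      rcases descent_inJ g hN hr with ⟨j, hj, hJ, rfl⟩ | ⟨j, hj, hJ, h1, h2⟩
      · exact hJ.2
      · have := ih _ h2 h1 (ref_inJ g hj hJ hr)
        rwa [(hl.comp_ref g hj).1 r hr.1, hJ.2, mul_zero, sub_zero] at this
  have := key r hr.1.1 h
  have := hr.2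
  linarith

end BTi

open BTi in
/-- The Borel–Tits property. -/
theorem borel_tits {T : Tab} {K : List (List ℕ)} {F : Type*} [Field F] [Fintype F] (g : T.GoodK K)
    (p : ℕ) [Fact p.Prime] [CharP F p] (U : Subgroup (GL T.D.Idx F)) (hUG : U ≤ T.D.group F)
    (hU : IsPGroup p U) (hne : U ≠ ⊥) :
    ∃ x ∈ T.D.group F, ∃ J : Set ℕ, (∃ i, i < T.D.rank ∧ i ∉ J) ∧
      Subgroup.normalizer (U : Set (GL T.D.Idx F)) ⊓ T.D.group F ≤
        (T.D.parabolicSubgroup F J).map (MulAut.conj x).toMonoidHom ∧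
      U ≤ (T.D.unipotentRadical F J).map (MulAut.conj x).toMonoidHom := by
  have hg := g.toGood
  obtain ⟨x, φ, k, o⟩ := exists_opt g p U hUG hU hne
  refine ⟨x, o.mem, {j | j < T.l ∧ φ (T.smp j) = 0}, ?_, ?_, ?_⟩
  · by_contra hh
    push Not at hh
    have h0 : ∀ r < T.n, φ r = 0 := root_induction hg
      (fun i hi => (hh i (by rw [hg.rank_eq]; exact hi)).2)
      (fun i hi s hs h => by
        rw [(o.lin.comp_ref hg hi).1 s hs, h, (hh i (by rw [hg.rank_eq]; exact hi)).2]; ring)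
    obtain ⟨r, hr⟩ := into_ne hg hne o.into
    have := h0 r hr.1.2
    have := hr.2
    have := o.kpos
    linarith
  · rintro m ⟨hm, hmG⟩
    refine ⟨x⁻¹ * m * x, normalizer_le g hne o hmG hm, ?_⟩
    simp [mul_assoc]
  · intro z hz
    refine ⟨x⁻¹ * z * x, ?_, ?_⟩
    · rw [unipotentRadical_eq hg]
      exact genS_mono hg (lvl_subset_outJ hg o.lin o.kpos) (o.into z hz)
    · simp [mul_assoc]

end Tab

end Cfsg.Agent.Chev
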