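import Cfsg.Agent.Lib.Lie.ChevWGroup
import Cfsg.Agent.Lib.Lie.BNPair

/-! The Bruhat normal form `g = b n u` and the count of the group. -/

set_option autoImplicit false

namespace Cfsg.Agent.Chev

open Cfsg.Lie
open Matrix hiding zpow_mul inv_zpow mul_inv_rev zpow_add zpow_neg

namespace Tab

variable {T : Tab} {F : Type*} [Field F]

/-- `U_w^-`: generated by the positive root groups that `w` makes negative -/
noncomputable def uMinus (g : T.Good) (F : Type*) [Field F] (L : List ℕ) : Subgroup (GL T.D.Idx F) :=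
  genS g F {r | T.N ≤ r ∧ r < T.n ∧ T.rw' L r < T.N}

theorem uMinus_congr (g : T.Good) {A B : List ℕ} (h : ∀ s < T.n, T.rw' A s = T.rw' B s) :
    uMinus g F A = uMinus g F B := by
  unfold uMinus
  congr 1
  ext r
  simp only [Set.mem_ofPred_eq]
  constructor <;> rintro ⟨h1, h2, h3⟩ <;> exact ⟨h1, h2, by rwa [h r h2] at *⟩

theorem uMinus_le_pos (g : T.Good) (L : List ℕ) :
    uMinus g F L ≤ genS g F (Set.Ico T.N T.n) :=
  genS_mono g fun _ hr => ⟨hr.1, hr.2.1⟩

theorem uMinus_conj_neg (g : T.Good) {L : List ℕ} (hL : T.Wd L) {x : GL T.D.Idx F}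
    (hx : x ∈ uMinus g F L) : nWd g F L * x * (nWd g F L)⁻¹ ∈ genS g F (Set.Iio T.N) := by
  have h := Subgroup.mem_map_of_mem (MulAut.conj (nWd g F L)).toMonoidHom hx
  rw [uMinus, genS_map_nWd g hL fun r hr => hr.2.1] at h
  refine genS_mono g ?_ h
  rintro _ ⟨r, hr, rfl⟩
  exact hr.2.2

theorem invSet_empty (g : T.Good) {L : List ℕ} (h : (T.invSet L).card = 0) :
    ∀ s, T.N ≤ s → s < T.n → T.N ≤ T.rw' L s := by
  intro s h1 h2
  by_contra hc
  have : s ∈ T.invSet L := by simp [invSet, h1, h2, not_le.1 hc]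
  rw [Finset.card_eq_zero.1 h] at this
  exact Finset.notMem_empty _ this

/-- A word with an inverted fundamental root, written through a shorter element. -/
theorem invSet_peel (g : T.Good) {L : List ℕ} (hL : T.Wd L) {m : ℕ}
    (hm : (T.invSet L).card = m + 1) :
    ∃ i < T.l, T.rw' L (T.smp i) < T.N ∧ (T.invSet (L ++ [i])).card ≤ m ∧
      T.N ≤ T.rw' (L ++ [i]) (T.smp i) := by
  obtain ⟨i, hi, hneg⟩ : ∃ i < T.l, T.rw' L (T.smp i) < T.N := by
    by_contra hc
    push Not at hc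
    have : T.invSet L = ∅ := by
      rw [Finset.eq_empty_iff_forall_notMem]
      intro s hs
      simp only [invSet, Finset.mem_filter, Finset.mem_Ico] at hs
      have := rw'_id_of_simple g hL hc s hs.1.1 hs.1.2
      omega
    rw [this] at hm
    simp at hm
  have hL' : T.Wd (L ++ [i]) := Wd.append_iff.2 ⟨hL, by simp [Wd, hi]⟩
  have hpos : T.N ≤ T.rw' (L ++ [i]) (T.smp i) := by
    rw [rw'_append, rw'_cons, rw'_nil, g.ref_smp hi, rw'_neg g hL (g.smp_lt hi)]
    exact (N_le_neg_iff (rw'_lt g hL (g.smp_lt hi))).2 hneg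
  have h := invSet_grow g hL' hi hpos
  have e : T.invSet (L ++ [i] ++ [i]) = T.invSet L := by
    ext s
    simp only [invSet, Finset.mem_filter, Finset.mem_Ico, List.append_assoc, rw'_append,
      List.cons_append, List.nil_append, rw'_cons, rw'_nil, and_congr_right_iff]
    intro hs
    rw [g.ref_ref hi hs.2]
  rw [e] at h
  exact ⟨i, hi, hneg, by omega, hpos⟩

theorem smp_not_posExc (g : T.Good) {i : ℕ} (hi : i < T.l) {a : F}
    (h : xg g (T.smp i) a ∈ genS g F (T.posExc i)) : a = 0 := by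
  have h' := (Subgroup.mem_normalizer_iff.1
    (nG_normalizes g hi (S := T.posExc i) (fun r hr => hr.2.1) fun r hr => ref_posExc g hi hr) _).1 h
  rw [nG_conj g hi (g.smp_lt hi), g.ref_smp hi] at h'
  have hB := genS_pos_le_borel g (S := T.posExc i) (fun r hr => ⟨hr.1, hr.2.1⟩) h'
  have h1 := borel_inf_neg g hB (xg_mem_genS g (S := Set.Iio T.N)
    ((neg_lt_N_iff (g.smp_lt hi)).2 (g.smp_ge hi)) _)
  rw [← xg_zero g (T.neg (T.smp i))] at h1
  have h2 := xg_injective g (neg_lt (g.smp_lt hi)) h1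
  rw [g.eta_smp hi] at h2
  push_cast at h2
  linear_combination -h2

theorem nWd_snoc (g : T.Good) (L : List ℕ) (i : ℕ) :
    nWd g F (L ++ [i]) = nWd g F L * nG g F i := by
  rw [nWd_append, nWd_cons, nWd_nil, mul_one]

theorem uMinus_step_data (g : T.GoodA) {L : List ℕ} (hL : T.Wd L) {i : ℕ} (hi : i < T.l)
    (hneg : T.rw' L (T.smp i) < T.N) (hpos : T.N ≤ T.rw' (L ++ [i]) (T.smp i)) :
    uMinus g.toGood F (L ++ [i]) ≤ genS g.toGood F (T.posExc i) ∧
    (∀ x ∈ uMinus g.toGood F (L ++ [i]),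
      nG g.toGood F i * x * (nG g.toGood F i)⁻¹ ∈ uMinus g.toGood F L) ∧
    ∀ a : F, xg g.toGood (T.smp i) a ∈ uMinus g.toGood F L := by
  have hg := g.toGood
  refine ⟨genS_mono hg ?_, fun x hx => ?_, fun a =>
    xg_mem_genS hg (S := {r | T.N ≤ r ∧ r < T.n ∧ T.rw' L r < T.N}) (r := T.smp i)
      ⟨hg.smp_ge hi, hg.smp_lt hi, hneg⟩ a⟩
  · rintro r ⟨h1, h2, h3⟩
    exact ⟨h1, h2, fun e => by subst e; omega⟩
  · refine genS_mono hg ?_ (genS_conj_ref hg hi (fun r hr => hr.2.1) hx)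
    rintro _ ⟨r, ⟨h1, h2, h3⟩, rfl⟩
    refine ⟨hg.ref_pos hi h2 h1 fun e => by subst e; omega, hg.ref_lt hi h2, ?_⟩
    rwa [rw'_append, rw'_cons, rw'_nil] at h3

/-- `U = (U ∩ w⁻¹Uw) U_w^-`, and `|U_w^-| = q ^ inv(w)`. -/
theorem pos_decomp (g : T.GoodA) : ∀ (m : ℕ) {L : List ℕ}, T.Wd L → (T.invSet L).card ≤ m →
    (∀ u ∈ genS g.toGood F (Set.Ico T.N T.n), ∃ v,
      v ∈ genS g.toGood F (Set.Ico T.N T.n) ∧
      nWd g.toGood F L * v * (nWd g.toGood F L)⁻¹ ∈ genS g.toGood F (Set.Ico T.N T.n) ∧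
      ∃ w ∈ uMinus g.toGood F L, u = v * w) ∧
    Nat.card (uMinus g.toGood F L) = Nat.card F ^ (T.invSet L).card := by
  have hg := g.toGood
  have base : ∀ {L : List ℕ}, T.Wd L → (T.invSet L).card = 0 →
      (∀ u ∈ genS hg F (Set.Ico T.N T.n), ∃ v, v ∈ genS hg F (Set.Ico T.N T.n) ∧
        nWd hg F L * v * (nWd hg F L)⁻¹ ∈ genS hg F (Set.Ico T.N T.n) ∧
        ∃ w ∈ uMinus hg F L, u = v * w) ∧
      Nat.card (uMinus hg F L) = Nat.card F ^ (T.invSet L).card := by
    intro L hL h0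
    have hp := invSet_empty hg h0
    refine ⟨fun u hu => ⟨u, hu, ?_, 1, one_mem _, (mul_one u).symm⟩, ?_⟩
    · have h := Subgroup.mem_map_of_mem (MulAut.conj (nWd hg F L)).toMonoidHom hu
      rw [genS_map_nWd hg hL fun r hr => hr.2] at h
      refine genS_mono hg ?_ h
      rintro _ ⟨r, hr, rfl⟩
      exact ⟨hp r hr.1 hr.2, rw'_lt hg hL hr.2⟩
    · have : uMinus hg F L = ⊥ := le_bot_iff.1 (genS_le hg fun r hr t => by
        have := hp r hr.1 hr.2.1
        have := hr.2.2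
        omega)
      rw [this, h0, pow_zero, Subgroup.card_bot]
  intro m
  induction m with
  | zero => exact fun hL h => base hL (Nat.le_zero.1 h)
  | succ m ih =>
    intro L hL hle
    rcases Nat.eq_zero_or_eq_sub_one_add_one (n := (T.invSet L).card) with h0 | hs
    · exact base hL h0
    obtain ⟨i, hi, hneg, hcard, hpos⟩ := invSet_peel hg hL hs
    have hL' : T.Wd (L ++ [i]) := Wd.append_iff.2 ⟨hL, by simp [Wd, hi]⟩
    obtain ⟨ihd, ihc⟩ := ih hL' (by omega)
    obtain ⟨hsub, hconj, hx⟩ := uMinus_step_data (F := F) g hL hi hneg hpos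
    set n := nG hg F i with hn
    have hnorm := nG_normalizes (F := F) hg hi (S := T.posExc i) (fun r hr => hr.2.1)
      fun r hr => ref_posExc hg hi hr
    have hexc : genS hg F (T.posExc i) ≤ genS hg F (Set.Ico T.N T.n) :=
      genS_mono hg fun r hr => ⟨hr.1, hr.2.1⟩
    have dec : ∀ u ∈ genS hg F (Set.Ico T.N T.n), ∃ v, v ∈ genS hg F (Set.Ico T.N T.n) ∧
        nWd hg F L * v * (nWd hg F L)⁻¹ ∈ genS hg F (Set.Ico T.N T.n) ∧
        ∃ w ∈ uMinus hg F (L ++ [i]), ∃ a : F, u = v * (n * w * n⁻¹ * xg hg (T.smp i) a) := by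
      intro u hu
      obtain ⟨u', hu', a, rfl⟩ := pos_split g hi hu
      have h1 := (Subgroup.mem_normalizer_iff.1 (inv_mem hnorm) u').1 hu'
      rw [inv_inv] at h1
      obtain ⟨v, hv, hvw, w, hw, e⟩ := ihd _ (hexc h1)
      have hvexc : v ∈ genS hg F (T.posExc i) := by
        have : v = n⁻¹ * u' * n * w⁻¹ := by rw [e]; group
        rw [this]
        exact mul_mem h1 (inv_mem (hsub hw))
      refine ⟨n * v * n⁻¹, hexc ((Subgroup.mem_normalizer_iff.1 hnorm v).1 hvexc), ?_, w, hw, a, ?_⟩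
      · rw [nWd_snoc, ← hn] at hvw
        convert hvw using 1
        group
      · calc u' * xg hg (T.smp i) a = n * (n⁻¹ * u' * n) * n⁻¹ * xg hg (T.smp i) a := by group
          _ = _ := by rw [e]; group
    refine ⟨fun u hu => ?_, ?_⟩
    · obtain ⟨v, hv, hvw, w, hw, a, e⟩ := dec u hu
      exact ⟨v, hv, hvw, _, mul_mem (hconj w hw) (hx a), e⟩
    let f : ↥(uMinus hg F (L ++ [i])) × F → ↥(uMinus hg F L) := fun p =>
      ⟨n * p.1 * n⁻¹ * xg hg (T.smp i) p.2, mul_mem (hconj _ p.1.2) (hx _)⟩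
    have hf : Function.Bijective f := by
      constructor
      · rintro ⟨⟨w, hw⟩, a⟩ ⟨⟨w', hw'⟩, a'⟩ h
        have h' : n * w * n⁻¹ * xg hg (T.smp i) a = n * w' * n⁻¹ * xg hg (T.smp i) a' :=
          congrArg Subtype.val h
        have e : xg hg (T.smp i) (a + -a') = n * (w⁻¹ * w') * n⁻¹ := by
          rw [← xg_add, ← xg_inv]
          calc _ = (n * w * n⁻¹)⁻¹ * (n * w * n⁻¹ * xg hg (T.smp i) a) *
                (xg hg (T.smp i) a')⁻¹ := by group
            _ = _ := by rw [h']; group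
        have h0 : a + -a' = 0 := smp_not_posExc hg hi (e ▸
          (Subgroup.mem_normalizer_iff.1 hnorm _).1 (mul_mem (inv_mem (hsub hw)) (hsub hw')))
        obtain rfl : a = a' := by linear_combination h0
        exact Prod.ext (Subtype.ext (mul_left_cancel (mul_right_cancel (mul_right_cancel h')))) rfl
      · rintro ⟨u, hu⟩
        obtain ⟨v, hv, hvw, w, hw, a, e⟩ := dec u (uMinus_le_pos hg L hu)
        have hvm : v ∈ uMinus hg F L := by
          have : v = u * (n * w * n⁻¹ * xg hg (T.smp i) a)⁻¹ := by rw [e]; group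
          rw [this]
          exact mul_mem hu (inv_mem (mul_mem (hconj w hw) (hx a)))
        have h1 := borel_inf_neg hg (genS_pos_le_borel hg (fun r hr => hr) hvw)
          (uMinus_conj_neg hg hL hvm)
        have hv1 : v = 1 := conj_eq_one_iff.1 h1
        rw [hv1, one_mul] at e
        exact ⟨(⟨w, hw⟩, a), Subtype.ext e.symm⟩
    have hinv : (T.invSet L).card = (T.invSet (L ++ [i])).card + 1 := by
      have h1 : T.invSet L = insert (T.smp i) ((T.invSet (L ++ [i])).image (T.ref i)) := by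
        ext s
        simp only [invSet, Finset.mem_filter, Finset.mem_Ico, Finset.mem_insert, Finset.mem_image,
          rw'_append, rw'_cons, rw'_nil]
        constructor
        · rintro ⟨⟨h1, h2⟩, h3⟩
          by_cases hs' : s = T.smp i
          · exact Or.inl hs'
          · refine Or.inr ⟨T.ref i s, ⟨⟨hg.ref_pos hi h2 h1 hs', hg.ref_lt hi h2⟩, ?_⟩,
              hg.ref_ref hi h2⟩
            rwa [hg.ref_ref hi h2]
        · rintro (rfl | ⟨y, ⟨⟨h1, h2⟩, h3⟩, rfl⟩)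
          · exact ⟨⟨hg.smp_ge hi, hg.smp_lt hi⟩, hneg⟩
          · refine ⟨⟨hg.ref_pos hi h2 h1 fun e => ?_, hg.ref_lt hi h2⟩, h3⟩
            subst e
            rw [rw'_append, rw'_cons, rw'_nil] at hpos
            omega
      rw [h1, Finset.card_insert_of_notMem, Finset.card_image_of_injOn]
      · intro a ha b hb hab
        simp only [invSet, Finset.coe_filter, Finset.mem_Ico, Set.mem_ofPred_eq] at ha hb
        exact hg.ref_inj hi ha.1.2 hb.1.2 hab
      · intro hmem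
        obtain ⟨y, hy, he⟩ := Finset.mem_image.1 hmem
        simp only [invSet, Finset.mem_filter, Finset.mem_Ico] at hy
        have e := hg.ref_ref hi hy.1.2
        rw [he, hg.ref_smp hi] at e
        have := (neg_lt_N_iff (hg.smp_lt hi)).2 (hg.smp_ge hi)
        omega
    rw [← Nat.card_eq_of_bijective f hf, Nat.card_prod, ihc, hinv, pow_succ]

theorem mono_torus_borel (g : T.Good) {n : GL T.D.Idx F} (hn : n ∈ T.D.monomialSubgroup F)
    (c : ℕ → Fˣ) : n * tor T F c * n⁻¹ ∈ T.D.borelSubgroup F := by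
  obtain ⟨L, hL, d, rfl⟩ := (mem_monomial_iff g).1 hn
  obtain ⟨e, he⟩ := wSub_conj_torus g (nWd_mem_wSub g hL) c
  rw [show ∀ a b x : GL T.D.Idx F, a * b * x * (a * b)⁻¹ = a * (b * x * b⁻¹) * a⁻¹ from
    fun a b x => by group, he]
  exact mul_mem (mul_mem (torus_le_borel g _) (torus_le_borel g _)) (inv_mem (torus_le_borel g _))

/-- Existence of the normal form. -/
theorem bruhat_exists (g : T.GoodA) {x : GL T.D.Idx F} (hx : x ∈ T.D.group F) :
    ∃ b ∈ T.D.borelSubgroup F, ∃ n ∈ T.D.monomialSubgroup F, ∃ L, T.Wd L ∧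
      (∃ c, n = tor T F c * nWd g.toGood F L) ∧ ∃ u ∈ uMinus g.toGood F L, x = b * n * u := by
  have hg := g.toGood
  let P := bnPair g F
  obtain ⟨w, hw⟩ := BN.bruhat P ⟨x, hx⟩
  obtain ⟨m, hm, rfl⟩ := BN.exists_rep P w
  rw [BN.cell_mk, DoubleCoset.mem_doubleCoset] at hw
  obtain ⟨b₁, hb₁, b₂, hb₂, e⟩ := hw
  have e' : x = (b₁ : GL T.D.Idx F) * m * b₂ := congrArg Subtype.val e
  have hn : (m : GL T.D.Idx F) ∈ T.D.monomialSubgroup F := hm
  have h1 : (b₁ : GL T.D.Idx F) ∈ T.D.borelSubgroup F := hb₁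
  have h2 : (b₂ : GL T.D.Idx F) ∈ T.D.borelSubgroup F := hb₂
  obtain ⟨u, hu, c, hc⟩ := (mem_borel_iff hg).1 h2
  have hu' : (tor T F c)⁻¹ * u * tor T F c ∈ genS hg F (Set.Ico T.N T.n) := by
    have := (Subgroup.mem_normalizer_iff.1 (inv_mem (tor_normalizes (F := F) hg
      (S := Set.Ico T.N T.n) (fun r hr => hr.2) c)) u).1 hu
    rwa [inv_inv] at this
  obtain ⟨L, hL, d, hd⟩ := (mem_monomial_iff hg).1 hn
  obtain ⟨v, hv, hvw, z, hz, e2⟩ := (pos_decomp g _ hL le_rfl).1 _ hu'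
  refine ⟨(b₁ : GL T.D.Idx F) * ((m : GL T.D.Idx F) * tor T F c * (m : GL T.D.Idx F)⁻¹) *
      ((m : GL T.D.Idx F) * v * (m : GL T.D.Idx F)⁻¹),
    mul_mem (mul_mem h1 (mono_torus_borel hg hn c)) ?_, m, hn, L, hL, ⟨d, hd⟩, z, hz, ?_⟩
  · rw [hd, show ∀ a b y : GL T.D.Idx F, a * b * y * (a * b)⁻¹ = a * (b * y * b⁻¹) * a⁻¹ from
      fun a b y => by group]
    exact mul_mem (mul_mem (torus_le_borel hg _) (genS_pos_le_borel hg (fun r hr => hr) hvw))
      (inv_mem (torus_le_borel hg _))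
  · calc x = (b₁ : GL T.D.Idx F) * m * (tor T F c * ((tor T F c)⁻¹ * u * tor T F c)) := by
          rw [e', hc]; group
      _ = _ := by rw [e2]; group

/-- Uniqueness of the normal form. -/
theorem bruhat_unique (g : T.GoodA) {b b' n n' u u' : GL T.D.Idx F} {L L' : List ℕ}
    (hb : b ∈ T.D.borelSubgroup F) (hb' : b' ∈ T.D.borelSubgroup F)
    (hn : n ∈ T.D.monomialSubgroup F) (hn' : n' ∈ T.D.monomialSubgroup F)
    (hL : T.Wd L) {c : ℕ → Fˣ} (hc : n = tor T F c * nWd g.toGood F L)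
    (hu : u ∈ uMinus g.toGood F L) (hu' : u' ∈ uMinus g.toGood F L')
    (h : b * n * u = b' * n' * u') :
    n⁻¹ * n' ∈ T.D.diagonalSubgroup F ∧ (n = n' → L' = L → b = b' ∧ u = u') := by
  have hg := g.toGood
  let P := bnPair g F
  let G := T.D.group F
  have huB : ∀ {L : List ℕ} {u : GL T.D.Idx F}, u ∈ uMinus hg F L → u ∈ T.D.borelSubgroup F :=
    fun hu => genS_pos_le_borel hg (fun r hr => hr) (uMinus_le_pos hg _ hu)
  have hle := borel_le_group (F := F) hg
  have hleN := monomial_le_group (F := F) hg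
  refine ⟨borel_inf_monomial hg ?_ (mul_mem (inv_mem hn) hn'), ?_⟩
  · let x : G := ⟨n, hleN hn⟩
    let x' : G := ⟨n', hleN hn'⟩
    let y : G := ⟨b * n * u, mul_mem (mul_mem (hle hb) (hleN hn)) (hle (huB hu))⟩
    have hxN : x ∈ P.N := hn
    have hxN' : x' ∈ P.N := hn'
    have h1 : y ∈ BN.cell P (BN.wmk P x hxN) := by
      rw [BN.cell_mk, DoubleCoset.mem_doubleCoset]
      exact ⟨⟨b, hle hb⟩, hb, ⟨u, hle (huB hu)⟩, huB hu, rfl⟩
    have h2 : y ∈ BN.cell P (BN.wmk P x' hxN') := by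
      rw [BN.cell_mk, DoubleCoset.mem_doubleCoset]
      exact ⟨⟨b', hle hb'⟩, hb', ⟨u', hle (huB hu')⟩, huB hu', Subtype.ext h⟩
    exact (BN.wmk_eq_iff P hxN hxN').1 (BN.eq_of_mem_cell P h1 h2)
  · rintro rfl rfl
    have e : b⁻¹ * b' = n * (u * u'⁻¹) * n⁻¹ := by
      calc b⁻¹ * b' = b⁻¹ * (b' * n * u') * u'⁻¹ * n⁻¹ := by group
        _ = _ := by rw [← h]; group
    have hneg : n * (u * u'⁻¹) * n⁻¹ ∈ genS hg F (Set.Iio T.N) := by
      rw [hc, show ∀ a b y : GL T.D.Idx F, a * b * y * (a * b)⁻¹ = a * (b * y * b⁻¹) * a⁻¹ from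
        fun a b y => by group]
      exact (Subgroup.mem_normalizer_iff.1 (tor_normalizes hg (fun r hr => by
        have := n_def (T := T); have : r < T.N := hr; omega) c) _).1
        (uMinus_conj_neg hg hL (mul_mem hu (inv_mem hu')))
    have h1 := borel_inf_neg hg (mul_mem (inv_mem hb) hb') (e ▸ hneg)
    have hbb : b = b' := inv_mul_eq_one.1 h1
    subst hbb
    exact ⟨rfl, mul_left_cancel h⟩

theorem card_borel (g : T.GoodA) [Fintype F] :
    Nat.card (T.D.borelSubgroup F) =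
      Fintype.card F ^ T.N * Nat.card (T.D.diagonalSubgroup F) := by
  have hg := g.toGood
  rw [← card_pos g, ← Nat.card_prod]
  refine (Nat.card_eq_of_bijective
    (fun p : ↥(genS hg F (Set.Ico T.N T.n)) × ↥(T.D.diagonalSubgroup F) =>
      (⟨(p.1 : GL T.D.Idx F) * p.2, mul_mem (genS_pos_le_borel hg (fun r hr => hr) p.1.2)
        (Subgroup.mem_sup_right p.2.2)⟩ : ↥(T.D.borelSubgroup F))) ⟨?_, ?_⟩).symm
  · rintro ⟨⟨u, hu⟩, ⟨h, hh⟩⟩ ⟨⟨u', hu'⟩, ⟨h', hh'⟩⟩ e
    have e' : u * h = u' * h' := congrArg Subtype.val e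
    have h1 : u'⁻¹ * u = 1 := pos_inf_torus hg (mul_mem (inv_mem hu') hu) (by
      have : u'⁻¹ * u = h' * h⁻¹ := by
        calc u'⁻¹ * u = u'⁻¹ * (u * h) * h⁻¹ := by group
          _ = _ := by rw [e']; group
      rw [this]
      exact mul_mem hh' (inv_mem hh))
    obtain rfl := inv_mul_eq_one.1 h1
    exact Prod.ext rfl (Subtype.ext (mul_left_cancel e'))
  · rintro ⟨x, hx⟩
    obtain ⟨u, hu, c, rfl⟩ := (mem_borel_iff hg).1 hx
    exact ⟨(⟨u, hu⟩, ⟨tor T F c, by rw [diagonalSubgroup_eq hg]; exact ⟨c, rfl⟩⟩), rfl⟩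

open scoped Classical in
/-- `|G| = |B| · Σ_{w ∈ W} q ^ inv(w)`. -/
theorem card_group_eq (g : T.GoodA) [Fintype F] :
    Nat.card (T.D.group F) = Nat.card (T.D.borelSubgroup F) *
      ∑ w : ↥(wG g.toGood), Fintype.card F ^ T.wInv (w : Equiv.Perm (Fin T.n)) := by
  have hg := g.toGood
  let Lw : ↥(wG hg) → List ℕ := fun w => w.2.choose
  have hLw : ∀ w : ↥(wG hg), T.Wd (Lw w) ∧ pL hg (Lw w) = w := fun w => w.2.choose_spec
  let f : (Σ w : ↥(wG hg), ↥(T.D.borelSubgroup F) × ↥(uMinus hg F (Lw w))) → ↥(T.D.group F) :=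
    fun p => ⟨(p.2.1 : GL T.D.Idx F) * nWd hg F (Lw p.1) * p.2.2,
      mul_mem (mul_mem (borel_le_group hg p.2.1.2)
        (monomial_le_group hg ((mem_monomial_iff hg).2 ⟨_, (hLw p.1).1, 1, by simp⟩)))
        (borel_le_group hg (genS_pos_le_borel hg (fun r hr => hr)
          (uMinus_le_pos hg _ p.2.2.2)))⟩
  have hf : Function.Bijective f := by
    constructor
    · rintro ⟨w, ⟨b, hb⟩, ⟨u, hu⟩⟩ ⟨w', ⟨b', hb'⟩, ⟨u', hu'⟩⟩ h
      have hn := (mem_monomial_iff (F := F) hg).2 ⟨Lw w, (hLw w).1, 1, rfl⟩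
      have hn' := (mem_monomial_iff (F := F) hg).2 ⟨Lw w', (hLw w').1, 1, rfl⟩
      have h' : b * (tor T F 1 * nWd hg F (Lw w)) * u = b' * (tor T F 1 * nWd hg F (Lw w')) * u' := by
        simpa [f] using congrArg Subtype.val h
      obtain ⟨hd, hsame⟩ := bruhat_unique g hb hb' hn hn' (hLw w).1 rfl hu hu' h'
      rw [diagonalSubgroup_eq hg, map_one, one_mul, one_mul] at hd
      obtain ⟨d, hd⟩ := hd
      obtain ⟨e, he⟩ := torus_pass hg (nWd_mem_wSub (F := F) hg (hLw w).1) d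
      obtain rfl : w = w' := Subtype.ext (by
        rw [← (hLw w).2, ← (hLw w').2, pL_eq_iff hg (hLw w).1 (hLw w').1]
        exact fun s hs => rw'_of_nWd_eq hg (hLw w).1 (hLw w').1 (c := e) (d := 1)
          (by rw [← he, hd, map_one, one_mul, mul_inv_cancel_left]) hs)
      obtain ⟨rfl, rfl⟩ := hsame rfl rfl
      rfl
    · rintro ⟨x, hx⟩
      obtain ⟨b, hb, n, hn, L, hL, ⟨c, rfl⟩, u, hu, rfl⟩ := bruhat_exists g hx
      let w : ↥(wG hg) := ⟨pL hg L, L, hL, rfl⟩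
      have hagree := (pL_eq_iff hg (hLw w).1 hL).1 (hLw w).2
      obtain ⟨⟨d, hd⟩, -⟩ := nWd_torus_of_pos (F := F) hg _ le_rfl
        (L := L ++ (Lw w).reverse) (Wd.append_iff.2 ⟨hL, (hLw w).1.reverse⟩) (fun s h1 h2 => by
          have e := rw'_rev' hg (hLw w).1 h2
          rw [hagree _ (rw'_lt hg (hLw w).1.reverse h2)] at e
          rw [rw'_append, e]
          exact h1)
      obtain ⟨e, he⟩ : ∃ e, nWd hg F (Lw w) * nWd hg F (Lw w).reverse = tor T F e := by
        rw [← nWd_append]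
        exact (nWd_torus_of_pos (F := F) hg _ le_rfl
          (Wd.append_iff.2 ⟨(hLw w).1, (hLw w).1.reverse⟩) fun s h1 h2 => by
            rw [rw'_append, rw'_rev' hg (hLw w).1 h2]; exact h1).1
      rw [nWd_append] at hd
      refine ⟨⟨w, ⟨b * (tor T F c * (tor T F d * (tor T F e)⁻¹)), mul_mem hb (mul_mem
        (torus_le_borel hg _) (mul_mem (torus_le_borel hg _) (inv_mem (torus_le_borel hg _))))⟩,
        ⟨u, by rw [uMinus_congr hg hagree]; exact hu⟩⟩, Subtype.ext ?_⟩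
      show b * (tor T F c * (tor T F d * (tor T F e)⁻¹)) * nWd hg F (Lw w) * u = _
      rw [← hd, ← he]
      group
  rw [← Nat.card_eq_of_bijective f hf, Nat.card_sigma, Finset.mul_sum]
  refine Finset.sum_congr rfl fun w _ => ?_
  rw [Nat.card_prod, (pos_decomp g _ (hLw w).1 le_rfl).2, Nat.card_eq_fintype_card (α := F),
    ← wInv_pL hg (hLw w).1, (hLw w).2]

end Tab

end Cfsg.Agent.Chev
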