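import Cfsg.Agent.Lib.Lie.GoodK
import Cfsg.Agent.Lib.Lie.ChevBruhat

/-! Parabolic subgroups: `P_J`, `U_J`, `L_J`. -/

set_option autoImplicit false

namespace Cfsg.Agent.Chev

open Cfsg.Lie
open Matrix hiding zpow_mul inv_zpow mul_inv_rev zpow_add zpow_neg

namespace Tab

variable {T : Tab} {K : List (List ℕ)} {F : Type*} [Field F]

theorem phi_eq (T : Tab) (K : List (List ℕ)) (k s : ℕ) :
    T.phi K k s = ∑ j ∈ Finset.range T.l, (((K.getD k []).getD j 0 : ℕ) : ℤ) * T.A j s :=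
  sumBelow_eq_sum _ _

theorem phi_sign (g : T.GoodK K) {k s : ℕ} (hk : k < T.l) (hs : s < T.n) :
    (0 < T.phi K k s ↔ 0 < T.c s k) ∧ (T.phi K k s < 0 ↔ T.c s k < 0) := by
  have h := allBelow_eq_true.1 (allBelow_eq_true.1 g.phiOK k hk) s hs
  simp only [Bool.and_eq_true, beq_iff_eq, decide_eq_decide] at h
  exact h

theorem phi_linear {r s t : ℕ} {i j : ℤ}
    (h : ∀ m < T.l, T.A m t = i * T.A m r + j * T.A m s) (k : ℕ) :
    T.phi K k t = i * T.phi K k r + j * T.phi K k s := by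
  rw [phi_eq, phi_eq, phi_eq, Finset.mul_sum, Finset.mul_sum, ← Finset.sum_add_distrib]
  refine Finset.sum_congr rfl fun m hm => ?_
  rw [h m (Finset.mem_range.1 hm)]
  ring

theorem phi_neg (g : T.GoodK K) {s : ℕ} (hs : s < T.n) (k : ℕ) :
    T.phi K k (T.neg s) = -T.phi K k s := by
  rw [phi_eq, phi_eq, ← Finset.sum_neg_distrib]
  refine Finset.sum_congr rfl fun m hm => ?_
  rw [((g.toGood.sign' hs).1 m (Finset.mem_range.1 hm)).2.2.2]
  ring

/-- the positive roots outside the subsystem of `J` -/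
def outJ (T : Tab) (J : Set ℕ) : Set ℕ := {r | T.N ≤ r ∧ r < T.n ∧ ∃ k < T.l, k ∉ J ∧ T.c r k ≠ 0}

/-- the roots of the subsystem of `J` -/
def inJ (T : Tab) (J : Set ℕ) : Set ℕ := {r | r < T.n ∧ ∀ k < T.l, k ∉ J → T.c r k = 0}

theorem outJ_or_inJ {J : Set ℕ} {r : ℕ} (h : T.N ≤ r) (hn : r < T.n) : r ∈ T.outJ J ∨ r ∈ T.inJ J := by
  by_cases hex : ∃ k < T.l, k ∉ J ∧ T.c r k ≠ 0
  · exact Or.inl ⟨h, hn, hex⟩
  · push Not at hex
    exact Or.inr ⟨hn, hex⟩

theorem inJ_neg (g : T.Good) {J : Set ℕ} {r : ℕ} (h : r ∈ T.inJ J) : T.neg r ∈ T.inJ J :=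
  ⟨neg_lt h.1, fun k hk hkJ => by rw [((g.sign' h.1).1 k hk).2.2.1, h.2 k hk hkJ, neg_zero]⟩

theorem smp_mem_inJ (g : T.Good) {J : Set ℕ} {j : ℕ} (hj : j < T.l) (hJ : j ∈ J) :
    T.smp j ∈ T.inJ J :=
  ⟨g.smp_lt hj, fun k hk hkJ => by rw [c_smp g hj hk, if_neg]; exact fun e => hkJ (e ▸ hJ)⟩

theorem ref_inJ (g : T.Good) {J : Set ℕ} {j r : ℕ} (hj : j < T.l) (hJ : j ∈ J) (h : r ∈ T.inJ J) :
    T.ref j r ∈ T.inJ J :=
  ⟨g.ref_lt hj h.1, fun k hk hkJ => by
    rw [((g.refl' hj h.1).2.2.2.2.2.2.2.2 k hk).2, if_neg (fun e : k = j => hkJ (e ▸ hJ)), h.2 k hk hkJ]⟩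

theorem ref_outJ (g : T.Good) {J : Set ℕ} {j r : ℕ} (hj : j < T.l) (hJ : j ∈ J) (h : r ∈ T.outJ J) :
    T.ref j r ∈ T.outJ J := by
  obtain ⟨h1, h2, k, hk, hkJ, hne⟩ := h
  refine ⟨g.ref_pos hj h2 h1 fun e => hne ?_, g.ref_lt hj h2, k, hk, hkJ, ?_⟩
  · rw [e, c_smp g hj hk, if_neg]; exact fun e => hkJ (e ▸ hJ)
  · rwa [((g.refl' hj h2).2.2.2.2.2.2.2.2 k hk).2, if_neg (fun e : k = j => hkJ (e ▸ hJ))]

/-- commutator terms of a positive root with a root outside `Φ_J` stay outside -/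
theorem cTerms_outJ (g : T.GoodK K) {J : Set ℕ} {r s : ℕ} (hr : T.N ≤ r) (hrn : r < T.n)
    (hs : s ∈ T.outJ J) {c : ℕ × ℤ × ℕ × ℕ} (hc : c ∈ T.cTerms r s) : c.1 ∈ T.outJ J := by
  obtain ⟨h1, h2, k, hk, hkJ, hne⟩ := hs
  obtain ⟨q1, q2, q3, q4, q5⟩ := cTerms_mem g.toGood hrn h2 hc
  have hsk : 0 < T.phi K k s := by
    rw [(phi_sign g hk h2).1]
    have := ((g.toGood.sign' h2).1 k hk).1 h1
    omega
  have hrk : 0 ≤ T.phi K k r := by
    by_contra hh
    have := (phi_sign g hk hrn).2.1 (not_le.1 hh)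
    have := ((g.toGood.sign' hrn).1 k hk).1 hr
    omega
  have hck : 0 < T.phi K k c.1 := by
    rw [phi_linear q4 k]
    have : (0 : ℤ) < (c.2.2.2 : ℤ) := by exact_mod_cast q3
    have : (0 : ℤ) ≤ (c.2.2.1 : ℤ) := Int.natCast_nonneg _
    positivity
  refine ⟨le_trans hr (q5 hr h1).1.le, q1, k, hk, hkJ, ?_⟩
  have := (phi_sign g hk q1).1.1 hck
  omega

theorem outJ_pos {J : Set ℕ} : T.outJ J ⊆ Set.Ico T.N T.n := fun _ h => ⟨h.1, h.2.1⟩

theorem outJ_normalized_pos (g : T.GoodK K) {J : Set ℕ} {r : ℕ} (hr : T.N ≤ r) (hrn : r < T.n)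
    (t : F) :
    xg g.toGood r t ∈ Subgroup.normalizer (genS g.toGood F (T.outJ J) : Set (GL T.D.Idx F)) := by
  refine xg_normalizes g.toGoodA hrn (fun s hs => ⟨hs.2.1, ?_, fun _ c hc => cTerms_outJ g hr hrn hs hc⟩) t
  have := (neg_lt_N_iff hrn).2 hr
  have := hs.1
  omega

/-- A positive root of `Φ_J` is fundamental or is lowered by a reflection from `J`. -/
theorem descent_inJ (g : T.Good) {J : Set ℕ} {r : ℕ} (hr : T.N ≤ r) (h : r ∈ T.inJ J) :
    (∃ j < T.l, j ∈ J ∧ r = T.smp j) ∨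
      ∃ j < T.l, j ∈ J ∧ T.N ≤ T.ref j r ∧ T.ref j r < r := by
  classical
  obtain ⟨hn, hc⟩ := h
  obtain ⟨j, hj, hpos⟩ : ∃ j ∈ Finset.range T.l, 0 < T.c r j * T.A j r := by
    by_contra hh
    push Not at hh
    have := Finset.sum_nonpos hh
    have := (g.sign' hn).2.1
    omega
  have hjl := Finset.mem_range.1 hj
  have hcj := ((g.sign' hn).1 j hjl).1 hr
  have hjJ : j ∈ J := by
    by_contra hne
    rw [hc j hjl hne, zero_mul] at hpos
    exact lt_irrefl _ hpos
  have hA : 0 < T.A j r := by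
    by_contra hh
    have := mul_nonpos_of_nonneg_of_nonpos hcj (not_lt.1 hh)
    omega
  by_cases hp : r = T.smp j
  · exact Or.inl ⟨j, hjl, hjJ, hp⟩
  refine Or.inr ⟨j, hjl, hjJ, g.ref_pos hjl hn hr hp, ?_⟩
  have e := (g.refl' hjl hn).2.2.2.2.1
  have hneg := (neg_lt_N_iff (g.smp_lt hjl)).2 (g.smp_ge hjl)
  rw [refSpec] at e
  simp only [hp, if_false, show r ≠ T.neg (T.smp j) by omega, hA, if_true] at e
  rcases hk : T.chRoot (T.neg (T.smp j)) r (T.A j r).toNat with _ | k <;> rw [hk] at e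
  · simp only [Option.getD_none] at e
    have := A_ref_self g hjl hn
    rw [e] at this
    omega
  · simp only [Option.getD_some] at e
    subst e
    simp only [chRoot, Option.map_eq_some_iff] at hk
    obtain ⟨q, hq, hqk⟩ := hk
    have hne : T.ch (T.neg (T.smp j)) r ≠ [] := fun he => by simp [he] at hq
    obtain ⟨-, -, -, -, -, hlow⟩ := chainOK_spec _ _ 1 _
      (g.chain' (neg_lt (g.smp_lt hjl)) hn hne).2.2.1 (q, (T.A j r).toNat)
      (by rw [List.mk_mem_zipIdx_iff_le_and_getElem?_sub]; exact ⟨by omega, hq⟩)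
    have := (hlow hneg).1
    dsimp only at this
    omega

theorem parabolic_contains (g : T.Good) {J : Set ℕ} {P : Subgroup (GL T.D.Idx F)}
    (hpos : ∀ j < T.l, j ∈ J → ∀ t : F, xg g (T.smp j) t ∈ P)
    (hn : ∀ j < T.l, j ∈ J → nG g F j ∈ P) :
    ∀ r, r ∈ T.inJ J → ∀ t : F, xg g r t ∈ P := by
  have key : ∀ r, T.N ≤ r → r ∈ T.inJ J →
      (∀ t : F, xg g r t ∈ P) ∧ ∀ t : F, xg g (T.neg r) t ∈ P := by
    intro r
    induction r using Nat.strong_induction_on with
    | _ r ih =>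
      intro hr h
      rcases descent_inJ g hr h with ⟨j, hj, hJ, rfl⟩ | ⟨j, hj, hJ, h1, h2⟩
      · refine ⟨hpos j hj hJ, fun t => ?_⟩
        have e := nG_conj (F := F) g hj (g.smp_lt hj) (-t)
        rw [g.ref_smp hj, g.eta_smp hj] at e
        push_cast at e
        rw [show (-1 : F) * -t = t by ring] at e
        rw [← e]
        exact mul_mem (mul_mem (hn j hj hJ) (hpos j hj hJ _)) (inv_mem (hn j hj hJ))
      · obtain ⟨a, b⟩ := ih _ h2 h1 (ref_inJ g hj hJ h)
        have hu := g.ref_lt hj h.1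
        have conj : ∀ v < T.n, (∀ t : F, xg g v t ∈ P) → ∀ t : F, xg g (T.ref j v) t ∈ P := by
          intro v hv hP t
          have := mul_mem (mul_mem (hn j hj hJ) (hP ((T.eta j v : F) * t))) (inv_mem (hn j hj hJ))
          rwa [nG_conj g hj hv, ← mul_assoc, eta_sq, one_mul] at this
        refine ⟨fun t => ?_, fun t => ?_⟩
        · have := conj _ hu a t
          rwa [g.ref_ref hj h.1] at this
        · have := conj _ (neg_lt hu) b t
          rwa [g.ref_neg hj hu, g.ref_ref hj h.1] at this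
  intro r h t
  by_cases hr : T.N ≤ r
  · exact (key r hr h).1 t
  · have := (key _ ((N_le_neg_iff h.1).2 (not_le.1 hr)) (inJ_neg g h)).2 t
    rwa [neg_neg h.1] at this

theorem parabolic_eq (g : T.Good) (J : Set ℕ) :
    T.D.parabolicSubgroup F J =
      T.D.diagonalSubgroup F ⊔ genS g F (Set.Ico T.N T.n ∪ T.inJ J) := by
  apply le_antisymm
  · refine sup_le (sup_le ?_ le_sup_left) ((Subgroup.closure_le _).2 ?_)
    · rw [posUnipotent_eq g]
      exact le_sup_of_le_right (genS_mono g Set.subset_union_left)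
    · rintro x ⟨j, hJ, hj, hx⟩
      rw [g.rank_eq] at hj
      have e : x = nG g F j := Units.ext (by rw [nG_val g hj, hx, nM])
      have hs := smp_mem_inJ g hj hJ
      have hmem : ∀ r ∈ T.inJ J, ∀ t : F, xg g r t ∈ T.D.diagonalSubgroup F ⊔
          genS g F (Set.Ico T.N T.n ∪ T.inJ J) := fun r hr t =>
        Subgroup.mem_sup_right (xg_mem_genS g (Set.mem_union_right _ hr) t)
      rw [SetLike.mem_coe, e]
      exact mul_mem (mul_mem (hmem _ hs _) (hmem _ (inJ_neg g hs) _)) (hmem _ hs _)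
  · refine sup_le ?_ (genS_le g fun r hr t => ?_)
    · exact le_sup_of_le_left le_sup_right
    · rcases hr with hr | hr
      · exact Subgroup.mem_sup_left (pos_le_borel g hr.1 hr.2 t)
      · refine parabolic_contains g (fun j hj hJ t => ?_) (fun j hj hJ => ?_) r hr t
        · exact Subgroup.mem_sup_left (pos_le_borel g (g.smp_ge hj) (g.smp_lt hj) t)
        · exact Subgroup.mem_sup_right (Subgroup.subset_closure
            ⟨j, hJ, by rw [g.rank_eq]; exact hj, by rw [nG_val g hj, nM]⟩)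

theorem unipotentRadical_eq (g : T.Good) (J : Set ℕ) :
    T.D.unipotentRadical F J = genS g F (T.outJ J) := by
  refine le_antisymm ((Subgroup.closure_le _).2 ?_) (genS_le g fun r hr t => ?_)
  · rintro x ⟨r, t, hr, hout, hx⟩
    rw [eq_xg g hx]
    rw [g.isPosRoot_iff] at hr
    rcases outJ_or_inJ (J := J) hr.1 hr.2 with h | h
    · exact xg_mem_genS g h t
    · exact absurd ((g.inRootSub_iff J r).2 h) hout
  · refine Subgroup.subset_closure ⟨r, t, (g.isPosRoot_iff r).2 ⟨hr.1, hr.2.1⟩, fun h => ?_, rfl⟩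
    obtain ⟨k, hk, hkJ, hne⟩ := hr.2.2
    exact hne (((g.inRootSub_iff J r).1 h).2 k hk hkJ)

theorem levi_eq (g : T.Good) (J : Set ℕ) :
    T.D.leviSubgroup F J = T.D.diagonalSubgroup F ⊔ genS g F (T.inJ J) := by
  refine le_antisymm (sup_le le_sup_left ((Subgroup.closure_le _).2 ?_))
    (sup_le le_sup_left (genS_le g fun r hr t => ?_))
  · rintro x ⟨r, t, hr, hx⟩
    rw [eq_xg g hx]
    exact Subgroup.mem_sup_right (xg_mem_genS g ((g.inRootSub_iff J r).1 hr) t)
  · exact Subgroup.mem_sup_right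
      (Subgroup.subset_closure ⟨r, t, (g.inRootSub_iff J r).2 hr, rfl⟩)

theorem parabolic_normalizes (g : T.GoodK K) (J : Set ℕ) :
    T.D.parabolicSubgroup F J ≤
      Subgroup.normalizer (genS g.toGood F (T.outJ J) : Set (GL T.D.Idx F)) := by
  have hg := g.toGood
  refine sup_le (sup_le ?_ ?_) ((Subgroup.closure_le _).2 ?_)
  · rw [posUnipotent_eq hg]
    exact genS_le hg fun r hr t => outJ_normalized_pos g hr.1 hr.2 t
  · rw [diagonalSubgroup_eq hg]
    rintro x ⟨c, rfl⟩
    exact tor_normalizes hg (fun r hr => hr.2.1) c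
  · rintro x ⟨j, hJ, hj, hx⟩
    rw [hg.rank_eq] at hj
    have e : x = nG hg F j := Units.ext (by rw [nG_val hg hj, hx, nM])
    rw [SetLike.mem_coe, e]
    exact nG_normalizes hg hj (fun r hr => hr.2.1) fun r hr => ref_outJ hg hj hJ hr

theorem levi_sup (g : T.GoodK K) (J : Set ℕ) :
    genS g.toGood F (T.outJ J) ⊔ (T.D.diagonalSubgroup F ⊔ genS g.toGood F (T.inJ J)) =
      T.D.parabolicSubgroup F J := by
  rw [parabolic_eq g.toGood]
  refine le_antisymm (sup_le ?_ (sup_le le_sup_left ?_)) (sup_le ?_ (genS_le g.toGood fun r hr t => ?_))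
  · exact le_sup_of_le_right (genS_mono g.toGood fun r hr => Or.inl ⟨hr.1, hr.2.1⟩)
  · exact le_sup_of_le_right (genS_mono g.toGood Set.subset_union_right)
  · exact le_sup_of_le_right le_sup_left
  · have hin : ∀ r ∈ T.inJ J, xg g.toGood r t ∈ genS g.toGood F (T.outJ J) ⊔
        (T.D.diagonalSubgroup F ⊔ genS g.toGood F (T.inJ J)) := fun r h =>
      Subgroup.mem_sup_right (Subgroup.mem_sup_right (xg_mem_genS g.toGood h t))
    rcases hr with hr | hr
    · rcases outJ_or_inJ (J := J) hr.1 hr.2 with h | h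
      · exact Subgroup.mem_sup_left (xg_mem_genS g.toGood h t)
      · exact hin r h
    · exact hin r hr

open scoped Classical in
/-- the grading of the coordinate module by the coefficients outside `J` -/
noncomputable def lev (T : Tab) (K : List (List ℕ)) (J : Set ℕ) (s : ℕ) : ℤ :=
  ∑ k ∈ (Finset.range T.l).filter (fun k => k ∉ J), T.phi K k s

/-- the grading on indices -/
noncomputable def levI (T : Tab) (K : List (List ℕ)) (J : Set ℕ) : T.D.Idx → ℤ :=
  Sum.elim (fun _ => 0) fun s => T.lev K J s.val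

theorem lev_outJ (g : T.GoodK K) {J : Set ℕ} {r : ℕ} (h : r ∈ T.outJ J) : 0 < T.lev K J r := by
  classical
  obtain ⟨h1, h2, k, hk, hkJ, hne⟩ := h
  refine Finset.sum_pos' (fun m hm => ?_) ⟨k, by simp [hk, hkJ], ?_⟩
  · have hm' := Finset.mem_range.1 (Finset.mem_filter.1 hm).1
    by_contra hh
    have := (phi_sign g hm' h2).2.1 (not_le.1 hh)
    have := ((g.toGood.sign' h2).1 m hm').1 h1
    omega
  · rw [(phi_sign g hk h2).1]
    have := ((g.toGood.sign' h2).1 k hk).1 h1
    omega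

theorem lev_inJ (g : T.GoodK K) {J : Set ℕ} {r : ℕ} (h : r ∈ T.inJ J) : T.lev K J r = 0 := by
  classical
  refine Finset.sum_eq_zero fun m hm => ?_
  obtain ⟨hm', hmJ⟩ := Finset.mem_filter.1 hm
  have hz := h.2 m (Finset.mem_range.1 hm') hmJ
  have := phi_sign g (Finset.mem_range.1 hm') h.1
  omega

/-- root elements shift the grading by multiples of the grade of the root -/
theorem xg_lev (g : T.GoodK K) (J : Set ℕ) {r : ℕ} (hr : r < T.n) (t : F) (a b : T.D.Idx) :
    T.D.x F r t a b = (1 : Matrix T.D.Idx T.D.Idx F) a b ∨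
      ∃ m : ℕ, 1 ≤ m ∧ T.levI K J a = T.levI K J b + (m : ℤ) * T.lev K J r := by
  classical
  have hg := g.toGood
  have hl := hg.rank_eq
  rw [apply_eq_col hg (T.D.x F r t) a b, one_apply_bas hg a b]
  have hneg : T.lev K J (T.neg r) = -T.lev K J r := by
    simp only [lev, phi_neg g hr, Finset.sum_neg_distrib]
  rcases b with ⟨v, hv⟩ | ⟨s, hs⟩
  · rw [show T.code (Sum.inl ⟨v, hv⟩) = v from rfl, col_h hg hr (by omega)]
    by_cases ha : T.code a = T.l + r
    · refine Or.inr ⟨1, le_rfl, ?_⟩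
      rcases a with ⟨u, hu⟩ | ⟨u, hu⟩ <;> simp only [code] at ha
      · omega
      · obtain rfl : u = r := by omega
        simp [levI]
    · exact Or.inl (by simp [bas_ne ha])
  · have hs' : s < T.n := by rw [hg.nroots_eq] at hs; exact hs
    rw [show T.code (Sum.inr ⟨s, hs⟩) = T.l + s from rfl]
    by_cases h1 : s = r
    · subst h1; exact Or.inl (by rw [col_self hg hr])
    by_cases h2 : s = T.neg r
    · subst h2
      rw [col_neg hg hr]
      by_cases ha : T.code a = T.l + r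
      · refine Or.inr ⟨2, by norm_num, ?_⟩
        rcases a with ⟨u, hu⟩ | ⟨u, hu⟩ <;> simp only [code] at ha
        · omega
        · obtain rfl : u = r := by omega
          simp only [levI, Sum.elim_inr, hneg]
          push_cast; ring
      · by_cases ha' : T.code a < T.l
        · refine Or.inr ⟨1, le_rfl, ?_⟩
          rcases a with ⟨u, hu⟩ | ⟨u, hu⟩ <;> simp only [code] at ha'
          · simp [levI, hneg]
          · omega
        · refine Or.inl ?_
          simp only [Pi.add_apply, Pi.sub_apply, Pi.smul_apply, Finset.sum_apply, bas_ne ha,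
            smul_zero, sub_zero, add_eq_left]
          rw [Finset.sum_eq_zero, smul_zero]
          intro j hj
          rw [bas_ne (by have := Finset.mem_range.1 hj; omega), smul_zero]
    · rw [col_other hg hr hs' h1 h2]
      by_cases ha : ∃ q ∈ (T.ch r s).zipIdx, T.code a = T.l + q.1.1
      · obtain ⟨q, hq, ha⟩ := ha
        refine Or.inr ⟨q.2 + 1, by omega, ?_⟩
        have hne : T.ch r s ≠ [] := fun e => by simp [e] at hq
        have hq' : (q.1, q.2 + 1) ∈ (T.ch r s).zipIdx 1 := by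
          rw [List.mk_mem_zipIdx_iff_le_and_getElem?_sub]
          exact ⟨by omega, by rw [Nat.add_sub_cancel]; exact (List.mk_mem_zipIdx_iff_getElem?).1 hq⟩
        obtain ⟨-, -, -, h4, -, -⟩ := chainOK_spec r s 1 _ (hg.chain' hr hs' hne).2.2.1 _ hq'
        dsimp only at h4
        rcases a with ⟨u, hu⟩ | ⟨u, hu⟩ <;> simp only [code] at ha
        · omega
        · obtain rfl : u = q.1.1 := by omega
          simp only [levI, Sum.elim_inr, lev, Finset.mul_sum, ← Finset.sum_add_distrib]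
          refine Finset.sum_congr rfl fun k _ => ?_
          rw [phi_linear (K := K) (r := r) (s := s) (i := ((q.2 + 1 : ℕ) : ℤ)) (j := 1)
            (fun m hm => by rw [h4 m hm]; ring) k]
          ring
      · refine Or.inl ?_
        push Not at ha
        rw [Pi.add_apply, add_eq_left, list_sum_apply]
        refine List.sum_eq_zero fun x hx => ?_
        simp only [List.mem_map] at hx
        obtain ⟨q, hq, rfl⟩ := hx
        simp [bas_ne (ha q hq)]

theorem radical_inf_levi (g : T.GoodK K) (J : Set ℕ) {x : GL T.D.Idx F}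
    (h1 : x ∈ genS g.toGood F (T.outJ J))
    (h2 : x ∈ T.D.diagonalSubgroup F ⊔ genS g.toGood F (T.inJ J)) : x = 1 := by
  classical
  have hg := g.toGood
  have hU : UT (T.levI K J) (x : Matrix T.D.Idx T.D.Idx F) := by
    refine genS_UT hg (fun r hr t a b hab => ?_) h1
    rcases xg_lev g J hr.2.1 t a b with h | ⟨m, hm, h⟩
    · exact h
    · have h0 := lev_outJ g hr
      have : (0 : ℤ) < (m : ℤ) * T.lev K J r := mul_pos (by exact_mod_cast hm) h0
      omega
  have hL : ∀ a b, T.levI K J a ≠ T.levI K J b → (x : Matrix T.D.Idx T.D.Idx F) a b = 0 := by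
    have hmul : ∀ X Y : Matrix T.D.Idx T.D.Idx F,
        (∀ a b, T.levI K J a ≠ T.levI K J b → X a b = 0) →
        (∀ a b, T.levI K J a ≠ T.levI K J b → Y a b = 0) →
        ∀ a b, T.levI K J a ≠ T.levI K J b → (X * Y) a b = 0 := by
      intro X Y hX hY a b hab
      rw [Matrix.mul_apply]
      refine Finset.sum_eq_zero fun c _ => ?_
      by_cases hac : T.levI K J a = T.levI K J c
      · rw [hY c b (hac ▸ hab), mul_zero]
      · rw [hX a c hac, zero_mul]
    have htor : ∀ c : ℕ → Fˣ, ∀ a b, T.levI K J a ≠ T.levI K J b →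
        (tor T F c : Matrix T.D.Idx T.D.Idx F) a b = 0 :=
      fun c a b hab => tor_apply_ne c fun e => hab (by rw [e])
    have hroot : ∀ r ∈ T.inJ J, ∀ t : F, ∀ a b, T.levI K J a ≠ T.levI K J b →
        (xg hg r t : Matrix T.D.Idx T.D.Idx F) a b = 0 := by
      intro r hr t a b hab
      rcases xg_lev g J hr.1 t a b with h | ⟨m, -, h⟩
      · rw [xg_val, h, Matrix.one_apply_ne]
        exact fun e => hab (by rw [e])
      · rw [lev_inJ g hr, mul_zero, add_zero] at h
        exact absurd h hab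
    rw [diagonalSubgroup_eq hg, ← Subgroup.closure_eq (tor T F).range, genS,
      ← Subgroup.closure_union] at h2
    refine Subgroup.closure_induction_left (p := fun (y : GL T.D.Idx F) _ => ∀ a b, T.levI K J a ≠ T.levI K J b →
      (y : Matrix T.D.Idx T.D.Idx F) a b = 0) ?_ ?_ ?_ h2
    · intro a b hab
      rw [Units.val_one, Matrix.one_apply_ne]
      exact fun e => hab (by rw [e])
    · rintro y hy z _ hz
      rw [Units.val_mul]
      rcases hy with ⟨c, rfl⟩ | ⟨r, hr, t, rfl⟩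
      · exact hmul _ _ (htor c) hz
      · exact hmul _ _ (hroot r hr t) hz
    · rintro y hy z _ hz
      rw [Units.val_mul]
      rcases hy with ⟨c, rfl⟩ | ⟨r, hr, t, rfl⟩
      · rw [← map_inv]; exact hmul _ _ (htor c⁻¹) hz
      · rw [xg_inv]; exact hmul _ _ (hroot r hr _) hz
  refine Units.ext ?_
  rw [Units.val_one]
  ext a b
  by_cases hab : T.levI K J a ≤ T.levI K J b
  · exact hU a b hab
  · rw [hL a b (by omega), Matrix.one_apply_ne]
    intro e; subst e; omega

/-- the normalizer of `U_J` in the group is `P_J` -/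
theorem normalizer_radical (g : T.GoodK K) (J : Set ℕ) :
    Subgroup.normalizer (genS g.toGood F (T.outJ J) : Set (GL T.D.Idx F)) ⊓ T.D.group F =
      T.D.parabolicSubgroup F J := by
  have hg := g.toGood
  have hB := borel_le_group (F := F) hg
  have hPle : T.D.parabolicSubgroup F J ≤ T.D.group F := by
    refine sup_le hB ((Subgroup.closure_le _).2 ?_)
    rintro x ⟨j, hJ, hj, hx⟩
    rw [hg.rank_eq] at hj
    have e : x = nG hg F j := Units.ext (by rw [nG_val hg hj, hx, nM])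
    rw [SetLike.mem_coe, e]
    exact nG_mem_group hg j
  refine le_antisymm ?_ (le_inf (parabolic_normalizes g J) hPle)
  rintro x ⟨hxN, hxG⟩
  let P := bnPair g.toGoodA F
  let M : Subgroup ↥(T.D.group F) :=
    (Subgroup.normalizer (genS hg F (T.outJ J) : Set (GL T.D.Idx F))).subgroupOf (T.D.group F)
  have hPB : P.B ≤ M := fun y hy => parabolic_normalizes g J (Subgroup.mem_sup_left hy)
  have hxM : (⟨x, hxG⟩ : ↥(T.D.group F)) ∈ M := hxN
  rw [BN.eq_parabolic P M hPB] at hxM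
  have hle : P.parabolic {s | s ∈ P.S ∧ s ∈ M} ≤
      (T.D.parabolicSubgroup F J).subgroupOf (T.D.group F) := by
    refine sup_le (fun y hy => Subgroup.mem_sup_left (show (y : GL T.D.Idx F) ∈ _ from hy))
      ((Subgroup.closure_le _).2 ?_)
    rintro y ⟨hyS, hyM⟩
    obtain ⟨i, hi, e⟩ := (mem_sSet_iff hg).1 hyS
    rw [SetLike.mem_coe, Subgroup.mem_subgroupOf, e]
    refine Subgroup.mem_sup_right (Subgroup.subset_closure
      ⟨i, ?_, by rw [hg.rank_eq]; exact hi, by rw [nG_val hg hi, nM]⟩)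
    by_contra hiJ
    have hyM' : nG hg F i ∈
        Subgroup.normalizer (genS hg F (T.outJ J) : Set (GL T.D.Idx F)) := by
      have h : (y : GL T.D.Idx F) ∈
          Subgroup.normalizer (genS hg F (T.outJ J) : Set (GL T.D.Idx F)) := hyM
      rwa [e] at h
    have hmem : T.smp i ∈ T.outJ J :=
      ⟨hg.smp_ge hi, hg.smp_lt hi, i, hi, hiJ, by rw [c_smp hg hi hi, if_pos rfl]; norm_num⟩
    have h' := (Subgroup.mem_normalizer_iff.1 hyM' _).1 (xg_mem_genS hg hmem (1 : F))
    rw [nG_conj hg hi (hg.smp_lt hi), hg.ref_smp hi] at h'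
    have h1 := borel_inf_neg hg (genS_pos_le_borel hg (fun r hr => outJ_pos hr) h')
      (xg_mem_genS hg (S := Set.Iio T.N) ((neg_lt_N_iff (hg.smp_lt hi)).2 (hg.smp_ge hi)) _)
    rw [← xg_zero hg (T.neg (T.smp i))] at h1
    have := xg_injective hg (neg_lt (hg.smp_lt hi)) h1
    simp [hg.eta_smp hi] at this
  exact hle hxM

/-- fusion in `H` is controlled by `N` -/
theorem torus_fusion (g : T.GoodA) {h₁ h₂ x : GL T.D.Idx F} (h1 : h₁ ∈ T.D.diagonalSubgroup F)
    (h2 : h₂ ∈ T.D.diagonalSubgroup F) (hx : x ∈ T.D.group F) (hc : x * h₁ * x⁻¹ = h₂) :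
    ∃ n ∈ T.D.monomialSubgroup F, n * h₁ * n⁻¹ = h₂ := by
  have hg := g.toGood
  obtain ⟨b, hb, n, hn, L, hL, ⟨c, hnc⟩, u, hu, rfl⟩ := bruhat_exists g hx
  refine ⟨n, hn, ?_⟩
  rw [diagonalSubgroup_eq hg] at h1 h2
  obtain ⟨a, ha⟩ := h1
  obtain ⟨a', ha'⟩ := h2
  subst ha ha'
  obtain ⟨e, he⟩ : ∃ e, n * tor T F a * n⁻¹ = tor T F e := by
    obtain ⟨e, he⟩ := wSub_conj_torus hg (nWd_mem_wSub hg hL) a
    exact ⟨e, by rw [hnc, show ∀ p q y : GL T.D.Idx F, p * q * y * (p * q)⁻¹ =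
      p * (q * y * q⁻¹) * p⁻¹ from fun p q y => by group, he, ← map_mul, ← map_inv, ← map_mul,
      mul_comm c e, mul_inv_cancel_right]⟩
  have hu' : (tor T F a)⁻¹ * u * tor T F a ∈ uMinus hg F L := by
    have := (Subgroup.mem_normalizer_iff.1 (inv_mem (tor_normalizes (F := F) hg
      (S := {r | T.N ≤ r ∧ r < T.n ∧ T.rw' L r < T.N}) (fun r hr => hr.2.1) a)) u).1 hu
    rwa [inv_inv] at this
  have heq : tor T F a' * b * n * u =
      b * tor T F e * n * ((tor T F a)⁻¹ * u * tor T F a) := by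
    rw [← he]
    calc tor T F a' * b * n * u = (b * n * u * tor T F a * (b * n * u)⁻¹) * (b * n * u) := by
          rw [hc]; group
      _ = _ := by group
  obtain ⟨-, hsame⟩ := bruhat_unique g (mul_mem (torus_le_borel hg a') hb)
    (mul_mem hb (torus_le_borel hg e)) hn hn hL hnc hu hu' heq
  obtain ⟨hb', -⟩ := hsame rfl rfl
  obtain ⟨v, hv, d, rfl⟩ := (mem_borel_iff hg).1 hb
  have hcomm : ∀ p q : ℕ → Fˣ, tor T F p * tor T F q = tor T F q * tor T F p := fun p q => by
    rw [← map_mul, mul_comm, map_mul]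
  have key : v⁻¹ * (tor T F a' * v * (tor T F a')⁻¹) = tor T F e * (tor T F a')⁻¹ := by
    calc v⁻¹ * (tor T F a' * v * (tor T F a')⁻¹)
        = v⁻¹ * (tor T F a' * (v * tor T F d)) * ((tor T F d)⁻¹ * (tor T F a')⁻¹) := by group
      _ = v⁻¹ * (v * (tor T F d * tor T F e)) * ((tor T F d)⁻¹ * (tor T F a')⁻¹) := by
          rw [hb']; group
      _ = _ := by rw [hcomm d e]; group
  have h0 := pos_inf_torus hg (mul_mem (inv_mem hv)
    ((Subgroup.mem_normalizer_iff.1 (tor_normalizes hg (fun r hr => hr.2) a') v).1 hv))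
    (by rw [key, diagonalSubgroup_eq hg]; exact ⟨e * a'⁻¹, by rw [map_mul, map_inv]⟩)
  rw [key, mul_inv_eq_one] at h0
  rw [he, h0]

end Tab

end Cfsg.Agent.Chev
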