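import Cfsg.Agent.Lib.Lie.StBasic
import Cfsg.Agent.Lib.Lie.ChevParabolic

/-!
# Steinberg groups: conjugation by `n̄_p(u)`, the subgroup `H̄`

`n̄_p(u)` permutes the root elements as in the matrix group: off `±p` because `θ` is injective on the two
unipotent subgroups it normalises, on `±p` because these root elements occur in a commutator formula.
-/

set_option autoImplicit false

namespace Cfsg.Agent.Chev

open Cfsg.Lie
open Matrix hiding zpow_mul inv_zpow mul_inv_rev zpow_add zpow_neg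

namespace Tab

variable {T : Tab} {K : List (List ℕ)} {W : List (ℕ × ℕ × ℕ)} {F : Type*} [Field F]

theorem sWord_cons (e : ℕ × F) (L : List (ℕ × F)) :
    sWord T F (e :: L) = sx T F e.1 e.2 * sWord T F L := by simp [sWord]

theorem sWord_append (A B : List (ℕ × F)) :
    sWord T F (A ++ B) = sWord T F A * sWord T F B := by simp [sWord]

/-- the negative roots other than `-p_i` -/
def negExc (T : Tab) (i : ℕ) : Set ℕ := {r | r < T.N ∧ r ≠ T.neg (T.smp i)}

/-- a root other than `±p_i` has another nonzero coefficient -/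
theorem exists_coeff (g : T.GoodA) {i : ℕ} (hi : i < T.l) {s : ℕ} (hs : s < T.n) (h1 : s ≠ T.smp i)
    (h2 : s ≠ T.neg (T.smp i)) : ∃ k < T.l, k ≠ i ∧ T.c s k ≠ 0 := by
  have hg := g.toGood
  have key : ∀ r, T.N ≤ r → r ∈ T.inJ {i} → r = T.smp i := by
    intro r
    induction r using Nat.strong_induction_on with
    | _ r ih =>
      intro hr h
      rcases descent_inJ hg hr h with ⟨j, hj, hj', e⟩ | ⟨j, hj, hj', hpos, hlt⟩
      · rw [Set.mem_singleton_iff] at hj'; rw [e, hj']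
      · rw [Set.mem_singleton_iff] at hj'
        subst hj'
        have := ih _ hlt hpos (ref_inJ hg hj (Set.mem_singleton _) h)
        have h3 := congrArg (T.ref j) this
        rw [hg.ref_ref hj h.1, hg.ref_smp hj] at h3
        have := (neg_lt_N_iff (hg.smp_lt hj)).2 (hg.smp_ge hj)
        omega
  by_contra hh
  push Not at hh
  have hmem : s ∈ T.inJ {i} := ⟨hs, fun k hk hk' => hh k hk (by simpa using hk')⟩
  by_cases hpos : T.N ≤ s
  · exact h1 (key s hpos hmem)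
  · refine h2 ?_
    rw [← key _ ((N_le_neg_iff hs).2 (not_le.1 hpos)) (inJ_neg hg hmem), neg_neg hs]

/-- commutator terms with `±p_i` have the sign of the other root -/
theorem cTerms_side (g : T.GoodK K) {i r s : ℕ} (hi : i < T.l)
    (hr : r = T.smp i ∨ r = T.neg (T.smp i)) (hs : s < T.n) (h1 : s ≠ T.smp i)
    (h2 : s ≠ T.neg (T.smp i)) {c : ℕ × ℤ × ℕ × ℕ} (hc : c ∈ T.cTerms r s) :
    c.1 < T.n ∧ c.1 ≠ T.smp i ∧ c.1 ≠ T.neg (T.smp i) ∧ (T.N ≤ c.1 ↔ T.N ≤ s) := by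
  have hg := g.toGood
  have hp := hg.smp_lt hi
  have hrn : r < T.n := by
    rcases hr with rfl | rfl
    · exact hp
    · exact neg_lt hp
  obtain ⟨q1, q2, q3, q4, -⟩ := cTerms_mem hg hrn hs hc
  obtain ⟨k, hk, hki, hne⟩ := exists_coeff g.toGoodA hi hs h1 h2
  have hcp : T.c (T.smp i) k = 0 := by rw [c_smp hg hi hk, if_neg hki]
  have hcq : T.c (T.neg (T.smp i)) k = 0 := by rw [((hg.sign' hp).1 k hk).2.2.1, hcp, neg_zero]
  have hcr : T.c r k = 0 := by rcases hr with rfl | rfl <;> assumption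
  have hphr : T.phi K k r = 0 := by
    obtain ⟨a, b⟩ := phi_sign g hk hrn
    omega
  have hphc : T.phi K k c.1 = (c.2.2.2 : ℤ) * T.phi K k s := by rw [phi_linear q4 k, hphr]; ring
  have hj : (0 : ℤ) < (c.2.2.2 : ℤ) := by exact_mod_cast q3
  obtain ⟨a1, a2⟩ := phi_sign g hk hs
  obtain ⟨b1, b2⟩ := phi_sign g hk q1
  have spos : ∀ u, u < T.n → T.N ≤ u → 0 ≤ T.c u k := fun u hu h => ((hg.sign' hu).1 k hk).1 h
  have sneg : ∀ u, u < T.n → u < T.N → T.c u k ≤ 0 := fun u hu h => by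
    have := spos _ (neg_lt hu) ((N_le_neg_iff hu).2 h)
    rw [((hg.sign' hu).1 k hk).2.2.1] at this
    omega
  have hsign : (0 < T.c c.1 k ∧ T.N ≤ s) ∨ (T.c c.1 k < 0 ∧ s < T.N) := by
    rcases lt_or_gt_of_ne hne with h | h
    · refine Or.inr ⟨b2.1 (by rw [hphc]; exact mul_neg_of_pos_of_neg hj (a2.2 h)), ?_⟩
      by_contra hh
      have := spos s hs (not_lt.1 hh)
      omega
    · refine Or.inl ⟨b1.1 (by rw [hphc]; exact mul_pos hj (a1.2 h)), ?_⟩
      by_contra hh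
      have := sneg s hs (not_le.1 hh)
      omega
  refine ⟨q1, ?_, ?_, ?_⟩
  · intro e; rw [e] at hsign; omega
  · intro e; rw [e] at hsign; omega
  · rcases hsign with ⟨h, h'⟩ | ⟨h, h'⟩
    · refine ⟨fun _ => h', fun _ => ?_⟩
      by_contra hh
      have := sneg _ q1 (not_le.1 hh)
      omega
    · refine ⟨fun hh => ?_, fun hh => ?_⟩
      · have := spos _ q1 hh
        omega
      · omega

theorem sn_normalizes_exc (g : T.GoodK K) {i : ℕ} (hi : i < T.l) (u : F) :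
    sn T F (T.smp i) u ∈ Subgroup.normalizer (sGen T F (T.posExc i) : Set (T.D.SteinbergGroup F)) ∧
    sn T F (T.smp i) u ∈ Subgroup.normalizer (sGen T F (T.negExc i) : Set (T.D.SteinbergGroup F)) := by
  have hg := g.toGood
  have hp := hg.smp_lt hi
  have hpN := hg.smp_ge hi
  have hqN := (neg_lt_N_iff hp).2 hpN
  have key : ∀ r, (r = T.smp i ∨ r = T.neg (T.smp i)) → ∀ t : F,
      sx T F r t ∈ Subgroup.normalizer (sGen T F (T.posExc i) : Set (T.D.SteinbergGroup F)) ∧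
      sx T F r t ∈ Subgroup.normalizer (sGen T F (T.negExc i) : Set (T.D.SteinbergGroup F)) := by
    intro r hr t
    have hrn : r < T.n := by
      rcases hr with rfl | rfl
      · exact hp
      · exact neg_lt hp
    have hnr : T.neg r = T.smp i ∨ T.neg r = T.neg (T.smp i) := by
      rcases hr with rfl | rfl
      · exact Or.inr rfl
      · exact Or.inl (neg_neg hp)
    refine ⟨sx_normalizes hg hrn ?_ t, sx_normalizes hg hrn ?_ t⟩
    · rintro s ⟨h1, h2, h3⟩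
      refine ⟨h2, by omega, fun _ c hc => ?_⟩
      obtain ⟨a, b, b', d⟩ := cTerms_side g hi hr h2 h3 (by omega) hc
      exact ⟨d.2 h1, a, b⟩
    · rintro s ⟨h1, h3⟩
      have := n_def (T := T)
      refine ⟨by omega, by omega, fun _ c hc => ?_⟩
      obtain ⟨a, b, b', d⟩ := cTerms_side g hi hr (by omega) (by omega) h3 hc
      exact ⟨not_le.1 fun hh => by have := d.1 hh; omega, b'⟩
  exact ⟨mul_mem (mul_mem (key _ (Or.inl rfl) _).1 (key _ (Or.inr rfl) _).1) (key _ (Or.inl rfl) _).1,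
    mul_mem (mul_mem (key _ (Or.inl rfl) _).2 (key _ (Or.inr rfl) _).2) (key _ (Or.inl rfl) _).2⟩

/-- the factor in `n̄_{p_i}(u) x̄_s(t) n̄_{p_i}(u)⁻¹` -/
def kap (T : Tab) (F : Type*) [Field F] (i : ℕ) (u : Fˣ) (s : ℕ) : F :=
  ((u ^ T.A i (T.ref i s) : Fˣ) : F) * (T.eta i s : F)

theorem θ0_sn_smp (g : T.GoodA) {i : ℕ} (hi : i < T.l) (u : Fˣ) :
    θ0 g F (sn T F (T.smp i) (u : F)) = hS T F i u * nG g.toGood F i := by
  rw [θ0_sn]; exact nE_simple g.toGood hi u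

theorem θ0_sn_conj (g : T.GoodA) {i : ℕ} (hi : i < T.l) {s : ℕ} (hs : s < T.n) (u : Fˣ) (t : F) :
    θ0 g F (sn T F (T.smp i) (u : F) * sx T F s t * (sn T F (T.smp i) (u : F))⁻¹) =
      xg g.toGood (T.ref i s) (kap T F i u s * t) := by
  rw [map_mul, map_mul, map_inv, θ0_sn_smp g hi, θ0_sx,
    show ∀ a b x : GL T.D.Idx F, a * b * x * (a * b)⁻¹ = a * (b * x * b⁻¹) * a⁻¹ from
      fun a b x => by group, nG_conj g.toGood hi hs, hS_eq_tor,
    tor_xg g.toGood _ (g.toGood.ref_lt hi hs), wt_single g.toGood hi, kap, mul_assoc]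

theorem eq_of_θ0 (g : T.GoodA) {S : Set ℕ} (hS : S ⊆ Set.Ico T.N T.n ∨ S ⊆ Set.Iio T.N)
    {x y : T.D.SteinbergGroup F} (hx : x ∈ sGen T F S) (hy : y ∈ sGen T F S)
    (h : θ0 g F x = θ0 g F y) : x = y := by
  have hm : x⁻¹ * y ∈ sGen T F S := mul_mem (inv_mem hx) hy
  have h1 : θ0 g F (x⁻¹ * y) = 1 := by rw [map_mul, map_inv, h, inv_mul_cancel]
  rcases hS with hS | hS
  · exact inv_mul_eq_one.1 (θ0_inj_pos g T.n T.N le_rfl (by omega) _ (sGen_mono hS hm) h1)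
  · exact inv_mul_eq_one.1 (θ0_inj_neg g (sGen_mono hS hm) h1)

theorem sn_conj_off (g : T.GoodK K) {i : ℕ} (hi : i < T.l) {s : ℕ} (hs : s < T.n)
    (h1 : s ≠ T.smp i) (h2 : s ≠ T.neg (T.smp i)) (u : Fˣ) (t : F) :
    sn T F (T.smp i) (u : F) * sx T F s t * (sn T F (T.smp i) (u : F))⁻¹ =
      sx T F (T.ref i s) (kap T F i u s * t) := by
  have hg := g.toGood
  obtain ⟨np, nn⟩ := sn_normalizes_exc g hi (u : F)
  have hθ := θ0_sn_conj g.toGoodA hi hs u t
  have hsx := θ0_sx (F := F) g.toGoodA (T.ref i s) (kap T F i u s * t)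
  by_cases hpos : T.N ≤ s
  · have hsm : s ∈ T.posExc i := ⟨hpos, hs, h1⟩
    exact eq_of_θ0 g.toGoodA (S := T.posExc i) (Or.inl fun r hr => ⟨hr.1, hr.2.1⟩)
      ((Subgroup.mem_normalizer_iff.1 np _).1 (sx_mem_sGen hsm t))
      (sx_mem_sGen (ref_posExc hg hi hsm) _) (hθ.trans hsx.symm)
  · have hsm : s ∈ T.negExc i := ⟨not_le.1 hpos, h2⟩
    have hm : T.neg s ∈ T.posExc i :=
      ⟨(N_le_neg_iff hs).2 (not_le.1 hpos), neg_lt hs, fun e => h2 (by rw [← e, neg_neg hs])⟩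
    have hm' := ref_posExc hg hi hm
    rw [hg.ref_neg hi hs] at hm'
    have hsm' : T.ref i s ∈ T.negExc i :=
      ⟨(N_le_neg_iff (hg.ref_lt hi hs)).1 hm'.1, fun e => hm'.2.2 (by rw [e, neg_neg (hg.smp_lt hi)])⟩
    exact eq_of_θ0 g.toGoodA (S := T.negExc i) (Or.inr fun r hr => hr.1)
      ((Subgroup.mem_normalizer_iff.1 nn _).1 (sx_mem_sGen hsm t))
      (sx_mem_sGen hsm' _) (hθ.trans hsx.symm)

theorem ref_mem_pm (g : T.Good) {i w : ℕ} (hi : i < T.l) (hw : w < T.n) :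
    (T.ref i w = T.smp i ↔ w = T.neg (T.smp i)) ∧ (T.ref i w = T.neg (T.smp i) ↔ w = T.smp i) := by
  have hp := g.smp_lt hi
  have e : T.ref i (T.neg (T.smp i)) = T.smp i := by
    rw [g.ref_neg hi hp, g.ref_smp hi, neg_neg hp]
  refine ⟨⟨fun h => ?_, fun h => by rw [h, e]⟩, ⟨fun h => ?_, fun h => by rw [h, g.ref_smp hi]⟩⟩
  · have := congrArg (T.ref i) h
    rwa [g.ref_ref hi hw, g.ref_smp hi] at this
  · have := congrArg (T.ref i) h
    rwa [g.ref_ref hi hw, e] at this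

/-- the conjugation factor is compatible with the commutator formula -/
theorem cVal_kap (g : T.GoodA) {i r s : ℕ} (hi : i < T.l) (hr : r < T.n) (hs : s < T.n) (u : Fˣ)
    (x y : F) :
    cVal T F (T.ref i r) (T.ref i s) (kap T F i u r * x) (kap T F i u s * y) =
      (cVal T F r s x y).map fun e => (T.ref i e.1, kap T F i u e.1 * e.2) := by
  have hg := g.toGood
  simp only [cVal, cTerms_ref g hi hr hs, List.map_map]
  refine List.map_congr_left fun c hc => ?_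
  have hc' : mapTerm T i r s c ∈ T.cTerms (T.ref i r) (T.ref i s) := by
    rw [cTerms_ref g hi hr hs]; exact List.mem_map_of_mem hc
  obtain ⟨-, -, -, h4, -⟩ := cTerms_mem hg (hg.ref_lt hi hr) (hg.ref_lt hi hs) hc'
  have hA : T.A i (T.ref i c.1) =
      (c.2.2.1 : ℤ) * T.A i (T.ref i r) + (c.2.2.2 : ℤ) * T.A i (T.ref i s) := h4 i hi
  simp only [Function.comp_apply, mapTerm]
  refine Prod.ext rfl ?_
  have er : (T.eta i r : F) ^ c.2.2.1 * (T.eta i r : F) ^ c.2.2.1 = 1 := by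
    rw [← mul_pow, eta_sq, one_pow]
  have es : (T.eta i s : F) ^ c.2.2.2 * (T.eta i s : F) ^ c.2.2.2 = 1 := by
    rw [← mul_pow, eta_sq, one_pow]
  have hu : (((u ^ T.A i (T.ref i r) : Fˣ) : F) ^ c.2.2.1) *
      (((u ^ T.A i (T.ref i s) : Fˣ) : F) ^ c.2.2.2) = ((u ^ T.A i (T.ref i c.1) : Fˣ) : F) := by
    rw [← Units.val_pow_eq_pow_val, ← Units.val_pow_eq_pow_val, ← Units.val_mul, ← zpow_natCast,
      ← zpow_natCast, ← zpow_mul, ← zpow_mul, ← _root_.zpow_add, hA]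
    congr 2
    ring
  simp only [kap]
  generalize ((u ^ T.A i (T.ref i c.1) : Fˣ) : F) = U at hu ⊢
  generalize ((u ^ T.A i (T.ref i r) : Fˣ) : F) = A at hu ⊢
  generalize ((u ^ T.A i (T.ref i s) : Fˣ) : F) = B at hu ⊢
  rw [← hu, show -(A * (T.eta i r : F) * x) = A * (T.eta i r : F) * -x by ring, mul_pow, mul_pow,
    mul_pow, mul_pow]
  push_cast
  linear_combination ((T.eta i c.1 : F) * (c.2.1 : F) * A ^ c.2.2.1 * B ^ c.2.2.2 *
      (-x) ^ c.2.2.1 * y ^ c.2.2.2) *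
    ((T.eta i s : F) ^ c.2.2.2 * (T.eta i s : F) ^ c.2.2.2 * er + es)

/-- conjugation of a root element occurring in a commutator formula -/
theorem sn_conj_wit (g : T.GoodK K) {i r s : ℕ} (hi : i < T.l) (hr : r < T.n) (hs : s < T.n)
    (hsr : s ≠ r) (hsnr : s ≠ T.neg r) (hr' : r ≠ T.smp i ∧ r ≠ T.neg (T.smp i))
    (hs' : s ≠ T.smp i ∧ s ≠ T.neg (T.smp i)) {A B : List (ℕ × ℤ × ℕ × ℕ)} {c : ℕ × ℤ × ℕ × ℕ}
    (he : T.cTerms r s = A ++ c :: B)
    (hAB : ∀ d ∈ A ++ B, d.1 ≠ T.smp i ∧ d.1 ≠ T.neg (T.smp i)) (hC : c.2.1.natAbs = 1)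
    (hlin : c.2.2.1 = 1 ∨ c.2.2.2 = 1) (u : Fˣ) (v : F) :
    sn T F (T.smp i) (u : F) * sx T F c.1 v * (sn T F (T.smp i) (u : F))⁻¹ =
      sx T F (T.ref i c.1) (kap T F i u c.1 * v) := by
  have hg := g.toGood
  set φ := (MulAut.conj (sn T F (T.smp i) (u : F))).toMonoidHom with hφ
  let tr : ℕ × F → ℕ × F := fun e => (T.ref i e.1, kap T F i u e.1 * e.2)
  have hoff : ∀ w, w < T.n → (w ≠ T.smp i ∧ w ≠ T.neg (T.smp i)) → ∀ t : F,
      φ (sx T F w t) = sx T F (T.ref i w) (kap T F i u w * t) :=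
    fun w hw h t => sn_conj_off g hi hw h.1 h.2 u t
  have hword : ∀ L : List (ℕ × F), (∀ e ∈ L, e.1 < T.n ∧ e.1 ≠ T.smp i ∧ e.1 ≠ T.neg (T.smp i)) →
      φ (sWord T F L) = sWord T F (L.map tr) := by
    intro L hL
    induction L with
    | nil => simp [sWord]
    | cons e L ih =>
      have := hL e List.mem_cons_self
      rw [List.map_cons, sWord_cons, sWord_cons, map_mul, hoff _ this.1 this.2,
        ih fun e' he' => hL e' (List.mem_cons_of_mem _ he')]
  obtain ⟨x, y, hxy⟩ : ∃ x y : F, (c.2.1 : F) * (-x) ^ c.2.2.1 * y ^ c.2.2.2 = v := by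
    have hC2 : (c.2.1 : F) * (c.2.1 : F) = 1 := by
      rcases Int.natAbs_eq c.2.1 with h | h <;> rw [h, hC] <;> simp
    rcases hlin with h | h
    · refine ⟨-((c.2.1 : F) * v), 1, ?_⟩
      rw [h, pow_one, one_pow, _root_.neg_neg]
      linear_combination v * hC2
    · refine ⟨-1, (c.2.1 : F) * v, ?_⟩
      rw [h, pow_one, _root_.neg_neg, one_pow]
      linear_combination v * hC2
  have hrel : ∀ r' s', r' < T.n → s' < T.n → s' ≠ r' → s' ≠ T.neg r' → ∀ a b : F,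
      sWord T F (cVal T F r' s' a b) =
        (sx T F r' a * sx T F s' b)⁻¹ * (sx T F s' b * sx T F r' a) := by
    intro r' s' h1 h2 h3 h4 a b
    rw [sx_comm hg h1 h2 h3 h4, inv_mul_cancel_left]
  have hmain : φ (sWord T F (cVal T F r s x y)) = sWord T F ((cVal T F r s x y).map tr) := by
    have h := hrel (T.ref i r) (T.ref i s) (hg.ref_lt hi hr) (hg.ref_lt hi hs)
      (fun h => hsr (hg.ref_inj hi hs hr h))
      (fun h => hsnr (hg.ref_inj hi hs (neg_lt hr) (by rw [h, hg.ref_neg hi hr])))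
      (kap T F i u r * x) (kap T F i u s * y)
    rw [cVal_kap g.toGoodA hi hr hs] at h
    rw [h, hrel r s hr hs hsr hsnr, map_mul, map_inv, map_mul, map_mul, hoff r hr hr', hoff s hs hs']
  have hval : cVal T F r s x y =
      A.map (fun d => (d.1, (d.2.1 : F) * (-x) ^ d.2.2.1 * y ^ d.2.2.2)) ++ (c.1, v) ::
        B.map (fun d => (d.1, (d.2.1 : F) * (-x) ^ d.2.2.1 * y ^ d.2.2.2)) := by
    rw [cVal, he, List.map_append, List.map_cons, hxy]
  have hside : ∀ L : List (ℕ × ℤ × ℕ × ℕ), (∀ d ∈ L, d ∈ A ++ B) →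
      ∀ e ∈ L.map (fun d => (d.1, (d.2.1 : F) * (-x) ^ d.2.2.1 * y ^ d.2.2.2)),
        e.1 < T.n ∧ e.1 ≠ T.smp i ∧ e.1 ≠ T.neg (T.smp i) := by
    intro L hL e hem
    obtain ⟨d, hd, rfl⟩ := List.mem_map.1 hem
    refine ⟨(cTerms_mem hg hr hs (c := d) ?_).1, hAB d (hL d hd)⟩
    rw [he]
    rcases List.mem_append.1 (hL d hd) with h | h <;> simp [h]
  rw [hval, sWord_append, sWord_cons, map_mul, map_mul, List.map_append, List.map_cons, sWord_append,
    sWord_cons, hword _ (hside A fun d hd => List.mem_append_left _ hd),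
    hword _ (hside B fun d hd => List.mem_append_right _ hd), mul_right_inj, mul_left_inj] at hmain
  exact hmain

/-- `n̄_{p_i}(u)` permutes the root elements as in the matrix group. -/
theorem sn_conj (g : T.GoodW K W) {i : ℕ} (hi : i < T.l) {s : ℕ} (hs : s < T.n) (u : Fˣ) (t : F) :
    sn T F (T.smp i) (u : F) * sx T F s t * (sn T F (T.smp i) (u : F))⁻¹ =
      sx T F (T.ref i s) (kap T F i u s * t) := by
  have hg := g.toGood
  by_cases hpm : s ≠ T.smp i ∧ s ≠ T.neg (T.smp i)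
  · exact sn_conj_off g.toGoodK hi hs hpm.1 hpm.2 u t
  have h := allBelow_eq_true.1 g.splitOK i hi
  split at h
  swap
  · simp at h
  rename_i r s₀ m _
  split at h
  swap
  · simp at h
  rename_i k C a b rest hdrop
  simp only [Bool.and_eq_true, nat_blt, nat_beq, Bool.not_eq_true', nat_beq_false,
    Bool.or_eq_true, List.all_eq_true] at h
  obtain ⟨⟨⟨⟨⟨⟨⟨⟨hr, hs₀⟩, hrp⟩, hrq⟩, hsp⟩, hsq⟩, hsr⟩, hsnr⟩, ⟨⟨hk, hC⟩, hlin⟩, hrest⟩ := h
  have he : T.cTerms r s₀ = (T.cTerms r s₀).take m ++ (k, C, a, b) :: rest := by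
    rw [← hdrop, List.take_append_drop]
  subst hk
  by_cases hsP : s = T.smp i
  · subst hsP
    exact sn_conj_wit g.toGoodK hi hr hs₀ hsr hsnr ⟨hrp, hrq⟩ ⟨hsp, hsq⟩ he
      (fun d hd => by simpa using hrest d hd) hC hlin u t
  obtain rfl : s = T.neg (T.smp i) := by tauto
  have hp := hg.smp_lt hi
  have he' := congrArg (List.map (mapTerm T i r s₀)) he
  rw [← cTerms_ref g.toGoodA hi hr hs₀, List.map_append, List.map_cons] at he'
  have hpm' : ∀ w, w < T.n → (w ≠ T.smp i ∧ w ≠ T.neg (T.smp i)) →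
      T.ref i w ≠ T.smp i ∧ T.ref i w ≠ T.neg (T.smp i) := fun w hw hw' => by
    obtain ⟨a, b⟩ := ref_mem_pm hg hi hw
    exact ⟨fun e => hw'.2 (a.1 e), fun e => hw'.1 (b.1 e)⟩
  have hC' : (mapTerm T i r s₀ (T.smp i, C, a, b)).2.1.natAbs = 1 := by
    simp only [mapTerm, Int.natAbs_mul, Int.natAbs_pow, hC]
    rcases eta_cases T i r with e1 | e1 <;> rcases eta_cases T i s₀ with e2 | e2 <;>
      rcases eta_cases T i (T.smp i) with e3 | e3 <;> simp [e1, e2, e3]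
  have hAB : ∀ d ∈ ((T.cTerms r s₀).take m).map (mapTerm T i r s₀) ++ rest.map (mapTerm T i r s₀),
      d.1 ≠ T.smp i ∧ d.1 ≠ T.neg (T.smp i) := by
    intro d hd
    rw [← List.map_append] at hd
    obtain ⟨d', hd', rfl⟩ := List.mem_map.1 hd
    refine hpm' d'.1 (cTerms_mem hg hr hs₀ (c := d') ?_).1 (by simpa using hrest d' hd')
    rw [he]
    rcases List.mem_append.1 hd' with h | h <;> simp [h]
  have := sn_conj_wit g.toGoodK hi (hg.ref_lt hi hr) (hg.ref_lt hi hs₀)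
    (fun h => hsr (hg.ref_inj hi hs₀ hr h))
    (fun h => hsnr (hg.ref_inj hi hs₀ (neg_lt hr) (by rw [h, hg.ref_neg hi hr])))
    (hpm' r hr ⟨hrp, hrq⟩) (hpm' s₀ hs₀ ⟨hsp, hsq⟩) he' hAB hC' hlin u t
  simpa [mapTerm, hg.ref_smp hi] using this

end Tab

end Cfsg.Agent.Chev
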