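/-
The group with relations (R1), (R2) only: relations, projection, conjugation by `n̄`.
This follows `StBasic`/`StConj` with the relations (R3) left out.
-/
import Cfsg.Agent.Lib.Lie.StConj
import Cfsg.Prelude.Def_SteinbergCover

set_option autoImplicit false

namespace Cfsg.Agent.Chev

open Cfsg.Lie
open Matrix hiding zpow_mul inv_zpow mul_inv_rev zpow_add zpow_neg

namespace Tab

namespace Cov

variable {T : Tab} {K : List (List ℕ)} {W : List (ℕ × ℕ × ℕ)} {F : Type*} [Field F]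

/-- `x̄_r(t)` -/
def sx (T : Tab) (F : Type*) [Field F] (r : ℕ) (t : F) : T.D.SteinbergCover F := T.D.scGen F r t

/-- a word in `x̄` -/
def sWord (T : Tab) (F : Type*) [Field F] (w : List (ℕ × F)) : T.D.SteinbergCover F :=
  (w.map fun p => sx T F p.1 p.2).prod

theorem mk_stWord (w : List (ℕ × F)) :
    PresentedGroup.mk (T.D.steinbergRelsAB F) (T.D.stWord w) = sWord T F w := by
  rw [ChevalleyDatum.stWord, map_list_prod, List.map_map]
  rfl

theorem sx_add (g : T.Good) (r : ℕ) (a b : F) : sx T F r a * sx T F r b = sx T F r (a + b) := by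
  by_cases hr : r < T.n
  · have h := PresentedGroup.one_of_mem (rels := T.D.steinbergRelsAB F)
      (x := T.D.stX r a * T.D.stX r b * (T.D.stX r (a + b))⁻¹)
      (Or.inl ⟨r, a, b, by rw [g.nroots_eq]; exact hr, rfl⟩)
    simp only [map_mul, map_inv] at h
    exact mul_inv_eq_one.1 h
  · simp [sx, ChevalleyDatum.scGen, ChevalleyDatum.stX, g.nroots_eq, hr]

@[simp] theorem sx_zero (g : T.Good) (r : ℕ) : sx T F r (0 : F) = 1 := by
  have h := sx_add g r (0 : F) 0
  rw [add_zero] at h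
  exact mul_eq_left.1 h

theorem sx_inv (g : T.Good) (r : ℕ) (a : F) : (sx T F r a)⁻¹ = sx T F r (-a) :=
  inv_eq_of_mul_eq_one_right (by rw [sx_add g, add_neg_cancel, sx_zero g])

theorem sx_comm (g : T.Good) {r s : ℕ} (hr : r < T.n) (hs : s < T.n) (h1 : s ≠ r)
    (h2 : s ≠ T.neg r) (t u : F) :
    sx T F s u * sx T F r t = sx T F r t * sx T F s u * sWord T F (cVal T F r s t u) := by
  have h := PresentedGroup.one_of_mem (rels := T.D.steinbergRelsAB F)
    (x := (T.D.stX s u)⁻¹ * (T.D.stX r t)⁻¹ * T.D.stX s u * T.D.stX r t *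
      (T.D.stWord (T.D.commWord F r s t u))⁻¹)
    (Or.inr ⟨r, s, t, u, by rw [g.nroots_eq]; exact hr, by rw [g.nroots_eq]; exact hs, h1,
      by rw [g.neg_eq hr]; exact h2, rfl⟩)
  simp only [map_mul, map_inv, mk_stWord, commWord_eq g hr hs] at h
  rw [mul_inv_eq_one] at h
  rw [← h]
  show T.D.scGen F s u * T.D.scGen F r t = _
  simp only [ChevalleyDatum.scGen, sx]
  group

/-- `n̄_r(t)` -/
def sn (T : Tab) (F : Type*) [Field F] (r : ℕ) (t : F) : T.D.SteinbergCover F :=
  sx T F r t * sx T F (T.neg r) (-t⁻¹) * sx T F r t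

/-- `h̄_r(t)` -/
def sh (T : Tab) (F : Type*) [Field F] (r : ℕ) (t : F) : T.D.SteinbergCover F :=
  sn T F r t * sn T F r (-1)

theorem sn_inv (g : T.Good) (r : ℕ) (t : F) : (sn T F r t)⁻¹ = sn T F r (-t) := by
  simp only [sn, _root_.mul_inv_rev, sx_inv g, inv_neg, mul_assoc]

theorem sn_eq_sh (g : T.Good) (r : ℕ) (t : F) : sn T F r t = sh T F r t * sn T F r 1 := by
  rw [sh, ← sn_inv g, inv_mul_cancel_right]

theorem sh_one (g : T.Good) (r : ℕ) : sh T F r (1 : F) = 1 := by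
  rw [sh, ← sn_inv g, mul_inv_cancel]

theorem sn_sq (g : T.Good) (r : ℕ) :
    sn T F r (1 : F) * sn T F r 1 = (sh T F r (-1))⁻¹ := by
  rw [sh, ← sn_inv g, _root_.mul_inv_rev, inv_inv]

/-- The projection onto the matrix group. -/
noncomputable def θ0 (g : T.GoodA) (F : Type*) [Field F] : T.D.SteinbergCover F →* GL T.D.Idx F :=
  PresentedGroup.toGroup (rels := T.D.steinbergRelsAB F)
    (f := fun p : Fin T.D.nroots × F => xg g.toGood p.1 p.2) <| by
    have hX : ∀ r (t : F), FreeGroup.lift (fun p : Fin T.D.nroots × F => xg g.toGood p.1 p.2)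
        (T.D.stX r t) = xg g.toGood r t := by
      intro r t
      by_cases hr : r < T.D.nroots
      · simp [ChevalleyDatum.stX, hr]
      · rw [g.toGood.nroots_eq] at hr
        simp [ChevalleyDatum.stX, g.toGood.nroots_eq, hr, xg_out]
    have hW : ∀ w : List (ℕ × F), FreeGroup.lift (fun p : Fin T.D.nroots × F => xg g.toGood p.1 p.2)
        (T.D.stWord w) = (w.map fun e => xg g.toGood e.1 e.2).prod := by
      intro w
      rw [ChevalleyDatum.stWord, map_list_prod, List.map_map]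
      exact congrArg List.prod (List.map_congr_left fun e _ => hX _ _)
    rintro x (⟨r, a, b, hr, rfl⟩ | ⟨r, s, t, u, hr, hs, h1, h2, rfl⟩)
    · simp only [map_mul, map_inv, hX, xg_add, mul_inv_cancel]
    · rw [g.toGood.nroots_eq] at hr hs
      rw [g.toGood.neg_eq hr] at h2
      simp only [map_mul, map_inv, hX, hW, commWord_eq g.toGood hr hs]
      rw [mul_assoc ((xg g.toGood s u)⁻¹ * _), xg_comm g hr hs h1 h2 t u]
      group

theorem θ0_sx (g : T.GoodA) (r : ℕ) (t : F) : θ0 g F (sx T F r t) = xg g.toGood r t := by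
  by_cases hr : r < T.D.nroots
  · rw [sx, ChevalleyDatum.scGen, ChevalleyDatum.stX, dif_pos hr]
    exact PresentedGroup.toGroup.of _
  · rw [g.toGood.nroots_eq] at hr
    simp [sx, ChevalleyDatum.scGen, ChevalleyDatum.stX, g.toGood.nroots_eq, hr, xg_out]

theorem θ0_sn (g : T.GoodA) (r : ℕ) (t : F) : θ0 g F (sn T F r t) = nE g.toGood r t := by
  simp [sn, nE, θ0_sx]

theorem θ0_sh (g : T.GoodA) (r : ℕ) (t : F) : θ0 g F (sh T F r t) = hE g.toGood r t := by
  simp [sh, hE, θ0_sn]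

theorem θ0_range (g : T.GoodA) : (θ0 g F).range = T.D.group F := by
  apply le_antisymm
  · rintro y ⟨x, rfl⟩
    refine PresentedGroup.generated_by (T.D.steinbergRelsAB F) ((T.D.group F).comap (θ0 g F)) ?_ x
    rintro ⟨r, t⟩
    show θ0 g F (PresentedGroup.of (r, t)) ∈ T.D.group F
    rw [θ0, PresentedGroup.toGroup.of]
    exact xg_mem_group g.toGood _ _
  · exact group_le_of_simple g.toGood (fun i _ t => ⟨sx T F (T.smp i) t, θ0_sx g _ _⟩)
      fun i _ => ⟨sn T F (T.smp i) 1, by rw [θ0_sn]; simp [nE, nG]⟩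

/-! ### The endomorphisms attached to the reflections -/

/-- The automorphism of the Steinberg group attached to a reflection. -/
noncomputable def reflHom (g : T.GoodA) (F : Type*) [Field F] {i : ℕ} (hi : i < T.l) :
    T.D.SteinbergCover F →* T.D.SteinbergCover F :=
  PresentedGroup.toGroup (rels := T.D.steinbergRelsAB F)
    (f := fun p : Fin T.D.nroots × F => sx T F (T.ref i p.1) ((T.eta i p.1 : F) * p.2)) <| by
    have hg := g.toGood
    set f := fun p : Fin T.D.nroots × F => sx T F (T.ref i p.1) ((T.eta i p.1 : F) * p.2) with hf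
    have hX : ∀ r, r < T.n → ∀ t : F, FreeGroup.lift f (T.D.stX r t) =
        sx T F (T.ref i r) ((T.eta i r : F) * t) := by
      intro r hr t
      simp [ChevalleyDatum.stX, hg.nroots_eq, hr, f]
    have hW : ∀ w : List (ℕ × F), (∀ e ∈ w, e.1 < T.n) → FreeGroup.lift f (T.D.stWord w) =
        sWord T F (w.map fun e => (T.ref i e.1, (T.eta i e.1 : F) * e.2)) := by
      intro w hw
      rw [ChevalleyDatum.stWord, map_list_prod, List.map_map, sWord, List.map_map]
      exact congrArg List.prod (List.map_congr_left fun e he => hX _ (hw e he) _)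
    rintro x (⟨r, a, b, hr, rfl⟩ | ⟨r, s, t, u, hr, hs, h1, h2, rfl⟩)
    · rw [hg.nroots_eq] at hr
      simp only [map_mul, map_inv, hX _ hr, sx_add hg, ← mul_add, mul_inv_cancel]
    · rw [hg.nroots_eq] at hr hs
      rw [hg.neg_eq hr] at h2
      have hlt : ∀ e ∈ cVal T F r s t u, e.1 < T.n := by
        intro e he
        obtain ⟨c, hc, rfl⟩ := List.mem_map.1 he
        exact (cTerms_mem hg hr hs hc).1
      have e : (cVal T F r s t u).map (fun e => (T.ref i e.1, (T.eta i e.1 : F) * e.2)) =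
          cVal T F (T.ref i r) (T.ref i s) ((T.eta i r : F) * t) ((T.eta i s : F) * u) := by
        simp only [cVal, cTerms_ref g hi hr hs, List.map_map]
        refine List.map_congr_left fun c _ => ?_
        simp only [Function.comp_apply, mapTerm, mul_pow, neg_mul_eq_mul_neg]
        congr 1
        have key : ∀ a k : ℕ, ((T.eta i a : F) ^ k) * ((T.eta i a : F) ^ k) = 1 := fun a k => by
          rw [← mul_pow, eta_sq, one_pow]
        push_cast
        linear_combination (-((T.eta i c.1 : F) * (c.2.1 : F) * (-t) ^ c.2.2.1 * u ^ c.2.2.2)) *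
            ((T.eta i s : F) ^ c.2.2.2 * (T.eta i s : F) ^ c.2.2.2) * key r c.2.2.1 +
          (-((T.eta i c.1 : F) * (c.2.1 : F) * (-t) ^ c.2.2.1 * u ^ c.2.2.2)) * key s c.2.2.2
      simp only [map_mul, map_inv, hX _ hr, hX _ hs, commWord_eq hg hr hs, hW _ hlt, e]
      rw [mul_assoc ((sx T F (T.ref i s) _)⁻¹ * _), sx_comm hg (hg.ref_lt hi hr) (hg.ref_lt hi hs)
        (fun h => h1 (hg.ref_inj hi hs hr h))
        (fun h => h2 (hg.ref_inj hi hs (neg_lt hr) (by rw [h, hg.ref_neg hi hr])))]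
      group

theorem reflHom_sx (g : T.GoodA) {i : ℕ} (hi : i < T.l) {r : ℕ} (hr : r < T.n) (t : F) :
    reflHom g F hi (sx T F r t) = sx T F (T.ref i r) ((T.eta i r : F) * t) := by
  rw [sx, ChevalleyDatum.scGen, ChevalleyDatum.stX, dif_pos (by rw [g.toGood.nroots_eq]; exact hr)]
  exact PresentedGroup.toGroup.of _

theorem θ0_reflHom (g : T.GoodA) {i : ℕ} (hi : i < T.l) (x : T.D.SteinbergCover F) :
    θ0 g F (reflHom g F hi x) = nG g.toGood F i * θ0 g F x * (nG g.toGood F i)⁻¹ := by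
  have e : (θ0 g F).comp (reflHom g F hi) =
      (MulAut.conj (nG g.toGood F i)).toMonoidHom.comp (θ0 g F) := by
    refine PresentedGroup.ext fun p => ?_
    have hp : (p.1 : ℕ) < T.n := by rw [← g.toGood.nroots_eq]; exact p.1.isLt
    have hof : (PresentedGroup.of p : T.D.SteinbergCover F) = sx T F p.1 p.2 := by
      rw [sx, ChevalleyDatum.scGen, ChevalleyDatum.stX, dif_pos p.1.isLt]
      rfl
    simp only [MonoidHom.comp_apply, hof, reflHom_sx g hi hp, θ0_sx, MulEquiv.coe_toMonoidHom,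
      MulAut.conj_apply, nG_conj g.toGood hi hp]
  exact DFunLike.congr_fun e x

theorem reflHom_injective (g : T.GoodA) {i : ℕ} (hi : i < T.l) :
    Function.Injective (reflHom g F hi) := by
  have e : ((reflHom g F hi).comp (reflHom g F hi)).comp ((reflHom g F hi).comp (reflHom g F hi)) =
      MonoidHom.id _ := by
    refine PresentedGroup.ext fun p => ?_
    have hp : (p.1 : ℕ) < T.n := by rw [← g.toGood.nroots_eq]; exact p.1.isLt
    have hof : (PresentedGroup.of p : T.D.SteinbergCover F) = sx T F p.1 p.2 := by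
      rw [sx, ChevalleyDatum.scGen, ChevalleyDatum.stX, dif_pos p.1.isLt]
      rfl
    have hu := g.toGood.ref_lt hi hp
    simp only [MonoidHom.comp_apply, MonoidHom.id_apply, hof, reflHom_sx g hi hp, reflHom_sx g hi hu,
      g.toGood.ref_ref hi hp]
    congr 1
    have e1 := eta_sq (F := F) T i p.1
    have e2 := eta_sq (F := F) T i (T.ref i p.1)
    linear_combination ((T.eta i (T.ref i p.1) : F) * (T.eta i (T.ref i p.1) : F) * p.2) * e1 + p.2 * e2
  intro x y h
  have := congrArg (fun z => reflHom g F hi (reflHom g F hi (reflHom g F hi z))) h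
  have hid := DFunLike.congr_fun e
  simp only [MonoidHom.comp_apply, MonoidHom.id_apply] at hid
  exact (hid x).symm.trans (this.trans (hid y))

/-! ### Subgroups generated by root elements -/

/-- the subgroup of the Steinberg group generated by a set of roots -/
def sGen (T : Tab) (F : Type*) [Field F] (S : Set ℕ) : Subgroup (T.D.SteinbergCover F) :=
  Subgroup.closure {y | ∃ r ∈ S, ∃ t : F, y = sx T F r t}

theorem sx_mem_sGen {S : Set ℕ} {r : ℕ} (h : r ∈ S) (t : F) : sx T F r t ∈ sGen T F S :=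
  Subgroup.subset_closure ⟨r, h, t, rfl⟩

theorem sGen_le {S : Set ℕ} {K : Subgroup (T.D.SteinbergCover F)}
    (h : ∀ r ∈ S, ∀ t : F, sx T F r t ∈ K) : sGen T F S ≤ K := by
  refine (Subgroup.closure_le _).2 ?_
  rintro y ⟨r, hr, t, rfl⟩
  exact h r hr t

theorem sGen_mono {S S' : Set ℕ} (h : S ⊆ S') : sGen T F S ≤ sGen T F S' :=
  sGen_le fun _ hr t => sx_mem_sGen (h hr) t

theorem sGen_induction (g : T.Good) {S : Set ℕ} {p : T.D.SteinbergCover F → Prop} (h1 : p 1)
    (hs : ∀ r ∈ S, ∀ t : F, ∀ y, p y → p (sx T F r t * y)) {x : T.D.SteinbergCover F}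
    (hx : x ∈ sGen T F S) : p x := by
  induction hx using Subgroup.closure_induction_left with
  | one => exact h1
  | mul_left x hx y _ hy => obtain ⟨r, hr, t, rfl⟩ := hx; exact hs r hr t y hy
  | inv_mul_cancel x hx y _ hy =>
    obtain ⟨r, hr, t, rfl⟩ := hx
    rw [sx_inv g]
    exact hs r hr _ y hy

theorem sx_normalizes (g : T.Good) {S : Set ℕ} {r : ℕ} (hr : r < T.n)
    (hS : ∀ s ∈ S, s < T.n ∧ s ≠ T.neg r ∧ (s ≠ r → ∀ c ∈ T.cTerms r s, c.1 ∈ S)) (t : F) :
    sx T F r t ∈ Subgroup.normalizer (sGen T F S : Set (T.D.SteinbergCover F)) := by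
  have h : ∀ t : F, ∀ x ∈ sGen T F S, (sx T F r t)⁻¹ * x * sx T F r t ∈ sGen T F S := by
    intro t x hx
    have e : sGen T F S ≤ (sGen T F S).comap (MulAut.conj (sx T F r t)⁻¹).toMonoidHom := by
      refine sGen_le fun s hs u => ?_
      obtain ⟨hsn, hne, hc⟩ := hS s hs
      simp only [Subgroup.mem_comap, MulEquiv.coe_toMonoidHom, MulAut.conj_apply, inv_inv]
      by_cases h1 : s = r
      · subst h1
        rw [sx_inv g, sx_add g, sx_add g]
        exact sx_mem_sGen hs _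
      rw [mul_assoc, sx_comm g hr hsn h1 hne, mul_assoc, inv_mul_cancel_left]
      refine mul_mem (sx_mem_sGen hs u) (Subgroup.list_prod_mem _ fun y hy => ?_)
      simp only [cVal, List.map_map, List.mem_map, Function.comp_apply] at hy
      obtain ⟨c, hc', rfl⟩ := hy
      exact sx_mem_sGen (hc h1 c hc') _
    simpa using e hx
  rw [Subgroup.mem_normalizer_iff]
  intro x
  constructor
  · intro hx
    have := h (-t) x hx
    rwa [← sx_inv g, inv_inv] at this
  · intro hx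
    have := h t _ hx
    simpa [mul_assoc] using this

theorem sx_normalizes_Ico (g : T.Good) {k r : ℕ} (hk : T.N ≤ k) (hr : r < T.n) (hrN : T.N ≤ r)
    (t : F) :
    sx T F r t ∈ Subgroup.normalizer (sGen T F (Set.Ico k T.n) : Set (T.D.SteinbergCover F)) := by
  refine sx_normalizes g hr (fun s hs => ⟨hs.2, ?_, fun _ c hc => ?_⟩) t
  · have := (neg_lt_N_iff hr).2 hrN
    have := hs.1
    omega
  · obtain ⟨h1, -, -, -, h5⟩ := cTerms_mem g hr hs.2 hc
    have := (h5 hrN (hk.trans hs.1)).2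
    exact ⟨by have := hs.1; omega, h1⟩

theorem sx_split (g : T.Good) {k : ℕ} (hk : T.N ≤ k) {x : T.D.SteinbergCover F}
    (hx : x ∈ sGen T F (Set.Ico k T.n)) :
    ∃ t : F, ∃ y ∈ sGen T F (Set.Ico (k + 1) T.n), x = sx T F k t * y := by
  refine sGen_induction g (p := fun x => ∃ t : F,
    ∃ y ∈ sGen T F (Set.Ico (k + 1) T.n), x = sx T F k t * y)
    ⟨0, 1, one_mem _, by simp [sx_zero g]⟩ ?_ hx
  rintro r hr u _ ⟨t, y, hy, rfl⟩
  rcases eq_or_lt_of_le hr.1 with rfl | hlt
  · exact ⟨u + t, y, hy, by rw [← mul_assoc, sx_add g]⟩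
  · refine ⟨t, (sx T F k t)⁻¹ * sx T F r u * sx T F k t * y, mul_mem ?_ hy, by group⟩
    have h' := sx_normalizes_Ico (F := F) g (k := k + 1) (r := k) (by omega)
      (by have := hr.2; omega) hk t
    have := (Subgroup.mem_normalizer_iff.1 (inv_mem h') (sx T F r u)).1
      (sx_mem_sGen (S := Set.Ico (k + 1) T.n) (r := r) ⟨hlt, hr.2⟩ u)
    simpa using this

/-- `θ` is injective on `Ū`. -/
theorem θ0_inj_pos (g : T.GoodA) : ∀ m k, T.N ≤ k → T.n ≤ k + m →
    ∀ x ∈ sGen T F (Set.Ico k T.n), θ0 g F x = 1 → x = 1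
  | 0, k, _, hle, x, hx, _ =>
    sGen_induction g.toGood (p := fun x => x = 1) rfl
      (fun r hr => absurd hr.2 (by have := hr.1; omega)) hx
  | m + 1, k, hk, hle, x, hx, h1 => by
    by_cases hkn : k < T.n
    swap
    · exact θ0_inj_pos g m k hk (by omega) x hx h1
    obtain ⟨t, y, hy, rfl⟩ := sx_split g.toGood hk hx
    have hθy : θ0 g F y ∈ genS g.toGood F (Set.Ico (k + 1) T.n) := by
      refine sGen_induction g.toGood (p := fun y => θ0 g F y ∈ genS g.toGood F (Set.Ico (k + 1) T.n))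
        (by rw [map_one]; exact one_mem _) (fun r hr u z hz => ?_) hy
      rw [map_mul, θ0_sx]
      exact mul_mem (xg_mem_genS g.toGood hr u) hz
    rw [map_mul, θ0_sx] at h1
    have ht : t = 0 := lowest_coeff g.toGood hk hkn (by
      rw [eq_inv_of_mul_eq_one_left h1]; exact inv_mem hθy)
    subst ht
    rw [sx_zero g.toGood, one_mul]
    rw [xg_zero, one_mul] at h1
    exact θ0_inj_pos g m (k + 1) (by omega) (by omega) y hy h1

/-- composite of the reflection automorphisms along a word -/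
theorem exists_word_hom (g : T.GoodA) (L : List ℕ) (hL : T.Wd L) :
    ∃ Φ : T.D.SteinbergCover F →* T.D.SteinbergCover F, Function.Injective Φ ∧
      (∀ r < T.n, ∀ t : F, ∃ t', Φ (sx T F r t) = sx T F (T.rw' L r) t') ∧
      ∀ x, θ0 g F x = 1 → θ0 g F (Φ x) = 1 := by
  induction L with
  | nil => exact ⟨MonoidHom.id _, fun _ _ h => h, fun r _ t => ⟨t, rfl⟩, fun x h => h⟩
  | cons i L ih =>
    obtain ⟨hi, hL'⟩ := Wd.cons_iff.1 hL
    obtain ⟨Φ, h1, h2, h3⟩ := ih hL'
    refine ⟨(reflHom g F hi).comp Φ, (reflHom_injective g hi).comp h1, fun r hr t => ?_,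
      fun x hx => ?_⟩
    · obtain ⟨t', ht⟩ := h2 r hr t
      exact ⟨_, by rw [MonoidHom.comp_apply, ht, reflHom_sx g hi (rw'_lt g.toGood hL' hr)]; rfl⟩
    · rw [MonoidHom.comp_apply, θ0_reflHom, h3 x hx, mul_one, mul_inv_cancel]

/-- `θ` is injective on `V̄`. -/
theorem θ0_inj_neg (g : T.GoodA) {x : T.D.SteinbergCover F} (hx : x ∈ sGen T F (Set.Iio T.N))
    (h : θ0 g F x = 1) : x = 1 := by
  obtain ⟨L, hL, hlong, -⟩ := exists_longest g.toGood
  obtain ⟨Φ, h1, h2, h3⟩ := exists_word_hom (F := F) g L hL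
  have hn := n_def (T := T)
  have hmem : Φ x ∈ sGen T F (Set.Ico T.N T.n) := by
    refine sGen_induction g.toGood (p := fun x => Φ x ∈ sGen T F (Set.Ico T.N T.n))
      (by rw [map_one]; exact one_mem _) (fun r hr t y hy => ?_) hx
    have hr' : r < T.N := hr
    have hrn : r < T.n := by omega
    obtain ⟨t', ht⟩ := h2 r hrn t
    rw [map_mul, ht]
    refine mul_mem (sx_mem_sGen (S := Set.Ico T.N T.n) ⟨?_, rw'_lt g.toGood hL hrn⟩ _) hy
    have := hlong _ ((N_le_neg_iff hrn).2 hr') (neg_lt hrn)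
    rw [rw'_neg g.toGood hL hrn, neg_lt_N_iff (rw'_lt g.toGood hL hrn)] at this
    exact this
  exact h1 ((θ0_inj_pos g T.n T.N le_rfl (by omega) _ hmem (h3 x h)).trans (map_one Φ).symm)


theorem sWord_cons (e : ℕ × F) (L : List (ℕ × F)) :
    sWord T F (e :: L) = sx T F e.1 e.2 * sWord T F L := by simp [sWord]

theorem sWord_append (A B : List (ℕ × F)) :
    sWord T F (A ++ B) = sWord T F A * sWord T F B := by simp [sWord]

theorem sn_normalizes_exc (g : T.GoodK K) {i : ℕ} (hi : i < T.l) (u : F) :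
    sn T F (T.smp i) u ∈ Subgroup.normalizer (sGen T F (T.posExc i) : Set (T.D.SteinbergCover F)) ∧
    sn T F (T.smp i) u ∈ Subgroup.normalizer (sGen T F (T.negExc i) : Set (T.D.SteinbergCover F)) := by
  have hg := g.toGood
  have hp := hg.smp_lt hi
  have hpN := hg.smp_ge hi
  have hqN := (neg_lt_N_iff hp).2 hpN
  have key : ∀ r, (r = T.smp i ∨ r = T.neg (T.smp i)) → ∀ t : F,
      sx T F r t ∈ Subgroup.normalizer (sGen T F (T.posExc i) : Set (T.D.SteinbergCover F)) ∧
      sx T F r t ∈ Subgroup.normalizer (sGen T F (T.negExc i) : Set (T.D.SteinbergCover F)) := by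
    intro r hr t
    have hrn : r < T.n := by
      rcases hr with rfl | rfl
      · exact hp
      · exact neg_lt hp
    have hnr : T.neg r = T.smp i ∨ T.neg r = T.neg (T.smp i) := by
      rcases hr with rfl | rfl
      · exact Or.inr rfl
      · exact Or.inl (neg_neg hp)
    refine ⟨sx_normalizes hg hrn ?_ t, sx_normalizes hg hrn ?_ t⟩
    · rintro s ⟨h1, h2, h3⟩
      refine ⟨h2, by omega, fun _ c hc => ?_⟩
      obtain ⟨a, b, b', d⟩ := cTerms_side g hi hr h2 h3 (by omega) hc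
      exact ⟨d.2 h1, a, b⟩
    · rintro s ⟨h1, h3⟩
      have := n_def (T := T)
      refine ⟨by omega, by omega, fun _ c hc => ?_⟩
      obtain ⟨a, b, b', d⟩ := cTerms_side g hi hr (by omega) (by omega) h3 hc
      exact ⟨not_le.1 fun hh => by have := d.1 hh; omega, b'⟩
  exact ⟨mul_mem (mul_mem (key _ (Or.inl rfl) _).1 (key _ (Or.inr rfl) _).1) (key _ (Or.inl rfl) _).1,
    mul_mem (mul_mem (key _ (Or.inl rfl) _).2 (key _ (Or.inr rfl) _).2) (key _ (Or.inl rfl) _).2⟩

theorem θ0_sn_smp (g : T.GoodA) {i : ℕ} (hi : i < T.l) (u : Fˣ) :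
    θ0 g F (sn T F (T.smp i) (u : F)) = hS T F i u * nG g.toGood F i := by
  rw [θ0_sn]; exact nE_simple g.toGood hi u

theorem θ0_sn_conj (g : T.GoodA) {i : ℕ} (hi : i < T.l) {s : ℕ} (hs : s < T.n) (u : Fˣ) (t : F) :
    θ0 g F (sn T F (T.smp i) (u : F) * sx T F s t * (sn T F (T.smp i) (u : F))⁻¹) =
      xg g.toGood (T.ref i s) (kap T F i u s * t) := by
  rw [map_mul, map_mul, map_inv, θ0_sn_smp g hi, θ0_sx,
    show ∀ a b x : GL T.D.Idx F, a * b * x * (a * b)⁻¹ = a * (b * x * b⁻¹) * a⁻¹ from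
      fun a b x => by group, nG_conj g.toGood hi hs, hS_eq_tor,
    tor_xg g.toGood _ (g.toGood.ref_lt hi hs), wt_single g.toGood hi, kap, mul_assoc]

theorem eq_of_θ0 (g : T.GoodA) {S : Set ℕ} (hS : S ⊆ Set.Ico T.N T.n ∨ S ⊆ Set.Iio T.N)
    {x y : T.D.SteinbergCover F} (hx : x ∈ sGen T F S) (hy : y ∈ sGen T F S)
    (h : θ0 g F x = θ0 g F y) : x = y := by
  have hm : x⁻¹ * y ∈ sGen T F S := mul_mem (inv_mem hx) hy
  have h1 : θ0 g F (x⁻¹ * y) = 1 := by rw [map_mul, map_inv, h, inv_mul_cancel]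
  rcases hS with hS | hS
  · exact inv_mul_eq_one.1 (θ0_inj_pos g T.n T.N le_rfl (by omega) _ (sGen_mono hS hm) h1)
  · exact inv_mul_eq_one.1 (θ0_inj_neg g (sGen_mono hS hm) h1)

theorem sn_conj_off (g : T.GoodK K) {i : ℕ} (hi : i < T.l) {s : ℕ} (hs : s < T.n)
    (h1 : s ≠ T.smp i) (h2 : s ≠ T.neg (T.smp i)) (u : Fˣ) (t : F) :
    sn T F (T.smp i) (u : F) * sx T F s t * (sn T F (T.smp i) (u : F))⁻¹ =
      sx T F (T.ref i s) (kap T F i u s * t) := by
  have hg := g.toGood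
  obtain ⟨np, nn⟩ := sn_normalizes_exc g hi (u : F)
  have hθ := θ0_sn_conj g.toGoodA hi hs u t
  have hsx := θ0_sx (F := F) g.toGoodA (T.ref i s) (kap T F i u s * t)
  by_cases hpos : T.N ≤ s
  · have hsm : s ∈ T.posExc i := ⟨hpos, hs, h1⟩
    exact eq_of_θ0 g.toGoodA (S := T.posExc i) (Or.inl fun r hr => ⟨hr.1, hr.2.1⟩)
      ((Subgroup.mem_normalizer_iff.1 np _).1 (sx_mem_sGen hsm t))
      (sx_mem_sGen (ref_posExc hg hi hsm) _) (hθ.trans hsx.symm)
  · have hsm : s ∈ T.negExc i := ⟨not_le.1 hpos, h2⟩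
    have hm : T.neg s ∈ T.posExc i :=
      ⟨(N_le_neg_iff hs).2 (not_le.1 hpos), neg_lt hs, fun e => h2 (by rw [← e, neg_neg hs])⟩
    have hm' := ref_posExc hg hi hm
    rw [hg.ref_neg hi hs] at hm'
    have hsm' : T.ref i s ∈ T.negExc i :=
      ⟨(N_le_neg_iff (hg.ref_lt hi hs)).1 hm'.1, fun e => hm'.2.2 (by rw [e, neg_neg (hg.smp_lt hi)])⟩
    exact eq_of_θ0 g.toGoodA (S := T.negExc i) (Or.inr fun r hr => hr.1)
      ((Subgroup.mem_normalizer_iff.1 nn _).1 (sx_mem_sGen hsm t))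
      (sx_mem_sGen hsm' _) (hθ.trans hsx.symm)

/-- conjugation of a root element occurring in a commutator formula -/
theorem sn_conj_wit (g : T.GoodK K) {i r s : ℕ} (hi : i < T.l) (hr : r < T.n) (hs : s < T.n)
    (hsr : s ≠ r) (hsnr : s ≠ T.neg r) (hr' : r ≠ T.smp i ∧ r ≠ T.neg (T.smp i))
    (hs' : s ≠ T.smp i ∧ s ≠ T.neg (T.smp i)) {A B : List (ℕ × ℤ × ℕ × ℕ)} {c : ℕ × ℤ × ℕ × ℕ}
    (he : T.cTerms r s = A ++ c :: B)
    (hAB : ∀ d ∈ A ++ B, d.1 ≠ T.smp i ∧ d.1 ≠ T.neg (T.smp i)) (hC : c.2.1.natAbs = 1)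
    (hlin : c.2.2.1 = 1 ∨ c.2.2.2 = 1) (u : Fˣ) (v : F) :
    sn T F (T.smp i) (u : F) * sx T F c.1 v * (sn T F (T.smp i) (u : F))⁻¹ =
      sx T F (T.ref i c.1) (kap T F i u c.1 * v) := by
  have hg := g.toGood
  set φ := (MulAut.conj (sn T F (T.smp i) (u : F))).toMonoidHom with hφ
  let tr : ℕ × F → ℕ × F := fun e => (T.ref i e.1, kap T F i u e.1 * e.2)
  have hoff : ∀ w, w < T.n → (w ≠ T.smp i ∧ w ≠ T.neg (T.smp i)) → ∀ t : F,
      φ (sx T F w t) = sx T F (T.ref i w) (kap T F i u w * t) :=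
    fun w hw h t => sn_conj_off g hi hw h.1 h.2 u t
  have hword : ∀ L : List (ℕ × F), (∀ e ∈ L, e.1 < T.n ∧ e.1 ≠ T.smp i ∧ e.1 ≠ T.neg (T.smp i)) →
      φ (sWord T F L) = sWord T F (L.map tr) := by
    intro L hL
    induction L with
    | nil => simp [sWord]
    | cons e L ih =>
      have := hL e List.mem_cons_self
      rw [List.map_cons, sWord_cons, sWord_cons, map_mul, hoff _ this.1 this.2,
        ih fun e' he' => hL e' (List.mem_cons_of_mem _ he')]
  obtain ⟨x, y, hxy⟩ : ∃ x y : F, (c.2.1 : F) * (-x) ^ c.2.2.1 * y ^ c.2.2.2 = v := by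
    have hC2 : (c.2.1 : F) * (c.2.1 : F) = 1 := by
      rcases Int.natAbs_eq c.2.1 with h | h <;> rw [h, hC] <;> simp
    rcases hlin with h | h
    · refine ⟨-((c.2.1 : F) * v), 1, ?_⟩
      rw [h, pow_one, one_pow, _root_.neg_neg]
      linear_combination v * hC2
    · refine ⟨-1, (c.2.1 : F) * v, ?_⟩
      rw [h, pow_one, _root_.neg_neg, one_pow]
      linear_combination v * hC2
  have hrel : ∀ r' s', r' < T.n → s' < T.n → s' ≠ r' → s' ≠ T.neg r' → ∀ a b : F,
      sWord T F (cVal T F r' s' a b) =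
        (sx T F r' a * sx T F s' b)⁻¹ * (sx T F s' b * sx T F r' a) := by
    intro r' s' h1 h2 h3 h4 a b
    rw [sx_comm hg h1 h2 h3 h4, inv_mul_cancel_left]
  have hmain : φ (sWord T F (cVal T F r s x y)) = sWord T F ((cVal T F r s x y).map tr) := by
    have h := hrel (T.ref i r) (T.ref i s) (hg.ref_lt hi hr) (hg.ref_lt hi hs)
      (fun h => hsr (hg.ref_inj hi hs hr h))
      (fun h => hsnr (hg.ref_inj hi hs (neg_lt hr) (by rw [h, hg.ref_neg hi hr])))
      (kap T F i u r * x) (kap T F i u s * y)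
    rw [cVal_kap g.toGoodA hi hr hs] at h
    rw [h, hrel r s hr hs hsr hsnr, map_mul, map_inv, map_mul, map_mul, hoff r hr hr', hoff s hs hs']
  have hval : cVal T F r s x y =
      A.map (fun d => (d.1, (d.2.1 : F) * (-x) ^ d.2.2.1 * y ^ d.2.2.2)) ++ (c.1, v) ::
        B.map (fun d => (d.1, (d.2.1 : F) * (-x) ^ d.2.2.1 * y ^ d.2.2.2)) := by
    rw [cVal, he, List.map_append, List.map_cons, hxy]
  have hside : ∀ L : List (ℕ × ℤ × ℕ × ℕ), (∀ d ∈ L, d ∈ A ++ B) →
      ∀ e ∈ L.map (fun d => (d.1, (d.2.1 : F) * (-x) ^ d.2.2.1 * y ^ d.2.2.2)),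
        e.1 < T.n ∧ e.1 ≠ T.smp i ∧ e.1 ≠ T.neg (T.smp i) := by
    intro L hL e hem
    obtain ⟨d, hd, rfl⟩ := List.mem_map.1 hem
    refine ⟨(cTerms_mem hg hr hs (c := d) ?_).1, hAB d (hL d hd)⟩
    rw [he]
    rcases List.mem_append.1 (hL d hd) with h | h <;> simp [h]
  rw [hval, sWord_append, sWord_cons, map_mul, map_mul, List.map_append, List.map_cons, sWord_append,
    sWord_cons, hword _ (hside A fun d hd => List.mem_append_left _ hd),
    hword _ (hside B fun d hd => List.mem_append_right _ hd), mul_right_inj, mul_left_inj] at hmain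
  exact hmain

/-- `n̄_{p_i}(u)` permutes the root elements as in the matrix group. -/
theorem sn_conj (g : T.GoodW K W) {i : ℕ} (hi : i < T.l) {s : ℕ} (hs : s < T.n) (u : Fˣ) (t : F) :
    sn T F (T.smp i) (u : F) * sx T F s t * (sn T F (T.smp i) (u : F))⁻¹ =
      sx T F (T.ref i s) (kap T F i u s * t) := by
  have hg := g.toGood
  by_cases hpm : s ≠ T.smp i ∧ s ≠ T.neg (T.smp i)
  · exact sn_conj_off g.toGoodK hi hs hpm.1 hpm.2 u t
  have h := allBelow_eq_true.1 g.splitOK i hi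
  split at h
  swap
  · simp at h
  rename_i r s₀ m _
  split at h
  swap
  · simp at h
  rename_i k C a b rest hdrop
  simp only [Bool.and_eq_true, nat_blt, nat_beq, Bool.not_eq_true', nat_beq_false,
    Bool.or_eq_true, List.all_eq_true] at h
  obtain ⟨⟨⟨⟨⟨⟨⟨⟨hr, hs₀⟩, hrp⟩, hrq⟩, hsp⟩, hsq⟩, hsr⟩, hsnr⟩, ⟨⟨hk, hC⟩, hlin⟩, hrest⟩ := h
  have he : T.cTerms r s₀ = (T.cTerms r s₀).take m ++ (k, C, a, b) :: rest := by
    rw [← hdrop, List.take_append_drop]
  subst hk
  by_cases hsP : s = T.smp i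
  · subst hsP
    exact sn_conj_wit g.toGoodK hi hr hs₀ hsr hsnr ⟨hrp, hrq⟩ ⟨hsp, hsq⟩ he
      (fun d hd => by simpa using hrest d hd) hC hlin u t
  obtain rfl : s = T.neg (T.smp i) := by tauto
  have hp := hg.smp_lt hi
  have he' := congrArg (List.map (mapTerm T i r s₀)) he
  rw [← cTerms_ref g.toGoodA hi hr hs₀, List.map_append, List.map_cons] at he'
  have hpm' : ∀ w, w < T.n → (w ≠ T.smp i ∧ w ≠ T.neg (T.smp i)) →
      T.ref i w ≠ T.smp i ∧ T.ref i w ≠ T.neg (T.smp i) := fun w hw hw' => by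
    obtain ⟨a, b⟩ := ref_mem_pm hg hi hw
    exact ⟨fun e => hw'.2 (a.1 e), fun e => hw'.1 (b.1 e)⟩
  have hC' : (mapTerm T i r s₀ (T.smp i, C, a, b)).2.1.natAbs = 1 := by
    simp only [mapTerm, Int.natAbs_mul, Int.natAbs_pow, hC]
    rcases eta_cases T i r with e1 | e1 <;> rcases eta_cases T i s₀ with e2 | e2 <;>
      rcases eta_cases T i (T.smp i) with e3 | e3 <;> simp [e1, e2, e3]
  have hAB : ∀ d ∈ ((T.cTerms r s₀).take m).map (mapTerm T i r s₀) ++ rest.map (mapTerm T i r s₀),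
      d.1 ≠ T.smp i ∧ d.1 ≠ T.neg (T.smp i) := by
    intro d hd
    rw [← List.map_append] at hd
    obtain ⟨d', hd', rfl⟩ := List.mem_map.1 hd
    refine hpm' d'.1 (cTerms_mem hg hr hs₀ (c := d') ?_).1 (by simpa using hrest d' hd')
    rw [he]
    rcases List.mem_append.1 hd' with h | h <;> simp [h]
  have := sn_conj_wit g.toGoodK hi (hg.ref_lt hi hr) (hg.ref_lt hi hs₀)
    (fun h => hsr (hg.ref_inj hi hs₀ hr h))
    (fun h => hsnr (hg.ref_inj hi hs₀ (neg_lt hr) (by rw [h, hg.ref_neg hi hr])))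
    (hpm' r hr ⟨hrp, hrq⟩) (hpm' s₀ hs₀ ⟨hsp, hsq⟩) he' hAB hC' hlin u t
  simpa [mapTerm, hg.ref_smp hi] using this


end Cov

end Tab

end Cfsg.Agent.Chev
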