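import Cfsg.Agent.Lib.Lie.StConj

/-!
# Steinberg groups: `H̄`, `B̄ N̄ B̄` and the kernel of the projection
-/

set_option autoImplicit false

namespace Cfsg.Agent.Chev

open Cfsg.Lie
open Matrix hiding zpow_mul inv_zpow mul_inv_rev zpow_add zpow_neg

namespace Tab

variable {T : Tab} {K : List (List ℕ)} {W : List (ℕ × ℕ × ℕ)} {F : Type*} [Field F]

theorem xg_mono_inj (g : T.Good) {r : ℕ} (hr : r < T.n) {a b : F} (h : xg g r a = xg g r b) :
    a = b :=
  xg_injective g hr h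

/-- conjugation by `h̄_{p_i}(u)` -/
theorem sh_conj_sx (g : T.GoodW K W) {i : ℕ} (hi : i < T.l) (u : Fˣ) {s : ℕ} (hs : s < T.n) (t : F) :
    sh T F (T.smp i) (u : F) * sx T F s t * (sh T F (T.smp i) (u : F))⁻¹ =
      sx T F s (((u ^ T.A i s : Fˣ) : F) * t) := by
  have hg := g.toGood
  have h1 := sn_conj (F := F) g hi hs (-1) t
  rw [Units.val_neg, Units.val_one] at h1
  have h2 := sn_conj (F := F) g hi (hg.ref_lt hi hs) u (kap T F i (-1) s * t)
  rw [hg.ref_ref hi hs] at h2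
  have e : sh T F (T.smp i) (u : F) * sx T F s t * (sh T F (T.smp i) (u : F))⁻¹ =
      sx T F s (kap T F i u (T.ref i s) * (kap T F i (-1) s * t)) := by
    rw [← h2, ← h1, sh]; group
  have e2 := congrArg (θ0 g.toGoodA F) e
  rw [map_mul, map_mul, map_inv, θ0_sh, hE_smp hg hi, θ0_sx, θ0_sx, hS_eq_tor, tor_xg hg _ hs,
    wt_single hg hi] at e2
  rw [e, ← xg_mono_inj hg hs e2]

theorem sn_mul_sn (g : T.Good) {r : ℕ} (hr : r < T.n) {a b : F} (ha : a ≠ 0) (hb : b ≠ 0) :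
    sn T F r a * sn T F r b = sh T F r (a * (-b)⁻¹) := by
  have e : sn T F r b = (sn T F r (-b))⁻¹ := by rw [sn_inv g, _root_.neg_neg]
  rw [e, sn_eq_sh g r a, sn_eq_sh g r (-b), _root_.mul_inv_rev, mul_assoc, mul_inv_cancel_left,
    sh_inv g hr (neg_ne_zero.2 hb), sh_mul g hr ha (inv_ne_zero (neg_ne_zero.2 hb))]

theorem sn_inv_one (g : T.Good) {r : ℕ} (_hr : r < T.n) :
    (sn T F r (1 : F))⁻¹ = sh T F r (-1) * sn T F r 1 := by
  rw [sn_inv g, ← sn_eq_sh g]

/-- `h̄_{p_i}` as a homomorphism on units -/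
noncomputable def hb (T : Tab) (F : Type*) [Field F] (i : ℕ) (u : Fˣ) : T.D.SteinbergGroup F :=
  sh T F (T.smp i) (u : F)

theorem hb_mul (g : T.Good) {i : ℕ} (hi : i < T.l) (u v : Fˣ) :
    hb T F i (u * v) = hb T F i u * hb T F i v := by
  rw [hb, hb, hb, Units.val_mul, sh_mul g (g.smp_lt hi) u.ne_zero v.ne_zero]

theorem conj_sn (g : T.GoodW K W) {i : ℕ} (hi : i < T.l) (u : Fˣ) {r : ℕ} (hr : r < T.n) (v : F) :
    hb T F i u * sn T F r v * (hb T F i u)⁻¹ = sn T F r (((u ^ T.A i r : Fˣ) : F) * v) := by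
  have hg := g.toGood
  have e : ∀ x y z : T.D.SteinbergGroup F, hb T F i u * (x * y * z) * (hb T F i u)⁻¹ =
      (hb T F i u * x * (hb T F i u)⁻¹) * (hb T F i u * y * (hb T F i u)⁻¹) *
        (hb T F i u * z * (hb T F i u)⁻¹) := fun x y z => by group
  rw [sn, e, hb, sh_conj_sx g hi u hr, sh_conj_sx g hi u (neg_lt hr), sn]
  congr 3
  rw [((hg.sign' hr).1 i hi).2.2.2, _root_.zpow_neg, Units.val_inv_eq_inv_val, mul_inv, mul_neg]

theorem hb_comm (g : T.GoodW K W) {i j : ℕ} (hi : i < T.l) (hj : j < T.l) (u v : Fˣ) :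
    Commute (hb T F i u) (hb T F j v) := by
  have hg := g.toGood
  have hp := hg.smp_lt hj
  rw [Commute, SemiconjBy, ← mul_inv_eq_iff_eq_mul]
  show hb T F i u * (sn T F (T.smp j) (v : F) * sn T F (T.smp j) (-1)) * (hb T F i u)⁻¹ = _
  rw [show ∀ a x y : T.D.SteinbergGroup F, a * (x * y) * a⁻¹ = (a * x * a⁻¹) * (a * y * a⁻¹) from
    fun a x y => by group, conj_sn g hi u hp, conj_sn g hi u hp,
    sn_mul_sn hg hp (mul_ne_zero (Units.ne_zero _) v.ne_zero)
      (mul_ne_zero (Units.ne_zero _) (neg_ne_zero.2 one_ne_zero)), hb]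
  congr 1
  rw [mul_neg_one, _root_.neg_neg, mul_comm _ (v : F), mul_inv_cancel_right₀ (Units.ne_zero _)]

/-- the product of `h̄_{p_i}(c_i)` along a list -/
noncomputable def hP (T : Tab) (F : Type*) [Field F] (L : List ℕ) (c : ℕ → Fˣ) : T.D.SteinbergGroup F :=
  (L.map fun i => hb T F i (c i)).prod

theorem hP_mul (g : T.GoodW K W) : ∀ {L : List ℕ}, T.Wd L → ∀ c d : ℕ → Fˣ,
    hP T F L (c * d) = hP T F L c * hP T F L d
  | [], _, c, d => by simp [hP]
  | i :: L, h, c, d => by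
    obtain ⟨hi, hL⟩ := Wd.cons_iff.1 h
    have hc : Commute (hb T F i (d i)) (hP T F L c) := by
      refine Commute.list_prod_right _ _ fun y hy => ?_
      obtain ⟨j, hj, rfl⟩ := List.mem_map.1 hy
      exact hb_comm g hi (hL j hj) _ _
    simp only [hP, List.map_cons, List.prod_cons] at hc ⊢
    rw [show (L.map fun j => hb T F j ((c * d) j)).prod = hP T F L (c * d) from rfl, hP_mul g hL,
      Pi.mul_apply, hb_mul g.toGood hi]
    simp only [hP]
    rw [mul_assoc, ← mul_assoc (hb T F i (d i)), hc.eq]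
    group

theorem range_wd (T : Tab) : T.Wd (List.range T.l) := fun _ h => List.mem_range.1 h

/-- The torus of the Steinberg group. -/
noncomputable def hT (g : T.GoodW K W) (F : Type*) [Field F] :
    (ℕ → Fˣ) →* T.D.SteinbergGroup F where
  toFun := hP T F (List.range T.l)
  map_one' := mul_eq_left.1 (by rw [← hP_mul g (range_wd T), one_mul])
  map_mul' := hP_mul g (range_wd T)

theorem θ0_hT (g : T.GoodW K W) (c : ℕ → Fˣ) : θ0 g.toGoodA F (hT g F c) = tor T F c := by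
  rw [tor_eq_prod g.toGood]
  show θ0 g.toGoodA F (hP T F (List.range T.l) c) = _
  rw [hP, map_list_prod, List.map_map]
  refine congrArg List.prod (List.map_congr_left fun i hi => ?_)
  simp only [Function.comp_apply, hb, θ0_sh, hE_smp g.toGood (List.mem_range.1 hi)]

theorem hT_single (g : T.GoodW K W) {i : ℕ} (hi : i < T.l) (u : Fˣ) :
    hT g F (Pi.mulSingle i u) = hb T F i u := by
  show hP T F (List.range T.l) (Pi.mulSingle i u) = _
  have hb1 : ∀ j < T.l, hb T F j (1 : Fˣ) = 1 := fun j hj => by rw [hb, Units.val_one, sh_one g.toGood]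
  have key : ∀ k, k ≤ T.l → ((List.range k).map fun j => hb T F j ((Pi.mulSingle i u : ℕ → Fˣ) j)).prod =
      if i < k then hb T F i u else 1 := by
    intro k
    induction k with
    | zero => simp
    | succ k ih =>
      intro hk
      rw [List.range_succ, List.map_append, List.prod_append, ih (by omega)]
      simp only [List.map_cons, List.map_nil, List.prod_cons, List.prod_nil, mul_one]
      rcases lt_trichotomy i k with h | h | h
      · rw [if_pos h, if_pos (by omega), Pi.mulSingle_eq_of_ne (by omega : k ≠ i), hb1 k (by omega),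
          mul_one]
      · subst h; rw [if_neg (lt_irrefl i), if_pos (by omega), Pi.mulSingle_eq_same, one_mul]
      · rw [if_neg (by omega), if_neg (by omega), Pi.mulSingle_eq_of_ne (by omega : k ≠ i),
          hb1 k (by omega), mul_one]
  exact (key T.l le_rfl).trans (if_pos hi)

theorem hT_conj_sx (g : T.GoodW K W) (c : ℕ → Fˣ) {s : ℕ} (hs : s < T.n) (t : F) :
    hT g F c * sx T F s t * (hT g F c)⁻¹ = sx T F s ((wt T F c s : F) * t) := by
  have key : ∀ L, T.Wd L → ∀ t : F, ∃ t', hP T F L c * sx T F s t * (hP T F L c)⁻¹ = sx T F s t' := by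
    intro L hL
    induction L with
    | nil => intro t; exact ⟨t, by simp [hP]⟩
    | cons i L ih =>
      intro t
      obtain ⟨hi, hL'⟩ := Wd.cons_iff.1 hL
      obtain ⟨t', ht⟩ := ih hL' t
      refine ⟨((c i ^ T.A i s : Fˣ) : F) * t', ?_⟩
      simp only [hP, List.map_cons, List.prod_cons] at ht ⊢
      rw [show ∀ a b x : T.D.SteinbergGroup F, a * b * x * (a * b)⁻¹ = a * (b * x * b⁻¹) * a⁻¹ from
        fun a b x => by group, ht, hb, sh_conj_sx g hi _ hs]
  obtain ⟨t', ht⟩ := key _ (range_wd T) t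
  change hT g F c * sx T F s t * (hT g F c)⁻¹ = sx T F s t' at ht
  have h := congrArg (θ0 g.toGoodA F) ht
  rw [map_mul, map_mul, map_inv, θ0_hT, θ0_sx, θ0_sx, tor_xg g.toGood c hs] at h
  rw [ht, ← xg_mono_inj g.toGood hs h]

theorem hT_normalizes (g : T.GoodW K W) {S : Set ℕ} (hS : ∀ r ∈ S, r < T.n) (c : ℕ → Fˣ) :
    hT g F c ∈ Subgroup.normalizer (sGen T F S : Set (T.D.SteinbergGroup F)) := by
  have h : ∀ c : ℕ → Fˣ, ∀ x ∈ sGen T F S, hT g F c * x * (hT g F c)⁻¹ ∈ sGen T F S := by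
    intro c x hx
    have e : sGen T F S ≤ (sGen T F S).comap (MulAut.conj (hT g F c)).toMonoidHom := by
      refine sGen_le fun s hs u => ?_
      simp only [Subgroup.mem_comap, MulEquiv.coe_toMonoidHom, MulAut.conj_apply,
        hT_conj_sx g c (hS s hs)]
      exact sx_mem_sGen hs _
    simpa using e hx
  rw [Subgroup.mem_normalizer_iff]
  refine fun x => ⟨h c x, fun hx => ?_⟩
  simpa [map_inv, mul_assoc] using h c⁻¹ _ hx

/-- `n̄_j` normalises `H̄`. -/
theorem sn_conj_hT (g : T.GoodW K W) {j : ℕ} (hj : j < T.l) (c : ℕ → Fˣ) :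
    ∃ d, sn T F (T.smp j) (1 : F) * hT g F c = hT g F d * sn T F (T.smp j) 1 := by
  have hg := g.toGood
  have hp := hg.smp_lt hj
  refine ⟨c * Pi.mulSingle j (wt T F c⁻¹ (T.smp j)), ?_⟩
  have h : (hT g F c)⁻¹ * sn T F (T.smp j) 1 * hT g F c =
      sn T F (T.smp j) ((wt T F c⁻¹ (T.smp j) : Fˣ) : F) := by
    have e : ∀ a x y z : T.D.SteinbergGroup F, a * (x * y * z) * a⁻¹ =
        (a * x * a⁻¹) * (a * y * a⁻¹) * (a * z * a⁻¹) := fun a x y z => by group
    have h2 : hT g F c⁻¹ * sn T F (T.smp j) (1 : F) * (hT g F c⁻¹)⁻¹ =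
        sn T F (T.smp j) ((wt T F c⁻¹ (T.smp j) : Fˣ) : F) := by
      rw [sn, e, hT_conj_sx g _ hp, hT_conj_sx g _ (neg_lt hp), wt_neg hg hp, sn]
      simp [Units.val_inv_eq_inv_val]
    rwa [map_inv, inv_inv] at h2
  rw [map_mul, hT_single g hj, mul_assoc, hb, ← sn_eq_sh hg, ← h]
  group

/-- the product `n̄_{i_1} ⋯ n̄_{i_k}` -/
noncomputable def sW (T : Tab) (F : Type*) [Field F] (L : List ℕ) : T.D.SteinbergGroup F :=
  (L.map fun i => sn T F (T.smp i) 1).prod

theorem sW_cons (i : ℕ) (L : List ℕ) : sW T F (i :: L) = sn T F (T.smp i) 1 * sW T F L := by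
  simp [sW]

theorem sW_append (A B : List ℕ) : sW T F (A ++ B) = sW T F A * sW T F B := by simp [sW]

theorem θ0_sW (g : T.GoodA) (L : List ℕ) : θ0 g F (sW T F L) = nWd g.toGood F L := by
  rw [sW, map_list_prod, List.map_map, nWd]
  refine congrArg List.prod (List.map_congr_left fun i _ => ?_)
  simp [θ0_sn, nE, nG]

theorem sW_conj_hT (g : T.GoodW K W) : ∀ {L : List ℕ}, T.Wd L → ∀ c : ℕ → Fˣ,
    ∃ d, sW T F L * hT g F c = hT g F d * sW T F L
  | [], _, c => ⟨c, by simp [sW]⟩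
  | i :: L, h, c => by
    obtain ⟨hi, hL⟩ := Wd.cons_iff.1 h
    obtain ⟨d, hd⟩ := sW_conj_hT g hL c
    obtain ⟨e, he⟩ := sn_conj_hT (F := F) g hi d
    exact ⟨e, by rw [sW_cons, mul_assoc, hd, ← mul_assoc, he, mul_assoc]⟩

theorem sW_hT_comm (g : T.GoodW K W) {L : List ℕ} (hL : T.Wd L) (c : ℕ → Fˣ) :
    ∃ d, hT g F c * sW T F L = sW T F L * hT g F d := by
  induction L generalizing c with
  | nil => exact ⟨c, by simp [sW]⟩
  | cons i L ih =>
    obtain ⟨hi, hL'⟩ := Wd.cons_iff.1 hL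
    have hp := g.toGood.smp_lt hi
    have e1 : (sn T F (T.smp i) (1 : F))⁻¹ = hT g F (Pi.mulSingle i (-1)) * sn T F (T.smp i) 1 := by
      rw [hT_single g hi, sn_inv_one g.toGood hp, hb, Units.val_neg, Units.val_one]
    obtain ⟨d, hd⟩ := sn_conj_hT (F := F) g hi c
    obtain ⟨e, he⟩ := ih hL' (Pi.mulSingle i (-1) * d * (Pi.mulSingle i (-1))⁻¹)
    refine ⟨e, ?_⟩
    have hn : hT g F c * sn T F (T.smp i) 1 =
        sn T F (T.smp i) 1 * hT g F (Pi.mulSingle i (-1) * d * (Pi.mulSingle i (-1))⁻¹) := by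
      have hpass : (sn T F (T.smp i) (1 : F))⁻¹ * hT g F c * sn T F (T.smp i) 1 =
          hT g F (Pi.mulSingle i (-1) * d * (Pi.mulSingle i (-1))⁻¹) := by
        rw [map_mul, map_mul, map_inv]
        conv_lhs => rw [e1, mul_assoc (hT g F _) _ (hT g F c), hd]
        have : sn T F (T.smp i) (1 : F) * sn T F (T.smp i) 1 =
            (hT g F (Pi.mulSingle i (-1)))⁻¹ := by
          rw [hT_single g hi, sn_sq g.toGood, hb, Units.val_neg, Units.val_one]
        rw [mul_assoc (hT g F _ ) _ (sn T F (T.smp i) 1), mul_assoc (hT g F d), this]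
        group
      rw [← hpass]; group
    rw [sW_cons, ← mul_assoc, hn, mul_assoc, he, ← mul_assoc]

theorem sW_conj (g : T.GoodW K W) : ∀ {L : List ℕ}, T.Wd L → ∀ {s : ℕ}, s < T.n →
    ∃ v : Fˣ, ∀ t : F, sW T F L * sx T F s t * (sW T F L)⁻¹ = sx T F (T.rw' L s) ((v : F) * t)
  | [], _, s, _ => ⟨1, fun t => by simp [sW]⟩
  | i :: L, h, s, hs => by
    obtain ⟨hi, hL⟩ := Wd.cons_iff.1 h
    obtain ⟨v, hv⟩ := sW_conj g hL hs
    refine ⟨⟨_, _, eta_sq T i (T.rw' L s), eta_sq T i (T.rw' L s)⟩ * v, fun t => ?_⟩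
    have hone := sn_conj (F := F) g hi (rw'_lt g.toGood hL hs) 1 ((v : F) * t)
    rw [Units.val_one] at hone
    rw [sW_cons, show ∀ a b x : T.D.SteinbergGroup F, a * b * x * (a * b)⁻¹ = a * (b * x * b⁻¹) * a⁻¹
      from fun a b x => by group, hv, hone, rw'_cons]
    congr 1
    simp [kap, mul_assoc]

/-- A word fixing the set of positive roots lies in `H̄`. -/
theorem sW_torus_of_pos (g : T.GoodW K W) : ∀ (m : ℕ) {L : List ℕ}, L.length ≤ m → T.Wd L →
    (∀ s, T.N ≤ s → s < T.n → T.N ≤ T.rw' L s) → ∃ c, sW T F L = hT g F c := by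
  intro m
  have hg := g.toGood
  induction m with
  | zero =>
    intro L hlen _ _
    obtain rfl := List.length_eq_zero_iff.1 (Nat.le_zero.1 hlen)
    exact ⟨1, by simp [sW]⟩
  | succ m ih =>
    intro L hlen hL hpos
    rcases List.eq_nil_or_concat L with rfl | ⟨L', i, hLe⟩
    · exact ⟨1, by simp [sW]⟩
    rw [List.concat_eq_append] at hLe
    subst hLe
    obtain ⟨hL', hi'⟩ := Wd.append_iff.1 hL
    have hi : i < T.l := hi' i List.mem_cons_self
    have hneg : T.rw' L' (T.smp i) < T.N := by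
      have h1 := hpos _ (hg.smp_ge hi) (hg.smp_lt hi)
      rw [rw'_append, rw'_cons, rw'_nil, hg.ref_smp hi, rw'_neg hg hL' (hg.smp_lt hi),
        N_le_neg_iff (rw'_lt hg hL' (hg.smp_lt hi))] at h1
      exact h1
    obtain ⟨A, j, B, rfl, hB, c₀, hc₀⟩ := deletion (F := F) hg hL' hi hneg
    obtain ⟨hA, hjB⟩ := Wd.append_iff.1 hL'
    obtain ⟨hj, hB'⟩ := Wd.cons_iff.1 hjB
    have hAB : T.Wd (A ++ B) := Wd.append_iff.2 ⟨hA, hB'⟩
    have hnWd : nWd hg F (A ++ j :: B ++ [i]) = tor T F c₀ * nWd hg F (A ++ B) := by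
      rw [nWd_append, nWd_cons, nWd_nil, mul_one, hc₀]
    have hrw : ∀ s < T.n, T.rw' (A ++ j :: B ++ [i]) s = T.rw' (A ++ B) s := fun s hs =>
      rw'_of_nWd_eq hg hL hAB (c := 1) (d := c₀) (by rw [map_one, one_mul, hnWd]) hs
    obtain ⟨d, hd⟩ := ih (L := A ++ B)
      (by simp only [List.length_append, List.length_cons, List.length_nil] at hlen ⊢; omega) hAB
      (fun s h1 h2 => hrw s h2 ▸ hpos s h1 h2)
    obtain ⟨v, hv⟩ := sW_conj (F := F) g hB' (hg.smp_lt hi)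
    obtain ⟨w, hw⟩ := sW_conj (F := F) g hB' (neg_lt (hg.smp_lt hi))
    have hvw : ((w : F) * -1) = -(v : F)⁻¹ := by
      obtain ⟨ε, hε, hn⟩ := nWd_conj (F := F) hg hB' (hg.smp_lt hi)
      have h1 := congrArg (θ0 g.toGoodA F) (hv 1)
      have h2 := congrArg (θ0 g.toGoodA F) (hw 1)
      simp only [map_mul, map_inv, θ0_sx, θ0_sW] at h1 h2
      rw [(hn 1).1] at h1
      rw [(hn 1).2, rw'_neg hg hB' (hg.smp_lt hi)] at h2
      have e1 := xg_mono_inj hg (rw'_lt hg hB' (hg.smp_lt hi)) h1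
      have e2 := xg_mono_inj hg (neg_lt (rw'_lt hg hB' (hg.smp_lt hi))) h2
      rw [mul_one, mul_one] at e1 e2
      rw [← e1, ← e2, mul_neg_one, neg_inj]
      exact eq_inv_of_mul_eq_one_left (by rw [← Units.val_mul, hε, Units.val_one])
    have hmove : sW T F B * sn T F (T.smp i) 1 = sn T F (T.smp j) (v : F) * sW T F B := by
      rw [← mul_inv_eq_iff_eq_mul, sn, show ∀ a x y z : T.D.SteinbergGroup F, a * (x * y * z) * a⁻¹ =
        (a * x * a⁻¹) * (a * y * a⁻¹) * (a * z * a⁻¹) from fun a x y z => by group, hv, inv_one,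
        hw, rw'_neg hg hB' (hg.smp_lt hi), hB, hvw, mul_one, sn]
    obtain ⟨e, he⟩ : ∃ e, sn T F (T.smp j) (1 : F) * sn T F (T.smp j) (v : F) = hT g F e := by
      refine ⟨Pi.mulSingle j (-v)⁻¹, ?_⟩
      rw [sn_mul_sn hg (hg.smp_lt hj) one_ne_zero v.ne_zero, hT_single g hj, hb, one_mul,
        Units.val_inv_eq_inv_val, Units.val_neg]
    obtain ⟨e', he'⟩ := sW_conj_hT (F := F) g hA e
    refine ⟨e' * d, ?_⟩
    rw [map_mul, ← hd, sW_append, sW_append, sW_cons, sW_append, ← mul_assoc (hT g F e'), ← he', ← he]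
    simp only [sW, List.map_cons, List.map_nil, List.prod_cons, List.prod_nil, mul_one] at hmove ⊢
    simp only [mul_assoc]
    rw [hmove]

/-! ### `B̄ N̄ B̄` -/

/-- `B̄` -/
noncomputable def sB (g : T.GoodW K W) (F : Type*) [Field F] : Subgroup (T.D.SteinbergGroup F) :=
  sGen T F (Set.Ico T.N T.n) ⊔ (hT g F).range

theorem mem_sB (g : T.GoodW K W) {x : T.D.SteinbergGroup F} :
    x ∈ sB g F ↔ ∃ u ∈ sGen T F (Set.Ico T.N T.n), ∃ c, x = u * hT g F c := by
  have hle : (hT g F).range ≤ Subgroup.normalizer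
      (sGen T F (Set.Ico T.N T.n) : Set (T.D.SteinbergGroup F)) := by
    rintro _ ⟨c, rfl⟩
    exact hT_normalizes g (fun r hr => hr.2) c
  rw [sB, ← SetLike.mem_coe, Subgroup.coe_mul_of_right_le_normalizer_left _ _ hle]
  constructor
  · rintro ⟨u, hu, _, ⟨c, rfl⟩, rfl⟩; exact ⟨u, hu, c, rfl⟩
  · rintro ⟨u, hu, c, rfl⟩; exact ⟨u, hu, _, ⟨c, rfl⟩, rfl⟩

theorem sx_mem_sB (g : T.GoodW K W) {r : ℕ} (h : T.N ≤ r) (hr : r < T.n) (t : F) :
    sx T F r t ∈ sB g F := Subgroup.mem_sup_left (sx_mem_sGen (S := Set.Ico T.N T.n) ⟨h, hr⟩ t)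

theorem hT_mem_sB (g : T.GoodW K W) (c : ℕ → Fˣ) : hT g F c ∈ sB g F :=
  Subgroup.mem_sup_right ⟨c, rfl⟩

theorem sx_split_simple (g : T.GoodW K W) {i : ℕ} (hi : i < T.l) {x : T.D.SteinbergGroup F}
    (hx : x ∈ sGen T F (Set.Ico T.N T.n)) :
    ∃ a : F, ∃ y ∈ sGen T F (T.posExc i), x = sx T F (T.smp i) a * y := by
  have hg := g.toGood
  refine sGen_induction hg (p := fun x => ∃ a : F, ∃ y ∈ sGen T F (T.posExc i),
    x = sx T F (T.smp i) a * y) ⟨0, 1, one_mem _, by simp [sx_zero hg]⟩ ?_ hx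
  rintro r hr u _ ⟨a, y, hy, rfl⟩
  by_cases hrp : r = T.smp i
  · subst hrp
    exact ⟨u + a, y, hy, by rw [← mul_assoc, sx_add hg]⟩
  refine ⟨a, (sx T F (T.smp i) a)⁻¹ * sx T F r u * sx T F (T.smp i) a * y, mul_mem ?_ hy, by group⟩
  have hN : sx T F (T.smp i) a ∈
      Subgroup.normalizer (sGen T F (T.posExc i) : Set (T.D.SteinbergGroup F)) := by
    refine sx_normalizes hg (hg.smp_lt hi) ?_ a
    rintro s ⟨h1, h2, h3⟩
    have := (neg_lt_N_iff (hg.smp_lt hi)).2 (hg.smp_ge hi)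
    refine ⟨h2, by omega, fun _ c hc => ?_⟩
    obtain ⟨q1, q2, -, q4⟩ := cTerms_side g.toGoodK hi (Or.inl rfl) h2 h3 (by omega) hc
    exact ⟨q4.2 h1, q1, q2⟩
  have := (Subgroup.mem_normalizer_iff.1 (inv_mem hN) (sx T F r u)).1
    (sx_mem_sGen (S := T.posExc i) (r := r) ⟨hr.1, hr.2, hrp⟩ u)
  simpa using this

/-- membership of `B̄ N̄ B̄` -/
def InBNB (g : T.GoodW K W) (x : T.D.SteinbergGroup F) : Prop :=
  ∃ b ∈ sB g F, ∃ L, T.Wd L ∧ ∃ b' ∈ sB g F, x = b * sW T F L * b'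

theorem InBNB.mul_left (g : T.GoodW K W) {b x : T.D.SteinbergGroup F} (hb : b ∈ sB g F)
    (hx : InBNB g x) : InBNB g (b * x) := by
  obtain ⟨c, hc, L, hL, d, hd, rfl⟩ := hx
  exact ⟨b * c, mul_mem hb hc, L, hL, d, hd, by simp only [mul_assoc]⟩

theorem InBNB.mul_right (g : T.GoodW K W) {b x : T.D.SteinbergGroup F} (hb : b ∈ sB g F)
    (hx : InBNB g x) : InBNB g (x * b) := by
  obtain ⟨c, hc, L, hL, d, hd, rfl⟩ := hx
  exact ⟨c, hc, L, hL, d * b, mul_mem hd hb, by simp only [mul_assoc]⟩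

theorem inBNB_word (g : T.GoodW K W) {L : List ℕ} (hL : T.Wd L) : InBNB g (F := F) (sW T F L) :=
  ⟨1, one_mem _, L, hL, 1, one_mem _, by simp⟩

/-- `x̄_p(t)` passes through a word sending a positive root to `p`. -/
theorem sx_sW_pass (g : T.GoodW K W) {L : List ℕ} (hL : T.Wd L) {r : ℕ} (hr : r < T.n)
    (hpos : T.N ≤ T.rw' L.reverse r) (t : F) :
    ∃ b ∈ sB g F, sx T F r t * sW T F L = sW T F L * b := by
  have hg := g.toGood
  have hq := rw'_lt hg hL.reverse hr
  obtain ⟨v, hv⟩ := sW_conj (F := F) g hL hq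
  refine ⟨_, sx_mem_sB g hpos hq ((v : F)⁻¹ * t), ?_⟩
  have := hv ((v : F)⁻¹ * t)
  rw [rw'_rev' hg hL hr, ← mul_assoc, mul_inv_cancel₀ v.ne_zero, one_mul] at this
  rw [← this]
  group

theorem inBNB_sn_mul (g : T.GoodW K W) {i : ℕ} (hi : i < T.l) {x : T.D.SteinbergGroup F}
    (hx : InBNB g x) : InBNB g (sn T F (T.smp i) 1 * x) := by
  have hg := g.toGood
  have hp := hg.smp_lt hi
  obtain ⟨b, hbm, L, hL, b', hbm', rfl⟩ := hx
  obtain ⟨u, hu, c, rfl⟩ := (mem_sB g).1 hbm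
  obtain ⟨d, hd⟩ := sW_hT_comm (F := F) g hL c
  obtain ⟨a, y, hy, rfl⟩ := sx_split_simple g hi hu
  suffices h : InBNB g (sn T F (T.smp i) 1 * (sx T F (T.smp i) a * sW T F L)) by
    have hy' : sn T F (T.smp i) 1 * sx T F (T.smp i) a * y *
        (sn T F (T.smp i) 1 * sx T F (T.smp i) a)⁻¹ ∈ sB g F := by
      refine Subgroup.mem_sup_left (sGen_mono
        (show T.posExc i ⊆ Set.Ico T.N T.n from fun r hr => ⟨hr.1, hr.2.1⟩) ?_)
      refine (Subgroup.mem_normalizer_iff.1 (mul_mem (sn_normalizes_exc g.toGoodK hi (1 : F)).1 ?_) y).1 hy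
      refine sx_normalizes hg hp ?_ a
      rintro s ⟨h1, h2, h3⟩
      have := (neg_lt_N_iff hp).2 (hg.smp_ge hi)
      refine ⟨h2, by omega, fun _ c hc => ?_⟩
      obtain ⟨q1, q2, -, q4⟩ := cTerms_side g.toGoodK hi (Or.inl rfl) h2 h3 (by omega) hc
      exact ⟨q4.2 h1, q1, q2⟩
    have := InBNB.mul_right g (mul_mem (hT_mem_sB g d) hbm') (InBNB.mul_left g hy' h)
    convert this using 1
    simp only [mul_assoc]
    rw [← mul_assoc (hT g F c), hd]
    group
  have hq : T.rw' L.reverse (T.smp i) < T.n := rw'_lt hg hL.reverse hp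
  by_cases hpos : T.N ≤ T.rw' L.reverse (T.smp i)
  · obtain ⟨e, he, hpass⟩ := sx_sW_pass g hL hp hpos a
    rw [hpass, ← mul_assoc, ← sW_cons]
    exact InBNB.mul_right g he (inBNB_word g (Wd.cons_iff.2 ⟨hi, hL⟩))
  have hL2 : T.Wd (i :: L) := Wd.cons_iff.2 ⟨hi, hL⟩
  by_cases ha : a = 0
  · rw [ha, sx_zero hg, one_mul, ← sW_cons]
    exact inBNB_word g hL2
  have hconj := sn_conj (F := F) g hi hp 1 a
  rw [Units.val_one, hg.ref_smp hi, kap, _root_.one_zpow, Units.val_one, one_mul, hg.eta_smp hi,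
    Int.cast_neg, Int.cast_one, neg_one_mul] at hconj
  have e1 : sn T F (T.smp i) 1 * (sx T F (T.smp i) a * sW T F L) =
      sx T F (T.neg (T.smp i)) (-a) * sW T F (i :: L) := by
    rw [← hconj, sW_cons]; group
  have e2 : sx T F (T.neg (T.smp i)) (-a) =
      sx T F (T.smp i) (-a⁻¹) * hT g F (Pi.mulSingle i (Units.mk0 a⁻¹ (inv_ne_zero ha))) *
        sn T F (T.smp i) 1 * sx T F (T.smp i) (-a⁻¹) := by
    rw [hT_single g hi, hb, Units.val_mk0, mul_assoc (sx T F (T.smp i) (-a⁻¹)), ← sn_eq_sh hg, sn,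
      inv_inv, ← sx_inv hg _ a⁻¹]
    group
  obtain ⟨e, he, hpass⟩ := sx_sW_pass g hL2 hp (r := T.smp i) (by
    rw [List.reverse_cons, rw'_append, rw'_cons, rw'_nil, hg.ref_smp hi, rw'_neg hg hL.reverse hp,
      N_le_neg_iff hq]
    exact not_le.1 hpos) (-a⁻¹)
  rw [e1, e2, mul_assoc _ (sx T F (T.smp i) (-a⁻¹)), hpass, ← mul_assoc, mul_assoc _ _ (sW T F (i :: L)),
    ← sW_cons]
  exact InBNB.mul_right g he (InBNB.mul_left g (mul_mem (sx_mem_sB g (hg.smp_ge hi) hp _)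
    (hT_mem_sB g _)) (inBNB_word g (Wd.cons_iff.2 ⟨hi, hL2⟩)))

/-- generators -/
theorem st_generated (g : T.GoodW K W) (x : T.D.SteinbergGroup F) :
    x ∈ Subgroup.closure ((sB g F : Set (T.D.SteinbergGroup F)) ∪
      {y | ∃ i < T.l, y = sn T F (T.smp i) 1}) := by
  have hg := g.toGood
  set M := Subgroup.closure ((sB g F : Set (T.D.SteinbergGroup F)) ∪
      {y | ∃ i < T.l, y = sn T F (T.smp i) 1}) with hM
  have hn : ∀ i < T.l, sn T F (T.smp i) (1 : F) ∈ M := fun i hi =>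
    Subgroup.subset_closure (Or.inr ⟨i, hi, rfl⟩)
  have hall : ∀ r < T.n, ∀ t : F, sx T F r t ∈ M := by
    refine root_induction hg ?_ ?_
    · exact fun i hi t => Subgroup.subset_closure (Or.inl (sx_mem_sB g (hg.smp_ge hi) (hg.smp_lt hi) t))
    · intro i hi s hs ih t
      have h := sn_conj (F := F) g hi hs 1 ((T.eta i s : F) * t)
      rw [Units.val_one, kap, _root_.one_zpow, Units.val_one, one_mul, ← mul_assoc, eta_sq, one_mul] at h
      rw [← h]
      exact mul_mem (mul_mem (hn i hi) (ih _)) (inv_mem (hn i hi))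
  refine PresentedGroup.generated_by (T.D.steinbergRels F) M ?_ x
  intro p
  have e : (PresentedGroup.of p : T.D.SteinbergGroup F) = sx T F p.1 p.2 := by
    rw [sx, ChevalleyDatum.stGen, ChevalleyDatum.stX, dif_pos p.1.isLt]
    rfl
  rw [e]
  exact hall _ (by rw [← hg.nroots_eq]; exact p.1.isLt) _

theorem inBNB_all (g : T.GoodW K W) (x : T.D.SteinbergGroup F) : InBNB g x := by
  refine Subgroup.closure_induction_left (p := fun x _ => InBNB g x)
    ⟨1, one_mem _, [], by simp [Wd], 1, one_mem _, by simp [sW]⟩ ?_ ?_ (st_generated g x)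
  · rintro y (hy | ⟨i, hi, rfl⟩) z _ hz
    · exact InBNB.mul_left g hy hz
    · exact inBNB_sn_mul g hi hz
  · rintro y (hy | ⟨i, hi, rfl⟩) z _ hz
    · exact InBNB.mul_left g (inv_mem hy) hz
    · rw [sn_inv_one g.toGood (g.toGood.smp_lt hi), mul_assoc]
      refine InBNB.mul_left g ?_ (inBNB_sn_mul g hi hz)
      have := hT_mem_sB (F := F) g (Pi.mulSingle i (-1))
      rwa [hT_single g hi, hb, Units.val_neg, Units.val_one] at this

theorem θ0_sB (g : T.GoodW K W) {b : T.D.SteinbergGroup F} (hb : b ∈ sB g F) :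
    θ0 g.toGoodA F b ∈ T.D.borelSubgroup F := by
  obtain ⟨u, hu, c, rfl⟩ := (mem_sB g).1 hb
  rw [map_mul, θ0_hT]
  refine (mem_borel_iff g.toGood).2 ⟨_, ?_, c, rfl⟩
  refine sGen_induction g.toGood (p := fun u => θ0 g.toGoodA F u ∈ genS g.toGood F (Set.Ico T.N T.n))
    (by rw [map_one]; exact one_mem _) (fun r hr t z hz => ?_) hu
  rw [map_mul, θ0_sx]
  exact mul_mem (xg_mem_genS g.toGood hr t) hz

/-- The kernel of the projection lies in `H̄`. -/
theorem ker_mem (g : T.GoodW K W) {x : T.D.SteinbergGroup F} (hx : θ0 g.toGoodA F x = 1) :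
    ∃ c, x = hT g F c ∧ tor T F c = 1 := by
  have hg := g.toGood
  obtain ⟨b, hb, L, hL, b', hb', rfl⟩ := inBNB_all g x
  rw [map_mul, map_mul, θ0_sW] at hx
  have hmem : nWd hg F L ∈ T.D.borelSubgroup F := by
    have e : nWd hg F L = (θ0 g.toGoodA F b)⁻¹ * (θ0 g.toGoodA F b')⁻¹ := by
      rw [eq_inv_mul_iff_mul_eq]
      exact eq_inv_of_mul_eq_one_left hx
    rw [e]
    exact mul_mem (inv_mem (θ0_sB g hb)) (inv_mem (θ0_sB g hb'))
  have hmono : nWd hg F L ∈ T.D.monomialSubgroup F :=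
    (mem_monomial_iff hg).2 ⟨L, hL, 1, by simp⟩
  obtain ⟨d, hd⟩ : ∃ d, nWd hg F L = tor T F d := by
    have h := borel_inf_monomial hg hmem hmono
    rw [diagonalSubgroup_eq hg] at h
    obtain ⟨d, hd⟩ := h
    exact ⟨d, hd.symm⟩
  have hfix : ∀ s < T.n, T.rw' L s = s := fun s hs =>
    rw'_of_nWd_eq hg hL (M := []) (by simp [Wd]) (c := 1) (d := d)
      (by rw [map_one, one_mul, hd, nWd_nil, mul_one]) hs
  obtain ⟨e, he⟩ := sW_torus_of_pos (F := F) g L.length le_rfl hL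
    (fun s h1 h2 => by rw [hfix s h2]; exact h1)
  have hB : b * sW T F L * b' ∈ sB g F := mul_mem (mul_mem hb (he ▸ hT_mem_sB g e)) hb'
  obtain ⟨u, hu, c, hc⟩ := (mem_sB g).1 hB
  have h1 : θ0 g.toGoodA F u * tor T F c = 1 := by
    rw [← θ0_hT g, ← map_mul, ← hc, map_mul, map_mul, θ0_sW, hx]
  have hu' : θ0 g.toGoodA F u ∈ genS hg F (Set.Ico T.N T.n) := by
    refine sGen_induction hg (p := fun u => θ0 g.toGoodA F u ∈ genS hg F (Set.Ico T.N T.n))
      (by rw [map_one]; exact one_mem _) (fun r hr t z hz => ?_) hu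
    rw [map_mul, θ0_sx]
    exact mul_mem (xg_mem_genS hg hr t) hz
  have hu1 : θ0 g.toGoodA F u = 1 := by
    refine pos_inf_torus hg hu' ?_
    rw [diagonalSubgroup_eq hg]
    exact ⟨c⁻¹, by rw [map_inv]; exact (eq_inv_of_mul_eq_one_left h1).symm⟩
  have := θ0_inj_pos g.toGoodA T.n T.N le_rfl (by omega) u hu hu1
  subst this
  rw [hu1, one_mul] at h1
  exact ⟨c, by rw [hc, one_mul], h1⟩

/-- The kernel is the centre. -/
theorem ker_eq_center (g : T.GoodW K W) :
    (θ0 g.toGoodA F).ker = Subgroup.center (T.D.SteinbergGroup F) := by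
  have hg := g.toGood
  refine le_antisymm (fun x hx => ?_) (fun z hz => ?_)
  · obtain ⟨c, rfl, hc⟩ := ker_mem g (MonoidHom.mem_ker.1 hx)
    rw [Subgroup.mem_center_iff]
    intro y
    refine PresentedGroup.generated_by (T.D.steinbergRels F)
      (Subgroup.centralizer {hT g F c}) ?_ y |> fun h =>
        (Subgroup.mem_centralizer_singleton_iff.1 h)
    intro p
    have hp : (p.1 : ℕ) < T.n := by rw [← hg.nroots_eq]; exact p.1.isLt
    have e : (PresentedGroup.of p : T.D.SteinbergGroup F) = sx T F p.1 p.2 := by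
      rw [sx, ChevalleyDatum.stGen, ChevalleyDatum.stX, dif_pos p.1.isLt]
      rfl
    rw [e, Subgroup.mem_centralizer_singleton_iff]
    have h := hT_conj_sx g c hp p.2
    have hw : (wt T F c p.1 : F) * p.2 = p.2 := by
      refine xg_mono_inj hg hp ?_
      rw [← tor_xg hg c hp, hc]
      simp
    rw [hw, mul_inv_eq_iff_eq_mul] at h
    exact h.symm
  · rw [MonoidHom.mem_ker]
    have hzG : θ0 g.toGoodA F z ∈ T.D.group F := by rw [← θ0_range g.toGoodA]; exact ⟨z, rfl⟩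
    have hcent : ∀ y ∈ T.D.group F, y * θ0 g.toGoodA F z = θ0 g.toGoodA F z * y := by
      intro y hy
      rw [← θ0_range g.toGoodA] at hy
      obtain ⟨w, rfl⟩ := hy
      rw [← map_mul, ← map_mul, Subgroup.mem_center_iff.1 hz w]
    have hBle := borel_le_group (F := F) hg
    have hN : θ0 g.toGoodA F z ∈ T.D.parabolicSubgroup F (∅ : Set ℕ) := by
      rw [← normalizer_radical g.toGoodK ∅]
      refine ⟨Subgroup.mem_normalizer_iff.2 fun y => ?_, hzG⟩
      have hy : ∀ y ∈ genS hg F (T.outJ (∅ : Set ℕ)), y ∈ T.D.group F := fun y hy =>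
        genS_le hg (fun r _ t => xg_mem_group hg r t) hy
      constructor
      · intro h
        rwa [← hcent y (hy y h), mul_inv_cancel_right]
      · intro h
        have := hcent _ (hy _ h)
        rw [mul_assoc, mul_assoc, inv_mul_cancel, mul_one] at this
        rwa [← mul_left_cancel this] at h
    have hB : θ0 g.toGoodA F z ∈ T.D.borelSubgroup F := by
      have e : T.D.parabolicSubgroup F (∅ : Set ℕ) = T.D.borelSubgroup F := by
        rw [ChevalleyDatum.parabolicSubgroup]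
        simp
      rwa [e] at hN
    have h1 : (⟨_, hzG⟩ : ↥(T.D.group F)) ∈
        ((T.D.borelSubgroup F).subgroupOf (T.D.group F)).normalCore := by
      intro y
      have := hcent y y.2
      rw [Subgroup.mem_subgroupOf]
      simp only [Subgroup.coe_mul, InvMemClass.coe_inv]
      rwa [this, mul_inv_cancel_right]
    rw [borel_core_free hg, Subgroup.mem_bot] at h1
    exact congrArg Subtype.val h1

end Tab

end Cfsg.Agent.Chev
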