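/-
The group presented by (R1), (R2): the relators (R3) are central in it, and hold over a finite field.
-/
import Cfsg.Agent.Lib.Lie.CovBasic
import Cfsg.Agent.Lib.Lie.StBruhat
import Cfsg.Agent.Lib.SL2Pres.Universal

set_option autoImplicit false

namespace Cfsg.Agent.Chev

open Cfsg.Lie
open scoped commutatorElement
open Matrix hiding zpow_mul inv_zpow mul_inv_rev zpow_add zpow_neg

namespace Tab

namespace Cov

variable {T : Tab} {K : List (List ℕ)} {W : List (ℕ × ℕ × ℕ)} {F : Type*} [Field F]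

theorem of_eq_sx (g : T.Good) (p : Fin T.D.nroots × F) :
    (PresentedGroup.of p : T.D.SteinbergCover F) = sx T F p.1 p.2 ∧ (p.1 : ℕ) < T.n := by
  refine ⟨?_, by rw [← g.nroots_eq]; exact p.1.isLt⟩
  rw [sx, ChevalleyDatum.scGen, ChevalleyDatum.stX, dif_pos p.1.isLt]
  rfl

theorem mem_center_of_commute (g : T.Good) {y : T.D.SteinbergCover F}
    (h : ∀ s < T.n, ∀ t : F, y * sx T F s t * y⁻¹ = sx T F s t) :
    y ∈ Subgroup.center (T.D.SteinbergCover F) := by
  rw [Subgroup.mem_center_iff]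
  intro x
  refine PresentedGroup.generated_by (T.D.steinbergRelsAB F) (Subgroup.centralizer {y}) ?_ x |>
    fun h => (Subgroup.mem_centralizer_singleton_iff.1 h)
  intro p
  obtain ⟨e, hp⟩ := of_eq_sx g p
  rw [e, Subgroup.mem_centralizer_singleton_iff]
  exact (mul_inv_eq_iff_eq_mul.1 (h _ hp p.2)).symm

/-- `y` maps every root group into a root group. -/
def Mon (T : Tab) (F : Type*) [Field F] (y : T.D.SteinbergCover F) : Prop :=
  ∀ s < T.n, ∃ s' < T.n, ∀ t : F, ∃ t' : F, y * sx T F s t * y⁻¹ = sx T F s' t'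

theorem Mon.one : Mon T F 1 := fun s hs => ⟨s, hs, fun t => ⟨t, by simp⟩⟩

theorem Mon.mul {x y : T.D.SteinbergCover F} (hx : Mon T F x) (hy : Mon T F y) : Mon T F (x * y) := by
  intro s hs
  obtain ⟨s', hs', h'⟩ := hy s hs
  obtain ⟨s'', hs'', h''⟩ := hx s' hs'
  refine ⟨s'', hs'', fun t => ?_⟩
  obtain ⟨t', ht'⟩ := h' t
  obtain ⟨t'', ht''⟩ := h'' t'
  exact ⟨t'', by rw [← ht'', ← ht']; group⟩

theorem mon_sn_smp (g : T.GoodW K W) {i : ℕ} (hi : i < T.l) (u : Fˣ) :
    Mon T F (sn T F (T.smp i) (u : F)) :=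
  fun s hs => ⟨T.ref i s, g.toGood.ref_lt hi hs, fun t => ⟨_, sn_conj g hi hs u t⟩⟩

/-- conjugation by `n̄_i(1)` -/
theorem sn_one_conj (g : T.GoodW K W) {i : ℕ} (hi : i < T.l) {s : ℕ} (hs : s < T.n) (t : F) :
    sn T F (T.smp i) (1 : F) * sx T F s t * (sn T F (T.smp i) (1 : F))⁻¹ =
      sx T F (T.ref i s) ((T.eta i s : F) * t) := by
  have h := sn_conj g hi hs (1 : Fˣ) t
  rw [Units.val_one] at h
  rw [h, kap]
  simp

theorem sn_one_conj_sn (g : T.GoodW K W) {i : ℕ} (hi : i < T.l) {s : ℕ} (hs : s < T.n) (t : F) :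
    sn T F (T.smp i) (1 : F) * sn T F s t * (sn T F (T.smp i) (1 : F))⁻¹ =
      sn T F (T.ref i s) ((T.eta i s : F) * t) := by
  have hg := g.toGood
  have e : ∀ a x y z : T.D.SteinbergCover F,
      a * (x * y * z) * a⁻¹ = (a * x * a⁻¹) * (a * y * a⁻¹) * (a * z * a⁻¹) := fun a x y z => by group
  have e2 : sn T F s t = sx T F s t * sx T F (T.neg s) (-t⁻¹) * sx T F s t := rfl
  rw [e2, e, sn_one_conj g hi hs, sn_one_conj g hi (neg_lt hs), hg.ref_neg hi hs, hg.eta_neg hi hs, sn]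
  congr 3
  rcases eta_cases T i s with h | h <;> simp [h, inv_neg]

theorem mon_sn (g : T.GoodW K W) : ∀ s < T.n, ∀ t : F, Mon T F (sn T F s t) := by
  have hg := g.toGood
  refine root_induction hg (fun i hi t => ?_) (fun i hi s hs ih t => ?_)
  · rcases eq_or_ne t 0 with rfl | ht
    · simpa [sn, sx_zero hg] using Mon.one (T := T) (F := F)
    · exact mon_sn_smp g hi (Units.mk0 t ht)
  · have h := sn_one_conj_sn g hi hs ((T.eta i s : F) * t)
    rw [← mul_assoc, eta_sq, one_mul, sn_inv hg] at h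
    rw [← h]
    have h1 := mon_sn_smp (F := F) g hi 1
    have h2 := mon_sn_smp (F := F) g hi (-1)
    simp only [Units.val_one, Units.val_neg] at h1 h2
    exact (h1.mul (ih _)).mul h2

theorem mem_borel_of_pos (g : T.Good) {s : ℕ} (hs : s < T.n) (h : T.N ≤ s) (t : F) :
    xg g s t ∈ T.D.borelSubgroup F :=
  (mem_borel_iff g).2 ⟨_, xg_mem_genS g (S := Set.Ico T.N T.n) ⟨h, hs⟩ t, 1, by simp⟩

/-- root elements with the same image are equal -/
theorem sx_eq_of_θ0 (g : T.GoodA) {s s' : ℕ} (hs : s < T.n) (hs' : s' < T.n) {t t' : F}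
    (h : θ0 g F (sx T F s t) = θ0 g F (sx T F s' t')) : sx T F s t = sx T F s' t' := by
  have hg := g.toGood
  have hzero : ∀ {r : ℕ} {u : F}, r < T.n → xg hg r u = 1 → sx T F r u = 1 := fun hr hu => by
    rw [xg_injective hg hr (hu.trans (xg_zero hg _).symm), sx_zero hg]
  have key : ∀ {a b : ℕ} {x y : F}, a < T.n → b < T.n → T.N ≤ a → b < T.N →
      xg hg a x = xg hg b y → sx T F a x = sx T F b y := by
    intro a b x y ha hb hA hB he
    have h1 : xg hg a x = 1 := borel_inf_neg hg (mem_borel_of_pos hg ha hA x)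
      (he ▸ xg_mem_genS hg (S := Set.Iio T.N) hB y)
    rw [hzero ha h1, hzero hb (he.symm.trans h1)]
  rw [θ0_sx, θ0_sx] at h
  by_cases h1 : T.N ≤ s <;> by_cases h2 : T.N ≤ s'
  · exact eq_of_θ0 g (S := Set.Ico T.N T.n) (Or.inl subset_rfl) (sx_mem_sGen (S := Set.Ico T.N T.n) ⟨h1, hs⟩ _)
      (sx_mem_sGen (S := Set.Ico T.N T.n) ⟨h2, hs'⟩ _) (by rw [θ0_sx, θ0_sx]; exact h)
  · exact key hs hs' h1 (not_le.1 h2) h
  · exact (key hs' hs h2 (not_le.1 h1) h.symm).symm
  · exact eq_of_θ0 g (S := Set.Iio T.N) (Or.inr subset_rfl) (sx_mem_sGen (S := Set.Iio T.N) (not_le.1 h1) _)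
      (sx_mem_sGen (S := Set.Iio T.N) (not_le.1 h2) _) (by rw [θ0_sx, θ0_sx]; exact h)

theorem mon_ker_central (g : T.GoodW K W) {y : T.D.SteinbergCover F} (hy : Mon T F y)
    (h : θ0 g.toGoodA F y = 1) : y ∈ Subgroup.center (T.D.SteinbergCover F) := by
  refine mem_center_of_commute g.toGood fun s hs t => ?_
  obtain ⟨s', hs', h'⟩ := hy s hs
  obtain ⟨t', ht'⟩ := h' t
  rw [ht']
  refine sx_eq_of_θ0 g.toGoodA hs' hs ?_
  rw [← ht']
  simp [h]

/-- The projection onto the group with (R3). -/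
noncomputable def proj (T : Tab) (F : Type*) [Field F] :
    T.D.SteinbergCover F →* T.D.SteinbergGroup F :=
  PresentedGroup.toGroup (rels := T.D.steinbergRelsAB F)
    (f := fun p => (PresentedGroup.of p : T.D.SteinbergGroup F)) fun x hx => by
      have e : FreeGroup.lift (fun p => (PresentedGroup.of p : T.D.SteinbergGroup F)) =
          PresentedGroup.mk (T.D.steinbergRels F) := FreeGroup.ext_hom _ _ fun p => by
        rw [FreeGroup.lift_apply_of]; rfl
      rw [e]
      exact PresentedGroup.one_of_mem (Or.inl hx)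

theorem proj_sx (g : T.Good) (r : ℕ) (t : F) : proj T F (sx T F r t) = Tab.sx T F r t := by
  by_cases hr : r < T.D.nroots
  · rw [sx, ChevalleyDatum.scGen, Tab.sx, ChevalleyDatum.stGen, ChevalleyDatum.stX, dif_pos hr]
    exact PresentedGroup.toGroup.of _
  · rw [g.nroots_eq] at hr
    simp [sx, Tab.sx, ChevalleyDatum.scGen, ChevalleyDatum.stGen, ChevalleyDatum.stX, g.nroots_eq, hr]

theorem proj_surjective : Function.Surjective (proj T F) := by
  intro x
  refine PresentedGroup.generated_by (T.D.steinbergRels F) (proj T F).range (fun p => ?_) x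
  exact ⟨PresentedGroup.of p, PresentedGroup.toGroup.of _⟩

theorem θ0_proj (g : T.GoodA) (x : T.D.SteinbergCover F) :
    Tab.θ0 g F (proj T F x) = θ0 g F x := by
  have e : (Tab.θ0 g F).comp (proj T F) = θ0 g F := by
    refine PresentedGroup.ext fun p => ?_
    obtain ⟨e, -⟩ := of_eq_sx g.toGood p
    rw [MonoidHom.comp_apply, e, proj_sx g.toGood, Tab.θ0_sx, θ0_sx]
  exact DFunLike.congr_fun e x

/-- the relator (R3) as an element of the cover -/
def cR3 (T : Tab) (F : Type*) [Field F] (r : ℕ) (a b : F) : T.D.SteinbergCover F :=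
  sh T F r a * sh T F r b * (sh T F r (a * b))⁻¹

theorem mk_stH_cov (g : T.Good) {r : ℕ} (hr : r < T.n) (t : F) :
    PresentedGroup.mk (T.D.steinbergRelsAB F) (T.D.stH r t) = sh T F r t := by
  rw [ChevalleyDatum.stH, mk_stWord]
  simp [sWord, ChevalleyDatum.hWord, ChevalleyDatum.nWord, sh, sn, g.neg_eq hr, mul_assoc]

theorem cR3_central (g : T.GoodW K W) {r : ℕ} (hr : r < T.n) {a b : F} (ha : a ≠ 0) (hb : b ≠ 0) :
    cR3 T F r a b ∈ Subgroup.center (T.D.SteinbergCover F) := by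
  refine mon_ker_central g ?_ ?_
  · simp only [cR3, sh, _root_.mul_inv_rev, sn_inv g.toGood]
    exact (((mon_sn g r hr _).mul (mon_sn g r hr _)).mul ((mon_sn g r hr _).mul (mon_sn g r hr _))).mul
      ((mon_sn g r hr _).mul (mon_sn g r hr _))
  · obtain ⟨u, rfl⟩ : ∃ u : Fˣ, (u : F) = a := ⟨Units.mk0 a ha, rfl⟩
    obtain ⟨v, rfl⟩ : ∃ v : Fˣ, (v : F) = b := ⟨Units.mk0 b hb, rfl⟩
    simp only [cR3, map_mul, map_inv, θ0_sh, hE_mul g.toGood hr, mul_inv_cancel]

theorem exists_section (g : T.GoodW K W) (Q : Type*) [Group Q] (φ : T.D.SteinbergCover F →* Q)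
    (h : ∀ r < T.n, ∀ a b : F, a ≠ 0 → b ≠ 0 → φ (cR3 T F r a b) = 1) :
    ∃ ψ : T.D.SteinbergGroup F →* Q, ψ.comp (proj T F) = φ := by
  have e : FreeGroup.lift (fun p => φ (PresentedGroup.of p)) =
      φ.comp (PresentedGroup.mk (T.D.steinbergRelsAB F)) := FreeGroup.ext_hom _ _ fun p => by
    rw [FreeGroup.lift_apply_of]; rfl
  have hrel : ∀ x ∈ T.D.steinbergRels F, FreeGroup.lift (fun p => φ (PresentedGroup.of p)) x = 1 := by
    rintro x (hx | ⟨r, a, b, hr, ha, hb, rfl⟩)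
    · rw [e, MonoidHom.comp_apply, PresentedGroup.one_of_mem (show x ∈ T.D.steinbergRelsAB F from hx),
        map_one]
    · rw [g.toGood.nroots_eq] at hr
      rw [e, MonoidHom.comp_apply]
      simp only [map_mul, map_inv, mk_stH_cov g.toGood hr]
      simpa [cR3] using h r hr a b ha hb
  refine ⟨PresentedGroup.toGroup hrel, PresentedGroup.ext fun p => ?_⟩
  rw [MonoidHom.comp_apply,
    show proj T F (PresentedGroup.of p) = PresentedGroup.of p from PresentedGroup.toGroup.of _]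
  exact PresentedGroup.toGroup.of hrel

theorem proj_ker_le (g : T.GoodW K W) :
    (proj T F).ker ≤ Subgroup.center (T.D.SteinbergCover F) := by
  obtain ⟨ψ, hψ⟩ := exists_section g _ (QuotientGroup.mk' (Subgroup.center (T.D.SteinbergCover F)))
    fun r hr a b ha hb => (QuotientGroup.eq_one_iff _).2 (cR3_central g hr ha hb)
  intro x hx
  rw [← QuotientGroup.eq_one_iff]
  have := DFunLike.congr_fun hψ x
  rw [MonoidHom.comp_apply, MonoidHom.mem_ker.1 hx, map_one] at this
  exact this.symm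

/-- the projection onto the group -/
noncomputable def θC (g : T.GoodA) (F : Type*) [Field F] : T.D.SteinbergCover F →* ↥(T.D.group F) :=
  (θ0 g F).codRestrict (T.D.group F) fun x => by rw [← θ0_range (F := F) g]; exact ⟨x, rfl⟩

theorem θC_surjective (g : T.GoodA) : Function.Surjective (θC g F) := by
  rintro ⟨y, hy⟩
  rw [← θ0_range g] at hy
  obtain ⟨x, rfl⟩ := hy
  exact ⟨x, rfl⟩

theorem θC_scGen (g : T.GoodA) (r : ℕ) (t : F) :
    ((θC g F (T.D.scGen F r t) : GL T.D.Idx F) : Matrix T.D.Idx T.D.Idx F) = T.D.x F r t := by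
  show ((θ0 g F (sx T F r t) : GL T.D.Idx F) : Matrix T.D.Idx T.D.Idx F) = _
  rw [θ0_sx, xg_val]

theorem commutator_central_mul {G : Type*} [Group G] {z w : G} (hz : z ∈ Subgroup.center G)
    (hw : w ∈ Subgroup.center G) (a b : G) : ⁅z * a, w * b⁆ = ⁅a, b⁆ := by
  rw [Subgroup.mem_center_iff] at hz hw
  simp only [commutatorElement_def, _root_.mul_inv_rev]
  calc z * a * (w * b) * (a⁻¹ * z⁻¹) * (b⁻¹ * w⁻¹)
      = z * (a * w) * (b * a⁻¹) * z⁻¹ * (b⁻¹ * w⁻¹) := by group
    _ = z * (w * (a * b * a⁻¹)) * z⁻¹ * (b⁻¹ * w⁻¹) := by rw [hw a]; group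
    _ = (w * (a * b * a⁻¹)) * (b⁻¹ * w⁻¹) := by rw [← hz (w * (a * b * a⁻¹))]; group
    _ = w * (a * b * a⁻¹ * b⁻¹) * w⁻¹ := by group
    _ = a * b * a⁻¹ * b⁻¹ := by rw [← hw (a * b * a⁻¹ * b⁻¹), mul_inv_cancel_right]

/-- If the cover is perfect, its kernel is central. -/
theorem θC_ker_le (g : T.GoodW K W) (hperf : commutator (T.D.SteinbergCover F) = ⊤) :
    (θC g.toGoodA F).ker ≤ Subgroup.center (T.D.SteinbergCover F) := by
  intro x hx
  have hx' : θ0 g.toGoodA F x = 1 := congrArg Subtype.val (MonoidHom.mem_ker.1 hx)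
  have hc : proj T F x ∈ Subgroup.center (T.D.SteinbergGroup F) := by
    rw [← Tab.ker_eq_center g, MonoidHom.mem_ker, θ0_proj, hx']
  have hmem : ∀ y, x * y * x⁻¹ * y⁻¹ ∈ Subgroup.center (T.D.SteinbergCover F) := fun y => by
    refine proj_ker_le g ?_
    rw [MonoidHom.mem_ker, map_mul, map_mul, map_mul, map_inv, map_inv,
      ← Subgroup.mem_center_iff.1 hc (proj T F y), mul_inv_cancel_right, mul_inv_cancel]
  have hle : commutator (T.D.SteinbergCover F) ≤ Subgroup.centralizer {x} := by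
    rw [commutator_def, Subgroup.commutator_le]
    intro a _ b _
    rw [Subgroup.mem_centralizer_singleton_iff]
    have ea : x * a * x⁻¹ = (x * a * x⁻¹ * a⁻¹) * a := by group
    have eb : x * b * x⁻¹ = (x * b * x⁻¹ * b⁻¹) * b := by group
    have h : x * ⁅a, b⁆ * x⁻¹ = ⁅a, b⁆ := by
      rw [show x * ⁅a, b⁆ * x⁻¹ = ⁅x * a * x⁻¹, x * b * x⁻¹⁆ by simp only [commutatorElement_def]; group,
        ea, eb]
      exact commutator_central_mul (hmem a) (hmem b) a b
    exact (mul_inv_eq_iff_eq_mul.1 h).symm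
  rw [Subgroup.mem_center_iff]
  intro y
  exact Subgroup.mem_centralizer_singleton_iff.1 (hle (hperf ▸ Subgroup.mem_top y))

/-- the rank one relation -/
theorem sn_conj_self (g : T.GoodW K W) :
    ∀ r < T.n, ∀ t u : F, t ≠ 0 →
      sn T F r t * sx T F r u * (sn T F r t)⁻¹ = sx T F (T.neg r) (-(t⁻¹ ^ 2 * u)) := by
  have hg := g.toGood
  refine root_induction hg (fun i hi t u ht => ?_) (fun i hi s hs ih t u ht => ?_)
  · have h := sn_conj g hi (hg.smp_lt hi) (Units.mk0 t ht) u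
    rw [Units.val_mk0] at h
    rw [h, hg.ref_smp hi, kap, hg.ref_smp hi, hg.eta_smp hi,
      show T.A i (T.neg (T.smp i)) = -2 by
        rw [← hg.ref_smp hi, A_ref_self hg hi (hg.smp_lt hi), A_smp_self hg hi]]
    congr 1
    push_cast
    rw [Units.val_mk0, _root_.zpow_neg, zpow_two, inv_pow, pow_two]
    ring
  · have hη := eta_sq (F := F) T i s
    have h0 : (T.eta i s : F) ≠ 0 := fun h => by rw [h, zero_mul] at hη; exact zero_ne_one hη
    have h := congrArg (fun z => sn T F (T.smp i) (1 : F) * z * (sn T F (T.smp i) (1 : F))⁻¹)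
      (ih ((T.eta i s : F) * t) ((T.eta i s : F) * u) (mul_ne_zero h0 ht))
    have e : ∀ a x y : T.D.SteinbergCover F,
        a * (x * y * x⁻¹) * a⁻¹ = (a * x * a⁻¹) * (a * y * a⁻¹) * (a * x * a⁻¹)⁻¹ := fun a x y => by group
    rw [e, sn_one_conj_sn g hi hs, sn_one_conj g hi hs, sn_one_conj g hi (neg_lt hs),
      hg.ref_neg hi hs, hg.eta_neg hi hs, ← mul_assoc, hη, one_mul, ← mul_assoc, hη, one_mul] at h
    rw [h]
    congr 1
    rcases eta_cases T i s with h | h <;> simp [h, inv_neg]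

theorem cR3_eq_one (g : T.GoodW K W) [Finite F] {r : ℕ} (hr : r < T.n) {a b : F} (ha : a ≠ 0)
    (hb : b ≠ 0) : cR3 T F r a b = 1 := by
  have hg := g.toGood
  let D : SL2Pres.SData F (T.D.SteinbergCover F) :=
    { X := sx T F r
      Y := sx T F (T.neg r)
      addX := sx_add hg r
      addY := sx_add hg (T.neg r)
      relX := fun t u ht => by
        simpa [sn] using sn_conj_self g r hr t u ht
      relY := fun t u ht => by
        have := sn_conj_self g (T.neg r) (neg_lt hr) t u ht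
        rw [neg_neg hr] at this
        simpa [sn, neg_neg hr] using this }
  obtain ⟨ψ, hX, hY⟩ := SL2Pres.exists_hom D
  let w : F → Matrix.SpecialLinearGroup (Fin 2) F := fun t =>
    SL2Pres.up t * SL2Pres.low (-t⁻¹) * SL2Pres.up t
  have hw : ∀ t, ψ (w t) = sn T F r t := fun t => by
    simp only [w, map_mul, hX, hY, sn]
    rfl
  have hh : ∀ t, ψ (w t * w (-1)) = sh T F r t := fun t => by rw [map_mul, hw, hw, sh]
  rw [cR3, ← hh, ← hh, ← hh, ← map_mul, ← map_inv, ← map_mul]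
  have hval : ∀ t : F, t ≠ 0 →
      ((w t * w (-1) : Matrix.SpecialLinearGroup (Fin 2) F) : Matrix (Fin 2) (Fin 2) F) = !![t, 0; 0, t⁻¹] := by
    intro t ht
    simp only [w, Matrix.SpecialLinearGroup.coe_mul, SL2Pres.up_val, SL2Pres.low_val, Matrix.mul_fin_two]
    ext i j
    fin_cases i <;> fin_cases j <;> simp [ht]
  have e : w a * w (-1) * (w b * w (-1)) = w (a * b) * w (-1) := by
    apply Subtype.ext
    rw [Matrix.SpecialLinearGroup.coe_mul, hval a ha, hval b hb, hval _ (mul_ne_zero ha hb),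
      Matrix.mul_fin_two, mul_inv]
    simp
  rw [e, mul_inv_cancel, map_one]

theorem proj_bijective (g : T.GoodW K W) [Finite F] : Function.Bijective (proj T F) := by
  obtain ⟨ψ, hψ⟩ := exists_section g _ (MonoidHom.id _) fun r hr a b ha hb => cR3_eq_one (F := F) g hr ha hb
  exact ⟨fun x y h => by
    have := congrArg ψ h
    rw [← MonoidHom.comp_apply, ← MonoidHom.comp_apply, hψ] at this
    exact this, proj_surjective⟩

end Cov

end Tab

end Cfsg.Agent.Chev
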