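import Cfsg.Agent.Lib.Lie.Ree1
import Cfsg.Agent.Lib.Lie.CovMain
import Cfsg.Agent.Lib.SL2Pres.Main
import Cfsg.Agent.Lib.Classical.TwoByTwo
import Mathlib.FieldTheory.Finite.Basic
import Mathlib.GroupTheory.NoncommCoprod

/-!
# The centraliser of an involution in the small Ree groups
-/

set_option autoImplicit false

namespace Cfsg.Agent.Chev.Ree

open Cfsg.Lie TwG2 Tab
open Matrix (SpecialLinearGroup)
open SL2Pres (up low diagS)

variable {F : Type*} [Field F] [CharP F 3]

theorem rel_root {r : ℕ} (hr : r < G2Data.tab.n) (t u : F) (ht : t ≠ 0) :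
    (xg g0 r t * xg g0 (G2Data.tab.neg r) (-t⁻¹) * xg g0 r t) * xg g0 r u *
      (xg g0 r t * xg g0 (G2Data.tab.neg r) (-t⁻¹) * xg g0 r t)⁻¹ =
    xg g0 (G2Data.tab.neg r) (-(t⁻¹ ^ 2 * u)) := by
  have h := congrArg (Tab.Cov.θ0 gA F) (Tab.Cov.sn_conj_self gW r hr t u ht)
  simpa [Tab.Cov.sn, Tab.Cov.θ0_sx] using h

/-- rank one data of a root -/
noncomputable def rootData {r : ℕ} (hr : r < G2Data.tab.n) :
    SL2Pres.SData F (GL G2Data.tab.D.Idx F) where
  X := xg g0 r
  Y := xg g0 (G2Data.tab.neg r)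
  addX := xg_add g0 r
  addY := xg_add g0 _
  relX := rel_root hr
  relY := fun t u ht => by
    have h := rel_root (neg_lt hr) t u ht
    rwa [Tab.neg_neg hr] at h

theorem pair_facts : (8 : ℕ) < G2Data.tab.n ∧ (10 : ℕ) < G2Data.tab.n ∧
    ∀ r ∈ ([8, G2Data.tab.neg 8] : List ℕ), ∀ s ∈ ([10, G2Data.tab.neg 10] : List ℕ),
      r < G2Data.tab.n ∧ s < G2Data.tab.n ∧ G2Data.tab.commOK 3 r s = true := by decide +kernel

theorem neg_one_word : G2Data.tab.checkWordP 3
    ([(8, 1), (G2Data.tab.neg 8, -1), (8, 1), (10, 1), (G2Data.tab.neg 10, -1), (10, 1)] ++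
     [(8, 1), (G2Data.tab.neg 8, -1), (8, 1), (10, 1), (G2Data.tab.neg 10, -1), (10, 1)]) [] = true := by
  decide +kernel

variable [Fintype F] {m : ℕ} (hK : Fintype.card F = 3 ^ (2 * m + 1))

include hK in
theorem exists_psi : ∃ ψ : SpecialLinearGroup (Fin 2) F →* GL G2Data.tab.D.Idx F,
    (∀ u, ψ (up u) = uF m 0 u 0) ∧
    (∀ u, ψ (low u) = nWd g0 F (wd 0) * uF m 0 (-u) 0 * (nWd g0 F (wd 0))⁻¹) ∧
    (∀ α : Fˣ, ψ (diagS F α) ∈ G2Data.tab.D.diagonalSubgroup F) ∧ ψ (diagS F (-1)) = 1 := by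
  obtain ⟨h8, h10, hc⟩ := pair_facts
  obtain ⟨f8, hX8, hY8⟩ := SL2Pres.exists_hom (rootData (F := F) h8)
  obtain ⟨f10, hX10, hY10⟩ := SL2Pres.exists_hom (rootData (F := F) h10)
  have hcomm : ∀ g h, Commute (f8 g) (f10 h) := by
    have h1 : ∀ r ∈ ([8, G2Data.tab.neg 8] : List ℕ), ∀ (a : F) (h : SpecialLinearGroup (Fin 2) F),
        Commute (xg g0 r a) (f10 h) := by
      intro r hr a
      have hle : Subgroup.closure (Set.range (up (K := F)) ∪ Set.range (low (K := F))) ≤
          (Subgroup.centralizer {xg g0 r a}).comap f10 := by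
        rw [Subgroup.closure_le]
        rintro z (⟨b, rfl⟩ | ⟨b, rfl⟩) <;>
          simp only [SetLike.mem_coe, Subgroup.mem_comap, Subgroup.mem_centralizer_singleton_iff]
        · rw [hX10]
          obtain ⟨p, q, c⟩ := hc r hr 10 (by simp)
          exact (comm3 p q c a b).symm.eq
        · rw [hY10]
          obtain ⟨p, q, c⟩ := hc r hr (G2Data.tab.neg 10) (by simp)
          exact (comm3 p q c a b).symm.eq
      intro h
      have := hle (SL2Pres.closure_up_low (K := F) ▸ Subgroup.mem_top h)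
      exact ((Subgroup.mem_centralizer_singleton_iff.1 (Subgroup.mem_comap.1 this)) :).symm
    intro g h
    have hle : Subgroup.closure (Set.range (up (K := F)) ∪ Set.range (low (K := F))) ≤
        (Subgroup.centralizer {f10 h}).comap f8 := by
      rw [Subgroup.closure_le]
      rintro z (⟨b, rfl⟩ | ⟨b, rfl⟩) <;>
        simp only [SetLike.mem_coe, Subgroup.mem_comap, Subgroup.mem_centralizer_singleton_iff]
      · rw [hX8]; exact (h1 8 (by simp) b h).eq
      · rw [hY8]; exact (h1 (G2Data.tab.neg 8) (by simp) b h).eq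
    exact ((Subgroup.mem_centralizer_singleton_iff.1
      (Subgroup.mem_comap.1 (hle (SL2Pres.closure_up_low (K := F) ▸ Subgroup.mem_top g)))) :)
  let θ : SpecialLinearGroup (Fin 2) F →* SpecialLinearGroup (Fin 2) F :=
    SpecialLinearGroup.map (psi (F := F) m)
  have hθu : ∀ u, θ (up u) = up (u ^ 3 ^ m) := fun u => Subtype.ext (by
    ext i j; fin_cases i <;> fin_cases j <;> simp [θ, SL2Pres.up_val, psi_apply])
  have hθl : ∀ u, θ (low u) = low (u ^ 3 ^ m) := fun u => Subtype.ext (by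
    ext i j; fin_cases i <;> fin_cases j <;> simp [θ, SL2Pres.low_val, psi_apply])
  let ψ : SpecialLinearGroup (Fin 2) F →* GL G2Data.tab.D.Idx F :=
    (MonoidHom.noncommCoprod (f8.comp θ) f10 fun g h => hcomm (θ g) h).comp
      ((MonoidHom.id _).prod (MonoidHom.id _))
  have hψ : ∀ g, ψ g = f8 (θ g) * f10 g := fun g => rfl
  have h0 : (0 : F) ^ 3 ^ m = 0 := zero_pow (by positivity)
  have hu : ∀ u : F, uF m 0 u 0 = xg g0 8 (u ^ 3 ^ m) * xg g0 10 u := fun u => by
    simp [uF, uP, h0]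
  refine ⟨ψ, fun u => ?_, fun u => ?_, fun α => ?_, ?_⟩
  · rw [hψ, hθu, hX8, hX10, hu]; rfl
  · rw [hψ, hθl, hY8, hY10, hu, neg_pow, Odd.neg_one_pow (Odd.pow (by decide)), neg_one_mul]
    rw [show ∀ x y : GL G2Data.tab.D.Idx F, nWd g0 F (wd 0) * (x * y) * (nWd g0 F (wd 0))⁻¹ =
      (nWd g0 F (wd 0) * x * (nWd g0 F (wd 0))⁻¹) * (nWd g0 F (wd 0) * y * (nWd g0 F (wd 0))⁻¹) from
      fun x y => by group, nWd_neg (by simp), nWd_neg (by simp), _root_.neg_neg, _root_.neg_neg]
    rfl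
  · have hD : ∀ β : Fˣ, diagS F β = (up (β : F) * low (-(β : F)⁻¹) * up (β : F)) *
        (up (-1) * low (-(-1)⁻¹) * up (-1)) := fun β => Subtype.ext (by
      simp [SL2Pres.up_val, SL2Pres.low_val, SL2Pres.diagS_val])
    have hh : ∀ (r : ℕ) (f : SpecialLinearGroup (Fin 2) F →* GL G2Data.tab.D.Idx F) (β : Fˣ),
        (∀ b, f (up b) = xg g0 r b) → (∀ b, f (low b) = xg g0 (G2Data.tab.neg r) b) →
        f (diagS F β) = hE g0 r (β : F) := fun r f β h1 h2 => by
      rw [hD]; simp only [map_mul, h1, h2, hE, nE]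
    rw [hψ, hh 10 f10 α (fun b => hX10 b) (fun b => hY10 b),
      show θ (diagS F α) = diagS F (Units.map ((psi (F := F) m : F →+* F) : F →* F) α) from Subtype.ext (by
        ext i j; fin_cases i <;> fin_cases j <;> simp [θ, SL2Pres.diagS_val, map_inv₀]),
      hh 8 f8 _ (fun b => hX8 b) (fun b => hY8 b)]
    exact mul_mem (hE_mem_diagonal g0 h8 (Units.ne_zero _)) (hE_mem_diagonal g0 h10 (Units.ne_zero _))
  · have hw : diagS F (-1) = (up 1 * low (-1) * up 1) * (up 1 * low (-1) * up 1) := Subtype.ext (by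
      simp [SL2Pres.up_val, SL2Pres.low_val, SL2Pres.diagS_val, inv_neg])
    have key : ψ (up 1 * low (-1) * up 1) = cWordVal g0 F
        [(8, 1), (G2Data.tab.neg 8, -1), (8, 1), (10, 1), (G2Data.tab.neg 10, -1), (10, 1)] := by
      rw [hψ, map_mul θ, map_mul θ, hθu, hθl, map_mul, map_mul, map_mul, map_mul, hX8, hY8, hX10, hY10,
        one_pow, Odd.neg_one_pow (Odd.pow (by decide))]
      simp [cWordVal, rootData, mul_assoc]
    rw [hw, map_mul, key, ← cWordVal_append, word_eq_modP g0 3 neg_one_word]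
    simp [cWordVal]

/-- the involution of the torus -/
noncomputable def inv0' (F : Type*) [Field F] (m : ℕ) : GL G2Data.tab.D.Idx F :=
  tor G2Data.tab F (par m (-1))

theorem neg_one_ne : (-1 : F) ≠ 1 := fun h => by
  have : (2 : F) = 0 := by linear_combination -h
  exact one_ne_zero (α := F) (by linear_combination three_zero (F := F) - this)

include hK in
theorem eq_inv0' {z : GL G2Data.tab.D.Idx F}
    (hz : z ∈ G2Data.tab.D.diagonalSubgroup F ⊓ tw F (3 ^ m)) (h1 : z ≠ 1) (h2 : z * z = 1) :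
    z = inv0' F m := by
  obtain ⟨s, hs⟩ := (torEquiv hK).surjective ⟨z, hz⟩
  have hss : s * s = 1 := (torEquiv hK).injective (by
    rw [map_mul, map_one, hs]; exact Subtype.ext h2)
  rcases mul_self_eq_one_iff.1 (by simpa using congrArg Units.val hss : (s : F) * s = 1) with h | h
  · exact absurd (congrArg Subtype.val (hs.symm.trans ((congrArg _ (Units.ext h : s = 1)).trans (map_one _)))) h1
  · rw [show z = tor G2Data.tab F (par m s) from (congrArg Subtype.val hs).symm,
      show s = -1 from Units.ext h]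
    rfl

theorem wt_neg_one : wt G2Data.tab F (par m (-1)) 6 = -1 ∧ wt G2Data.tab F (par m (-1)) 8 = 1 ∧
    wt G2Data.tab F (par m (-1)) 9 = -1 ∧ wt G2Data.tab F (par m (-1)) 10 = 1 := by
  obtain ⟨j, hj⟩ : Odd (3 ^ m) := Odd.pow (by decide)
  have hv := wt_vals
  simp only [List.range_succ, List.range_zero, List.nil_append, List.cons_append, List.map_cons,
    List.map_nil, List.cons.injEq, and_true] at hv
  obtain ⟨⟨a6, b6⟩, ⟨a8, b8⟩, ⟨a9, b9⟩, a10, b10⟩ := hv
  refine ⟨?_, ?_, ?_, ?_⟩ <;> rw [wt_par]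
  · rw [a6, b6]; exact Odd.neg_one_zpow ⟨-3 * (j : ℤ) - 1, by omega⟩
  · rw [a8, b8]; exact Even.neg_one_zpow ⟨-(j : ℤ), by omega⟩
  · rw [a9, b9]; exact Odd.neg_one_zpow ⟨(j : ℤ), by omega⟩
  · rw [a10, b10]; exact Even.neg_one_zpow ⟨3 * (j : ℤ) + 1, by omega⟩

theorem inv0'_conj_X (u : F) : inv0' F m * uF m 0 u 0 * (inv0' F m)⁻¹ = uF m 0 u 0 := by
  obtain ⟨-, e8, -, e10⟩ := wt_neg_one (F := F) (m := m)
  have h0 : (0 : F) ^ 3 ^ m = 0 := zero_pow (by positivity)
  rw [inv0', tor_uF, uF, e8, e10]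
  simp [h0]

include hK in
theorem cent_U1 {z : GL G2Data.tab.D.Idx F}
    (hz : z ∈ G2Data.tab.D.posUnipotent F ⊓ tw F (3 ^ m))
    (h : inv0' F m * z * (inv0' F m)⁻¹ = z) : ∃ u, z = uF m 0 u 0 := by
  obtain ⟨t, u, v, rfl⟩ := (mem_U1_iff hK).1 hz
  obtain ⟨e6, -, e9, -⟩ := wt_neg_one (F := F) (m := m)
  rw [inv0', tor_uF, uF, e6, e9] at h
  obtain ⟨h6, -, -, h9, -, -⟩ := uP_inj h
  simp only [Units.val_neg, Units.val_one, neg_one_mul] at h6 h9
  have hz2 : ∀ a : F, -a = a → a = 0 := fun a e => by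
    linear_combination a * three_zero (F := F) + e
  obtain rfl : t = 0 := hz2 _ h6
  obtain rfl : v = 0 := (pow_eq_zero_iff (by positivity)).1 (hz2 _ h9)
  exact ⟨u, rfl⟩

include hK in
theorem inv0'_mem : inv0' F m ∈ G2Data.tab.D.diagonalSubgroup F ⊓ tw F (3 ^ m) :=
  (torEquiv hK (-1)).2

include hK in
theorem inv0'_ne_one : inv0' F m ≠ 1 := fun h => by
  have := (torEquiv hK).injective (a₁ := -1) (a₂ := 1) (by
    rw [map_one]; exact Subtype.ext h)
  exact neg_one_ne (F := F) (by simpa using congrArg Units.val this)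

include hK in
theorem inv0'_sq : inv0' F m * inv0' F m = 1 := by
  have := congrArg Subtype.val (map_mul (torEquiv hK) (-1 : Fˣ) (-1))
  rw [neg_mul_neg, one_mul, map_one] at this
  exact this.symm

include hK in
theorem nWd_inv0' : nWd g0 F (wd 0) * inv0' F m * (nWd g0 F (wd 0))⁻¹ = inv0' F m := by
  refine eq_inv0' hK (Subgroup.mem_inf.2 ⟨?_, ?_⟩) ?_ ?_
  · obtain ⟨d, hd⟩ := wSub_conj_torus g0 (nWd_mem_wSub (F := F) g0 (wd_wd 0)) (par m (-1))
    rw [inv0', hd, diagonalSubgroup_eq g0]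
    exact ⟨d, rfl⟩
  · have h : nWd g0 F (wd 0) ∈ tw F (3 ^ m) := (X hK).n_mem 0 Nat.one_pos
    exact mul_mem (mul_mem h (inv0'_mem hK).2) (inv_mem h)
  · intro h
    exact inv0'_ne_one hK (conj_eq_one_iff.1 h)
  · rw [show ∀ n a : GL G2Data.tab.D.Idx F, n * a * n⁻¹ * (n * a * n⁻¹) = n * (a * a) * n⁻¹ from
      fun n a => by group, inv0'_sq hK, mul_one, mul_inv_cancel]

/-- the centraliser of the involution -/
noncomputable abbrev cen (F : Type*) [Field F] (m : ℕ) : Subgroup (GL G2Data.tab.D.Idx F) :=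
  tw F (3 ^ m) ⊓ Subgroup.centralizer {inv0' F m}

theorem mem_cen {x : GL G2Data.tab.D.Idx F} :
    x ∈ cen F m ↔ x ∈ tw F (3 ^ m) ∧ inv0' F m * x * (inv0' F m)⁻¹ = x := by
  rw [Subgroup.mem_inf, Subgroup.mem_centralizer_singleton_iff, mul_inv_eq_iff_eq_mul, eq_comm]

include hK in
theorem card_cen_le : Nat.card ↥(cen F m) ≤
    Fintype.card F * (Fintype.card F - 1) * (Fintype.card F + 1) := by
  classical
  let U : F → GL G2Data.tab.D.Idx F := fun u => uF m 0 u 0
  let H : Fˣ → GL G2Data.tab.D.Idx F := fun s => tor G2Data.tab F (par m s)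
  let f : (F × Fˣ) ⊕ (F × F × Fˣ) → GL G2Data.tab.D.Idx F :=
    Sum.elim (fun p => U p.1 * H p.2) fun p => U p.1 * mRep F * (U p.2.1 * H p.2.2)
  have hsub : (cen F m : Set (GL G2Data.tab.D.Idx F)) ⊆ Set.range f := by
    intro x hx
    obtain ⟨hxT, hxa⟩ := mem_cen.1 hx
    set a := inv0' F m with ha
    have haH : ∀ h ∈ G2Data.tab.D.diagonalSubgroup F ⊓ tw F (3 ^ m), a * h * a⁻¹ = h ∧ ∃ s, h = H s := by
      intro h hh
      obtain ⟨s, hs⟩ := (torEquiv hK).surjective ⟨h, hh⟩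
      have e : h = H s := (congrArg Subtype.val hs).symm
      refine ⟨?_, s, e⟩
      rw [e, mul_inv_eq_iff_eq_mul, ha, inv0', ← map_mul, ← map_mul, mul_comm (par m (-1))]
    have haB : a ∈ G2Data.tab.D.borelSubgroup F := Subgroup.mem_sup_right (inv0'_mem hK).1
    have haN : ∀ u ∈ G2Data.tab.D.posUnipotent F ⊓ tw F (3 ^ m),
        a * u * a⁻¹ ∈ G2Data.tab.D.posUnipotent F ⊓ tw F (3 ^ m) := by
      intro u hu
      have hT : inv0' F m ∈ tw F (3 ^ m) := (inv0'_mem hK).2
      refine Subgroup.mem_inf.2 ⟨?_, mul_mem (mul_mem hT hu.2) (inv_mem hT)⟩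
      rw [posUnipotent_eq g0]
      refine (Subgroup.mem_normalizer_iff.1 (borel_normalizes g0 haB) u).1 ?_
      rw [← posUnipotent_eq g0]; exact hu.1
    have hb : ∀ y ∈ G2Data.tab.D.borelSubgroup F, y ∈ tw F (3 ^ m) → a * y * a⁻¹ = y →
        ∃ u s, y = U u * H s := by
      intro y hy hy1 hya
      obtain ⟨u, hu, h, hh, rfl⟩ := borel_split hK hy hy1
      obtain ⟨hc, s, rfl⟩ := haH h hh
      have e : a * u * a⁻¹ = u := by
        have : a * u * a⁻¹ * (a * H s * a⁻¹) = u * H s := by rw [← hya]; group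
        rw [hc] at this
        exact mul_right_cancel this
      obtain ⟨u', rfl⟩ := cent_U1 hK hu e
      exact ⟨u', s, rfl⟩
    rcases bruhat_cases hK hxT with h | ⟨u, hu, b, hb', e⟩
    · obtain ⟨u', s, rfl⟩ := hb x h hxT hxa
      exact ⟨Sum.inl (u', s), rfl⟩
    · have hma : a * mRep F = mRep F * a := by
        have := nWd_inv0' hK
        rw [mul_inv_eq_iff_eq_mul, ← ha] at this
        rw [mRep, eq_inv_mul_iff_mul_eq, ← mul_assoc, this, mul_inv_cancel_right]
      have h1 : u⁻¹ * (a * u * a⁻¹) = 1 := by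
        refine U1_conj_eq_one hK (mul_mem (inv_mem hu) (haN u hu)) ?_
        have e2 : (mRep F)⁻¹ * (u⁻¹ * (a * u * a⁻¹)) * mRep F = b * a * b⁻¹ * a⁻¹ := by
          have hm2 : a⁻¹ * mRep F = mRep F * a⁻¹ := by
            rw [eq_mul_inv_iff_mul_eq, mul_assoc, ← hma, inv_mul_cancel_left]
          rw [show (mRep F)⁻¹ * (u⁻¹ * (a * u * a⁻¹)) * mRep F =
            (u * mRep F)⁻¹ * (a * u * (a⁻¹ * mRep F)) by group]
          have hx2 : a * (u * mRep F * b) * a⁻¹ = u * mRep F * b := by rw [← e]; exact hxa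
          rw [inv_mul_eq_iff_eq_mul]
          calc a * u * (a⁻¹ * mRep F) = a * (u * mRep F * b) * a⁻¹ * (a * b⁻¹ * a⁻¹) := by
                rw [hm2]; group
            _ = u * mRep F * b * (a * b⁻¹ * a⁻¹) := by rw [hx2]
            _ = _ := by group
        rw [e2]
        exact mul_mem (mul_mem (mul_mem hb'.1 haB) (inv_mem hb'.1)) (inv_mem haB)
      have hau : a * u * a⁻¹ = u := (inv_mul_eq_one.1 h1).symm
      obtain ⟨u', rfl⟩ := cent_U1 hK hu hau
      have hab : a * b * a⁻¹ = b := by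
        refine mul_left_cancel (a := uF m 0 u' 0 * mRep F) ?_
        calc uF m 0 u' 0 * mRep F * (a * b * a⁻¹)
            = (a * uF m 0 u' 0 * a⁻¹) * (mRep F * a) * b * a⁻¹ := by rw [hau]; group
          _ = a * (uF m 0 u' 0 * mRep F * b) * a⁻¹ := by rw [← hma]; group
          _ = _ := by rw [← e, hxa, e]
      obtain ⟨u'', s, rfl⟩ := hb b hb'.1 hb'.2 hab
      exact ⟨Sum.inr (u', u'', s), e.symm⟩
  calc Nat.card ↥(cen F m) ≤ (Set.range f).ncard :=
        (Nat.card_coe_set_eq (cen F m : Set (GL G2Data.tab.D.Idx F))).trans_le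
          (Set.ncard_le_ncard hsub (Set.finite_range f))
    _ ≤ Nat.card ((F × Fˣ) ⊕ (F × F × Fˣ)) := by
        rw [← Nat.card_coe_set_eq]; exact Finite.card_range_le f
    _ = _ := by
        rw [Nat.card_sum, Nat.card_prod, Nat.card_prod, Nat.card_prod, Nat.card_units,
          Nat.card_eq_fintype_card]
        ring

theorem factor_ne {a b c d : F} (hc : c ≠ 0) (h : a * d - b * c = 1) :
    !![1, (a - 1) / c; 0, 1] * (!![1, 0; c, 1] * !![1, (d - 1) / c; 0, 1]) = !![a, b; c, d] := by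
  ext i j
  fin_cases i <;> fin_cases j <;> simp <;> field_simp <;> (try ring) <;> linear_combination h

include hK in
theorem card_mod : Fintype.card F % 8 = 3 := by
  rw [hK, pow_succ, pow_mul, Nat.mul_mod, Nat.pow_mod]
  norm_num

include hK in
theorem exists_iso : ∃ Φ : Multiplicative (ZMod 2) × Matrix.ProjectiveSpecialLinearGroup (Fin 2) F →*
      ↥(cen F m), Function.Bijective Φ ∧
        ((Φ (Multiplicative.ofAdd (1 : ZMod 2), 1) : ↥(cen F m)) : GL G2Data.tab.D.Idx F) = inv0' F m := by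
  classical
  obtain ⟨ψ, hX, hY, hdd, hneg⟩ := exists_psi hK
  have hnT : nWd g0 F (wd 0) ∈ tw F (3 ^ m) := (X hK).n_mem 0 Nat.one_pos
  have hU : ∀ u : F, uF m 0 u 0 ∈ G2Data.tab.D.posUnipotent F ⊓ tw F (3 ^ m) :=
    fun u => (mem_U1_iff hK).2 ⟨_, _, _, rfl⟩
  have hmem : ∀ g, ψ g ∈ cen F m := by
    intro g
    have hle : Subgroup.closure (Set.range (up (K := F)) ∪ Set.range (low (K := F))) ≤
        (cen F m).comap ψ := by
      rw [Subgroup.closure_le]
      rintro z (⟨b, rfl⟩ | ⟨b, rfl⟩) <;> rw [SetLike.mem_coe, Subgroup.mem_comap, mem_cen]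
      · rw [hX]; exact ⟨(hU b).2, inv0'_conj_X b⟩
      · rw [hY]
        refine ⟨mul_mem (mul_mem hnT (hU _).2) (inv_mem hnT), ?_⟩
        conv_lhs => rw [← nWd_inv0' hK (m := m)]
        conv_rhs => rw [← inv0'_conj_X (m := m) (-b)]
        group
    exact hle (SL2Pres.closure_up_low (K := F) ▸ Subgroup.mem_top g)
  have hdiag : ∀ α : Fˣ, ψ (diagS F α) = 1 ∨ ψ (diagS F α) = inv0' F m →
      diagS F α = 1 ∨ diagS F α = diagS F (-1) := by
    intro α h
    obtain ⟨s, hs, hs'⟩ : ∃ s : Fˣ, ψ (diagS F α) = tor G2Data.tab F (par m s) ∧ (s = 1 ∨ s = -1) := by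
      rcases h with h | h
      · exact ⟨1, h.trans (congrArg Subtype.val (map_one (torEquiv hK))).symm, Or.inl rfl⟩
      · exact ⟨-1, h, Or.inr rfl⟩
    have e10 : wt G2Data.tab F (par m s) 10 = 1 := by
      rcases hs' with rfl | rfl
      · rw [wt_par, one_zpow]
      · exact (wt_neg_one (F := F) (m := m)).2.2.2
    have hc : ψ (diagS F α * up 1 * (diagS F α)⁻¹) = ψ (up ((α : F) ^ 2 * 1)) := by
      rw [SL2Pres.diagS_conj_up]
    rw [map_mul, map_mul, map_inv, hs, hX, hX, tor_uF, uF] at hc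
    obtain ⟨-, -, -, -, he, -⟩ := uP_inj hc
    rw [e10] at he
    simp at he
    rcases sq_eq_one_iff.1 (he.symm : (α : F) ^ 2 = 1) with h | h
    · exact Or.inl (by rw [show α = 1 from Units.ext h, map_one])
    · exact Or.inr (by rw [show α = -1 from Units.ext h])
  have hker : ∀ g, ψ g = 1 ∨ ψ g = inv0' F m →
      g ∈ Subgroup.center (SpecialLinearGroup (Fin 2) F) ∧ ψ g = 1 := by
    intro g hg
    have hgB : ψ g ∈ G2Data.tab.D.borelSubgroup F := by
      rcases hg with h | h <;> rw [h]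
      · exact one_mem _
      · exact Subgroup.mem_sup_right (inv0'_mem hK).1
    have hc : (g : Matrix (Fin 2) (Fin 2) F) 1 0 = 0 := by
      by_contra hc
      set a := (g : Matrix (Fin 2) (Fin 2) F) 0 0
      set d := (g : Matrix (Fin 2) (Fin 2) F) 1 1
      set c := (g : Matrix (Fin 2) (Fin 2) F) 1 0 with hc'
      have hdet : a * d - (g : Matrix (Fin 2) (Fin 2) F) 0 1 * c = 1 := by
        have := g.2; rw [Matrix.det_fin_two] at this; exact this
      have e : low c = (up ((a - 1) / c))⁻¹ * g * (up ((d - 1) / c))⁻¹ := by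
        rw [eq_mul_inv_iff_mul_eq, eq_inv_mul_iff_mul_eq]
        refine Subtype.ext (Eq.trans ?_ (Matrix.eta_fin_two _).symm)
        exact factor_ne hc hdet
      have hB : ψ (low c) ∈ G2Data.tab.D.borelSubgroup F := by
        rw [e, map_mul, map_mul, map_inv, map_inv, hX, hX]
        exact mul_mem (mul_mem (inv_mem (Subgroup.mem_sup_left (hU _).1)) hgB)
          (inv_mem (Subgroup.mem_sup_left (hU _).1))
      rw [hY] at hB
      have := U1_conj_eq_one hK (hU (-c)) (by rw [mRep, inv_inv]; exact hB)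
      exact hc (neg_eq_zero.1 (uF_inj (this.trans (uF_zero (m := m)).symm)).2.1)
    set α : Fˣ := Units.mk0 ((g : Matrix (Fin 2) (Fin 2) F) 0 0) (fun h => by
      have := g.2; rw [Matrix.det_fin_two, h, hc] at this; simp at this) with hα
    have hd : (g : Matrix (Fin 2) (Fin 2) F) 1 1 = (α : F)⁻¹ := by
      have := g.2
      rw [Matrix.det_fin_two, hc, mul_zero, sub_zero] at this
      exact eq_inv_of_mul_eq_one_right this
    set β := (g : Matrix (Fin 2) (Fin 2) F) 0 1 / (α : F) with hβ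
    have e : g = diagS F α * up β := Subtype.ext (by
      ext i j
      fin_cases i <;> fin_cases j <;>
        simp [SL2Pres.up_val, SL2Pres.diagS_val, Matrix.mul_apply, Fin.sum_univ_two, hc, hd, hβ]
      · rfl
      · field_simp)
    have h1 : ψ (up β) = 1 := by
      have h2 : ψ (up β) ∈ G2Data.tab.D.diagonalSubgroup F := by
        have : ψ (up β) = (ψ (diagS F α))⁻¹ * ψ g := by rw [e, map_mul]; group
        rw [this]
        refine mul_mem (inv_mem (hdd α)) ?_
        rcases hg with h | h <;> rw [h]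
        · exact one_mem _
        · exact (inv0'_mem hK).1
      refine pos_inf_torus g0 ?_ h2
      rw [← posUnipotent_eq g0, hX]
      exact (hU β).1
    have hβ0 : β = 0 := (uF_inj ((hX β).symm.trans (h1.trans (uF_zero (m := m)).symm))).2.1
    rw [hβ0, SL2Pres.up_zero, mul_one] at e
    rw [e] at hg ⊢
    rcases hdiag α hg with h | h <;> rw [h]
    · exact ⟨one_mem _, map_one ψ⟩
    · exact ⟨SL2Pres.wS_sq (K := F) ▸ SL2Pres.wS_sq_central, hneg⟩
  have hle : Subgroup.center (SpecialLinearGroup (Fin 2) F) ≤ (ψ.codRestrict (cen F m) hmem).ker := by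
    intro g hg
    refine MonoidHom.mem_ker.2 (Subtype.ext ?_)
    rcases SL2Pres.center_cases hg with rfl | rfl
    · exact map_one ψ
    · rw [SL2Pres.wS_sq]; exact hneg
  let χ : Matrix.ProjectiveSpecialLinearGroup (Fin 2) F →* ↥(cen F m) :=
    QuotientGroup.lift _ (ψ.codRestrict (cen F m) hmem) hle
  have haC : inv0' F m ∈ cen F m := ⟨(inv0'_mem hK).2, Subgroup.mem_centralizer_singleton_iff.2 rfl⟩
  have hcases : ∀ x : Multiplicative (ZMod 2), x = 1 ∨ x = Multiplicative.ofAdd 1 := by decide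
  let ζ : Multiplicative (ZMod 2) →* ↥(cen F m) :=
    MonoidHom.mk' (fun x => if x = 1 then 1 else ⟨_, haC⟩) fun x y => by
      have hsq : (⟨_, haC⟩ : ↥(cen F m)) * ⟨_, haC⟩ = 1 := Subtype.ext (inv0'_sq hK)
      have h11 : (Multiplicative.ofAdd 1 : Multiplicative (ZMod 2)) * Multiplicative.ofAdd 1 = 1 := by decide
      have hne : (Multiplicative.ofAdd 1 : Multiplicative (ZMod 2)) ≠ 1 := by decide
      rcases hcases x with rfl | rfl <;> rcases hcases y with rfl | rfl <;> simp [h11, hne, hsq]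
  let Φ := MonoidHom.noncommCoprod ζ χ fun x p => by
    rcases hcases x with rfl | rfl
    · rw [map_one]; exact Commute.one_left _
    · refine Subtype.ext ?_
      have h := Subgroup.mem_centralizer_singleton_iff.1 (χ p).2.2
      show inv0' F m * _ = _ * inv0' F m
      exact h.symm
  have hinj : Function.Injective Φ := by
    rw [injective_iff_map_eq_one]
    rintro ⟨x, p⟩ h
    induction p using QuotientGroup.induction_on with | H g => ?_
    have h' : ((ζ x : ↥(cen F m)) : GL G2Data.tab.D.Idx F) * ψ g = 1 := congrArg Subtype.val h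
    have hz : ψ g = 1 ∨ ψ g = inv0' F m := by
      rcases hcases x with rfl | rfl
      · left; simpa using h'
      · right
        have h'' : inv0' F m * ψ g = 1 := h'
        rw [← mul_right_inj (inv0' F m), h'', inv0'_sq hK]
    obtain ⟨hc, hψ1⟩ := hker g hz
    refine Prod.ext ?_ ((QuotientGroup.eq_one_iff g).2 hc)
    rcases hcases x with rfl | rfl
    · rfl
    · rw [hψ1, mul_one] at h'
      exact absurd h' (inv0'_ne_one hK)
  refine ⟨Φ, (Nat.bijective_iff_injective_and_card _).2 ⟨hinj, ?_⟩, ?_⟩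
  rotate_left
  · show ((ζ (Multiplicative.ofAdd (1 : ZMod 2)) * χ 1 : ↥(cen F m)) : GL G2Data.tab.D.Idx F) = _
    rw [map_one χ, mul_one]
    simp [ζ]
  refine le_antisymm (Nat.card_le_card_of_injective _ hinj) ((card_cen_le hK).trans ?_)
  have hcen : Nat.card ↥(Subgroup.center (SpecialLinearGroup (Fin 2) F)) ≤ 2 := by
    have hsub : (Subgroup.center (SpecialLinearGroup (Fin 2) F) : Set (SpecialLinearGroup (Fin 2) F)) ⊆
        {1, SL2Pres.wS F * SL2Pres.wS F} := fun g hg => SL2Pres.center_cases hg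
    refine (Nat.card_coe_set_eq _).trans_le ((Set.ncard_le_ncard hsub (Set.toFinite _)).trans ?_)
    exact (Set.ncard_insert_le _ _).trans (by rw [Set.ncard_singleton])
  have hsl := TwoByTwo.card_sl_two (F := F)
  rw [Nat.card_eq_fintype_card (α := F)] at hsl
  have hq : (Fintype.card F) ^ 2 - 1 = (Fintype.card F + 1) * (Fintype.card F - 1) := by
    simpa using Nat.sq_sub_sq (Fintype.card F) 1
  rw [Nat.card_prod, show Nat.card (Multiplicative (ZMod 2)) = 2 by simp,
    mul_assoc, mul_comm (Fintype.card F - 1), ← hq, ← hsl,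
    ← Subgroup.card_mul_index (Subgroup.center (SpecialLinearGroup (Fin 2) F)), Subgroup.index]
  exact Nat.mul_le_mul_right _ hcen

/-- the homomorphism of a square root of one -/
def twoHom {G : Type*} [Group G] (g : G) (hg : g * g = 1) : Multiplicative (ZMod 2) →* G :=
  MonoidHom.mk' (fun x => if x = 1 then 1 else g) fun x y => by
    have hcases : ∀ x : Multiplicative (ZMod 2), x = 1 ∨ x = Multiplicative.ofAdd 1 := by decide
    have h11 : (Multiplicative.ofAdd 1 : Multiplicative (ZMod 2)) * Multiplicative.ofAdd 1 = 1 := by decide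
    have hne : (Multiplicative.ofAdd 1 : Multiplicative (ZMod 2)) ≠ 1 := by decide
    rcases hcases x with rfl | rfl <;> rcases hcases y with rfl | rfl <;> simp [h11, hne, hg]

omit [CharP F 3] [Fintype F] in
theorem z2_cases (x : Multiplicative (ZMod 2)) : x = 1 ∨ x = Multiplicative.ofAdd 1 := by
  revert x; decide

omit [CharP F 3] [Fintype F] in
theorem z2_sq (y : Multiplicative (ZMod 2) × (Multiplicative (ZMod 2) × Multiplicative (ZMod 2))) :
    y * y = 1 := by
  revert y; decide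

include hK in
theorem exists_klein : ∃ ι : Multiplicative (ZMod 2) × Multiplicative (ZMod 2) →*
    Matrix.ProjectiveSpecialLinearGroup (Fin 2) F, Function.Injective ι := by
  obtain ⟨a, b, hab⟩ := CharP.sq_add_sq F 3 (-1)
  push_cast at hab
  obtain ⟨A, hAv⟩ : ∃ A : SpecialLinearGroup (Fin 2) F,
      (A : Matrix (Fin 2) (Fin 2) F) = !![(a : F), (b : F); (b : F), -(a : F)] :=
    ⟨⟨!![(a : F), (b : F); (b : F), -(a : F)], by
      rw [Matrix.det_fin_two_of]; linear_combination -hab⟩, rfl⟩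
  have hsc : ∀ g : SpecialLinearGroup (Fin 2) F, g ∈ Subgroup.center (SpecialLinearGroup (Fin 2) F) →
      (g : Matrix (Fin 2) (Fin 2) F) 0 1 = 0 ∧
      (g : Matrix (Fin 2) (Fin 2) F) 0 0 = (g : Matrix (Fin 2) (Fin 2) F) 1 1 := by
    intro g hg
    rcases SL2Pres.center_cases hg with rfl | rfl
    · simp
    · rw [SL2Pres.wS_sq]; simp [SL2Pres.diagS_val]
  have hWW := SL2Pres.wS_sq_central (K := F)
  have hAA : A * A = SL2Pres.wS F * SL2Pres.wS F := by
    rw [SL2Pres.wS_sq]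
    refine Subtype.ext ?_
    simp [hAv, SL2Pres.diagS_val, inv_neg]
    exact ⟨⟨by linear_combination hab, by ring⟩, by ring, by linear_combination hab⟩
  have hWA : SL2Pres.wS F * A = A * SL2Pres.wS F * (SL2Pres.wS F * SL2Pres.wS F) := by
    rw [SL2Pres.wS_sq]
    refine Subtype.ext ?_
    simp [hAv, SL2Pres.diagS_val, SL2Pres.wS_val, inv_neg]
  have hnz : ∀ x : F, x = -x → x = 0 := fun x e => by
    linear_combination x * three_zero (F := F) - e
  have hab0 : ¬ ((a : F) = 0 ∧ (b : F) = 0) := fun h => by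
    rw [h.1, h.2] at hab; simp at hab
  set π := SL2Pres.toPSL F
  have hw : π (SL2Pres.wS F) * π (SL2Pres.wS F) = 1 := by
    rw [← map_mul]; exact SL2Pres.toPSL_eq_one.2 hWW
  have hA : π A * π A = 1 := by rw [← map_mul, hAA, map_mul, hw]
  have hcm : π (SL2Pres.wS F) * π A = π A * π (SL2Pres.wS F) := by
    rw [← map_mul, hWA, map_mul, map_mul, map_mul, hw, mul_one]
  refine ⟨MonoidHom.noncommCoprod (twoHom _ hw) (twoHom _ hA) fun x y => ?_, ?_⟩
  · rcases z2_cases x with rfl | rfl <;> rcases z2_cases y with rfl | rfl <;>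
      simp [twoHom, Commute, SemiconjBy, hcm]
  · rw [injective_iff_map_eq_one]
    rintro ⟨x, y⟩ h
    rcases z2_cases x with rfl | rfl <;> rcases z2_cases y with rfl | rfl
    · rfl
    · simp [twoHom] at h
      obtain ⟨h1, h2⟩ := hsc _ (SL2Pres.toPSL_eq_one.1 h)
      simp [hAv] at h1 h2
      exact absurd ⟨hnz _ h2, h1⟩ hab0
    · simp [twoHom] at h
      have := (hsc _ (SL2Pres.toPSL_eq_one.1 h)).1
      simp [SL2Pres.wS_val] at this
    · simp [twoHom, ← map_mul] at h
      obtain ⟨h1, h2⟩ := hsc _ (SL2Pres.toPSL_eq_one.1 (by rw [map_mul]; exact h))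
      simp [hAv, SL2Pres.wS_val] at h1 h2
      exact absurd ⟨h1, hnz _ h2⟩ hab0

include hK in
theorem card_two_part : (Nat.card ↥(tw F (3 ^ m))).factorization 2 = 3 := by
  rw [card_twisted hK]
  have h8 := card_mod hK
  obtain ⟨k, hk⟩ : ∃ k, 3 ^ (2 * m + 1) = 8 * k + 3 := ⟨Fintype.card F / 8, by rw [← hK]; omega⟩
  rw [hk, show (8 * k + 3) ^ 3 * (8 * k + 3 - 1) * ((8 * k + 3) ^ 3 + 1) =
    2 ^ 3 * ((8 * k + 3) ^ 3 * (4 * k + 1) * (128 * k ^ 3 + 144 * k ^ 2 + 54 * k + 7)) by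
      rw [show 8 * k + 3 - 1 = 2 * (4 * k + 1) by omega]; ring]
  have hodd : ¬ 2 ∣ (8 * k + 3) ^ 3 * (4 * k + 1) * (128 * k ^ 3 + 144 * k ^ 2 + 54 * k + 7) := by
    rw [← even_iff_two_dvd, Nat.not_even_iff_odd]
    exact ((Odd.pow (show Odd (8 * k + 3) from ⟨4 * k + 1, by ring⟩)).mul ⟨2 * k, by ring⟩).mul
      ⟨64 * k ^ 3 + 72 * k ^ 2 + 27 * k + 3, by ring⟩
  rw [Nat.factorization_mul (by norm_num) (fun h => hodd (by rw [h]; exact dvd_zero 2)),
    Finsupp.add_apply, Nat.Prime.factorization_pow Nat.prime_two, Finsupp.single_eq_same,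
    Nat.factorization_eq_zero_of_not_dvd hodd, add_zero]

include hK in
theorem centraliser_main (a : ↥(tw F (3 ^ m)))
    (haH : (a : GL G2Data.tab.D.Idx F) ∈ G2Data.tab.D.diagonalSubgroup F) (ha1 : a ≠ 1) (ha2 : a * a = 1) :
    Nonempty (↥(Subgroup.centralizer {a}) ≃*
      Multiplicative (ZMod 2) × Matrix.ProjectiveSpecialLinearGroup (Fin 2) F) ∧
    ∀ S : Sylow 2 ↥(tw F (3 ^ m)), Nat.card S = 8 ∧ ∀ x ∈ S, x * x = 1 := by
  classical
  have ha : (a : GL G2Data.tab.D.Idx F) = inv0' F m :=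
    eq_inv0' hK ⟨haH, a.2⟩ (fun h => ha1 (Subtype.ext h)) (congrArg Subtype.val ha2)
  have hC : (Subgroup.centralizer {a}).map (tw F (3 ^ m)).subtype = cen F m := by
    ext x
    simp only [Subgroup.mem_map, Subgroup.mem_inf, Subgroup.mem_centralizer_singleton_iff,
      Subgroup.coe_subtype]
    constructor
    · rintro ⟨y, hy, rfl⟩
      exact ⟨y.2, by rw [← ha]; exact congrArg Subtype.val hy⟩
    · rintro ⟨hx, hc⟩
      exact ⟨⟨x, hx⟩, Subtype.ext (by rw [← ha] at hc; exact hc), rfl⟩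
  obtain ⟨Φ, hΦ, -⟩ := exists_iso hK
  let e : ↥(Subgroup.centralizer {a}) ≃* ↥(cen F m) :=
    ((Subgroup.centralizer {a}).equivMapOfInjective _ (Subgroup.subtype_injective _)).trans
      (MulEquiv.subgroupCongr hC)
  refine ⟨⟨e.trans (MulEquiv.ofBijective Φ hΦ).symm⟩, ?_⟩
  have : Fact (Nat.Prime 2) := ⟨Nat.prime_two⟩
  obtain ⟨ι, hι⟩ := exists_klein hK
  let ε : Multiplicative (ZMod 2) × (Multiplicative (ZMod 2) × Multiplicative (ZMod 2)) →* ↥(tw F (3 ^ m)) :=
    (Subgroup.inclusion (inf_le_left : cen F m ≤ tw F (3 ^ m))).comp (Φ.comp ((MonoidHom.id _).prodMap ι))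
  have hε : Function.Injective ε :=
    (Subgroup.inclusion_injective (inf_le_left : cen F m ≤ tw F (3 ^ m))).comp (hΦ.1.comp (Prod.map_injective.2 ⟨fun _ _ h => h, hι⟩))
  have h8 : Nat.card ε.range = 8 := by
    rw [← Nat.card_congr (MonoidHom.ofInjective hε).toEquiv]
    simp
  intro S
  obtain ⟨g, hg⟩ := MulAction.exists_smul_eq ↥(tw F (3 ^ m))
    (Sylow.ofCard ε.range (by rw [h8, card_two_part hK]; norm_num) : Sylow 2 ↥(tw F (3 ^ m))) S
  have hS : (S : Subgroup ↥(tw F (3 ^ m))) = ε.range.map (MulAut.conj g).toMonoidHom := by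
    rw [← hg, Sylow.coe_subgroup_smul]; rfl
  refine ⟨?_, fun x hx => ?_⟩
  · show Nat.card ↥(S : Subgroup ↥(tw F (3 ^ m))) = 8
    rw [hS, ← Nat.card_congr (Subgroup.equivMapOfInjective _ _ (MulAut.conj g).injective).toEquiv, h8]
  · have hx' : x ∈ (S : Subgroup ↥(tw F (3 ^ m))) := hx
    rw [hS] at hx'
    obtain ⟨_, ⟨y, rfl⟩, rfl⟩ := hx'
    rw [← map_mul, ← map_mul, z2_sq y, map_one, map_one]

end Cfsg.Agent.Chev.Ree
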