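import Cfsg.Agent.Lib.Lie.GoodA

/-! Linear forms in the Cartan integers giving, up to positive factors, the coefficients of a root. -/

set_option autoImplicit false
set_option maxRecDepth 8000

namespace Cfsg.Agent.Chev

open Cfsg.Lie

namespace Tab

/-- the coefficient form attached to a matrix -/
def phi (T : Tab) (K : List (List ℕ)) (k s : ℕ) : ℤ :=
  sumBelow (fun j => (((K.getD k []).getD j 0 : ℕ) : ℤ) * T.A j s) T.l

/-- the forms have the signs of the coroot coefficients -/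
def checkPhi (T : Tab) (K : List (List ℕ)) : Bool :=
  allBelow (fun k => allBelow (fun s =>
    (decide (0 < T.phi K k s) == decide (0 < T.c s k)) &&
      (decide (T.phi K k s < 0) == decide (T.c s k < 0))) T.n) T.l

/-- `GoodA` together with coefficient forms. -/
structure GoodK (T : Tab) (K : List (List ℕ)) : Prop extends T.GoodA where
  phiOK : T.checkPhi K = true

end Tab

theorem exists_goodK {D : ChevalleyDatum}
    (hD : D ∈ [chevG2, chevB2, chevD4, chevF4, chevE6, chevE7, chevE8]) :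
    ∃ T : Tab, ∃ K, T.GoodK K ∧ T.D = D := by
  simp only [List.mem_cons, List.not_mem_nil, or_false] at hD
  rcases hD with rfl | rfl | rfl | rfl | rfl | rfl | rfl
  · exact ⟨_, [[2, 3], [1, 2]], ⟨⟨G2Data.good, by decide +kernel⟩, by decide +kernel⟩, rfl⟩
  · exact ⟨_, [[2, 2], [1, 2]], ⟨⟨B2Data.good, by decide +kernel⟩, by decide +kernel⟩, rfl⟩
  · exact ⟨_, [[4, 4, 2, 2], [4, 8, 4, 4], [2, 4, 4, 2], [2, 4, 2, 4]], ⟨⟨D4Data.good, by decide +kernel⟩, by decide +kernel⟩, rfl⟩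
  · exact ⟨_, [[2, 3, 4, 2], [3, 6, 8, 4], [2, 4, 6, 3], [1, 2, 3, 2]], ⟨⟨F4Data.good, by decide +kernel⟩, by decide +kernel⟩, rfl⟩
  · exact ⟨_, [[4, 3, 5, 6, 4, 2], [3, 6, 6, 9, 6, 3], [5, 6, 10, 12, 8, 4], [6, 9, 12, 18, 12, 6], [4, 6, 8, 12, 10, 5], [2, 3, 4, 6, 5, 4]], ⟨⟨E6Data.good, by decide +kernel⟩, by decide +kernel⟩, rfl⟩
  · exact ⟨_, [[4, 4, 6, 8, 6, 4, 2], [4, 7, 8, 12, 9, 6, 3], [6, 8, 12, 16, 12, 8, 4], [8, 12, 16, 24, 18, 12, 6], [6, 9, 12, 18, 15, 10, 5], [4, 6, 8, 12, 10, 8, 4], [2, 3, 4, 6, 5, 4, 3]], ⟨⟨E7Data.good, by decide +kernel⟩, by decide +kernel⟩, rfl⟩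
  · exact ⟨_, [[4, 5, 7, 10, 8, 6, 4, 2], [5, 8, 10, 15, 12, 9, 6, 3], [7, 10, 14, 20, 16, 12, 8, 4], [10, 15, 20, 30, 24, 18, 12, 6], [8, 12, 16, 24, 20, 15, 10, 5], [6, 9, 12, 18, 15, 12, 8, 4], [4, 6, 8, 12, 10, 8, 6, 3], [2, 3, 4, 6, 5, 4, 3, 2]], ⟨⟨E8Data.good, by decide +kernel⟩, by decide +kernel⟩, rfl⟩

end Cfsg.Agent.Chev
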