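import Cfsg.Agent.Lib.Lie.BNPair
import Mathlib.GroupTheory.OrderOfElement

/-! The Weyl group of a Tits system is a Coxeter group (exchange condition implies Matsumoto). -/

set_option autoImplicit false

namespace Cfsg.Agent.BN

variable {G : Type*} [Group G] (P : Cfsg.BNPair G)

/-- The Coxeter matrix of a Tits system. -/
noncomputable def cox : CoxeterMatrix P.S where
  M s t := orderOf (σ P s * σ P t)
  isSymm := by
    ext s t
    show orderOf (σ P t * σ P s) = orderOf (σ P s * σ P t)
    rw [← orderOf_inv, mul_inv_rev, σ_inv, σ_inv]
  diagonal s := by simp [σ_mul_self]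
  off_diagonal s t hst := by
    rw [Ne, orderOf_eq_one_iff, mul_eq_one_iff_eq_inv, σ_inv]
    exact fun h => hst (σ_inj P h)

/-- The simple generator of the Coxeter group. -/
noncomputable abbrev ξ (s : P.S) : (cox P).Group := (cox P).simple s

theorem ξ_relation (s t : P.S) : (ξ P s * ξ P t) ^ orderOf (σ P s * σ P t) = 1 :=
  (cox P).toCoxeterSystem.simple_mul_simple_pow s t

/-- The product in the Coxeter group of a word. -/
noncomputable def xp (l : List P.S) : (cox P).Group := (l.map (ξ P)).prod

@[simp] theorem xp_nil : xp P [] = 1 := rfl

@[simp] theorem xp_cons (s : P.S) (l : List P.S) : xp P (s :: l) = ξ P s * xp P l := by simp [xp]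

@[simp] theorem xp_append (l m : List P.S) : xp P (l ++ m) = xp P l * xp P m := by simp [xp]

/-- The alternating word `s t s …` of length `k`. -/
def alt : P.S → P.S → ℕ → List P.S
  | _, _, 0 => []
  | s, t, k + 1 => s :: alt t s k

theorem alt_length : ∀ (k : ℕ) (s t : P.S), (alt P s t k).length = k
  | 0, _, _ => rfl
  | k + 1, s, t => by simp [alt, alt_length k]

theorem alt_mem : ∀ (k : ℕ) (s t : P.S), ∀ x ∈ alt P s t k, x = s ∨ x = t
  | 0, _, _ => by simp [alt]
  | k + 1, s, t => by
    intro x hx
    rcases List.mem_cons.1 hx with h | h
    · exact Or.inl h
    · exact (alt_mem k t s x h).symm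

theorem alt_rel {H : Type*} [Group H] (f : P.S → H) (hf : ∀ s, f s * f s = 1) :
    ∀ (k : ℕ) (s t : P.S),
      ((alt P s t k).map f).prod * (((alt P t s k).map f).prod)⁻¹ = (f s * f t) ^ k
  | 0, _, _ => by simp [alt]
  | k + 1, s, t => by
    have h := alt_rel f hf k t s
    have ht : (f t)⁻¹ = f t := inv_eq_of_mul_eq_one_right (hf t)
    simp only [alt, List.map_cons, List.prod_cons, mul_inv_rev, ht]
    calc f s * ((alt P t s k).map f).prod * (((alt P s t k).map f).prod⁻¹ * f t)
        = f s * (((alt P t s k).map f).prod * ((alt P s t k).map f).prod⁻¹) * f t := by group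
      _ = f s * (f t * f s) ^ k * f t := by rw [h]
      _ = (f s * f t) ^ (k + 1) := by
        rw [pow_succ, ← mul_pow_mul, ← mul_assoc]

theorem alt_ξ_eq {k : ℕ} {s t : P.S} (h : wp P (alt P s t k) = wp P (alt P t s k)) :
    xp P (alt P s t k) = xp P (alt P t s k) := by
  have e := alt_rel P (σ P) (σ_mul_self P) k s t
  have e1 : (σ P s * σ P t) ^ k = 1 := by
    rw [← e]; exact mul_inv_eq_one.2 h
  obtain ⟨c, rfl⟩ := orderOf_dvd_of_pow_eq_one e1
  have e2 := alt_rel P (ξ P) (fun r => (cox P).toCoxeterSystem.simple_mul_simple_self r)
    (orderOf (σ P s * σ P t) * c) s t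
  rw [pow_mul, ξ_relation, one_pow, mul_inv_eq_one] at e2
  exact e2

/-- Matsumoto's theorem for a Tits system. -/
theorem matsumoto (l m : List P.S) (hl : len P (wp P l) = l.length)
    (hm : m.length = l.length) (h : wp P l = wp P m) : xp P l = xp P m := by
  induction hn : l.length using Nat.strong_induction_on generalizing l m with
  | _ q IH =>
  -- same first letter
  have same : ∀ (s : P.S) (l m : List P.S), (s :: l).length = q → m.length = l.length →
      len P (wp P (s :: l)) = q → wp P (s :: l) = wp P (s :: m) → xp P (s :: l) = xp P (s :: m) := by
    intro s l m h1 h2 h3 h4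
    simp only [List.length_cons] at h1
    simp only [wp_cons, mul_right_inj] at h4
    rw [xp_cons, xp_cons, IH l.length (by omega) l m ?_ h2 h4 rfl]
    have := len_σ_mul_le P s (wp P l)
    have := len_wp_le P l
    rw [wp_cons] at h3
    omega
  -- alternating prefix
  have main : ∀ (j : ℕ) (s t : P.S) (k : ℕ) (r m : List P.S), k + r.length = q → r.length = j →
      1 ≤ k → s ≠ t → len P (wp P (alt P s t k ++ r)) = q → (t :: m).length = q →
      wp P (alt P s t k ++ r) = wp P (t :: m) → xp P (alt P s t k ++ r) = xp P (t :: m) := by
    intro j
    induction j using Nat.strong_induction_on with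
    | _ j IHj =>
    intro s t k r m hq hj hk hst hred hmq heq
    simp only [List.length_cons] at hmq
    have hle : len P (σ P t * wp P (alt P s t k ++ r)) < (alt P s t k ++ r).length := by
      rw [heq, wp_cons, σ_cancel, List.length_append, alt_length]
      have := len_wp_le P m
      omega
    have hredk : len P (wp P (alt P s t k)) = k := by
      refine le_antisymm ((len_wp_le P _).trans (alt_length P k s t).le) ?_
      have : ∀ (l r : List P.S), len P (wp P (l ++ r)) ≤ len P (wp P l) + r.length := by
        intro l r
        obtain ⟨l', hl', he⟩ := exists_reduced P (wp P l)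
        have := len_wp_le P (l' ++ r)
        simp only [wp_append, List.length_append, he, hl'] at this ⊢
        exact this
      have := this (alt P s t k) r
      omega
    obtain ⟨i, hi, he⟩ := exchange P t _ (by rw [hred, List.length_append, alt_length, hq]) hle
    rw [List.length_append, alt_length] at hi
    by_cases hik : i < k
    · -- deletion in the prefix: a braid relation
      rw [List.eraseIdx_append_of_lt_length (by rwa [alt_length]), wp_append, wp_append,
        ← mul_assoc, mul_left_inj] at he
      -- reduced words in two letters are alternating
      have two : ∀ (n : ℕ) (s t : P.S) (l : List P.S), s ≠ t → l.length = n →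
          len P (wp P l) = n → (∀ x ∈ l, x = s ∨ x = t) →
          n = 0 ∨ (l = alt P s t n ∨ l = alt P t s n) := by
        intro n
        induction n with
        | zero => simp
        | succ n ihn =>
          intro s t l hst h1 h2 h3
          right
          cases l with
          | nil => simp at h1
          | cons x l =>
            simp only [List.length_cons, Nat.add_right_cancel_iff] at h1
            rw [wp_cons] at h2
            have := len_σ_mul_le P x (wp P l)
            have := len_wp_le P l
            have h2' : len P (wp P l) = n := by omega
            rcases ihn s t l hst h1 h2' (fun y hy => h3 y (List.mem_cons_of_mem _ hy)) with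
              hz | hz
            · subst hz
              rw [List.length_eq_zero_iff] at h1
              subst h1
              rcases h3 x List.mem_cons_self with rfl | rfl <;> simp [alt]
            · cases n with
              | zero =>
                rw [List.length_eq_zero_iff] at h1
                subst h1
                rcases h3 x List.mem_cons_self with rfl | rfl <;> simp [alt]
              | succ n =>
                rcases hz with rfl | rfl <;> rcases h3 x List.mem_cons_self with rfl | rfl
                · exfalso; simp only [alt, wp_cons, σ_cancel] at h2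
                  have := len_wp_le P (alt P t x n); rw [alt_length] at this; omega
                · right; rfl
                · left; rfl
                · exfalso; simp only [alt, wp_cons, σ_cancel] at h2
                  have := len_wp_le P (alt P s x n); rw [alt_length] at this; omega
      set d := (alt P s t k).eraseIdx i with hd
      have hdl : d.length = k - 1 := by
        rw [hd, List.length_eraseIdx_of_lt (by rwa [alt_length]), alt_length]
      have hbr : wp P (alt P s t k) = wp P (t :: d) := by
        rw [wp_cons, ← he, σ_cancel]
      have hmem : ∀ x ∈ t :: d, x = s ∨ x = t := by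
        intro x hx
        rcases List.mem_cons.1 hx with rfl | hx
        · exact Or.inr rfl
        · exact alt_mem P k s t x (List.mem_of_mem_eraseIdx hx)
      have hlen1 : (t :: d).length = k := by simp only [List.length_cons]; omega
      have hd' : t :: d = alt P t s k := by
        rcases two k s t (t :: d) hst hlen1 (by rw [← hbr, hredk]) hmem with h0 | h0 | h0
        · omega
        · exfalso
          obtain ⟨k, rfl⟩ : ∃ k', k = k' + 1 := ⟨k - 1, by omega⟩
          exact hst (List.cons.inj h0).1.symm
        · exact h0
      rw [hd'] at hbr
      obtain ⟨k, rfl⟩ : ∃ k', k = k' + 1 := ⟨k - 1, by omega⟩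
      rw [xp_append, alt_ξ_eq P hbr, ← xp_append]
      show xp P (t :: (alt P s t k ++ r)) = _
      have hw : wp P (t :: (alt P s t k ++ r)) = wp P (alt P s t (k + 1) ++ r) := by
        show wp P (alt P t s (k + 1) ++ r) = _
        rw [wp_append, wp_append, hbr]
      refine same t _ m ?_ ?_ (by rw [hw, hred]) (by rw [hw, heq])
      · simp only [List.length_cons, List.length_append, alt_length]; omega
      · simp only [List.length_append, alt_length]; omega
    · -- deletion after the prefix: the alternating prefix grows
      push Not at hik
      rw [List.eraseIdx_append_of_length_le (by rwa [alt_length]), alt_length] at he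
      set r' := r.eraseIdx (i - k)
      have hr' : r'.length = r.length - 1 := List.length_eraseIdx_of_lt (by omega)
      have hnew : wp P (alt P t s (k + 1) ++ r') = wp P (alt P s t k ++ r) := by
        show wp P (t :: (alt P s t k ++ r')) = _
        rw [wp_cons, ← he, σ_cancel]
      obtain ⟨k', rfl⟩ : ∃ k', k = k' + 1 := ⟨k - 1, by omega⟩
      have hB : xp P (alt P t s (k' + 1 + 1) ++ r') = xp P (alt P s t (k' + 1) ++ r) := by
        refine IHj r'.length (by omega) t s _ r' (alt P t s k' ++ r) (by omega) rfl (by omega)
          (Ne.symm hst) (by rw [hnew, hred]) ?_ hnew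
        simp only [List.length_cons, List.length_append, alt_length]; omega
      rw [← hB]
      refine same t (alt P s t (k' + 1) ++ r') m ?_ ?_ ?_ ?_
      · simp only [List.length_cons, List.length_append, alt_length]; omega
      · simp only [List.length_append, alt_length]; omega
      · show len P (wp P (alt P t s (k' + 1 + 1) ++ r')) = q
        rw [hnew, hred]
      · show wp P (alt P t s (k' + 1 + 1) ++ r') = _
        rw [hnew, heq]
  cases l with
  | nil =>
    rw [List.length_nil, List.length_eq_zero_iff] at hm
    rw [hm]
  | cons s l =>
    cases m with
    | nil => simp at hm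
    | cons t m =>
      simp only [List.length_cons] at hm
      by_cases hst : s = t
      · subst hst
        exact same s l m hn (by omega) (by omega) h
      · simpa [alt] using main l.length s t 1 l m (by simp only [List.length_cons] at hn; omega)
          rfl le_rfl hst (by simpa [alt] using hl.trans hn) (by simp only [List.length_cons] at *; omega)
          (by simpa [alt] using h)

/-- The canonical homomorphism from the Coxeter group. -/
noncomputable def toW : (cox P).Group →* W P :=
  PresentedGroup.toGroup (rels := (cox P).relationsSet) (f := σ P) <| by
    rintro _ ⟨⟨s, t⟩, rfl⟩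
    simp only [Function.uncurry_apply_pair, CoxeterMatrix.relation, map_pow, map_mul, FreeGroup.lift_apply_of]
    exact pow_orderOf_eq_one _

theorem toW_ξ (s : P.S) : toW P (ξ P s) = σ P s := PresentedGroup.toGroup.of _

theorem toW_xp (l : List P.S) : toW P (xp P l) = wp P l := by
  induction l with
  | nil => simp
  | cons s l ih => simp [ih, toW_ξ]

/-- The section of `toW` through reduced words. -/
noncomputable def lift (w : W P) : (cox P).Group := xp P (exists_reduced P w).choose

theorem lift_eq {l : List P.S} (h : len P (wp P l) = l.length) : lift P (wp P l) = xp P l := by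
  obtain ⟨h1, h2⟩ := (exists_reduced P (wp P l)).choose_spec
  exact (matsumoto P l _ h (by rw [h1, h]) h2.symm).symm

theorem lift_σ_mul (s : P.S) (w : W P) : lift P (σ P s * w) = ξ P s * lift P w := by
  have up : ∀ v, len P v < len P (σ P s * v) → lift P (σ P s * v) = ξ P s * lift P v := by
    intro v hv
    obtain ⟨l, hl, rfl⟩ := exists_reduced P v
    have := len_σ_mul_le P s (wp P l)
    rw [← wp_cons, lift_eq P (l := s :: l) (by simp only [List.length_cons, wp_cons]; omega),
      lift_eq P hl.symm, xp_cons]
  rcases len_lt_or_gt P s w with h | h
  · have := up (σ P s * w) (by rw [σ_cancel]; omega)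
    rw [σ_cancel] at this
    rw [this, ← mul_assoc]
    simp [ξ, show ξ P s * ξ P s = 1 from (cox P).toCoxeterSystem.simple_mul_simple_self s]
  · exact up w h

theorem toW_bijective : Function.Bijective (toW P) := by
  refine ⟨fun x y h => ?_, fun w => ?_⟩
  · suffices key : ∀ x, lift P (toW P x) = x by rw [← key x, h, key]
    intro x
    induction x using (cox P).toCoxeterSystem.simple_induction_left with
    | one => simpa using lift_eq P (l := []) (by simp)
    | mul_simple_left z s ih =>
      show lift P (toW P (ξ P s * z)) = ξ P s * z
      rw [map_mul, toW_ξ, lift_σ_mul, ih]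
  · obtain ⟨l, rfl⟩ := exists_word P w
    exact ⟨_, toW_xp P l⟩

/-- The Weyl group with its distinguished involutions is a Coxeter system. -/
noncomputable def coxeterSystem : CoxeterSystem (cox P) (W P) :=
  ⟨(MulEquiv.ofBijective (toW P) (toW_bijective P)).symm⟩

theorem coxeterSystem_simple (s : P.S) : (coxeterSystem P).simple s = σ P s := toW_ξ P s

end Cfsg.Agent.BN
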