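import Cfsg.Agent.Lib.Lie.ChevWGroup

/-!
# Poincaré polynomials by chains of parabolic subgroups

For `J ⊆ J'` a checked list of minimal coset representatives gives
`S(J') = S(J) · Σ_d q^{len d}` for `S(J) = Σ_{w ∈ W_J} q^{inv w}`.
-/

set_option autoImplicit false

namespace Cfsg.Agent.Chev

open Cfsg.Lie

namespace Tab

/-- A coset representative: word, length, label, and for each letter where it leads. -/
structure Rep where
  /-- the word -/
  word : List ℕ
  /-- its length -/
  len : ℕ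
  /-- distinguishes the representatives -/
  tag : ℕ
  /-- for each letter, another representative or a letter of the smaller parabolic -/
  next : List (Bool × ℕ)

variable (T : Tab)

/-- images of the fundamental roots -/
def keyL (L : List ℕ) : List ℕ := listBelow (fun i => T.rw' L (T.smp i)) T.l

/-- code of a list of roots -/
def keyCode (K : List ℕ) : ℕ := K.foldl (fun acc x => Nat.add (Nat.mul acc 256) x) 0

/-- a natural number list equality test -/
def listBeq : List ℕ → List ℕ → Bool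
  | [], [] => true
  | a :: l, b :: m => Nat.beq a b && listBeq l m
  | _, _ => false

/-- membership test -/
def memB (x : ℕ) (J : List ℕ) : Bool := J.any fun y => Nat.beq y x

/-- the root lies in the subsystem of `J` -/
def inPhiB (J : List ℕ) (s : ℕ) : Bool := allBelow (fun k => memB k J || T.c s k == 0) T.l

/-- checks on one representative -/
def checkRep (J J' : List ℕ) (D : List Rep) (d : Rep) : Bool :=
  d.word.all (fun i => memB i J') &&
  Nat.beq d.tag (keyCode (T.keyL d.word)) &&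
  Nat.beq d.len
    ((List.range' T.N (T.n - T.N)).countP fun s => Nat.blt (T.rw' d.word s) T.N) &&
  (List.range' T.N (T.n - T.N)).all (fun s => !T.inPhiB J s ||
    Nat.ble T.N (T.rw' d.word.reverse s)) &&
  Nat.beq d.next.length J'.length &&
  (J'.zip d.next).all fun p =>
    bif p.2.1 then
      (match D[p.2.2]? with
        | some e => listBeq (T.keyL (d.word ++ [p.1])) (T.keyL e.word)
        | none => false)
    else memB p.2.2 J && listBeq (T.keyL (d.word ++ [p.1])) (T.keyL (p.2.2 :: d.word))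

/-- strictly increasing -/
def incB : List ℕ → Bool
  | [] => true
  | [_] => true
  | a :: b :: l => Nat.blt a b && incB (b :: l)

/-- check of a step `J ⊆ J'` -/
def checkStep (J J' : List ℕ) (D : List Rep) : Bool :=
  J'.all (fun i => Nat.blt i T.l) && J.all (fun i => memB i J') &&
  D.any (fun d => d.word.isEmpty) && incB (D.map Rep.tag) && D.all (T.checkRep J J' D)

variable {T}

theorem listBeq_iff : ∀ {l m : List ℕ}, listBeq l m = true ↔ l = m
  | [], [] => by simp [listBeq]
  | [], _ :: _ => by simp [listBeq]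
  | _ :: _, [] => by simp [listBeq]
  | a :: l, b :: m => by simp [listBeq, nat_beq, listBeq_iff]

theorem memB_iff {x : ℕ} {J : List ℕ} : memB x J = true ↔ x ∈ J := by
  simp [memB, nat_beq]

theorem incB_pairwise : ∀ {l : List ℕ}, incB l = true → l.Pairwise (· < ·)
  | [], _ => .nil
  | [_], _ => List.pairwise_singleton _ _
  | a :: b :: l, h => by
    simp only [incB, Bool.and_eq_true, nat_blt] at h
    have ih := incB_pairwise h.2
    refine List.pairwise_cons.2 ⟨fun x hx => ?_, ih⟩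
    rcases List.mem_cons.1 hx with rfl | hx
    · exact h.1
    · exact h.1.trans ((List.pairwise_cons.1 ih).1 x hx)

theorem keyL_eq {A B : List ℕ} :
    T.keyL A = T.keyL B ↔ ∀ i < T.l, T.rw' A (T.smp i) = T.rw' B (T.smp i) := by
  rw [keyL, keyL, listBelow_eq, listBelow_eq, List.map_inj_left]
  simp

theorem c_rw' (g : T.Good) : ∀ {L : List ℕ}, T.Wd L → ∀ {k : ℕ}, k < T.l → k ∉ L →
    ∀ {s : ℕ}, s < T.n → T.c (T.rw' L s) k = T.c s k
  | [], _, _, _, _, _, _ => rfl
  | i :: L, h, k, hk, hn, s, hs => by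
    obtain ⟨hi, hL⟩ := Wd.cons_iff.1 h
    rw [List.mem_cons, not_or] at hn
    rw [rw'_cons, ((g.refl' hi (rw'_lt g hL hs)).2.2.2.2.2.2.2.2 k hk).2, if_neg hn.1,
      c_rw' g hL hk hn.2 hs]

theorem inPhiB_iff {J : List ℕ} {s : ℕ} :
    T.inPhiB J s = true ↔ ∀ k < T.l, k ∉ J → T.c s k = 0 := by
  simp only [inPhiB, allBelow_eq_true, Bool.or_eq_true, memB_iff, beq_iff_eq]
  exact forall_congr' fun k => forall_congr' fun _ => ⟨fun h hn => h.resolve_left hn, fun h =>
    (em (k ∈ J)).imp id h⟩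

/-- A positive root outside the subsystem stays positive. -/
theorem rw'_pos_outside (g : T.Good) {J L : List ℕ} (hL : T.Wd L) (hLJ : ∀ i ∈ L, i ∈ J) {t : ℕ}
    (ht : T.N ≤ t) (htn : t < T.n) (hout : T.inPhiB J t = false) : T.N ≤ T.rw' L t := by
  by_contra hc
  obtain ⟨k, hk, hkJ, hne⟩ : ∃ k < T.l, k ∉ J ∧ T.c t k ≠ 0 := by
    by_contra hh
    push Not at hh
    rw [inPhiB_iff.2 hh] at hout
    exact Bool.noConfusion hout
  have h1 := ((g.sign' htn).1 k hk).1 ht
  have h2 := ((g.sign' (rw'_lt g hL htn)).1 k hk).2.1 (not_le.1 hc)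
  rw [c_rw' g hL hk (fun h => hkJ (hLJ k h)) htn] at h2
  omega

/-- lengths add -/
theorem invSet_add (g : T.Good) {J u d : List ℕ} (hu : T.Wd u) (hd : T.Wd d)
    (huJ : ∀ i ∈ u, i ∈ J)
    (hmin : ∀ s, T.N ≤ s → s < T.n → T.inPhiB J s = true → T.N ≤ T.rw' d.reverse s) :
    (T.invSet (u ++ d)).card = (T.invSet u).card + (T.invSet d).card := by
  have hin : ∀ t ∈ T.invSet u, T.N ≤ T.rw' d.reverse t := by
    intro t ht
    simp only [invSet, Finset.mem_filter, Finset.mem_Ico] at ht
    refine hmin t ht.1.1 ht.1.2 ?_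
    by_contra hout
    have := rw'_pos_outside g hu huJ ht.1.1 ht.1.2 (Bool.eq_false_iff.2 hout)
    omega
  have e : T.invSet (u ++ d) = (T.invSet u).image (T.rw' d.reverse) ∪ T.invSet d := by
    ext s
    simp only [invSet, Finset.mem_filter, Finset.mem_Ico, Finset.mem_union, Finset.mem_image,
      rw'_append]
    constructor
    · rintro ⟨⟨h1, h2⟩, h3⟩
      by_cases hds : T.rw' d s < T.N
      · exact Or.inr ⟨⟨h1, h2⟩, hds⟩
      · exact Or.inl ⟨T.rw' d s, ⟨⟨not_lt.1 hds, rw'_lt g hd h2⟩, h3⟩, rw'_rev g hd h2⟩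
    · rintro (⟨t, ⟨⟨h1, h2⟩, h3⟩, rfl⟩ | ⟨⟨h1, h2⟩, h3⟩)
      · refine ⟨⟨hin t ?_, rw'_lt g hd.reverse h2⟩, by rw [rw'_rev' g hd h2]; exact h3⟩
        simp [invSet, h1, h2, h3]
      · refine ⟨⟨h1, h2⟩, ?_⟩
        have hq := rw'_lt g hd h2
        have htn := neg_lt hq
        have ht := (N_le_neg_iff hq).2 h3
        have hout : T.inPhiB J (T.neg (T.rw' d s)) = false := by
          refine Bool.eq_false_iff.2 fun h => ?_
          have := hmin _ ht htn h
          rw [rw'_neg g hd.reverse hq, rw'_rev g hd h2, N_le_neg_iff h2] at this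
          omega
        have := rw'_pos_outside g hu huJ ht htn hout
        rw [rw'_neg g hu hq, N_le_neg_iff (rw'_lt g hu hq)] at this
        exact this
  rw [e, Finset.card_union_of_disjoint, Finset.card_image_of_injOn]
  · intro a ha b hb hab
    simp only [invSet, Finset.coe_filter, Finset.mem_Ico, Set.mem_ofPred_eq] at ha hb
    have := congrArg (T.rw' d) hab
    rwa [rw'_rev' g hd ha.1.2, rw'_rev' g hd hb.1.2] at this
  · rw [Finset.disjoint_left]
    intro s hs hs'
    obtain ⟨t, ht, rfl⟩ := Finset.mem_image.1 hs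
    simp only [invSet, Finset.mem_filter, Finset.mem_Ico] at ht hs'
    rw [rw'_rev' g hd ht.1.2] at hs'
    omega

open scoped Classical in
/-- the elements of the parabolic subgroup `W_J` -/
noncomputable def wJ (g : T.Good) (J : List ℕ) : Finset (Equiv.Perm (Fin T.n)) :=
  Finset.univ.filter fun p => ∃ L, T.Wd L ∧ (∀ i ∈ L, i ∈ J) ∧ pL g L = p

theorem mem_wJ_iff (g : T.Good) {J : List ℕ} {p : Equiv.Perm (Fin T.n)} :
    p ∈ wJ g J ↔ ∃ L, T.Wd L ∧ (∀ i ∈ L, i ∈ J) ∧ pL g L = p := by
  simp [wJ]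

/-- `S(J) = Σ q^inv` -/
noncomputable def poinc (g : T.Good) (J : List ℕ) (q : ℕ) : ℕ :=
  ∑ p ∈ wJ g J, q ^ T.wInv p

theorem poinc_nil (g : T.Good) (q : ℕ) : poinc g [] q = 1 := by
  have e : wJ g [] = {pL g []} := by
    ext p
    rw [mem_wJ_iff, Finset.mem_singleton]
    constructor
    · rintro ⟨L, -, hL, rfl⟩
      obtain rfl : L = [] := List.eq_nil_iff_forall_not_mem.2 fun i hi => by simpa using hL i hi
      rfl
    · rintro rfl
      exact ⟨[], by simp [Wd], by simp, rfl⟩
  rw [poinc, e, Finset.sum_singleton, wInv_pL g (by simp [Wd]),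
    Finset.card_eq_zero.2, pow_zero]
  rw [Finset.eq_empty_iff_forall_notMem]
  intro s hs
  rw [invSet, Finset.mem_filter, Finset.mem_Ico, rw'_nil] at hs
  omega

theorem poinc_step (g : T.Good) {J J' : List ℕ} {D : List Rep} (h : T.checkStep J J' D = true)
    (q : ℕ) : poinc g J' q = (D.map fun d => q ^ d.len).sum * poinc g J q := by
  simp only [checkStep, Bool.and_eq_true, List.all_eq_true, nat_blt, memB_iff, List.any_eq_true]
    at h
  obtain ⟨⟨⟨⟨hl, hsub⟩, ⟨d0, hd0, hd0e⟩⟩, hinc⟩, hrep⟩ := h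
  have hd0' : d0.word = [] := List.isEmpty_iff.1 hd0e
  have hchk : ∀ d ∈ D, (∀ i ∈ d.word, i ∈ J') ∧ d.tag = keyCode (T.keyL d.word) ∧
      d.len = (T.invSet d.word).card ∧
      (∀ s, T.N ≤ s → s < T.n → T.inPhiB J s = true → T.N ≤ T.rw' d.word.reverse s) ∧
      ∀ i ∈ J', (∃ e ∈ D, T.keyL (d.word ++ [i]) = T.keyL e.word) ∨
        ∃ j ∈ J, T.keyL (d.word ++ [i]) = T.keyL (j :: d.word) := by
    intro d hd
    have h := hrep d hd
    simp only [checkRep, Bool.and_eq_true, List.all_eq_true, memB_iff, nat_beq] at h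
    obtain ⟨⟨⟨⟨⟨h1, h2⟩, h3⟩, h4⟩, h5⟩, h6⟩ := h
    refine ⟨h1, h2, ?_, fun s a b c => ?_, fun i hi => ?_⟩
    · rw [h3, List.countP_eq_length_filter,
        ← List.toFinset_card_of_nodup (List.Nodup.filter _ List.nodup_range')]
      congr 1
      ext s
      simp only [List.mem_toFinset, List.mem_filter, List.mem_range'_1, nat_blt, invSet,
        Finset.mem_filter, Finset.mem_Ico]
      have := n_def (T := T)
      constructor <;> rintro ⟨⟨a, b⟩, c⟩ <;> exact ⟨⟨a, by omega⟩, c⟩
    · have := h4 s (by rw [List.mem_range'_1]; omega)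
      simpa [c, nat_ble] using this
    · obtain ⟨m, hm, rfl⟩ := List.getElem_of_mem hi
      have hmem : (J'[m], d.next[m]'(h5 ▸ hm)) ∈ J'.zip d.next := by
        rw [List.mem_iff_getElem]
        exact ⟨m, by simp [List.length_zip, h5, hm], by simp⟩
      have := h6 _ hmem
      dsimp only at this
      cases hb : (d.next[m]'(h5 ▸ hm)).1 with
      | true =>
        rw [hb, cond_true] at this
        rcases he : D[(d.next[m]'(h5 ▸ hm)).2]? with _ | e <;> rw [he] at this
        · exact absurd this Bool.false_ne_true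
        · exact Or.inl ⟨e, List.mem_of_getElem? he, listBeq_iff.1 this⟩
      | false =>
        rw [hb, cond_false, Bool.and_eq_true, memB_iff] at this
        exact Or.inr ⟨_, this.1, listBeq_iff.1 this.2⟩
  have hwd : ∀ L : List ℕ, (∀ i ∈ L, i ∈ J') → T.Wd L := fun L h i hi => hl i (h i hi)
  have hDJ : ∀ d ∈ D, T.Wd d.word := fun d hd => hwd _ (hchk d hd).1
  classical
  haveI : Nonempty (Equiv.Perm (Fin T.n) × Rep) := ⟨(1, d0)⟩
  have hnodup : (D.map Rep.tag).Nodup := (incB_pairwise hinc).imp fun hab => hab.ne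
  have hDnd : D.Nodup := List.Nodup.of_map _ hnodup
  have e1 : (D.map fun d => q ^ d.len).sum = ∑ d ∈ D.toFinset, q ^ d.len :=
    (List.sum_toFinset _ hDnd).symm
  rw [e1, poinc, poinc, mul_comm, Finset.sum_mul_sum, ← Finset.sum_product']
  symm
  refine Finset.sum_bij' (fun x _ => x.1 * pL g x.2.word)
    (fun p hp => Classical.epsilon fun x : Equiv.Perm (Fin T.n) × Rep =>
      (x.1 ∈ wJ g J ∧ x.2 ∈ D) ∧ x.1 * pL g x.2.word = p) ?_ ?_ ?_ ?_ ?_
  all_goals
    have hex : ∀ L, (∀ i ∈ L, i ∈ J') → ∃ x : Equiv.Perm (Fin T.n) × Rep,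
        (x.1 ∈ wJ g J ∧ x.2 ∈ D) ∧ x.1 * pL g x.2.word = pL g L := by
      intro L
      induction L using List.reverseRecOn with
      | nil =>
        intro _
        exact ⟨(1, d0), ⟨(mem_wJ_iff g).2 ⟨[], by simp [Wd], by simp, rfl⟩, hd0⟩, by
          simp [hd0', pL_nil]⟩
      | append_singleton L i ih =>
        intro hL
        obtain ⟨⟨p, d⟩, ⟨hp, hd⟩, e⟩ := ih fun x hx => hL x (List.mem_append_left _ hx)
        have hi : i ∈ J' := hL i (by simp)
        obtain ⟨u, hu, huJ, rfl⟩ := (mem_wJ_iff g).1 hp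
        dsimp only at e hd
        have hwi : T.Wd (d.word ++ [i]) := Wd.append_iff.2 ⟨hDJ d hd, by simp [Wd, hl i hi]⟩
        rcases (hchk d hd).2.2.2.2 i hi with ⟨e', he', hk⟩ | ⟨j, hj, hk⟩
        · refine ⟨(pL g u, e'), ⟨hp, he'⟩, ?_⟩
          show pL g u * pL g e'.word = pL g (L ++ [i])
          rw [pL_append g L, ← e, mul_assoc, ← pL_append g d.word,
            pL_eq_of_simple g hwi (hDJ e' he') (keyL_eq.1 hk)]
        · have hjl : j < T.l := hl j (hsub j hj)
          refine ⟨(pL g (u ++ [j]), d), ⟨(mem_wJ_iff g).2 ⟨u ++ [j],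
            Wd.append_iff.2 ⟨hu, by simp [Wd, hjl]⟩, ?_, rfl⟩, hd⟩, ?_⟩
          · intro x hx
            rcases List.mem_append.1 hx with hx | hx
            · exact huJ x hx
            · simp at hx; exact hx ▸ hj
          · show pL g (u ++ [j]) * pL g d.word = _
            rw [pL_append g u, pL_append g L, ← e, mul_assoc, mul_assoc, ← pL_append g [j],
              ← pL_append g d.word, List.singleton_append,
              pL_eq_of_simple g hwi (Wd.cons_iff.2 ⟨hjl, hDJ d hd⟩) (keyL_eq.1 hk)]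
    have huniq : ∀ x y : Equiv.Perm (Fin T.n) × Rep, x.1 ∈ wJ g J → x.2 ∈ D → y.1 ∈ wJ g J →
        y.2 ∈ D → x.1 * pL g x.2.word = y.1 * pL g y.2.word → x = y := by
      rintro ⟨p, d⟩ ⟨p', d'⟩ hp hd hp' hd' e
      dsimp only at hp hd hp' hd' e
      obtain ⟨u, hu, huJ, rfl⟩ := (mem_wJ_iff g).1 hp
      obtain ⟨u', hu', huJ', rfl⟩ := (mem_wJ_iff g).1 hp'
      have hv : T.Wd (u'.reverse ++ u) := Wd.append_iff.2 ⟨hu'.reverse, hu⟩
      have hvJ : ∀ i ∈ u'.reverse ++ u, i ∈ J := by
        intro i hi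
        rcases List.mem_append.1 hi with hi | hi
        · exact huJ' i (List.mem_reverse.1 hi)
        · exact huJ i hi
      have e2 : pL g ((u'.reverse ++ u) ++ d.word) = pL g d'.word := by
        rw [pL_append, pL_append, ← pL_inv, mul_assoc, e, inv_mul_cancel_left]
      have a1 := invSet_add g hv (hDJ d hd) hvJ (hchk d hd).2.2.2.1
      rw [← wInv_pL g (Wd.append_iff.2 ⟨hv, hDJ d hd⟩), e2, wInv_pL g (hDJ d' hd')] at a1
      have e3 : pL g ((u'.reverse ++ u).reverse ++ d'.word) = pL g d.word := by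
        rw [pL_append _ (List.reverse _) d'.word, ← pL_inv, ← e2, pL_append _ _ d.word,
          inv_mul_cancel_left]
      have a2 := invSet_add g hv.reverse (hDJ d' hd')
        (fun i hi => hvJ i (List.mem_reverse.1 hi)) (hchk d' hd').2.2.2.1
      rw [← wInv_pL g (Wd.append_iff.2 ⟨hv.reverse, hDJ d' hd'⟩), e3,
        wInv_pL g (hDJ d hd)] at a2
      have hpos : ∀ s, T.N ≤ s → s < T.n → T.N ≤ T.rw' (u'.reverse ++ u) s := by
        intro s h1 h2
        by_contra hc
        have hmem : s ∈ T.invSet (u'.reverse ++ u) := by simp [invSet, h1, h2, not_le.1 hc]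
        have h0 : (T.invSet (u'.reverse ++ u)).card = 0 := by omega
        rw [Finset.card_eq_zero.1 h0] at hmem
        exact Finset.notMem_empty _ hmem
      have hid := (nWd_torus_of_pos (F := ℚ) g _ le_rfl hv hpos).2
      have hvone : pL g (u'.reverse ++ u) = 1 := by
        rw [← pL_nil g, pL_eq_iff g hv (by simp [Wd])]
        exact hid
      have hpp : pL g u = pL g u' := by
        rw [pL_append, ← pL_inv, inv_mul_eq_one] at hvone
        exact hvone.symm
      rw [hpp] at e
      have hdd : pL g d.word = pL g d'.word := mul_left_cancel e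
      have htag : d.tag = d'.tag := by
        rw [(hchk d hd).2.1, (hchk d' hd').2.1]
        congr 1
        exact keyL_eq.2 fun i hi => (pL_eq_iff g (hDJ d hd) (hDJ d' hd')).1 hdd _ (g.smp_lt hi)
      exact Prod.ext hpp (List.inj_on_of_nodup_map hnodup hd hd' htag)
  · intro x hx
    simp only [Finset.mem_product, List.mem_toFinset] at hx
    obtain ⟨u, hu, huJ, hx1⟩ := (mem_wJ_iff g).1 hx.1
    refine (mem_wJ_iff g).2 ⟨u ++ x.2.word, Wd.append_iff.2 ⟨hu, hDJ _ hx.2⟩, ?_, ?_⟩
    · intro i hi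
      rcases List.mem_append.1 hi with hi | hi
      · exact hsub i (huJ i hi)
      · exact (hchk _ hx.2).1 i hi
    · rw [pL_append, hx1]
  · intro p hp
    obtain ⟨L, -, hLJ, rfl⟩ := (mem_wJ_iff g).1 hp
    have := Classical.epsilon_spec (hex L hLJ)
    simp only [Finset.mem_product, List.mem_toFinset]
    exact this.1
  · intro x hx
    simp only [Finset.mem_product, List.mem_toFinset] at hx
    have := Classical.epsilon_spec (p := fun y : Equiv.Perm (Fin T.n) × Rep =>
      (y.1 ∈ wJ g J ∧ y.2 ∈ D) ∧ y.1 * pL g y.2.word = x.1 * pL g x.2.word) ⟨x, hx, rfl⟩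
    exact huniq _ _ this.1.1 this.1.2 hx.1 hx.2 this.2
  · intro p hp
    obtain ⟨L, -, hLJ, rfl⟩ := (mem_wJ_iff g).1 hp
    exact (Classical.epsilon_spec (hex L hLJ)).2
  · intro x hx
    simp only [Finset.mem_product, List.mem_toFinset] at hx
    obtain ⟨u, hu, huJ, hx1⟩ := (mem_wJ_iff g).1 hx.1
    rw [← hx1, ← pL_append, wInv_pL g hu, wInv_pL g (Wd.append_iff.2 ⟨hu, hDJ _ hx.2⟩),
      invSet_add g hu (hDJ _ hx.2) huJ (hchk _ hx.2).2.2.2.1, (hchk _ hx.2).2.2.1, pow_add]

theorem poinc_top (g : T.Good) {J : List ℕ} (h : ∀ i < T.l, i ∈ J) (q : ℕ)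
    [Fintype ↥(wG g)] : ∑ w : ↥(wG g), q ^ T.wInv (w : Equiv.Perm (Fin T.n)) = poinc g J q := by
  classical
  rw [poinc]
  refine (Finset.sum_subtype (p := fun p => p ∈ wG g) (wJ g J) (fun p => ?_)
    (fun p => q ^ T.wInv p)).symm
  rw [mem_wJ_iff, mem_wG_iff]
  exact ⟨fun ⟨L, a, _, b⟩ => ⟨L, a, b⟩, fun ⟨L, a, b⟩ => ⟨L, a, fun i hi => h i (a i hi), b⟩⟩

end Tab

end Cfsg.Agent.Chev
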