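import Cfsg.Agent.Lib.Lie.ChevBruhat
import Cfsg.Agent.Lib.Lie.ChevPoincare
import Cfsg.Agent.Lib.Lie.BNCoxeter
import Mathlib.GroupTheory.Coxeter.Basic

/-! The Weyl group is the Coxeter group of the given matrix. -/

set_option autoImplicit false

namespace Cfsg.Agent.Chev

open Cfsg.Lie
open Matrix hiding zpow_mul inv_zpow mul_inv_rev zpow_add zpow_neg

namespace Tab

/-- a word repeated -/
def repW (L : List ℕ) : ℕ → List ℕ
  | 0 => []
  | k + 1 => repW L k ++ L

/-- the word has order exactly `m` -/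
def checkOrd (T : Tab) (L : List ℕ) (m : ℕ) : Bool :=
  Nat.ble 1 m && L.all (fun i => Nat.blt i T.l) &&
    listBeq (T.keyL (repW L m)) (T.keyL []) &&
    allBelow (fun k => Nat.beq k 0 || !listBeq (T.keyL (repW L k)) (T.keyL [])) m

variable {T : Tab} {F : Type*} [Field F]

theorem repW_wd {L : List ℕ} (h : T.Wd L) : ∀ k, T.Wd (repW L k)
  | 0 => by simp [repW, Wd]
  | k + 1 => Wd.append_iff.2 ⟨repW_wd h k, h⟩

theorem pL_repW (g : T.Good) (L : List ℕ) : ∀ k, pL g (repW L k) = pL g L ^ k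
  | 0 => by simp [repW, pL_nil]
  | k + 1 => by rw [repW, pL_append, pL_repW g L k, pow_succ]

theorem orderOf_pL (g : T.Good) {L : List ℕ} {m : ℕ} (h : T.checkOrd L m = true) :
    orderOf (pL g L) = m := by
  simp only [checkOrd, Bool.and_eq_true, nat_ble, List.all_eq_true, nat_blt, allBelow_eq_true,
    Bool.or_eq_true, nat_beq, Bool.not_eq_true'] at h
  obtain ⟨⟨⟨h1, hL⟩, h2⟩, h3⟩ := h
  rw [orderOf_eq_iff (by omega)]
  refine ⟨?_, fun k hk hk0 e => ?_⟩
  · rw [← pL_repW, ← pL_nil g]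
    exact pL_eq_of_simple g (repW_wd hL m) (by simp [Wd]) (keyL_eq.1 (listBeq_iff.1 h2))
  · rcases h3 k hk with h | h
    · omega
    · rw [← pL_repW, ← pL_nil g, pL_eq_iff g (repW_wd hL k) (by simp [Wd])] at e
      have := (listBeq_iff (l := T.keyL (repW L k)) (m := T.keyL [])).2
        (keyL_eq.2 fun i hi => e _ (g.smp_lt hi))
      rw [h] at this
      exact Bool.noConfusion this

section

variable (g : T.GoodA) (F : Type*) [Field F]

/-- `N` inside the group -/
noncomputable def nEquiv : ↥(T.D.monomialSubgroup F) ≃* ↥(bnPair g F).N :=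
  (Subgroup.subgroupOfEquivOfLe (monomial_le_group g.toGood)).symm

/-- `N → W` -/
noncomputable def toW' : ↥(T.D.monomialSubgroup F) →* BN.W (bnPair g F) :=
  (QuotientGroup.mk' (BN.hSub (bnPair g F))).comp (nEquiv g F).toMonoidHom

theorem toW'_surjective : Function.Surjective (toW' g F) :=
  (QuotientGroup.mk'_surjective _).comp (nEquiv g F).surjective

theorem toW'_ker : (toW' g F).ker = (T.D.diagonalSubgroup F).subgroupOf (T.D.monomialSubgroup F) := by
  ext x
  rw [MonoidHom.mem_ker, Subgroup.mem_subgroupOf]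
  show ((nEquiv g F x : ↥(bnPair g F).N) : BN.W (bnPair g F)) = 1 ↔ _
  rw [QuotientGroup.eq_one_iff]
  constructor
  · intro h
    exact borel_inf_monomial g.toGood h.1 x.2
  · intro h
    refine ⟨?_, (nEquiv g F x).2⟩
    exact Subgroup.mem_sup_right (S := T.D.posUnipotent F) h

/-- `W → permutations of the roots` -/
noncomputable def wToPerm : BN.W (bnPair g F) →* Equiv.Perm (Fin T.n) :=
  QuotientGroup.lift _ ((toPerm g.toGood).comp (nEquiv g F).symm.toMonoidHom) (by
    intro x hx
    rw [MonoidHom.mem_ker, MonoidHom.comp_apply, ← MonoidHom.mem_ker, toPerm_ker,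
      Subgroup.mem_subgroupOf]
    exact borel_inf_monomial g.toGood hx.1 ((nEquiv g F).symm x).2)

theorem wToPerm_toW' (x : ↥(T.D.monomialSubgroup F)) :
    wToPerm g F (toW' g F x) = toPerm g.toGood x := by
  show (toPerm g.toGood) ((nEquiv g F).symm (nEquiv g F x)) = _
  rw [MulEquiv.symm_apply_apply]

theorem wToPerm_injective : Function.Injective (wToPerm g F) := by
  rw [← MonoidHom.ker_eq_bot_iff, eq_bot_iff]
  intro w hw
  obtain ⟨x, rfl⟩ := toW'_surjective g F w
  rw [MonoidHom.mem_ker, wToPerm_toW', ← MonoidHom.mem_ker, toPerm_ker, ← toW'_ker g F,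
    MonoidHom.mem_ker] at hw
  exact hw

theorem wToPerm_range : (wToPerm g F).range = wG g.toGood := by
  rw [← toPerm_range (F := F)]
  ext p
  constructor
  · rintro ⟨w, rfl⟩
    obtain ⟨x, rfl⟩ := toW'_surjective g F w
    exact ⟨x, (wToPerm_toW' g F x).symm⟩
  · rintro ⟨x, rfl⟩
    exact ⟨toW' g F x, wToPerm_toW' g F x⟩

/-- the representative of a fundamental reflection -/
noncomputable def sI (i : Fin T.l) : (bnPair g F).S :=
  ⟨⟨nG g.toGood F i, nG_mem_group g.toGood i⟩, (mem_sSet_iff g.toGood).2 ⟨i, i.isLt, rfl⟩⟩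

theorem sI_bijective : Function.Bijective (sI g F) := by
  constructor
  · intro i j h
    have e : nG g.toGood F i = nG g.toGood F j :=
      congrArg (fun x : (bnPair g F).S => ((x : ↥(T.D.group F)) : GL T.D.Idx F)) h
    exact Fin.ext (nG_eq_of_inv_mul_mem g.toGood i.isLt j.isLt
      (by rw [e, inv_mul_cancel]; exact one_mem _))
  · rintro ⟨n, hn⟩
    obtain ⟨i, hi, e⟩ := (mem_sSet_iff g.toGood).1 hn
    exact ⟨⟨i, hi⟩, Subtype.ext (Subtype.ext e.symm)⟩

theorem toW'_nG (i : Fin T.l) :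
    toW' g F ⟨nG g.toGood F i, nG_mem_monomial g.toGood i.isLt⟩ = BN.σ (bnPair g F) (sI g F i) :=
  rfl

theorem wToPerm_σ (i : Fin T.l) :
    wToPerm g F (BN.σ (bnPair g F) (sI g F i)) = pL g.toGood [(i : ℕ)] := by
  rw [← toW'_nG, wToPerm_toW']
  exact toPerm_eq g.toGood (L := [(i : ℕ)]) (by simp [Wd]) (c := 1) (by simp [nWd])

/-- the Coxeter group of the matrix is `W` -/
noncomputable def coxEquiv {M : CoxeterMatrix (Fin T.l)}
    (hM : ∀ i j : Fin T.l, T.checkOrd [(i : ℕ), (j : ℕ)] (M i j) = true) :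
    BN.W (bnPair g F) ≃* M.Group :=
  let e := (Equiv.ofBijective _ (sI_bijective g F)).symm
  have hM' : (BN.cox (bnPair g F)).reindex e = M := CoxeterMatrix.ext (funext fun i => funext fun j => by
    show orderOf (BN.σ (bnPair g F) (sI g F i) * BN.σ (bnPair g F) (sI g F j)) = M i j
    rw [← orderOf_injective _ (wToPerm_injective g F), map_mul, wToPerm_σ, wToPerm_σ, ← pL_append]
    exact orderOf_pL g.toGood (hM i j))
  (hM' ▸ (BN.coxeterSystem (bnPair g F)).reindex e : CoxeterSystem M (BN.W (bnPair g F))).mulEquiv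

theorem coxEquiv_symm_simple {M : CoxeterMatrix (Fin T.l)}
    (hM : ∀ i j : Fin T.l, T.checkOrd [(i : ℕ), (j : ℕ)] (M i j) = true) (i : Fin T.l) :
    (coxEquiv g F hM).symm (M.simple i) = BN.σ (bnPair g F) (sI g F i) := by
  have key : ∀ (A : CoxeterMatrix (Fin T.l)) (cs : CoxeterSystem A (BN.W (bnPair g F)))
      (h : A = M), (h ▸ cs : CoxeterSystem M (BN.W (bnPair g F))).simple i = cs.simple i := by
    rintro A cs rfl; rfl
  refine (key _ _ _).trans ?_
  rw [CoxeterSystem.reindex_simple, BN.coxeterSystem_simple]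
  rfl

include g in
theorem exists_weyl_hom {M : CoxeterMatrix (Fin T.l)}
    (hM : ∀ i j : Fin T.l, T.checkOrd [(i : ℕ), (j : ℕ)] (M i j) = true) :
    ∃ φ : ↥(T.D.monomialSubgroup F) →* M.Group, Function.Surjective φ ∧
      φ.ker = (T.D.diagonalSubgroup F).subgroupOf (T.D.monomialSubgroup F) ∧
      ∀ (i : Fin T.l) (x : ↥(T.D.monomialSubgroup F)),
        ((x : GL T.D.Idx F) : Matrix T.D.Idx T.D.Idx F) = T.D.nMat F (T.D.simple i) 1 →
          φ x = M.simple i := by
  refine ⟨(coxEquiv g F hM).toMonoidHom.comp (toW' g F),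
    (coxEquiv g F hM).surjective.comp (toW'_surjective g F), ?_, fun i x hx => ?_⟩
  · rw [← toW'_ker g F]
    exact MonoidHom.ker_mulEquiv_comp _ _
  · obtain rfl : x = ⟨nG g.toGood F i, nG_mem_monomial g.toGood i.isLt⟩ :=
      Subtype.ext (Units.ext (by rw [nG_val g.toGood i.isLt, hx, nM]))
    show coxEquiv g F hM (toW' g F _) = _
    rw [toW'_nG, ← coxEquiv_symm_simple g F hM, MulEquiv.apply_symm_apply]

end

/-- The order of the Coxeter group. -/
theorem card_coxGroup (g : T.GoodA) {M : CoxeterMatrix (Fin T.l)}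
    (hM : ∀ i j : Fin T.l, T.checkOrd [(i : ℕ), (j : ℕ)] (M i j) = true)
    {J : List ℕ} (hJ : ∀ i < T.l, i ∈ J) : Nat.card M.Group = poinc g.toGood J 1 := by
  classical
  haveI : Fintype ↥(wG g.toGood) := Fintype.ofFinite _
  rw [← Nat.card_congr (coxEquiv g ℚ hM).toEquiv, ← poinc_top g.toGood hJ 1,
    Nat.card_congr (MonoidHom.ofInjective (wToPerm_injective g ℚ)).toEquiv, wToPerm_range]
  simp [Nat.card_eq_fintype_card]

/-- The order of a product of fundamental reflections. -/
theorem orderOf_coxeter (g : T.GoodA) {M : CoxeterMatrix (Fin T.l)}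
    (hM : ∀ i j : Fin T.l, T.checkOrd [(i : ℕ), (j : ℕ)] (M i j) = true) {m : ℕ}
    (h : T.checkOrd ((List.finRange T.l).map fun i : Fin T.l => (i : ℕ)) m = true) :
    orderOf ((List.finRange T.l).map M.simple).prod = m := by
  have hinj : Function.Injective fun x => wToPerm g ℚ ((coxEquiv g ℚ hM).symm x) :=
    (wToPerm_injective g ℚ).comp (coxEquiv g ℚ hM).symm.injective
  rw [← orderOf_injective ((wToPerm g ℚ).comp (coxEquiv g ℚ hM).symm.toMonoidHom) hinj]
  have e : ∀ L : List (Fin T.l),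
      ((wToPerm g ℚ).comp (coxEquiv g ℚ hM).symm.toMonoidHom) (L.map M.simple).prod =
        pL g.toGood (L.map fun i : Fin T.l => (i : ℕ)) := by
    intro L
    induction L with
    | nil => rw [List.map_nil, List.prod_nil, map_one]; rfl
    | cons i L ih =>
      rw [List.map_cons, List.prod_cons, map_mul, ih, List.map_cons,
        show ((i : ℕ) :: L.map fun i : Fin T.l => (i : ℕ)) = [(i : ℕ)] ++ L.map fun i : Fin T.l => (i : ℕ) from rfl,
        pL_append]
      congr 1
      show wToPerm g ℚ ((coxEquiv g ℚ hM).symm (M.simple i)) = _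
      rw [coxEquiv_symm_simple, wToPerm_σ]
  rw [e]
  exact orderOf_pL g.toGood h

end Tab

end Cfsg.Agent.Chev
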