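import Cfsg.Agent.Lib.Lie.TwBN
import Cfsg.Agent.Lib.Lie.ChevCoxeter

/-!
# Twisted groups: `N¹ / H¹` is the Coxeter group of the orbit words
-/

set_option autoImplicit false

namespace Cfsg.Agent.Chev

open Cfsg.Lie
open Matrix hiding zpow_mul inv_zpow mul_inv_rev zpow_add zpow_neg

namespace Tab

variable {T : Tab} {K : List (List ℕ)} {F : Type*} [Field F]

namespace Twist

variable {g : T.GoodK K} (X : Twist g F) [Finite F] (hB : X.Blocks) {q d : ℕ} (hq : 1 < q)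
  (hblk : ∀ b < X.nb, ∃ k, Nat.card ↥(uMinus g.toGood F (X.w b) ⊓ X.G1) = q ^ k ∧
    k * d = (T.invSet (X.w b)).card)

/-- `N¹` inside the twisted group -/
noncomputable def nEquiv1 : ↥(T.D.monomialSubgroup F ⊓ X.G1) ≃* ↥(X.bnPair hB hq hblk).N :=
  (Subgroup.subgroupOfEquivOfLe inf_le_right).symm

/-- `N¹ → W` -/
noncomputable def toW1 : ↥(T.D.monomialSubgroup F ⊓ X.G1) →* BN.W (X.bnPair hB hq hblk) :=
  (QuotientGroup.mk' (BN.hSub (X.bnPair hB hq hblk))).comp (X.nEquiv1 hB hq hblk).toMonoidHom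

theorem toW1_surjective : Function.Surjective (X.toW1 hB hq hblk) :=
  (QuotientGroup.mk'_surjective _).comp (X.nEquiv1 hB hq hblk).surjective

theorem toW1_ker : (X.toW1 hB hq hblk).ker =
    (T.D.diagonalSubgroup F ⊓ X.G1).subgroupOf (T.D.monomialSubgroup F ⊓ X.G1) := by
  ext x
  rw [MonoidHom.mem_ker, Subgroup.mem_subgroupOf]
  show ((X.nEquiv1 hB hq hblk x : ↥(X.bnPair hB hq hblk).N) : BN.W (X.bnPair hB hq hblk)) = 1 ↔ _
  rw [QuotientGroup.eq_one_iff]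
  constructor
  · intro h
    exact Subgroup.mem_inf.2 ⟨borel_inf_monomial g.toGood
      (Subgroup.mem_inf.1 (Subgroup.mem_subgroupOf.1 h.1)).1 (Subgroup.mem_inf.1 x.2).1,
      (Subgroup.mem_inf.1 x.2).2⟩
  · intro h
    refine ⟨?_, (X.nEquiv1 hB hq hblk x).2⟩
    exact Subgroup.mem_inf.2 ⟨Subgroup.mem_sup_right (S := T.D.posUnipotent F) h.1, h.2⟩

/-- `W → permutations of the roots` -/
noncomputable def w1Perm : BN.W (X.bnPair hB hq hblk) →* Equiv.Perm (Fin T.n) :=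
  QuotientGroup.lift _ (((toPerm g.toGood).comp (Subgroup.inclusion
      (inf_le_left : T.D.monomialSubgroup F ⊓ X.G1 ≤ T.D.monomialSubgroup F))).comp
      (X.nEquiv1 hB hq hblk).symm.toMonoidHom) (by
    intro x hx
    rw [MonoidHom.mem_ker, MonoidHom.comp_apply, MonoidHom.comp_apply, ← MonoidHom.mem_ker,
      toPerm_ker, Subgroup.mem_subgroupOf]
    exact borel_inf_monomial g.toGood (Subgroup.mem_inf.1 (Subgroup.mem_subgroupOf.1 hx.1)).1
      (Subgroup.mem_inf.1 ((X.nEquiv1 hB hq hblk).symm x).2).1)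

theorem w1Perm_toW1 (x : ↥(T.D.monomialSubgroup F ⊓ X.G1)) :
    X.w1Perm hB hq hblk (X.toW1 hB hq hblk x) =
      toPerm g.toGood (Subgroup.inclusion inf_le_left x) := by
  show toPerm g.toGood (Subgroup.inclusion _
    ((X.nEquiv1 hB hq hblk).symm (X.nEquiv1 hB hq hblk x))) = _
  rw [MulEquiv.symm_apply_apply]

theorem w1Perm_injective : Function.Injective (X.w1Perm hB hq hblk) := by
  rw [← MonoidHom.ker_eq_bot_iff, eq_bot_iff]
  intro w hw
  obtain ⟨x, rfl⟩ := X.toW1_surjective hB hq hblk w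
  rw [MonoidHom.mem_ker, w1Perm_toW1, ← MonoidHom.mem_ker, toPerm_ker,
    Subgroup.mem_subgroupOf] at hw
  have : x ∈ (X.toW1 hB hq hblk).ker := by
    rw [X.toW1_ker hB hq hblk, Subgroup.mem_subgroupOf]
    exact Subgroup.mem_inf.2 ⟨hw, (Subgroup.mem_inf.1 x.2).2⟩
  exact MonoidHom.mem_ker.1 this

/-- the representative of an orbit -/
noncomputable def sB1 (b : Fin X.nb) : (X.bnPair hB hq hblk).S :=
  ⟨⟨X.n b, X.n_mem b b.isLt⟩, b, b.isLt, rfl⟩

theorem sB1_bijective : Function.Bijective (X.sB1 hB hq hblk) := by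
  constructor
  · intro a b h
    have e : X.n a = X.n b :=
      congrArg (fun x : (X.bnPair hB hq hblk).S => ((x : ↥X.G1) : GL T.D.Idx F)) h
    obtain ⟨ca, hca⟩ := X.n_eq a a.isLt
    obtain ⟨cb, hcb⟩ := X.n_eq b b.isLt
    refine Fin.ext (hB.ne a a.isLt b b.isLt ?_)
    rw [← toPerm_eq g.toGood (X.w_wd a.isLt) (x := ⟨X.n a, X.n_mem_monomial a.isLt⟩) hca,
      ← toPerm_eq g.toGood (X.w_wd b.isLt) (x := ⟨X.n b, X.n_mem_monomial b.isLt⟩) hcb]
    congr 1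
    exact Subtype.ext e
  · rintro ⟨x, b, hb, e⟩
    exact ⟨⟨b, hb⟩, Subtype.ext (Subtype.ext e.symm)⟩

theorem w1Perm_σ (b : Fin X.nb) :
    X.w1Perm hB hq hblk (BN.σ (X.bnPair hB hq hblk) (X.sB1 hB hq hblk b)) =
      pL g.toGood (X.w b) := by
  have e : BN.σ (X.bnPair hB hq hblk) (X.sB1 hB hq hblk b) = X.toW1 hB hq hblk
      ⟨X.n b, Subgroup.mem_inf.2 ⟨X.n_mem_monomial b.isLt, X.n_mem b b.isLt⟩⟩ := rfl
  rw [e, w1Perm_toW1]
  obtain ⟨c, hc⟩ := X.n_eq b b.isLt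
  exact toPerm_eq g.toGood (X.w_wd b.isLt) hc

include hB hq hblk in
/-- `N¹/H¹` is the Coxeter group. -/
theorem exists_weyl_hom1 {M : CoxeterMatrix (Fin X.nb)}
    (hM : ∀ a b : Fin X.nb, T.checkOrd (X.w a ++ X.w b) (M a b) = true) :
    ∃ φ : ↥(T.D.monomialSubgroup F ⊓ X.G1) →* M.Group, Function.Surjective φ ∧
      φ.ker = (T.D.diagonalSubgroup F ⊓ X.G1).subgroupOf (T.D.monomialSubgroup F ⊓ X.G1) := by
  let e := (Equiv.ofBijective _ (X.sB1_bijective hB hq hblk)).symm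
  have hM' : (BN.cox (X.bnPair hB hq hblk)).reindex e = M :=
    CoxeterMatrix.ext (funext fun a => funext fun b => by
      show orderOf (BN.σ (X.bnPair hB hq hblk) (X.sB1 hB hq hblk a) *
        BN.σ (X.bnPair hB hq hblk) (X.sB1 hB hq hblk b)) = M a b
      rw [← orderOf_injective _ (X.w1Perm_injective hB hq hblk), map_mul, w1Perm_σ, w1Perm_σ,
        ← pL_append]
      exact orderOf_pL g.toGood (hM a b))
  let ce : BN.W (X.bnPair hB hq hblk) ≃* M.Group :=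
    (hM' ▸ (BN.coxeterSystem (X.bnPair hB hq hblk)).reindex e :
      CoxeterSystem M (BN.W (X.bnPair hB hq hblk))).mulEquiv
  refine ⟨ce.toMonoidHom.comp (X.toW1 hB hq hblk),
    ce.surjective.comp (X.toW1_surjective hB hq hblk), ?_⟩
  rw [← X.toW1_ker hB hq hblk]
  exact MonoidHom.ker_mulEquiv_comp _ _

include hB hq hblk in
/-- `N¹/H¹` as a group of permutations -/
theorem exists_perm_hom1 :
    ∃ φ : ↥(T.D.monomialSubgroup F ⊓ X.G1) →* Equiv.Perm (Fin T.n),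
      (φ.range : Set (Equiv.Perm (Fin T.n))) = ↑X.w1 ∧
      φ.ker = (T.D.diagonalSubgroup F ⊓ X.G1).subgroupOf (T.D.monomialSubgroup F ⊓ X.G1) ∧
      ∀ b < X.nb, pL g.toGood (X.w b) ∈ φ.range := by
  refine ⟨(X.w1Perm hB hq hblk).comp (X.toW1 hB hq hblk), ?_, ?_, fun b hb => ?_⟩
  · ext p
    simp only [SetLike.mem_coe, MonoidHom.mem_range, MonoidHom.comp_apply, w1Perm_toW1, mem_w1_iff,
      Finset.mem_coe]
    constructor
    · rintro ⟨x, rfl⟩
      obtain ⟨hxN, hx1⟩ := Subgroup.mem_inf.1 x.2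
      obtain ⟨L, hL, hc, c, e⟩ := X.mono_class hxN hx1
      exact ⟨L, hL, hc, (toPerm_eq g.toGood hL (x := Subgroup.inclusion inf_le_left x) e).symm⟩
    · rintro ⟨L, hL, hc, rfl⟩
      obtain ⟨c, hc'⟩ := X.exists_lift hL hc
      exact ⟨⟨_, Subgroup.mem_inf.2 ⟨(mem_monomial_iff g.toGood).2 ⟨L, hL, c, rfl⟩, hc'⟩⟩,
        toPerm_eq g.toGood hL rfl⟩
  · rw [← X.toW1_ker hB hq hblk]
    exact MonoidHom.ker_comp_of_injective _ _ (X.w1Perm_injective hB hq hblk)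
  · obtain ⟨x, hx⟩ := X.toW1_surjective hB hq hblk
      (BN.σ (X.bnPair hB hq hblk) (X.sB1 hB hq hblk ⟨b, hb⟩))
    refine ⟨x, ?_⟩
    rw [MonoidHom.comp_apply, hx, w1Perm_σ]

end Twist

end Tab

end Cfsg.Agent.Chev
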