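import Cfsg.Agent.Lib.Lie.TwGraph
import Cfsg.Agent.Lib.Lie.TwCox
import Cfsg.Agent.Lib.Lie.GoodK
import Cfsg.Prelude.Def_LieTwisted

/-! The groups `³D₄(q)`. -/

set_option autoImplicit false
set_option maxRecDepth 20000

namespace Cfsg.Agent.Chev.TwD4

open Cfsg.Lie
open Tab
open scoped commutatorElement

/-- coefficient forms -/
def phiK : List (List ℕ) := [[4, 4, 2, 2], [4, 8, 4, 4], [2, 4, 4, 2], [2, 4, 2, 4]]

theorem gK : D4Data.tab.GoodK phiK :=
  ⟨⟨D4Data.good, by decide +kernel⟩, by decide +kernel⟩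

theorem gA : D4Data.tab.GoodA := gK.toGoodA

theorem g0 : D4Data.tab.Good := gK.toGood

/-- the twisted group, typed over the tables -/
noncomputable abbrev tw (F : Type*) [Field F] (q : ℕ) : Subgroup (GL D4Data.tab.D.Idx F) :=
  D4Data.tab.D.genSubgroup F (d4Words F q)

theorem tw_eq (F : Type*) [Field F] (q : ℕ) : twistedD4 F q = tw F q := rfl

/-- the orbit words -/
def wd : ℕ → List ℕ
  | 0 => [1]
  | 1 => [0, 2, 3]
  | _ => []

theorem wd_wd : ∀ b, D4Data.tab.Wd (wd b)
  | 0 => by intro i hi; simp [wd] at hi; subst hi; decide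
  | 1 => by intro i hi; simp [wd] at hi; rcases hi with rfl | rfl | rfl <;> decide
  | n + 2 => by intro i hi; simp [wd] at hi

theorem twOK : D4Data.tab.checkTw D4Data.symA wd wd 2 = true := by decide +kernel

theorem blkOK : D4Data.tab.checkBlk wd 2 = true := by decide +kernel

theorem connOK : D4Data.tab.checkConnB wd 2 = true := by decide +kernel

theorem inv0 : D4Data.tab.invSet (wd 0) = [14].toFinset := by decide +kernel

theorem inv1 : D4Data.tab.invSet (wd 1) = [12, 13, 18].toFinset := by decide +kernel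

theorem orbit1 : D4Data.tab.checkOrbit D4Data.symA [12, 13, 18] = true := by decide +kernel

variable {F : Type*} [Field F] [Fintype F] {q : ℕ} (hq : IsPrimePow q)
  (hK : Fintype.card F = q ^ 3)

/-- `t ↦ t ^ q` -/
noncomputable def psi : F →+* F := (TwField.exists_powHom hq hK).choose

theorem psi_apply (t : F) : psi hq hK t = t ^ q := (TwField.exists_powHom hq hK).choose_spec t

include hq hK in
theorem neg_one_pow : ((-1 : F)) ^ q = -1 := by
  rw [← psi_apply hq hK, map_neg, map_one]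

include hq hK in
theorem pow_three (t : F) : ((t ^ q) ^ q) ^ q = t := by
  rw [← pow_mul, ← pow_mul, show q * (q * q) = q ^ 3 by ring, TwField.pow_pow_eq hK]

/-- the endomorphism -/
noncomputable abbrev sigma : GL D4Data.tab.D.Idx F →* GL D4Data.tab.D.Idx F :=
  graphσ g0 D4Data.symA_ok (psi hq hK)

/-- the coordinates along the long orbit -/
def coord (q : ℕ) (t : F) (r : ℕ) : F :=
  if r = 18 ∨ r = 5 then t else if r = 13 ∨ r = 10 then t ^ q else (t ^ q) ^ q

/-- positive orbit element -/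
noncomputable def eP (q : ℕ) (t : F) : GL D4Data.tab.D.Idx F := sProd g0 [12, 13, 18] (coord q t)

/-- negative orbit element -/
noncomputable def eN (q : ℕ) (t : F) : GL D4Data.tab.D.Idx F := sProd g0 [5, 10, 11] (coord q t)

theorem eP_word (t : F) :
    eP q t = (([(d4p1, t), (d4p3, t ^ q), (d4p4, t ^ (q ^ 2))] : List (ℕ × F)).map
      fun e => xg g0 e.1 e.2).prod := by
  have h := sProd_perm gA (R := [12, 13, 18]) (R' := [18, 13, 12]) (by decide +kernel)
    ((List.isPerm_iff).1 (by decide +kernel)) (coord q t)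
  rw [eP]
  refine h.trans ?_
  simp [sProd, coord, d4p1, d4p3, d4p4, pow_two, pow_mul]

theorem eN_word (t : F) :
    eN q t = (([(d4m1, t), (d4m3, t ^ q), (d4m4, t ^ (q ^ 2))] : List (ℕ × F)).map
      fun e => xg g0 e.1 e.2).prod := by
  simp [eN, sProd, coord, d4m1, d4m3, d4m4, pow_two, pow_mul]

theorem eP_mem (t : F) : eP q t ∈ tw F q := by
  rw [eP_word]
  exact word_mem g0 (Or.inr ⟨t, (d4p1, d4p3, d4p4), by simp, rfl⟩)

theorem eN_mem (t : F) : eN q t ∈ tw F q := by
  rw [eN_word]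
  exact word_mem g0 (Or.inr ⟨t, (d4m1, d4m3, d4m4), by simp, rfl⟩)

theorem mid_mem {r : ℕ} (hr : r = d4p2 ∨ r = d4m2) {t : F} (ht : t ^ q = t) :
    xg g0 r t ∈ tw F q := by
  have h : (([(r, t)] : List (ℕ × F)).map fun e => xg g0 e.1 e.2).prod ∈ tw F q :=
    word_mem g0 (Or.inl ⟨t, ht, r, by simpa using hr, rfl⟩)
  simpa using h

theorem sigma_mid {r : ℕ} (hr : r = d4p2 ∨ r = d4m2) {t : F} (ht : t ^ q = t) :
    sigma hq hK (xg g0 r t) = xg g0 r t := by
  rcases hr with rfl | rfl
  · rw [sigma, graphσ_xg g0 _ _ (by decide +kernel), psi_apply, ht,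
      show D4Data.symA.π.getD d4p2 0 = d4p2 from rfl, show D4Data.symA.ζ.getD d4p2 1 = 1 from rfl]
    simp
  · rw [sigma, graphσ_xg g0 _ _ (by decide +kernel), psi_apply, ht,
      show D4Data.symA.π.getD d4m2 0 = d4m2 from rfl, show D4Data.symA.ζ.getD d4m2 1 = 1 from rfl]
    simp

include hq hK in
theorem coord_rel (t : F) (r : ℕ) (hr : r ∈ [12, 13, 18, 5, 10, 11]) :
    coord q t (D4Data.symA.π.getD r 0) =
      (D4Data.symA.ζ.getD r 1 : F) * psi hq hK (coord q t r) := by
  have h3 := pow_three hq hK t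
  simp only [List.mem_cons, List.not_mem_nil, or_false] at hr
  rcases hr with rfl | rfl | rfl | rfl | rfl | rfl <;>
    simp [coord, D4Data.symA, psi_apply, h3]

theorem twisted_fixed : ∀ x ∈ tw F q,
    x ∈ D4Data.tab.D.group F ∧ sigma hq hK x = x := by
  refine graphσ_fixed g0 _ _ ?_
  rintro w (⟨t, ht, r, hr, rfl⟩ | ⟨t, rs, hrs, rfl⟩)
  · simp only [List.map_cons, List.map_nil, List.prod_cons, List.prod_nil, mul_one]
    exact sigma_mid hq hK (by simpa using hr) ht
  · simp only [List.mem_cons, List.not_mem_nil, or_false] at hrs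
    rcases hrs with rfl | rfl
    · rw [← eP_word]
      exact sProd_fixed gA _ _ (by decide +kernel) (by decide +kernel) (by decide +kernel) _
        fun r hr => coord_rel hq hK t r (by simp only [List.mem_cons] at hr ⊢; tauto)
    · rw [← eN_word]
      exact sProd_fixed gA _ _ (by decide +kernel) (by decide +kernel) (by decide +kernel) _
        fun r hr => coord_rel hq hK t r (by simp only [List.mem_cons] at hr ⊢; tauto)

include hq hK in
theorem nE_mid_mem {t : F} (ht : t ^ q = t) : nE g0 (D4Data.tab.smp 1) t ∈ tw F q := by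
  have hs : D4Data.tab.smp 1 = d4p2 := by decide +kernel
  have hn : D4Data.tab.neg (D4Data.tab.smp 1) = d4m2 := by decide +kernel
  have hi : (-t⁻¹) ^ q = -t⁻¹ := by
    rw [neg_pow, neg_one_pow hq hK, inv_pow, ht, neg_one_mul]
  rw [nE, hn, hs]
  exact mul_mem (mul_mem (mid_mem (Or.inl rfl) ht) (mid_mem (Or.inr rfl) hi))
    (mid_mem (Or.inl rfl) ht)

include hq hK in
theorem nE_orbit_mem (t : F) :
    nE g0 (D4Data.tab.smp 0) t * nE g0 (D4Data.tab.smp 2) (t ^ q) *
      nE g0 (D4Data.tab.smp 3) ((t ^ q) ^ q) ∈ tw F q := by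
  have hw : ([D4Data.tab.smp 0, D4Data.tab.smp 2, D4Data.tab.smp 3,
      D4Data.tab.neg 18, D4Data.tab.neg 13, D4Data.tab.neg 12]) = [18, 13, 12, 5, 10, 11] := by
    decide +kernel
  simp only [List.cons.injEq, and_true] at hw
  obtain ⟨e0, e2, e3, f0, f2, f3⟩ := hw
  have hc : ∀ r s : ℕ, D4Data.tab.checkComPair [r] [s] = true → ∀ a b : F,
      Commute (xg g0 r a) (xg g0 s b) := fun r s h a b => by
    simp only [checkComPair, List.all_cons, List.all_nil, Bool.and_true, Bool.and_eq_true, nat_blt,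
      Bool.not_eq_true', List.isEmpty_iff, nat_beq_false] at h
    exact xg_commute gA h.1 h.2.1.1.1 h.2.1.1.2 h.2.1.2 h.2.2 a b
  simp only [nE, e0, e2, e3, f0, f2, f3]
  set a := xg g0 18 t
  set b := xg g0 5 (-t⁻¹)
  set a' := xg g0 13 (t ^ q)
  set b' := xg g0 10 (-(t ^ q)⁻¹)
  set a'' := xg g0 12 ((t ^ q) ^ q)
  set b'' := xg g0 11 (-((t ^ q) ^ q)⁻¹)
  have h1 : (b * a) * (b' * a') * (b'' * a'') = (b * b' * b'') * (a * a' * a'') :=
    regroup2 (hc _ _ (by decide +kernel) _ _) (hc _ _ (by decide +kernel) _ _)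
      (hc _ _ (by decide +kernel) _ _)
  have h2 : (a * (b * a)) * (a' * (b' * a')) * (a'' * (b'' * a'')) =
      (a * a' * a'') * ((b * a) * (b' * a') * (b'' * a'')) :=
    regroup2 ((hc _ _ (by decide +kernel) _ _).mul_left (hc _ _ (by decide +kernel) _ _))
      ((hc _ _ (by decide +kernel) _ _).mul_left (hc _ _ (by decide +kernel) _ _))
      ((hc _ _ (by decide +kernel) _ _).mul_left (hc _ _ (by decide +kernel) _ _))
  have ea : a * a' * a'' ∈ tw F q := by
    have := eP_mem (q := q) t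
    rw [eP_word] at this
    simpa [mul_assoc, pow_two, pow_mul, d4p1, d4p3, d4p4] using this
  have eb : b * b' * b'' ∈ tw F q := by
    have := eN_mem (q := q) (-t⁻¹)
    rw [eN_word] at this
    have e1 : (-t⁻¹) ^ q = -(t ^ q)⁻¹ := by
      rw [neg_pow, neg_one_pow hq hK, inv_pow, neg_one_mul]
    have e2 : (-(t ^ q)⁻¹) ^ q = -((t ^ q) ^ q)⁻¹ := by
      rw [neg_pow, neg_one_pow hq hK, inv_pow, neg_one_mul]
    simpa [mul_assoc, pow_two, pow_mul, d4m1, d4m3, d4m4, e1, e2, b, b', b''] using this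
  simp only [mul_assoc] at h1 h2 ⊢
  rw [h2, h1]
  simpa [mul_assoc] using mul_mem (mul_mem ea eb) ea

include hq hK in
theorem n_mem : ∀ b < 2, nWd g0 F (wd b) ∈ tw F q := by
  have e : ∀ i, nG g0 F i = nE g0 (D4Data.tab.smp i) (1 : F) := fun i => by simp [nG, nE]
  intro b hb
  interval_cases b
  · simp only [wd, nWd, List.map_cons, List.map_nil, List.prod_cons, List.prod_nil, mul_one, e]
    exact nE_mid_mem hq hK (one_pow q)
  · have := nE_orbit_mem hq hK (1 : F)
    simp only [one_pow] at this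
    simp only [wd, nWd, List.map_cons, List.map_nil, List.prod_cons, List.prod_nil, mul_one, e]
    rwa [← mul_assoc]

theorem fixed0 {u : GL D4Data.tab.D.Idx F} (hu : u ∈ uMinus g0 F (wd 0))
    (h : sigma hq hK u = u) : ∃ t : F, t ^ q = t ∧ u = xg g0 d4p2 t := by
  obtain ⟨a, rfl⟩ := uMinus_coords gA (show D4Data.tab.Wd (wd 0) from wd_wd 0)
    (List.pairwise_singleton _ 14) inv0.symm hu
  have h' := (fixed_orbit gA D4Data.symA_ok (psi hq hK) (R := [14]) (by decide +kernel) a).1 h 14
    (by simp)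
  simp [D4Data.symA, psi_apply] at h'
  exact ⟨a 14, h'.symm, by simp [sProd, d4p2]⟩

theorem fixed1 {u : GL D4Data.tab.D.Idx F} (hu : u ∈ uMinus g0 F (wd 1))
    (h : sigma hq hK u = u) : ∃ t : F, u = eP q t := by
  obtain ⟨a, rfl⟩ := uMinus_coords gA (show D4Data.tab.Wd (wd 1) from wd_wd 1)
    (by decide : ([12, 13, 18] : List ℕ).Pairwise (· < ·)) inv1.symm hu
  have h' := (fixed_orbit gA D4Data.symA_ok (psi hq hK) orbit1 a).1 h
  have h1 := h' 18 (by simp)
  have h2 := h' 13 (by simp)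
  simp [D4Data.symA, psi_apply] at h1 h2
  refine ⟨a 18, sProd_congr g0 fun r hr => ?_⟩
  simp only [List.mem_cons, List.not_mem_nil, or_false] at hr
  rcases hr with rfl | rfl | rfl <;> simp [coord, h1, h2]

/-- the data of the twisted group -/
@[reducible]
noncomputable def X : Tab.Twist gK F :=
  graphTwist gK D4Data.symA_ok (psi hq hK) twOK (tw F q) (twisted_fixed hq hK)
    (n_mem hq hK) (fun b hb u hu h => by
      interval_cases b
      · obtain ⟨t, ht, rfl⟩ := fixed0 hq hK hu h
        exact mid_mem (Or.inl rfl) ht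
      · obtain ⟨t, rfl⟩ := fixed1 hq hK hu h
        exact eP_mem t)

theorem blocks : (X hq hK).Blocks := (X hq hK).blocks_of_check blkOK

include hq hK in
theorem card_orbit0 :
    Nat.card ↥(uMinus g0 F (wd 0) ⊓ tw F q) = q := by
  have hs : d4p2 ∈ {r | D4Data.tab.N ≤ r ∧ r < D4Data.tab.n ∧ D4Data.tab.rw' (wd 0) r < D4Data.tab.N} := by
    show _ ∧ _ ∧ _
    decide +kernel
  let f : {t : F // t ^ q = t} → ↥(uMinus g0 F (wd 0) ⊓ tw F q) := fun t =>
    ⟨xg g0 d4p2 t.1, Subgroup.mem_inf.2 ⟨xg_mem_genS g0 hs _, mid_mem (Or.inl rfl) t.2⟩⟩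
  have hf : Function.Bijective f := by
    refine ⟨fun a b e => Subtype.ext (xg_injective g0 (show d4p2 < D4Data.tab.n by decide +kernel)
      (congrArg Subtype.val e)), ?_⟩
    rintro ⟨u, hu⟩
    obtain ⟨t, ht, rfl⟩ := fixed0 hq hK hu.1 (twisted_fixed hq hK u hu.2).2
    exact ⟨⟨t, ht⟩, rfl⟩
  rw [← Nat.card_eq_of_bijective f hf, TwField.card_fixed hq.one_lt hK]

include hq hK in
theorem card_orbit1 :
    Nat.card ↥(uMinus g0 F (wd 1) ⊓ tw F q) = q ^ 3 := by
  have hs : ∀ r ∈ ([12, 13, 18] : List ℕ),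
      r ∈ {r | D4Data.tab.N ≤ r ∧ r < D4Data.tab.n ∧ D4Data.tab.rw' (wd 1) r < D4Data.tab.N} := by
    show ∀ r ∈ ([12, 13, 18] : List ℕ), _ ∧ _ ∧ _
    decide +kernel
  let f : F → ↥(uMinus g0 F (wd 1) ⊓ tw F q) := fun t =>
    ⟨eP q t, Subgroup.mem_inf.2 ⟨sProd_mem g0 hs _, eP_mem t⟩⟩
  have hf : Function.Bijective f := by
    refine ⟨fun a b e => ?_, ?_⟩
    · have := sProd_unique g0 (by decide : ([12, 13, 18] : List ℕ).Pairwise (· < ·))
        (fun r hr => ⟨(hs r hr).1, (hs r hr).2.1⟩) (congrArg Subtype.val e) 18 (by simp)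
      simpa [coord] using this
    rintro ⟨u, hu⟩
    obtain ⟨t, rfl⟩ := fixed1 hq hK hu.1 (twisted_fixed hq hK u hu.2).2
    exact ⟨t, rfl⟩
  rw [← Nat.card_eq_of_bijective f hf, Nat.card_eq_fintype_card, hK]

theorem hblk : ∀ b < (X hq hK).nb, ∃ k,
    Nat.card ↥(uMinus gK.toGood F ((X hq hK).w b) ⊓ (X hq hK).G1) = q ^ k ∧
      k * 1 = (D4Data.tab.invSet ((X hq hK).w b)).card := by
  intro b hb
  change b < 2 at hb
  interval_cases b
  · exact ⟨1, (card_orbit0 hq hK).trans (pow_one q).symm, by rw [show D4Data.tab.invSet _ = _ from inv0]; rfl⟩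
  · exact ⟨3, card_orbit1 hq hK, by rw [show D4Data.tab.invSet _ = _ from inv1]; rfl⟩

/-! ### the torus -/

/-- parameters of the fixed torus -/
def par (q : ℕ) (p : Fˣ × {u : Fˣ // (u : F) ^ q = u}) (j : ℕ) : Fˣ :=
  match j with
  | 0 => p.1
  | 1 => p.2.1
  | 2 => p.1 ^ q
  | 3 => (p.1 ^ q) ^ q
  | _ => 1

theorem A_vals : (List.range 4).map (fun i => (List.range 4).map fun j =>
    D4Data.tab.A j (D4Data.tab.smp i)) =
    [[2, -1, 0, 0], [-1, 2, -1, -1], [0, -1, 2, 0], [0, -1, 0, 2]] := by decide +kernel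

theorem wt_vals (c : ℕ → Fˣ) :
    wt D4Data.tab F c (D4Data.tab.smp 0) = c 0 ^ (2 : ℤ) * c 1 ^ (-1 : ℤ) ∧
    wt D4Data.tab F c (D4Data.tab.smp 1) =
      c 0 ^ (-1 : ℤ) * c 1 ^ (2 : ℤ) * c 2 ^ (-1 : ℤ) * c 3 ^ (-1 : ℤ) ∧
    wt D4Data.tab F c (D4Data.tab.smp 2) = c 1 ^ (-1 : ℤ) * c 2 ^ (2 : ℤ) ∧
    wt D4Data.tab F c (D4Data.tab.smp 3) = c 1 ^ (-1 : ℤ) * c 3 ^ (2 : ℤ) := by
  have h := A_vals
  simp only [List.range_succ, List.range_zero, List.nil_append, List.cons_append, List.map_cons,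
    List.map_nil, List.cons.injEq, and_true] at h
  simp [wt, show D4Data.tab.l = 4 from rfl, Finset.prod_range_succ, h]

/-- an inverse Cartan matrix doubled -/
def killB : List (List ℤ) := [[2, 2, 1, 1], [2, 4, 2, 2], [1, 2, 2, 1], [1, 2, 1, 2]]

theorem killOK : D4Data.tab.checkKill killB 2 = true := by decide +kernel

include hq hK in
theorem hS_mid_mem {u : Fˣ} (hu : (u : F) ^ q = u) : hS D4Data.tab F 1 u ∈ tw F q := by
  rw [← hE_smp g0 (show 1 < D4Data.tab.l by decide), hE]
  exact mul_mem (nE_mid_mem hq hK hu) (nE_mid_mem hq hK (neg_one_pow hq hK))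

include hq hK in
theorem hS_orbit_mem (t : Fˣ) :
    hS D4Data.tab F 0 t * hS D4Data.tab F 2 (t ^ q) * hS D4Data.tab F 3 ((t ^ q) ^ q) ∈
      tw F q := by
  rw [← hE_smp g0 (show 0 < D4Data.tab.l by decide), ← hE_smp g0 (show 2 < D4Data.tab.l by decide),
    ← hE_smp g0 (show 3 < D4Data.tab.l by decide), hE, hE, hE]
  rw [regroup2 (nE_commute gA (by decide +kernel) _ _) (nE_commute gA (by decide +kernel) _ _)
    (nE_commute gA (by decide +kernel) _ _)]
  refine mul_mem ?_ ?_
  · simpa only [Units.val_pow_eq_pow_val] using nE_orbit_mem hq hK (t : F)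
  · have := nE_orbit_mem hq hK (-1 : F)
    simpa only [neg_one_pow hq hK] using this

include hq hK in
theorem par_mem (p : Fˣ × {u : Fˣ // (u : F) ^ q = u}) :
    tor D4Data.tab F (par q p) ∈ tw F q := by
  have e : par q p = fun j => par q p j := rfl
  have h : tor D4Data.tab F (par q p) = hS D4Data.tab F 1 p.2.1 *
      (hS D4Data.tab F 0 p.1 * hS D4Data.tab F 2 (p.1 ^ q) * hS D4Data.tab F 3 ((p.1 ^ q) ^ q)) := by
    simp only [hS_eq_tor, ← map_mul]
    refine tor_congr g0 fun j hj => ?_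
    change j < 4 at hj
    interval_cases j <;> simp [par, Pi.mulSingle_apply]
  rw [h]
  exact mul_mem (hS_mid_mem hq hK p.2.2) (hS_orbit_mem hq hK p.1)

theorem sigma_tor (c : ℕ → Fˣ) : sigma hq hK (tor D4Data.tab F c) =
    tor D4Data.tab F fun j => (c (D4Data.symA.ρ'.getD j 0)) ^ q := by
  have hm : ∀ u : Fˣ, Units.map (psi hq hK).toMonoidHom u = u ^ q := fun u => Units.ext (by
    simp [psi_apply])
  rw [sigma, graphσ_tor g0 _ _ (by decide +kernel) (by decide +kernel)]
  simp only [hm]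

include hq hK in
theorem card_torus :
    Nat.card ↥(D4Data.tab.D.diagonalSubgroup F ⊓ tw F q) =
      (q - 1) ^ 2 * (q ^ 2 + q + 1) := by
  let f : Fˣ × {u : Fˣ // (u : F) ^ q = u} →
      ↥(D4Data.tab.D.diagonalSubgroup F ⊓ tw F q) := fun p =>
    ⟨tor D4Data.tab F (par q p), Subgroup.mem_inf.2
      ⟨by rw [diagonalSubgroup_eq g0]; exact ⟨_, rfl⟩, par_mem hq hK p⟩⟩
  have hpm : ∀ z : Fˣ, z ^ 2 = 1 → z ^ q = z := by
    intro z hz
    refine Units.ext ?_
    rw [Units.val_pow_eq_pow_val, ← psi_apply hq hK]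
    have : (z : F) * z = 1 := by rw [← Units.val_mul, ← pow_two, hz, Units.val_one]
    rcases mul_self_eq_one_iff.1 this with e | e <;> simp [e]
  have hf : Function.Bijective f := by
    constructor
    · intro p p' e
      have hw := (tor_eq_iff_wt g0).1 (congrArg Subtype.val e)
      have h2 := wt_kill killOK hw
      obtain ⟨w0, w1, -, -⟩ := wt_vals (par q p / par q p')
      rw [hw 0 (by decide)] at w0
      rw [hw 1 (by decide)] at w1
      have a0 := h2 0 (by decide)
      have a1 := h2 1 (by decide)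
      simp only [Pi.div_apply, par] at w0 w1 a0 a1
      set z := p.1 / p'.1 with hz
      set u := p.2.1 / p'.2.1 with hu
      simp only [← div_pow, ← hz, hpm z a0] at w1
      have hu1 : u = 1 := by
        rw [zpow_ofNat, _root_.zpow_neg_one, a0, one_mul, eq_comm, inv_eq_one] at w0
        exact w0
      have hz1 : z = 1 := by
        have hzi : z⁻¹ = z := inv_eq_of_mul_eq_one_right (by rw [← pow_two, a0])
        rw [hu1, _root_.one_zpow, mul_one, _root_.zpow_neg_one, hzi, ← pow_two, a0, one_mul] at w1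
        exact w1.symm
      exact Prod.ext (div_eq_one.1 hz1) (Subtype.ext (div_eq_one.1 hu1))
    · rintro ⟨x, hx⟩
      obtain ⟨hxd, hx1⟩ := Subgroup.mem_inf.1 hx
      rw [diagonalSubgroup_eq g0] at hxd
      obtain ⟨c, rfl⟩ := hxd
      have hfix := (twisted_fixed hq hK _ hx1).2
      rw [sigma_tor, tor_eq_iff_wt g0] at hfix
      have hz2 := wt_kill killOK hfix
      set z : ℕ → Fˣ := (fun j => (c (D4Data.symA.ρ'.getD j 0)) ^ q) / c with hzd
      have hzero : tor D4Data.tab F z = 1 := by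
        rw [← map_one (tor D4Data.tab F), tor_eq_iff_wt g0]
        simpa using hfix
      have hzq : ∀ j < 4, z j ^ q = z j := fun j hj => hpm _ (hz2 j hj)
      set d : ℕ → Fˣ := fun j => c j * (z (D4Data.symA.ρ'.getD j 0)) ^ q with hd
      have hdc : tor D4Data.tab F d = tor D4Data.tab F c := by
        have e : sigma hq hK (tor D4Data.tab F z) = 1 := by rw [hzero, map_one]
        rw [sigma_tor] at e
        rw [show d = c * fun j => (z (D4Data.symA.ρ'.getD j 0)) ^ q from rfl, map_mul, e, mul_one]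
      have hfixd : ∀ j < 4, d (D4Data.symA.ρ'.getD j 0) ^ q = d j := by
        intro j hj
        have hρ : ∀ j < 4, D4Data.symA.ρ'.getD j 0 < 4 := by decide +kernel
        have hρ3 : ∀ j < 4, D4Data.symA.ρ'.getD (D4Data.symA.ρ'.getD (D4Data.symA.ρ'.getD j 0) 0) 0 = j := by
          decide +kernel
        set a := D4Data.symA.ρ'.getD j 0 with ha
        set b := D4Data.symA.ρ'.getD a 0 with hb
        have ha4 := hρ j hj
        have hb4 := hρ a ha4
        show (c a * z b ^ q) ^ q = c j * z a ^ q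
        rw [hzq b hb4, hzq a ha4, mul_pow, hzq b hb4]
        -- the three quotients multiply to one
        have e1 : z j = c a ^ q / c j := rfl
        have e2 : z a = c b ^ q / c a := rfl
        have e3 : z b = c j ^ q / c b := by
          show c (D4Data.symA.ρ'.getD b 0) ^ q / c b = _
          rw [hρ3 j hj]
        have hprod : z j * z a * z b = 1 := by
          have e2' : z a = (c b ^ q) ^ q / c a ^ q := by rw [← div_pow, ← e2, hzq a ha4]
          have e3' : z b = ((c j ^ q) ^ q) ^ q / (c b ^ q) ^ q := by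
            rw [← div_pow, ← div_pow, ← e3, hzq b hb4, hzq b hb4]
          rw [e1, e2', e3', show ((c j ^ q) ^ q) ^ q = c j from Units.ext (by
            simp only [Units.val_pow_eq_pow_val]; exact pow_three hq hK _)]
          rw [mul_comm (c a ^ q / c j), div_mul_div_cancel, mul_comm, div_mul_div_cancel, div_self']
        have ha2 : z a * z a = 1 := by rw [← pow_two]; exact hz2 a ha4
        calc c a ^ q * z b = c j * z j * z b := by rw [e1, mul_div_cancel]
          _ = c j * (z j * z a * z b) * z a := by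
            rw [show c j * (z j * z a * z b) * z a = c j * z j * z b * (z a * z a) by ac_rfl, ha2,
              mul_one]
          _ = c j * z a := by rw [hprod, mul_one]
      have f1 : (d 1 : F) ^ q = d 1 := by
        rw [← Units.val_pow_eq_pow_val]
        exact congrArg Units.val (hfixd 1 (by decide))
      refine ⟨(d 0, ⟨d 1, f1⟩), Subtype.ext ?_⟩
      show tor D4Data.tab F (par q (d 0, ⟨d 1, f1⟩)) = tor D4Data.tab F c
      rw [← hdc]
      refine tor_congr g0 fun j hj => ?_
      have g2 := hfixd 2 (by decide)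
      have g3 := hfixd 3 (by decide)
      simp [D4Data.symA] at g2 g3
      change j < 4 at hj
      interval_cases j <;> simp [par, g2, g3]
  rw [← Nat.card_eq_of_bijective f hf, Nat.card_prod, TwField.card_units hK,
    TwField.card_fixed_units hq.one_lt hK]
  obtain ⟨r, rfl⟩ : ∃ r, q = r + 1 := ⟨q - 1, by have := hq.one_lt; omega⟩
  have h1 : (r + 1) ^ 3 - 1 = r * ((r + 1) ^ 2 + (r + 1) + 1) := by
    rw [Nat.sub_eq_iff_eq_add (Nat.one_le_pow _ _ (by omega))]; ring
  rw [h1, Nat.add_sub_cancel]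
  ring

/-! ### Poincaré certificate -/

/-- representatives -/
def reps0 : List Tab.Rep :=
  [⟨[], 0, 302910732, [(true, 1)]⟩,
   ⟨[0], 1, 319361039, [(true, 0)]⟩]

/-- representatives -/
def reps1 : List Tab.Rep :=
  [⟨[1, 0, 1, 0, 1], 11, 68028168, [(false, 0), (true, 5)]⟩,
   ⟨[1], 3, 85330443, [(true, 3), (true, 4)]⟩,
   ⟨[1, 0, 1], 7, 102171394, [(true, 5), (true, 3)]⟩,
   ⟨[1, 0], 4, 285283349, [(true, 1), (true, 2)]⟩,
   ⟨[], 0, 302910732, [(false, 0), (true, 1)]⟩,
   ⟨[1, 0, 1, 0], 8, 318771215, [(true, 2), (true, 0)]⟩]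

/-- the steps -/
def steps : List (ℕ × List Tab.Rep) :=
  [(0, reps0), (1, reps1)]

theorem chainOK : D4Data.tab.checkChainB wd 1 2 [] steps = true := by decide +kernel

include hq hK in
theorem card_twisted :
    Nat.card ↥(tw F q) = q ^ 12 * (q ^ 2 - 1) * (q ^ 6 - 1) * (q ^ 8 + q ^ 4 + 1) := by
  have h := (X hq hK).card_G1_formula (d := 1) (M := 12) one_pos (hblk hq hK) rfl
    (steps := steps) chainOK
  have ht : Nat.card ↥(D4Data.tab.D.diagonalSubgroup F ⊓ (X hq hK).G1) =
      (q - 1) ^ 2 * (q ^ 2 + q + 1) := card_torus hq hK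
  rw [ht] at h
  refine h.trans ?_
  have h1 := hq.one_lt
  simp only [steps, reps0, reps1, List.map_cons, List.map_nil, List.sum_cons, List.sum_nil,
    List.prod_cons, List.prod_nil]
  zify [h1.le, Nat.one_le_pow 2 q (by omega), Nat.one_le_pow 6 q (by omega)]
  ring

include hq hK in
theorem card_pos : Nat.card ↥(D4Data.tab.D.posUnipotent F ⊓ tw F q) = q ^ 12 :=
  (X hq hK).card_pos_fixed one_pos (hblk hq hK) rfl

theorem derived : ⁅(X hq hK).G1, (X hq hK).G1⁆ = (X hq hK).G1 := by
  refine (X hq hK).derived_eq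
    (S := {x | ∃ w ∈ d4Words F q, x = (w.map fun e => xg g0 e.1 e.2).prod})
    (genSubgroup_eq g0 _) ?_ ?_
  · have hsp : ∀ w ∈ d4Words F q,
        (∀ e ∈ w, D4Data.tab.N ≤ e.1 ∧ e.1 < D4Data.tab.n) ∨ ∀ e ∈ w, e.1 < D4Data.tab.N := by
      rintro w (⟨t, -, r, hr, rfl⟩ | ⟨t, rs, hrs, rfl⟩)
      · simp only [List.mem_cons, List.not_mem_nil, or_false] at hr
        rcases hr with rfl | rfl
        · exact Or.inl (by simp [d4p2, show D4Data.tab.N = 12 from rfl, show D4Data.tab.n = 24 from rfl])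
        · exact Or.inr (by simp [d4m2, show D4Data.tab.N = 12 from rfl])
      · simp only [List.mem_cons, List.not_mem_nil, or_false] at hrs
        rcases hrs with rfl | rfl
        · exact Or.inl (by simp [d4p1, d4p3, d4p4, show D4Data.tab.N = 12 from rfl,
            show D4Data.tab.n = 24 from rfl])
        · exact Or.inr (by simp [d4m1, d4m3, d4m4, show D4Data.tab.N = 12 from rfl])
    rintro x ⟨w, hw, rfl⟩
    rcases hsp w hw with h | h
    · exact Or.inl (Subgroup.list_prod_mem _ fun y hy => by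
        obtain ⟨e, he, rfl⟩ := List.mem_map.1 hy
        exact xg_mem_genS g0 (S := Set.Ico D4Data.tab.N D4Data.tab.n) (r := e.1) (h e he) _)
    · exact Or.inr (Subgroup.list_prod_mem _ fun y hy => by
        obtain ⟨e, he, rfl⟩ := List.mem_map.1 hy
        exact xg_mem_genS g0 (S := Set.Iio D4Data.tab.N) (r := e.1) (h e he) _)
  · intro b hb z hz hz1
    change b < 2 at hb
    interval_cases b
    · obtain ⟨t, ht, rfl⟩ := fixed0 hq hK hz (twisted_fixed hq hK z hz1).2
      refine (X hq hK).derived_of_pair (r := 23) (s := 1) (k := 14) (C := 1) (z := t)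
        (by decide +kernel) (by decide +kernel) (by decide) (by decide +kernel) rfl
        (by decide +kernel) rfl rfl ?_ ?_
      · show (D4Data.symA.ζ.getD 1 1 : F) * psi hq hK t = t
        simp [D4Data.symA, psi_apply, ht]
      · show (D4Data.symA.ζ.getD 23 1 : F) * psi hq hK (-((1 : ℤ) : F)) = _
        simp [D4Data.symA]
    · obtain ⟨u, hu⟩ := TwField.exists_sq_ne_one (K := F) (by
        rw [hK]
        calc 4 ≤ 2 ^ 3 := by norm_num
          _ ≤ q ^ 3 := Nat.pow_le_pow_left hq.two_le 3)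
      refine (X hq hK).derived_of_torus hb (R := [12, 13, 18]) (by decide) inv1.symm
        (par_mem hq hK (u, ⟨1, by simp⟩)) (fun r hr => ?_) hz hz1
      have hsq : ∀ v : Fˣ, v ^ 2 ≠ 1 → (v ^ q) ^ 2 ≠ 1 := fun v hv e => hv (by
        have e' : Units.map (psi hq hK).toMonoidHom (v ^ 2) = 1 := by
          rw [← e]; refine Units.ext ?_; simp [psi_apply, ← pow_mul, mul_comm]
        exact Units.map_injective (psi hq hK).injective (e'.trans (map_one _).symm))
      obtain ⟨w0, -, w2, w3⟩ := wt_vals (par q (u, (⟨1, by simp⟩ : {u : Fˣ // (u : F) ^ q = u})))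
      simp only [par, _root_.one_zpow, mul_one, one_mul, zpow_ofNat] at w0 w2 w3
      simp only [List.mem_cons, List.not_mem_nil, or_false] at hr
      rcases hr with rfl | rfl | rfl
      · rw [show (12 : ℕ) = D4Data.tab.smp 3 by decide +kernel, w3]; exact hsq _ (hsq _ hu)
      · rw [show (13 : ℕ) = D4Data.tab.smp 2 by decide +kernel, w2]; exact hsq _ hu
      · rw [show (18 : ℕ) = D4Data.tab.smp 0 by decide +kernel, w0]; exact hu

theorem sep : (X hq hK).Sep := by
  intro b hb j hj c hc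
  change b < 2 at hb
  interval_cases b
  · change j ∈ [1] at hj
    have hj1 : j = 1 := by simpa using hj
    subst hj1
    refine (X hq hK).sep_of_witness (R := [14]) (List.pairwise_singleton _ _)
      (fun r hr => by rw [show D4Data.tab.invSet _ = _ from inv0]; exact List.mem_toFinset.2 hr)
      (by decide +kernel) (a := fun _ => 1) one_ne_zero ?_ hc
    simpa [sProd] using mid_mem (q := q) (F := F) (r := 14) (Or.inl rfl) (one_pow q)
  · refine (X hq hK).sep_of_witness (R := [12, 13, 18]) (by decide)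
      (fun r hr => by rw [show D4Data.tab.invSet _ = _ from inv1]; exact List.mem_toFinset.2 hr)
      ?_ (a := fun _ => 1) one_ne_zero ?_ hc
    · change j ∈ [0, 2, 3] at hj
      simp only [List.mem_cons, List.not_mem_nil, or_false] at hj
      rcases hj with rfl | rfl | rfl <;> decide +kernel
    · have : sProd g0 [12, 13, 18] (fun _ => (1 : F)) = eP q 1 :=
        sProd_congr g0 fun r _ => by simp [coord]
      rw [this]
      exact eP_mem 1

theorem cox : ∀ a b : Fin 2,
    D4Data.tab.checkOrd (wd a ++ wd b) (CoxeterMatrix.G₂ a b) = true := by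
  decide +kernel

end Cfsg.Agent.Chev.TwD4
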