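import Cfsg.Agent.Lib.Lie.TwClosure
import Cfsg.Agent.Lib.Lie.TwCox
import Cfsg.Agent.Lib.Lie.GoodK
import Cfsg.Prelude.Def_LieTwisted

/-! The groups `²E₆(q)`. -/

set_option autoImplicit false
set_option maxRecDepth 20000

namespace Cfsg.Agent.Chev.TwE6

open Cfsg.Lie
open Tab
open scoped commutatorElement

/-- coefficient forms -/
def phiK : List (List ℕ) := [[4, 3, 5, 6, 4, 2], [3, 6, 6, 9, 6, 3], [5, 6, 10, 12, 8, 4],
  [6, 9, 12, 18, 12, 6], [4, 6, 8, 12, 10, 5], [2, 3, 4, 6, 5, 4]]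

theorem gK : E6Data.tab.GoodK phiK :=
  ⟨⟨E6Data.good, by decide +kernel⟩, by decide +kernel⟩

theorem gA : E6Data.tab.GoodA := gK.toGoodA

theorem g0 : E6Data.tab.Good := gK.toGood

/-- the twisted group, typed over the tables -/
noncomputable abbrev tw (F : Type*) [Field F] (q : ℕ) : Subgroup (GL E6Data.tab.D.Idx F) :=
  E6Data.tab.D.genSubgroup F (e6Words F q)

theorem tw_eq (F : Type*) [Field F] (q : ℕ) : twistedE6 F q = tw F q := rfl

/-- the orbit words -/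
def wd : ℕ → List ℕ
  | 0 => [1]
  | 1 => [3]
  | 2 => [2, 4]
  | 3 => [0, 5]
  | _ => []

theorem twOK : E6Data.tab.checkTw E6Data.sym wd wd 4 = true := by decide +kernel

theorem blkOK : E6Data.tab.checkBlk wd 4 = true := by decide +kernel

theorem connOK : E6Data.tab.checkConnB wd 4 = true := by decide +kernel

theorem inv0 : E6Data.tab.invSet (wd 0) = [46].toFinset := by decide +kernel

theorem inv1 : E6Data.tab.invSet (wd 1) = [39].toFinset := by decide +kernel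

theorem inv2 : E6Data.tab.invSet (wd 2) = [37, 42].toFinset := by decide +kernel

theorem inv3 : E6Data.tab.invSet (wd 3) = [36, 56].toFinset := by decide +kernel

theorem wd_wd : ∀ b, E6Data.tab.Wd (wd b)
  | 0 => by intro i hi; simp [wd] at hi; subst hi; decide
  | 1 => by intro i hi; simp [wd] at hi; subst hi; decide
  | 2 => by intro i hi; simp [wd] at hi; rcases hi with rfl | rfl <;> decide
  | 3 => by intro i hi; simp [wd] at hi; rcases hi with rfl | rfl <;> decide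
  | n + 4 => by intro i hi; simp [wd] at hi

variable {F : Type*} [Field F]

/-- nodes `i`, `j` form an orbit of commuting nodes -/
def IsPair (i j : ℕ) : Prop := (i = 2 ∧ j = 4) ∨ (i = 0 ∧ j = 5)

/-- node `i` is fixed -/
def IsMid (i : ℕ) : Prop := i = 1 ∨ i = 3

theorem pair_data {i j : ℕ} (h : IsPair i j) :
    i < 6 ∧ j < 6 ∧
    E6Data.tab.checkComPair [E6Data.tab.smp i, E6Data.tab.neg (E6Data.tab.smp i)]
      [E6Data.tab.smp j, E6Data.tab.neg (E6Data.tab.smp j)] = true ∧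
    E6Data.tab.checkComPair [E6Data.tab.smp j, E6Data.tab.neg (E6Data.tab.smp j)]
      [E6Data.tab.smp i, E6Data.tab.neg (E6Data.tab.smp i)] = true ∧
    E6Data.sym.π.getD (E6Data.tab.smp i) 0 = E6Data.tab.smp j ∧
    E6Data.sym.π.getD (E6Data.tab.smp j) 0 = E6Data.tab.smp i ∧
    E6Data.sym.π.getD (E6Data.tab.neg (E6Data.tab.smp i)) 0 = E6Data.tab.neg (E6Data.tab.smp j) ∧
    E6Data.sym.π.getD (E6Data.tab.neg (E6Data.tab.smp j)) 0 = E6Data.tab.neg (E6Data.tab.smp i) ∧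
    (∀ r ∈ [E6Data.tab.smp i, E6Data.tab.smp j, E6Data.tab.neg (E6Data.tab.smp i),
      E6Data.tab.neg (E6Data.tab.smp j)], E6Data.sym.ζ.getD r 1 = 1) := by
  rcases h with ⟨rfl, rfl⟩ | ⟨rfl, rfl⟩ <;> decide +kernel

theorem mid_data {i : ℕ} (h : IsMid i) :
    i < 6 ∧ E6Data.sym.π.getD (E6Data.tab.smp i) 0 = E6Data.tab.smp i ∧
    E6Data.sym.π.getD (E6Data.tab.neg (E6Data.tab.smp i)) 0 = E6Data.tab.neg (E6Data.tab.smp i) ∧
    (∀ r ∈ [E6Data.tab.smp i, E6Data.tab.neg (E6Data.tab.smp i)], E6Data.sym.ζ.getD r 1 = 1) := by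
  rcases h with rfl | rfl <;> decide +kernel

theorem pair_commute {i j : ℕ} (h : IsPair i j) {x y : GL E6Data.tab.D.Idx F}
    (hx : x ∈ genS g0 F {r | r ∈ [E6Data.tab.smp i, E6Data.tab.neg (E6Data.tab.smp i)]})
    (hy : y ∈ genS g0 F {r | r ∈ [E6Data.tab.smp j, E6Data.tab.neg (E6Data.tab.smp j)]}) :
    Commute x y := genS_commute gA (pair_data h).2.2.1 hx hy

theorem xg_node (i : ℕ) (t : F) :
    xg g0 (E6Data.tab.smp i) t ∈
      genS g0 F {r | r ∈ [E6Data.tab.smp i, E6Data.tab.neg (E6Data.tab.smp i)]} :=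
  xg_mem_genS g0 (by simp) t

theorem xg_node' (i : ℕ) (t : F) :
    xg g0 (E6Data.tab.neg (E6Data.tab.smp i)) t ∈
      genS g0 F {r | r ∈ [E6Data.tab.smp i, E6Data.tab.neg (E6Data.tab.smp i)]} :=
  xg_mem_genS g0 (by simp) t

variable (F) in
/-- a pair of orbit root elements -/
noncomputable def eP (q i j : ℕ) (t : F) : GL E6Data.tab.D.Idx F :=
  xg g0 (E6Data.tab.smp i) t * xg g0 (E6Data.tab.smp j) (t ^ q)

variable (F) in
/-- a pair of opposite orbit root elements -/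
noncomputable def eN (q i j : ℕ) (t : F) : GL E6Data.tab.D.Idx F :=
  xg g0 (E6Data.tab.neg (E6Data.tab.smp i)) t * xg g0 (E6Data.tab.neg (E6Data.tab.smp j)) (t ^ q)

theorem eP_mem {q i j : ℕ} (h : IsPair i j) (t : F) : eP F q i j t ∈ tw F q := by
  have e : E6Data.tab.smp 0 = e6p1 ∧ E6Data.tab.smp 5 = e6p6 ∧ E6Data.tab.smp 2 = e6p3 ∧
      E6Data.tab.smp 4 = e6p5 := by decide +kernel
  have key : ∀ rs ∈ [(e6p1, e6p6), (e6m1, e6m6), (e6p3, e6p5), (e6m3, e6m5)],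
      xg g0 rs.1 t * xg g0 rs.2 (t ^ q) ∈ tw F q := by
    intro rs hrs
    have : (([(rs.1, t), (rs.2, t ^ q)] : List (ℕ × F)).map fun e => xg g0 e.1 e.2).prod ∈ tw F q :=
      word_mem g0 (Or.inr ⟨t, rs, hrs, rfl⟩)
    simpa using this
  rcases h with ⟨rfl, rfl⟩ | ⟨rfl, rfl⟩
  · rw [eP, e.2.2.1, e.2.2.2]; exact key (e6p3, e6p5) (by simp)
  · rw [eP, e.1, e.2.1]; exact key (e6p1, e6p6) (by simp)

theorem eN_mem {q i j : ℕ} (h : IsPair i j) (t : F) : eN F q i j t ∈ tw F q := by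
  have e : E6Data.tab.neg (E6Data.tab.smp 0) = e6m1 ∧ E6Data.tab.neg (E6Data.tab.smp 5) = e6m6 ∧
      E6Data.tab.neg (E6Data.tab.smp 2) = e6m3 ∧ E6Data.tab.neg (E6Data.tab.smp 4) = e6m5 := by
    decide +kernel
  have key : ∀ rs ∈ [(e6p1, e6p6), (e6m1, e6m6), (e6p3, e6p5), (e6m3, e6m5)],
      xg g0 rs.1 t * xg g0 rs.2 (t ^ q) ∈ tw F q := by
    intro rs hrs
    have : (([(rs.1, t), (rs.2, t ^ q)] : List (ℕ × F)).map fun e => xg g0 e.1 e.2).prod ∈ tw F q :=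
      word_mem g0 (Or.inr ⟨t, rs, hrs, rfl⟩)
    simpa using this
  rcases h with ⟨rfl, rfl⟩ | ⟨rfl, rfl⟩
  · rw [eN, e.2.2.1, e.2.2.2]; exact key (e6m3, e6m5) (by simp)
  · rw [eN, e.1, e.2.1]; exact key (e6m1, e6m6) (by simp)

theorem mid_mem {q i : ℕ} (h : IsMid i) {t : F} (ht : t ^ q = t) :
    xg g0 (E6Data.tab.smp i) t ∈ tw F q ∧
      xg g0 (E6Data.tab.neg (E6Data.tab.smp i)) t ∈ tw F q := by
  have key : ∀ r ∈ [e6p2, e6m2, e6p4, e6m4], xg g0 r t ∈ tw F q := by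
    intro r hr
    have : (([(r, t)] : List (ℕ × F)).map fun e => xg g0 e.1 e.2).prod ∈ tw F q :=
      word_mem g0 (Or.inl ⟨t, ht, r, hr, rfl⟩)
    simpa using this
  have e : E6Data.tab.smp 1 = e6p2 ∧ E6Data.tab.smp 3 = e6p4 ∧
      E6Data.tab.neg (E6Data.tab.smp 1) = e6m2 ∧ E6Data.tab.neg (E6Data.tab.smp 3) = e6m4 := by
    decide +kernel
  rcases h with rfl | rfl
  · rw [e.2.2.1, e.1]; exact ⟨key _ (by simp), key _ (by simp)⟩
  · rw [e.2.2.2, e.2.1]; exact ⟨key _ (by simp), key _ (by simp)⟩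

variable [Fintype F] {q : ℕ} (hq : IsPrimePow q) (hK : Fintype.card F = q ^ 2)

/-- `t ↦ t ^ q` -/
noncomputable def psi : F →+* F := (TwField.exists_powHom hq hK).choose

theorem psi_apply (t : F) : psi hq hK t = t ^ q := (TwField.exists_powHom hq hK).choose_spec t

include hq hK in
theorem neg_one_pow : ((-1 : F)) ^ q = -1 := by
  rw [← psi_apply hq hK, map_neg, map_one]

include hq hK in
theorem neg_inv_pow (t : F) : (-t⁻¹) ^ q = -(t ^ q)⁻¹ := by
  rw [← psi_apply hq hK, ← psi_apply hq hK, map_neg, map_inv₀]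

include hK in
theorem pow_two_q (t : F) : (t ^ q) ^ q = t := by
  rw [← pow_mul, ← pow_two, TwField.pow_pow_eq hK]

/-- the endomorphism -/
noncomputable abbrev sigma : GL E6Data.tab.D.Idx F →* GL E6Data.tab.D.Idx F :=
  graphσ g0 E6Data.sym_ok (psi hq hK)

theorem sigma_xg {r : ℕ} (hr : r < E6Data.tab.n) (hζ : E6Data.sym.ζ.getD r 1 = 1) (t : F) :
    sigma hq hK (xg g0 r t) = xg g0 (E6Data.sym.π.getD r 0) (t ^ q) := by
  rw [sigma, graphσ_xg g0 _ _ hr, hζ, psi_apply, Int.cast_one, one_mul]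

theorem sigma_pair {i j : ℕ} (h : IsPair i j) (t : F) :
    sigma hq hK (eP F q i j t) = eP F q i j t ∧ sigma hq hK (eN F q i j t) = eN F q i j t := by
  obtain ⟨hi, hj, -, -, p1, p2, p3, p4, hz⟩ := pair_data h
  have hsi := g0.smp_lt (i := i) hi
  have hsj := g0.smp_lt (i := j) hj
  constructor
  · rw [eP, map_mul, sigma_xg hq hK hsi (hz _ (by simp)), sigma_xg hq hK hsj (hz _ (by simp)), p1,
      p2, pow_two_q hK]
    exact ((pair_commute h (xg_node i _) (xg_node j _)).eq).symm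
  · rw [eN, map_mul, sigma_xg hq hK (neg_lt hsi) (hz _ (by simp)),
      sigma_xg hq hK (neg_lt hsj) (hz _ (by simp)), p3, p4, pow_two_q hK]
    exact ((pair_commute h (xg_node' i _) (xg_node' j _)).eq).symm

theorem twisted_fixed : ∀ x ∈ tw F q,
    x ∈ E6Data.tab.D.group F ∧ sigma hq hK x = x := by
  refine graphσ_fixed g0 _ _ ?_
  have e : E6Data.tab.smp 1 = e6p2 ∧ E6Data.tab.smp 3 = e6p4 ∧
      E6Data.tab.neg (E6Data.tab.smp 1) = e6m2 ∧ E6Data.tab.neg (E6Data.tab.smp 3) = e6m4 := by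
    decide +kernel
  have e' : E6Data.tab.smp 0 = e6p1 ∧ E6Data.tab.smp 5 = e6p6 ∧ E6Data.tab.smp 2 = e6p3 ∧
      E6Data.tab.smp 4 = e6p5 ∧ E6Data.tab.neg (E6Data.tab.smp 0) = e6m1 ∧
      E6Data.tab.neg (E6Data.tab.smp 5) = e6m6 ∧
      E6Data.tab.neg (E6Data.tab.smp 2) = e6m3 ∧ E6Data.tab.neg (E6Data.tab.smp 4) = e6m5 := by
    decide +kernel
  rintro w (⟨t, ht, r, hr, rfl⟩ | ⟨t, rs, hrs, rfl⟩)
  · simp only [List.map_cons, List.map_nil, List.prod_cons, List.prod_nil, mul_one]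
    have key : ∀ i, IsMid i → ∀ r ∈ [E6Data.tab.smp i, E6Data.tab.neg (E6Data.tab.smp i)],
        sigma hq hK (xg g0 r t) = xg g0 r t := by
      intro i hi r hr
      obtain ⟨hil, p1, p2, hz⟩ := mid_data hi
      have hsi := g0.smp_lt (i := i) hil
      simp only [List.mem_cons, List.not_mem_nil, or_false] at hr
      rcases hr with rfl | rfl
      · rw [sigma_xg hq hK hsi (hz _ (by simp)), p1, ht]
      · rw [sigma_xg hq hK (neg_lt hsi) (hz _ (by simp)), p2, ht]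
    simp only [List.mem_cons, List.not_mem_nil, or_false] at hr
    rcases hr with rfl | rfl | rfl | rfl
    · exact key 1 (Or.inl rfl) _ (by simp [e.1])
    · exact key 1 (Or.inl rfl) _ (by simp [e.2.2.1])
    · exact key 3 (Or.inr rfl) _ (by simp [e.2.1])
    · exact key 3 (Or.inr rfl) _ (by simp [e.2.2.2])
  · simp only [List.map_cons, List.map_nil, List.prod_cons, List.prod_nil, mul_one]
    simp only [List.mem_cons, List.not_mem_nil, or_false] at hrs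
    rcases hrs with rfl | rfl | rfl | rfl
    · have := (sigma_pair hq hK (i := 0) (j := 5) (Or.inr ⟨rfl, rfl⟩) t).1
      rwa [eP, e'.1, e'.2.1] at this
    · have := (sigma_pair hq hK (i := 0) (j := 5) (Or.inr ⟨rfl, rfl⟩) t).2
      rwa [eN, e'.2.2.2.2.1, e'.2.2.2.2.2.1] at this
    · have := (sigma_pair hq hK (i := 2) (j := 4) (Or.inl ⟨rfl, rfl⟩) t).1
      rwa [eP, e'.2.2.1, e'.2.2.2.1] at this
    · have := (sigma_pair hq hK (i := 2) (j := 4) (Or.inl ⟨rfl, rfl⟩) t).2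
      rwa [eN, e'.2.2.2.2.2.2.1, e'.2.2.2.2.2.2.2] at this

include hq hK in
theorem nE_mid_mem {i : ℕ} (h : IsMid i) {t : F} (ht : t ^ q = t) :
    nE g0 (E6Data.tab.smp i) t ∈ tw F q := by
  have hi : (-t⁻¹) ^ q = -t⁻¹ := by rw [neg_inv_pow hq hK, ht]
  exact mul_mem (mul_mem (mid_mem h ht).1 (mid_mem h hi).2) (mid_mem h ht).1

include hq hK in
theorem nE_pair_mem {i j : ℕ} (h : IsPair i j) (t : F) :
    nE g0 (E6Data.tab.smp i) t * nE g0 (E6Data.tab.smp j) (t ^ q) ∈ tw F q := by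
  have h1 : nE g0 (E6Data.tab.smp i) t * nE g0 (E6Data.tab.smp j) (t ^ q) =
      eP F q i j t * eN F q i j (-t⁻¹) * eP F q i j t := by
    rw [eP, eN, neg_inv_pow hq hK, nE, nE]
    set a := xg g0 (E6Data.tab.smp i) t
    set b := xg g0 (E6Data.tab.neg (E6Data.tab.smp i)) (-t⁻¹)
    set a' := xg g0 (E6Data.tab.smp j) (t ^ q)
    set b' := xg g0 (E6Data.tab.neg (E6Data.tab.smp j)) (-(t ^ q)⁻¹)
    have c1 : Commute (b * a) a' := pair_commute h (mul_mem (xg_node' i _) (xg_node i _)) (xg_node j _)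
    have c2 : Commute a b' := pair_commute h (xg_node i _) (xg_node' j _)
    calc a * b * a * (a' * b' * a') = a * ((b * a) * a') * b' * a' := by group
      _ = a * a' * b * (a * b') * a' := by rw [c1.eq]; group
      _ = _ := by rw [c2.eq]; group
  rw [h1]
  exact mul_mem (mul_mem (eP_mem h _) (eN_mem h _)) (eP_mem h _)

include hq hK in
theorem n_mem : ∀ b < 4, nWd g0 F (wd b) ∈ tw F q := by
  have e : ∀ i, nG g0 F i = nE g0 (E6Data.tab.smp i) (1 : F) := fun i => by simp [nG, nE]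
  intro b hb
  interval_cases b <;>
    simp only [wd, nWd, List.map_cons, List.map_nil, List.prod_cons, List.prod_nil, mul_one, e]
  · exact nE_mid_mem hq hK (Or.inl rfl) (one_pow q)
  · exact nE_mid_mem hq hK (Or.inr rfl) (one_pow q)
  · simpa using nE_pair_mem hq hK (i := 2) (j := 4) (Or.inl ⟨rfl, rfl⟩) (1 : F)
  · simpa using nE_pair_mem hq hK (i := 0) (j := 5) (Or.inr ⟨rfl, rfl⟩) (1 : F)

theorem fixed_mid {b i : ℕ} (h : b = 0 ∧ i = 1 ∨ b = 1 ∧ i = 3) {u : GL E6Data.tab.D.Idx F}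
    (hu : u ∈ uMinus g0 F (wd b)) (hs : sigma hq hK u = u) :
    ∃ t : F, t ^ q = t ∧ u = xg g0 (E6Data.tab.smp i) t := by
  have hinv : E6Data.tab.invSet (wd b) = [E6Data.tab.smp i].toFinset := by
    rcases h with ⟨rfl, rfl⟩ | ⟨rfl, rfl⟩ <;> decide +kernel
  have horb : E6Data.tab.checkOrbit E6Data.sym [E6Data.tab.smp i] = true := by
    rcases h with ⟨rfl, rfl⟩ | ⟨rfl, rfl⟩ <;> decide +kernel
  obtain ⟨-, p1, -, hz⟩ := mid_data (i := i) (h.imp And.right And.right)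
  obtain ⟨a, rfl⟩ := uMinus_coords gA (wd_wd b) (List.pairwise_singleton _ _) hinv.symm hu
  have h' := (fixed_orbit gA E6Data.sym_ok (psi hq hK) horb a).1 hs _ (List.mem_singleton_self _)
  rw [p1, hz _ (by simp), psi_apply, Int.cast_one, one_mul] at h'
  exact ⟨_, h'.symm, by simp [sProd]⟩

theorem fixed_pair {b i j : ℕ} (h : b = 2 ∧ i = 2 ∧ j = 4 ∨ b = 3 ∧ i = 0 ∧ j = 5)
    {u : GL E6Data.tab.D.Idx F} (hu : u ∈ uMinus g0 F (wd b)) (hs : sigma hq hK u = u) :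
    ∃ t : F, u = eP F q i j t := by
  have hinv : E6Data.tab.invSet (wd b) = [E6Data.tab.smp j, E6Data.tab.smp i].toFinset := by
    rcases h with ⟨rfl, rfl, rfl⟩ | ⟨rfl, rfl, rfl⟩ <;> decide +kernel
  have horb : E6Data.tab.checkOrbit E6Data.sym [E6Data.tab.smp j, E6Data.tab.smp i] = true := by
    rcases h with ⟨rfl, rfl, rfl⟩ | ⟨rfl, rfl, rfl⟩ <;> decide +kernel
  have hsort : [E6Data.tab.smp j, E6Data.tab.smp i].Pairwise (· < ·) := by
    rcases h with ⟨rfl, rfl, rfl⟩ | ⟨rfl, rfl, rfl⟩ <;> decide +kernel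
  have hp : IsPair i j := h.imp And.right And.right
  obtain ⟨-, -, -, -, p1, -, -, -, hz⟩ := pair_data hp
  obtain ⟨a, rfl⟩ := uMinus_coords gA (wd_wd b) hsort hinv.symm hu
  have h' := (fixed_orbit gA E6Data.sym_ok (psi hq hK) horb a).1 hs (E6Data.tab.smp i) (by simp)
  rw [p1, hz _ (by simp), psi_apply, Int.cast_one, one_mul] at h'
  refine ⟨a (E6Data.tab.smp i), ?_⟩
  rw [eP, sProd_cons, sProd_cons, sProd_nil, mul_one, h']
  exact (pair_commute hp (xg_node i _) (xg_node j _)).eq.symm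

/-- the data of the twisted group -/
@[reducible]
noncomputable def X : Tab.Twist gK F :=
  graphTwist gK E6Data.sym_ok (psi hq hK) twOK (tw F q) (twisted_fixed hq hK)
    (n_mem hq hK) (fun b hb u hu h => by
      interval_cases b
      · obtain ⟨t, ht, rfl⟩ := fixed_mid hq hK (i := 1) (Or.inl ⟨rfl, rfl⟩) hu h
        exact (mid_mem (Or.inl rfl) ht).1
      · obtain ⟨t, ht, rfl⟩ := fixed_mid hq hK (i := 3) (Or.inr ⟨rfl, rfl⟩) hu h
        exact (mid_mem (Or.inr rfl) ht).1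
      · obtain ⟨t, rfl⟩ := fixed_pair hq hK (Or.inl ⟨rfl, rfl, rfl⟩) hu h
        exact eP_mem (Or.inl ⟨rfl, rfl⟩) t
      · obtain ⟨t, rfl⟩ := fixed_pair hq hK (Or.inr ⟨rfl, rfl, rfl⟩) hu h
        exact eP_mem (Or.inr ⟨rfl, rfl⟩) t)

theorem blocks : (X hq hK).Blocks := (X hq hK).blocks_of_check blkOK

include hq hK in
theorem card_mid {b i : ℕ} (h : b = 0 ∧ i = 1 ∨ b = 1 ∧ i = 3) :
    Nat.card ↥(uMinus g0 F (wd b) ⊓ tw F q) = q := by
  have hs : E6Data.tab.smp i ∈ {r | E6Data.tab.N ≤ r ∧ r < E6Data.tab.n ∧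
      E6Data.tab.rw' (wd b) r < E6Data.tab.N} := by
    show _ ∧ _ ∧ _
    rcases h with ⟨rfl, rfl⟩ | ⟨rfl, rfl⟩ <;> decide +kernel
  have hi : IsMid i := h.imp And.right And.right
  let f : {t : F // t ^ q = t} → ↥(uMinus g0 F (wd b) ⊓ tw F q) := fun t =>
    ⟨xg g0 (E6Data.tab.smp i) t.1, Subgroup.mem_inf.2 ⟨xg_mem_genS g0 hs _, (mid_mem hi t.2).1⟩⟩
  have hf : Function.Bijective f := by
    refine ⟨fun a c e => Subtype.ext (xg_injective g0 (g0.smp_lt (mid_data hi).1)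
      (congrArg Subtype.val e)), ?_⟩
    rintro ⟨u, hu⟩
    obtain ⟨t, ht, rfl⟩ := fixed_mid hq hK h hu.1 (twisted_fixed hq hK u hu.2).2
    exact ⟨⟨t, ht⟩, rfl⟩
  rw [← Nat.card_eq_of_bijective f hf, TwField.card_fixed hq.one_lt hK]

theorem eP_uMinus {b i j : ℕ} (h : b = 2 ∧ i = 2 ∧ j = 4 ∨ b = 3 ∧ i = 0 ∧ j = 5) (t : F) :
    eP F q i j t ∈ uMinus g0 F (wd b) := by
  have hs : ∀ r ∈ [E6Data.tab.smp i, E6Data.tab.smp j],
      r ∈ {r | E6Data.tab.N ≤ r ∧ r < E6Data.tab.n ∧ E6Data.tab.rw' (wd b) r < E6Data.tab.N} := by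
    show ∀ r ∈ [E6Data.tab.smp i, E6Data.tab.smp j], _ ∧ _ ∧ _
    rcases h with ⟨rfl, rfl, rfl⟩ | ⟨rfl, rfl, rfl⟩ <;> decide +kernel
  exact mul_mem (xg_mem_genS g0 (hs _ (by simp)) _) (xg_mem_genS g0 (hs _ (by simp)) _)

include hq hK in
theorem card_pair {b i j : ℕ} (h : b = 2 ∧ i = 2 ∧ j = 4 ∨ b = 3 ∧ i = 0 ∧ j = 5) :
    Nat.card ↥(uMinus g0 F (wd b) ⊓ tw F q) = q ^ 2 := by
  have hp : IsPair i j := h.imp And.right And.right
  let f : F → ↥(uMinus g0 F (wd b) ⊓ tw F q) := fun t =>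
    ⟨eP F q i j t, Subgroup.mem_inf.2 ⟨eP_uMinus h t, eP_mem hp t⟩⟩
  have hf : Function.Bijective f := by
    refine ⟨fun s t e => ?_, ?_⟩
    · have hsort : [E6Data.tab.smp j, E6Data.tab.smp i].Pairwise (· < ·) ∧
          (∀ r ∈ [E6Data.tab.smp j, E6Data.tab.smp i], E6Data.tab.N ≤ r ∧ r < E6Data.tab.n) ∧
          E6Data.tab.smp i ≠ E6Data.tab.smp j := by
        rcases hp with ⟨rfl, rfl⟩ | ⟨rfl, rfl⟩ <;> decide +kernel
      have hr : ∀ t : F, eP F q i j t = sProd g0 [E6Data.tab.smp j, E6Data.tab.smp i]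
          (fun r => if r = E6Data.tab.smp i then t else t ^ q) := fun t => by
        simp only [eP, sProd, List.map_cons, List.map_nil, List.prod_cons, List.prod_nil, mul_one,
          if_true, if_neg hsort.2.2.symm]
        exact (pair_commute hp (xg_node i _) (xg_node j _)).eq
      have e' := congrArg Subtype.val e
      change eP F q i j s = eP F q i j t at e'
      rw [hr, hr] at e'
      simpa using sProd_unique g0 hsort.1 hsort.2.1 e' (E6Data.tab.smp i) (by simp)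
    rintro ⟨u, hu⟩
    obtain ⟨t, rfl⟩ := fixed_pair hq hK h hu.1 (twisted_fixed hq hK u hu.2).2
    exact ⟨t, rfl⟩
  rw [← Nat.card_eq_of_bijective f hf, Nat.card_eq_fintype_card, hK]

theorem hblk : ∀ b < (X hq hK).nb, ∃ k,
    Nat.card ↥(uMinus gK.toGood F ((X hq hK).w b) ⊓ (X hq hK).G1) = q ^ k ∧
      k * 1 = (E6Data.tab.invSet ((X hq hK).w b)).card := by
  intro b hb
  change b < 4 at hb
  show ∃ k, Nat.card ↥(uMinus g0 F (wd b) ⊓ tw F q) = q ^ k ∧
    k * 1 = (E6Data.tab.invSet (wd b)).card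
  interval_cases b
  · exact ⟨1, (card_mid hq hK (Or.inl ⟨rfl, rfl⟩)).trans (pow_one q).symm,
      by rw [inv0]; decide⟩
  · exact ⟨1, (card_mid hq hK (Or.inr ⟨rfl, rfl⟩)).trans (pow_one q).symm,
      by rw [inv1]; decide⟩
  · exact ⟨2, card_pair hq hK (Or.inl ⟨rfl, rfl, rfl⟩),
      by rw [inv2]; decide⟩
  · exact ⟨2, card_pair hq hK (Or.inr ⟨rfl, rfl, rfl⟩),
      by rw [inv3]; decide⟩

/-! ### the torus -/

theorem A_vals : (List.range 6).map (fun i => (List.range 6).map fun j =>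
    E6Data.tab.A j (E6Data.tab.smp i)) =
    [[2, 0, -1, 0, 0, 0], [0, 2, 0, -1, 0, 0], [-1, 0, 2, -1, 0, 0], [0, -1, -1, 2, -1, 0],
      [0, 0, 0, -1, 2, -1], [0, 0, 0, 0, -1, 2]] := by decide +kernel

omit [Fintype F] in
theorem wt_vals (c : ℕ → Fˣ) :
    wt E6Data.tab F c (E6Data.tab.smp 0) = c 0 ^ 2 * (c 2)⁻¹ ∧
    wt E6Data.tab F c (E6Data.tab.smp 1) = c 1 ^ 2 * (c 3)⁻¹ ∧
    wt E6Data.tab F c (E6Data.tab.smp 2) = (c 0)⁻¹ * c 2 ^ 2 * (c 3)⁻¹ ∧
    wt E6Data.tab F c (E6Data.tab.smp 3) = (c 1)⁻¹ * (c 2)⁻¹ * c 3 ^ 2 * (c 4)⁻¹ ∧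
    wt E6Data.tab F c (E6Data.tab.smp 4) = (c 3)⁻¹ * c 4 ^ 2 * (c 5)⁻¹ ∧
    wt E6Data.tab F c (E6Data.tab.smp 5) = (c 4)⁻¹ * c 5 ^ 2 := by
  have h := A_vals
  simp only [List.range_succ, List.range_zero, List.nil_append, List.cons_append, List.map_cons,
    List.map_nil, List.cons.injEq, and_true] at h
  simp [wt, show E6Data.tab.l = 6 from rfl, Finset.prod_range_succ, h]

theorem rho_vals : E6Data.sym.ρ'.getD 0 0 = 5 ∧ E6Data.sym.ρ'.getD 1 0 = 1 ∧
    E6Data.sym.ρ'.getD 2 0 = 4 ∧ E6Data.sym.ρ'.getD 3 0 = 3 ∧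
    E6Data.sym.ρ'.getD 4 0 = 2 ∧ E6Data.sym.ρ'.getD 5 0 = 0 := by decide +kernel

variable (F) in
/-- the fixed parameters -/
def fixC (q : ℕ) : Subgroup (ℕ → Fˣ) where
  carrier := {c | c 1 ^ q = c 1 ∧ c 3 ^ q = c 3 ∧ c 0 ^ q = c 5 ∧ c 5 ^ q = c 0 ∧
    c 2 ^ q = c 4 ∧ c 4 ^ q = c 2}
  one_mem' := by simp
  mul_mem' := by
    rintro a b ⟨a1, a3, a0, a5, a2, a4⟩ ⟨b1, b3, b0, b5, b2, b4⟩
    simp [mul_pow, a1, a3, a0, a5, a2, a4, b1, b3, b0, b5, b2, b4]
  inv_mem' := by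
    rintro a ⟨a1, a3, a0, a5, a2, a4⟩
    simp [inv_pow, a1, a3, a0, a5, a2, a4]

theorem single_mid_fix {i : ℕ} (h : IsMid i) {u : Fˣ} (hu : u ^ q = u) :
    Pi.mulSingle i u ∈ fixC F q := by
  rcases h with rfl | rfl <;> simp [fixC, Pi.mulSingle_apply, hu]

include hK in
theorem single_pair_fix {i j : ℕ} (h : IsPair i j) (u : Fˣ) :
    Pi.mulSingle i u * Pi.mulSingle j (u ^ q) ∈ fixC F q := by
  have h2 : (u ^ q) ^ q = u := Units.ext (by
    simp only [Units.val_pow_eq_pow_val]; exact pow_two_q hK _)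
  rcases h with ⟨rfl, rfl⟩ | ⟨rfl, rfl⟩ <;> simp [fixC, Pi.mulSingle_apply, h2]

omit [Fintype F] in
theorem wt_pair {i j : ℕ} (h : IsPair i j) {c : ℕ → Fˣ} (hc : c ∈ fixC F q) :
    wt E6Data.tab F c (E6Data.tab.smp i) ^ q = wt E6Data.tab F c (E6Data.tab.smp j) := by
  obtain ⟨c1, c3, c0, c5, c2, c4⟩ := hc
  obtain ⟨w0, -, w2, -, w4, w5⟩ := wt_vals c
  rcases h with ⟨rfl, rfl⟩ | ⟨rfl, rfl⟩
  · rw [w2, w4]
    simp only [mul_pow, inv_pow, ← pow_mul, mul_comm 2 q]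
    simp only [pow_mul, c0, c2, c3]
    ac_rfl
  · rw [w0, w5]
    simp only [mul_pow, inv_pow, ← pow_mul, mul_comm 2 q]
    simp only [pow_mul, c0, c2]
    ac_rfl

omit [Fintype F] in
theorem wt_mid {i : ℕ} (h : IsMid i) {c : ℕ → Fˣ} (hc : c ∈ fixC F q) :
    wt E6Data.tab F c (E6Data.tab.smp i) ^ q = wt E6Data.tab F c (E6Data.tab.smp i) := by
  obtain ⟨c1, c3, c0, c5, c2, c4⟩ := hc
  obtain ⟨-, w1, -, w3, -, -⟩ := wt_vals c
  rcases h with rfl | rfl
  · rw [w1]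
    simp only [mul_pow, inv_pow, ← pow_mul, mul_comm 2 q]
    simp only [pow_mul, c1, c3]
  · rw [w3]
    simp only [mul_pow, inv_pow, ← pow_mul, mul_comm 2 q]
    simp only [pow_mul, c1, c2, c3, c4]
    ac_rfl

include hq hK in
theorem hS_mid_mem {i : ℕ} (h : IsMid i) {u : Fˣ} (hu : u ^ q = u) :
    hS E6Data.tab F i u ∈ tw F q := by
  rw [← hE_smp g0 (show i < E6Data.tab.l from (mid_data h).1), hE]
  refine mul_mem (nE_mid_mem hq hK h ?_) (nE_mid_mem hq hK h (neg_one_pow hq hK))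
  rw [← Units.val_pow_eq_pow_val, hu]

include hq hK in
theorem hS_pair_mem {i j : ℕ} (h : IsPair i j) (u : Fˣ) :
    hS E6Data.tab F i u * hS E6Data.tab F j (u ^ q) ∈ tw F q := by
  rw [← hE_smp g0 (show i < E6Data.tab.l from (pair_data h).1),
    ← hE_smp g0 (show j < E6Data.tab.l from (pair_data h).2.1), hE, hE,
    Units.val_pow_eq_pow_val, mul_assoc, ← mul_assoc (nE g0 (E6Data.tab.smp i) (-1 : F)),
    (pair_commute h (nE_mem_node g0 _ _) (nE_mem_node g0 _ _)).eq, mul_assoc, ← mul_assoc]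
  refine mul_mem (nE_pair_mem hq hK h _) ?_
  have := nE_pair_mem hq hK h (-1 : F)
  rwa [neg_one_pow hq hK] at this

include hq hK in
theorem fix_mem {c : ℕ → Fˣ} (hc : c ∈ fixC F q) : tor E6Data.tab F c ∈ tw F q := by
  obtain ⟨c1, c3, c0, c5, c2, c4⟩ := hc
  have h : tor E6Data.tab F c = hS E6Data.tab F 1 (c 1) * hS E6Data.tab F 3 (c 3) *
      (hS E6Data.tab F 2 (c 2) * hS E6Data.tab F 4 (c 2 ^ q)) *
      (hS E6Data.tab F 0 (c 0) * hS E6Data.tab F 5 (c 0 ^ q)) := by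
    simp only [hS_eq_tor, ← map_mul]
    refine tor_congr g0 fun j hj => ?_
    change j < 6 at hj
    interval_cases j <;> simp [Pi.mulSingle_apply, c0, c2]
  rw [h]
  exact mul_mem (mul_mem (mul_mem (hS_mid_mem hq hK (Or.inl rfl) c1)
    (hS_mid_mem hq hK (Or.inr rfl) c3)) (hS_pair_mem hq hK (Or.inl ⟨rfl, rfl⟩) _))
    (hS_pair_mem hq hK (Or.inr ⟨rfl, rfl⟩) _)

variable (F) in
/-- the candidate torus -/
noncomputable def H0 (q : ℕ) : Subgroup (GL E6Data.tab.D.Idx F) :=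
  (fixC F q).map (tor E6Data.tab F)

include hq hK in
theorem H0_le : H0 F q ≤ E6Data.tab.D.diagonalSubgroup F ⊓ tw F q := by
  rintro _ ⟨c, hc, rfl⟩
  exact Subgroup.mem_inf.2 ⟨by rw [diagonalSubgroup_eq g0]; exact ⟨c, rfl⟩, fix_mem hq hK hc⟩

theorem sigma_tor (c : ℕ → Fˣ) : sigma hq hK (tor E6Data.tab F c) =
    tor E6Data.tab F fun j => (c (E6Data.sym.ρ'.getD j 0)) ^ q := by
  have hm : ∀ u : Fˣ, Units.map (psi hq hK).toMonoidHom u = u ^ q := fun u => Units.ext (by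
    simp [psi_apply])
  rw [sigma, graphσ_tor g0 _ _ (by decide +kernel) (by decide +kernel)]
  simp only [hm]

omit [Fintype F] in
theorem split : ∀ x ∈ {x | ∃ w ∈ e6Words F q, x = (w.map fun e => xg g0 e.1 e.2).prod},
    x ∈ genS g0 F (Set.Ico E6Data.tab.N E6Data.tab.n) ∨ x ∈ genS g0 F (Set.Iio E6Data.tab.N) := by
  have hd : (∀ r ∈ [e6p1, e6p2, e6p3, e6p4, e6p5, e6p6],
      E6Data.tab.N ≤ r ∧ r < E6Data.tab.n) ∧
      ∀ r ∈ [e6m1, e6m2, e6m3, e6m4, e6m5, e6m6], r < E6Data.tab.N := by decide +kernel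
  have hp : ∀ r ∈ [e6p1, e6p2, e6p3, e6p4, e6p5, e6p6], ∀ t : F,
      xg g0 r t ∈ genS g0 F (Set.Ico E6Data.tab.N E6Data.tab.n) := fun r hr t =>
    xg_mem_genS g0 (S := Set.Ico E6Data.tab.N E6Data.tab.n) (hd.1 r hr) _
  have hm : ∀ r ∈ [e6m1, e6m2, e6m3, e6m4, e6m5, e6m6], ∀ t : F,
      xg g0 r t ∈ genS g0 F (Set.Iio E6Data.tab.N) := fun r hr t =>
    xg_mem_genS g0 (S := Set.Iio E6Data.tab.N) (hd.2 r hr) _
  rintro x ⟨w, (⟨t, -, r, hr, rfl⟩ | ⟨t, rs, hrs, rfl⟩), rfl⟩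
  · simp only [List.map_cons, List.map_nil, List.prod_cons, List.prod_nil, mul_one]
    simp only [List.mem_cons, List.not_mem_nil, or_false] at hr
    rcases hr with rfl | rfl | rfl | rfl
    · exact Or.inl (hp _ (by simp) _)
    · exact Or.inr (hm _ (by simp) _)
    · exact Or.inl (hp _ (by simp) _)
    · exact Or.inr (hm _ (by simp) _)
  · simp only [List.map_cons, List.map_nil, List.prod_cons, List.prod_nil, mul_one]
    simp only [List.mem_cons, List.not_mem_nil, or_false] at hrs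
    rcases hrs with rfl | rfl | rfl | rfl
    · exact Or.inl (mul_mem (hp _ (by simp) _) (hp _ (by simp) _))
    · exact Or.inr (mul_mem (hm _ (by simp) _) (hm _ (by simp) _))
    · exact Or.inl (mul_mem (hp _ (by simp) _) (hp _ (by simp) _))
    · exact Or.inr (mul_mem (hm _ (by simp) _) (hm _ (by simp) _))

theorem block_cases {b : ℕ} (hb : b < 4) :
    (∃ i, (b = 0 ∧ i = 1 ∨ b = 1 ∧ i = 3) ∧ wd b = [i]) ∨
    ∃ i j, (b = 2 ∧ i = 2 ∧ j = 4 ∨ b = 3 ∧ i = 0 ∧ j = 5) ∧ wd b = [i, j] := by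
  interval_cases b
  · exact Or.inl ⟨1, Or.inl ⟨rfl, rfl⟩, rfl⟩
  · exact Or.inl ⟨3, Or.inr ⟨rfl, rfl⟩, rfl⟩
  · exact Or.inr ⟨2, 4, Or.inl ⟨rfl, rfl, rfl⟩, rfl⟩
  · exact Or.inr ⟨0, 5, Or.inr ⟨rfl, rfl, rfl⟩, rfl⟩

theorem conj_regroup {G : Type*} [Group G] {a b x y : G} (h1 : Commute b x)
    (h2 : Commute (b * y * b⁻¹) a⁻¹) :
    a * b * (x * y) * (a * b)⁻¹ = (a * x * a⁻¹) * (b * y * b⁻¹) := by
  calc a * b * (x * y) * (a * b)⁻¹ = a * (b * x) * y * b⁻¹ * a⁻¹ := by group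
    _ = a * x * ((b * y * b⁻¹) * a⁻¹) := by rw [h1.eq]; group
    _ = _ := by rw [h2.eq]; group

include hq hK in
theorem hn0 : ∀ b < 4, ∀ h ∈ H0 F q, nWd g0 F (wd b) * h * (nWd g0 F (wd b))⁻¹ ∈ H0 F q := by
  rintro b hb _ ⟨c, hc, rfl⟩
  rcases block_cases hb with ⟨i, hi, e⟩ | ⟨i, j, hi, e⟩
  · have hm : IsMid i := hi.imp And.right And.right
    rw [e, nWd, List.map_cons, List.map_nil, List.prod_cons, List.prod_nil, mul_one,
      nG_tor g0 (mid_data hm).1]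
    exact ⟨_, mul_mem hc (single_mid_fix hm (by rw [inv_pow, wt_mid hm hc])), rfl⟩
  · have hp : IsPair i j := hi.imp And.right And.right
    have hj := (pair_data hp).2.1
    have hA : E6Data.tab.A j (E6Data.tab.smp i) = 0 := by
      rcases hp with ⟨rfl, rfl⟩ | ⟨rfl, rfl⟩ <;> decide +kernel
    rw [e, nWd, List.map_cons, List.map_cons, List.map_nil, List.prod_cons, List.prod_cons,
      List.prod_nil, mul_one, mul_inv_rev]
    rw [show nG g0 F i * nG g0 F j * tor E6Data.tab F c * ((nG g0 F j)⁻¹ * (nG g0 F i)⁻¹) =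
      nG g0 F i * (nG g0 F j * tor E6Data.tab F c * (nG g0 F j)⁻¹) * (nG g0 F i)⁻¹ by group,
      nG_tor g0 hj, nG_tor g0 (pair_data hp).1, wt_mul, wt_single g0 hj, hA, zpow_zero, mul_one,
      mul_assoc, ← wt_pair hp hc, ← inv_pow]
    refine ⟨_, mul_mem hc ?_, rfl⟩
    rw [mul_comm]
    exact single_pair_fix hK hp _

include hq hK in
theorem hsq0 : ∀ b < 4, nWd g0 F (wd b) * nWd g0 F (wd b) ∈ H0 F q := by
  intro b hb
  have hm1 : (-1 : Fˣ) ^ q = -1 := Units.ext (by simpa using neg_one_pow hq hK)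
  rcases block_cases hb with ⟨i, hi, e⟩ | ⟨i, j, hi, e⟩
  · have hm : IsMid i := hi.imp And.right And.right
    rw [e, nWd, List.map_cons, List.map_nil, List.prod_cons, List.prod_nil, mul_one,
      nG_sq g0 (mid_data hm).1, hS_eq_tor]
    exact ⟨_, single_mid_fix hm hm1, rfl⟩
  · have hp : IsPair i j := hi.imp And.right And.right
    rw [e, nWd, List.map_cons, List.map_cons, List.map_nil, List.prod_cons, List.prod_cons,
      List.prod_nil, mul_one, Commute.mul_mul_mul_comm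
      (pair_commute hp (nG_mem_node g0 i) (nG_mem_node g0 j)).symm, nG_sq g0 (pair_data hp).1,
      nG_sq g0 (pair_data hp).2.1, hS_eq_tor, hS_eq_tor, ← map_mul]
    refine ⟨_, ?_, rfl⟩
    have := single_pair_fix hK hp (-1 : Fˣ)
    rwa [hm1] at this

include hq hK in
theorem hr10 : ∀ b < 4, ∀ z ∈ uMinus g0 F (wd b), z ∈ tw F q → z = 1 ∨
    ∃ v ∈ uMinus g0 F (wd b), v ∈ tw F q ∧ ∃ h ∈ H0 F q, ∃ u ∈ uMinus g0 F (wd b), u ∈ tw F q ∧
      nWd g0 F (wd b) * z * (nWd g0 F (wd b))⁻¹ = v * h * nWd g0 F (wd b) * u := by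
  intro b hb z hz hz1
  have hfix := (twisted_fixed hq hK z hz1).2
  rcases block_cases hb with ⟨i, hi, e⟩ | ⟨i, j, hi, e⟩
  · have hm : IsMid i := hi.imp And.right And.right
    obtain ⟨t, ht, rfl⟩ := fixed_mid hq hK hi hz hfix
    rcases eq_or_ne t 0 with rfl | h0
    · exact Or.inl (xg_zero g0 _)
    have hs : E6Data.tab.smp i ∈ {r | E6Data.tab.N ≤ r ∧ r < E6Data.tab.n ∧
        E6Data.tab.rw' (wd b) r < E6Data.tab.N} := by
      show _ ∧ _ ∧ _
      rcases hi with ⟨rfl, rfl⟩ | ⟨rfl, rfl⟩ <;> decide +kernel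
    have hti : (-t⁻¹) ^ q = -t⁻¹ := by rw [neg_inv_pow hq hK, ht]
    have hv : xg g0 (E6Data.tab.smp i) (-t⁻¹) ∈ uMinus g0 F (wd b) := xg_mem_genS g0 hs _
    refine Or.inr ⟨_, hv, (mid_mem hm hti).1, hS E6Data.tab F i (Units.mk0 t h0)⁻¹, ?_, _, hv,
      (mid_mem hm hti).1, ?_⟩
    · rw [hS_eq_tor]
      refine ⟨_, single_mid_fix hm ?_, rfl⟩
      rw [inv_pow]
      exact congrArg _ (Units.ext (by simpa using ht))
    rw [e, nWd, List.map_cons, List.map_nil, List.prod_cons, List.prod_nil, mul_one,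
      rk1_node g0 (mid_data hm).1 h0]
    simp only [mul_assoc]
  · have hp : IsPair i j := hi.imp And.right And.right
    obtain ⟨t, rfl⟩ := fixed_pair hq hK hi hz hfix
    rcases eq_or_ne t 0 with rfl | h0
    · exact Or.inl (by rw [eP, zero_pow hq.ne_zero, xg_zero, xg_zero, mul_one])
    have h0q : t ^ q ≠ 0 := pow_ne_zero _ h0
    refine Or.inr ⟨_, eP_uMinus hi (-t⁻¹), eP_mem hp _,
      hS E6Data.tab F i (Units.mk0 t h0)⁻¹ * hS E6Data.tab F j ((Units.mk0 t h0)⁻¹ ^ q), ?_, _,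
      eP_uMinus hi (-t⁻¹), eP_mem hp _, ?_⟩
    · rw [hS_eq_tor, hS_eq_tor, ← map_mul]
      exact ⟨_, single_pair_fix hK hp _, rfl⟩
    have hi' := (pair_data hp).1
    have hj' := (pair_data hp).2.1
    have eu : ((Units.mk0 t h0)⁻¹ ^ q : Fˣ) = (Units.mk0 (t ^ q) h0q)⁻¹ := by
      rw [inv_pow]; exact congrArg _ (Units.ext (by simp))
    rw [e, nWd, List.map_cons, List.map_cons, List.map_nil, List.prod_cons, List.prod_cons,
      List.prod_nil, mul_one, eu, eP, eP, neg_inv_pow hq hK]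
    have ci := @pair_commute F _ i j hp
    have n1 := nG_mem_node (F := F) g0 i
    have n2 := nG_mem_node (F := F) g0 j
    calc nG g0 F i * nG g0 F j * (xg g0 (E6Data.tab.smp i) t * xg g0 (E6Data.tab.smp j) (t ^ q)) *
          (nG g0 F i * nG g0 F j)⁻¹
        = (nG g0 F i * xg g0 (E6Data.tab.smp i) t * (nG g0 F i)⁻¹) *
          (nG g0 F j * xg g0 (E6Data.tab.smp j) (t ^ q) * (nG g0 F j)⁻¹) := by
          exact conj_regroup (ci (xg_node i t) n2).symm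
            (ci (inv_mem n1) (mul_mem (mul_mem n2 (xg_node j _)) (inv_mem n2))).symm
      _ = _ := by
          rw [rk1_node g0 hi' h0, rk1_node g0 hj' h0q]
          simp only [← mul_assoc]
          have nI := @xg_node F _ i (-t⁻¹)
          have nJ := @xg_node F _ j (-(t ^ q)⁻¹)
          have hI := hS_mem_node (F := F) g0 (show i < E6Data.tab.l from hi') (Units.mk0 t h0)⁻¹
          have hJ := hS_mem_node (F := F) g0 (show j < E6Data.tab.l from hj') (Units.mk0 (t ^ q) h0q)⁻¹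
          have := regroup4 (a := xg g0 (E6Data.tab.smp i) (-t⁻¹))
            (b := hS E6Data.tab F i (Units.mk0 t h0)⁻¹) (c := nG g0 F i)
            (d := xg g0 (E6Data.tab.smp i) (-t⁻¹))
            (b' := hS E6Data.tab F j (Units.mk0 (t ^ q) h0q)⁻¹) (c' := nG g0 F j)
            (d' := xg g0 (E6Data.tab.smp j) (-(t ^ q)⁻¹))
            (ci (mul_mem (mul_mem hI n1) nI) nJ) (ci (mul_mem n1 nI) hJ) (ci nI n2)
          simpa only [← mul_assoc] using this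

/-- an inverse Cartan matrix, tripled -/
def killB : List (List ℤ) := phiK.map fun l => l.map Int.ofNat

theorem killOK : E6Data.tab.checkKill killB 3 = true := by decide +kernel

include hq hK in
theorem torus_eq : E6Data.tab.D.diagonalSubgroup F ⊓ tw F q = H0 F q := by
  refine le_antisymm ?_ (H0_le hq hK)
  intro x hx
  obtain ⟨h, hh, N, hN, hN1, hNN, rfl⟩ := (X hq hK).torus_closure (H' := H0 F q) (H0_le hq hK)
    (hn0 hq hK) (hsq0 hq hK) (blocks hq hK) (hr10 hq hK) (fun _ _ => rfl)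
    (S := {x | ∃ w ∈ e6Words F q, x = (w.map fun e => xg g0 e.1 e.2).prod})
    (genSubgroup_eq g0 _) split hx
  refine mul_mem hh ?_
  rw [diagonalSubgroup_eq g0] at hN
  obtain ⟨d, rfl⟩ := hN
  have hfix := (twisted_fixed hq hK _ hN1).2
  rw [sigma_tor, tor_eq_iff_wt g0] at hfix
  have h3 := wt_kill killOK hfix
  have e3 : tor E6Data.tab F d = tor E6Data.tab F (d ^ 3) := by
    rw [map_pow, pow_succ, pow_two, hNN, one_mul]
  rw [e3]
  refine ⟨d ^ 3, ?_, rfl⟩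
  have key : ∀ k < 6, ((d ^ 3) (E6Data.sym.ρ'.getD k 0)) ^ q = (d ^ 3) k := by
    intro k hk
    have := h3 k hk
    rw [Pi.div_apply, div_pow, div_eq_one, ← pow_mul, mul_comm, pow_mul] at this
    exact this
  obtain ⟨r0, r1, r2, r3, r4, r5⟩ := rho_vals
  have k0 := key 0 (by decide)
  have k1 := key 1 (by decide)
  have k2 := key 2 (by decide)
  have k3 := key 3 (by decide)
  have k4 := key 4 (by decide)
  have k5 := key 5 (by decide)
  rw [r0] at k0; rw [r1] at k1; rw [r2] at k2; rw [r3] at k3; rw [r4] at k4; rw [r5] at k5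
  exact ⟨k1, k3, k5, k0, k4, k2⟩

/-- parameters of the torus -/
def parFun (q : ℕ)
    (p : (Fˣ × Fˣ) × ((powMonoidHom (q - 1) : Fˣ →* Fˣ).ker × (powMonoidHom (q - 1) : Fˣ →* Fˣ).ker))
    (j : ℕ) : Fˣ :=
  match j with
  | 0 => p.1.1
  | 1 => p.2.1
  | 2 => p.1.2
  | 3 => p.2.2
  | 4 => p.1.2 ^ q
  | 5 => p.1.1 ^ q
  | _ => 1

variable (F) in
/-- the parametrisation of the torus -/
noncomputable def parHom (q : ℕ) :
    (Fˣ × Fˣ) × ((powMonoidHom (q - 1) : Fˣ →* Fˣ).ker × (powMonoidHom (q - 1) : Fˣ →* Fˣ).ker) →*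
      GL E6Data.tab.D.Idx F :=
  (tor E6Data.tab F).comp
    { toFun := parFun q
      map_one' := by funext j; rcases j with _ | _ | _ | _ | _ | _ | j <;> simp [parFun]
      map_mul' := fun a b => by
        funext j; rcases j with _ | _ | _ | _ | _ | _ | j <;> simp [parFun, mul_pow] }

theorem fix_sub (u : (powMonoidHom (q - 1) : Fˣ →* Fˣ).ker) (hq1 : 1 < q) : (u : Fˣ) ^ q = u := by
  have h := (TwField.fixed_iff hq1 (u : Fˣ)).2 u.2
  exact Units.ext (by simpa using h)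

include hq hK in
theorem par_range : (parHom F q).range = H0 F q := by
  ext x
  constructor
  · rintro ⟨p, rfl⟩
    refine ⟨parFun q p, ⟨fix_sub _ hq.one_lt, fix_sub _ hq.one_lt, rfl, ?_, rfl, ?_⟩, rfl⟩
    all_goals exact Units.ext (by simpa [parFun] using pow_two_q hK _)
  · rintro ⟨c, ⟨c1, c3, c0, c5, c2, c4⟩, rfl⟩
    have m : ∀ u : Fˣ, u ^ q = u → u ∈ (powMonoidHom (q - 1) : Fˣ →* Fˣ).ker := fun u h =>
      (TwField.fixed_iff hq.one_lt u).1 (by simpa using congrArg Units.val h)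
    refine ⟨((c 0, c 2), (⟨c 1, m _ c1⟩, ⟨c 3, m _ c3⟩)), ?_⟩
    refine tor_congr g0 fun j hj => ?_
    change j < 6 at hj
    interval_cases j <;> simp [parFun, c0, c2]

omit [Fintype F] in
theorem ker_alg1 {t s u v : Fˣ} (t3 : t ^ 3 = 1) (u3 : u ^ 3 = 1) (w0 : t ^ 2 * s⁻¹ = 1)
    (w1 : u ^ 2 * v⁻¹ = 1) (w2 : t⁻¹ * s ^ 2 * v⁻¹ = 1)
    (w3 : u⁻¹ * s⁻¹ * v ^ 2 * (s ^ q)⁻¹ = 1) :
    t ^ Nat.gcd 3 (q + 1) = 1 ∧ s = t ^ 2 ∧ u = 1 ∧ v = 1 := by
  have hs : s = t ^ 2 := (mul_inv_eq_one.1 w0).symm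
  subst hs
  have hv : v = 1 := by
    rw [← pow_mul, show 2 * 2 = 1 + 3 from rfl, pow_add, pow_one, t3, mul_one, inv_mul_cancel,
      one_mul, inv_eq_one] at w2
    exact w2
  subst hv
  rw [inv_one, mul_one] at w1
  have hu : u = 1 := by rwa [pow_succ, w1, one_mul] at u3
  subst hu
  rw [inv_one, one_mul, one_pow, mul_one, ← mul_inv, inv_eq_one, ← pow_succ', ← pow_mul, mul_comm 2,
    pow_mul] at w3
  refine ⟨pow_gcd_eq_one.2 ⟨t3, ?_⟩, rfl, rfl, rfl⟩
  have e3 : (t ^ (q + 1)) ^ 3 = 1 := by rw [← pow_mul, mul_comm, pow_mul, t3, one_pow]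
  rwa [pow_succ, w3, one_mul] at e3

omit [Fintype F] in
theorem ker_alg2 {t : Fˣ} (t3 : t ^ 3 = 1) (tq : t ^ (q + 1) = 1) :
    t⁻¹ * (t ^ 2) ^ 2 = 1 ∧ (t ^ 2)⁻¹ * ((t ^ 2) ^ q)⁻¹ = 1 ∧
      ((t ^ 2) ^ q) ^ 2 * (t ^ q)⁻¹ = 1 ∧ ((t ^ 2) ^ q)⁻¹ * (t ^ q) ^ 2 = 1 := by
  have e : t ^ q = t⁻¹ := by rwa [eq_inv_iff_mul_eq_one, ← pow_succ]
  have e2 : (t ^ 2) ^ q = (t⁻¹) ^ 2 := by rw [← pow_mul, mul_comm, pow_mul, e]
  have e4 : t⁻¹ * (t ^ 2) ^ 2 = 1 := by
    rw [← pow_mul, show 2 * 2 = 1 + 3 from rfl, pow_add, pow_one, t3, mul_one, inv_mul_cancel]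
  refine ⟨e4, ?_, ?_, ?_⟩
  · rw [e2, inv_pow, inv_inv, inv_mul_cancel]
  · rw [e2, e, inv_pow, inv_pow, ← mul_inv, mul_comm, e4, inv_one]
  · rw [e2, e, inv_mul_cancel]

include hq hK in
theorem card_ker : Nat.card (parHom F q).ker = Nat.gcd 3 (q + 1) := by
  have hker : ∀ p, p ∈ (parHom F q).ker ↔
      p.1.1 ^ Nat.gcd 3 (q + 1) = 1 ∧ p.1.2 = p.1.1 ^ 2 ∧ p.2.1 = 1 ∧ p.2.2 = 1 := by
    intro p
    show tor E6Data.tab F (parFun q p) = 1 ↔ _
    rw [← map_one (tor E6Data.tab F), tor_eq_iff_wt g0, div_one]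
    obtain ⟨w0, w1, w2, w3, w4, w5⟩ := wt_vals (parFun q p)
    simp only [parFun] at w0 w1 w2 w3 w4 w5
    constructor
    · intro h
      have h3 := wt_kill killOK h
      obtain ⟨a1, a2, a3, a4⟩ := ker_alg1 (q := q) (t := p.1.1) (s := p.1.2) (u := p.2.1)
        (v := p.2.2) (h3 0 (by decide)) (h3 1 (by decide)) (w0.symm.trans (h 0 (by decide)))
        (w1.symm.trans (h 1 (by decide))) (w2.symm.trans (h 2 (by decide)))
        (w3.symm.trans (h 3 (by decide)))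
      exact ⟨a1, a2, Subtype.ext a3, Subtype.ext a4⟩
    · rintro ⟨hg, hs, hu, hv⟩
      obtain ⟨t3, tq⟩ := pow_gcd_eq_one.1 hg
      obtain ⟨a2, a3, a4, a5⟩ := ker_alg2 t3 tq
      have hu' : (p.2.1 : Fˣ) = 1 := by rw [hu]; rfl
      have hv' : (p.2.2 : Fˣ) = 1 := by rw [hv]; rfl
      rw [hs] at w0 w2 w3 w4 w5
      rw [hu', hv'] at w1
      rw [hv', inv_one, mul_one, a2] at w2
      rw [hu', hv', inv_one, one_mul, one_pow, mul_one, a3] at w3
      rw [hv', inv_one, one_mul, a4] at w4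
      rw [a5] at w5
      intro i hi
      change i < 6 at hi
      interval_cases i
      · rw [w0, mul_inv_cancel]
      · rw [w1]; simp
      · exact w2
      · exact w3
      · exact w4
      · exact w5
  rw [← Nat.gcd_eq_right (show Nat.gcd 3 (q + 1) ∣ q ^ 2 - 1 from
    (Nat.gcd_dvd_right 3 (q + 1)).trans ⟨q - 1, by rw [← Nat.sq_sub_sq, one_pow]⟩),
    ← TwField.card_root hK]
  refine Nat.card_congr
    { toFun := fun p => ⟨p.1.1.1, ((hker p.1).1 p.2).1⟩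
      invFun := fun z => ⟨((z.1, z.1 ^ 2), 1), (hker _).2 ⟨z.2, rfl, rfl, rfl⟩⟩
      left_inv := fun p => ?_
      right_inv := fun z => rfl }
  obtain ⟨⟨⟨t, s⟩, u, v⟩, hp⟩ := p
  obtain ⟨-, e1, e2, e3⟩ := (hker _).1 hp
  simp only at e1 e2 e3
  subst e1 e2 e3
  rfl

include hq hK in
theorem card_torus :
    Nat.gcd 3 (q + 1) * Nat.card ↥(E6Data.tab.D.diagonalSubgroup F ⊓ tw F q) =
      (q - 1) ^ 4 * (q + 1) ^ 2 := by
  have hU : Nat.card (powMonoidHom (q - 1) : Fˣ →* Fˣ).ker = q - 1 :=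
    (Nat.card_congr (Equiv.subtypeEquivRight fun u => by
      rw [MonoidHom.mem_ker, powMonoidHom_apply, TwField.fixed_iff hq.one_lt])).trans
      (TwField.card_fixed_units hq.one_lt hK)
  rw [torus_eq hq hK, ← par_range hq hK, ← card_ker hq hK, ← Subgroup.index_ker,
    Subgroup.card_mul_index, Nat.card_prod, Nat.card_prod, Nat.card_prod, TwField.card_units hK, hU,
    show q ^ 2 - 1 = (q + 1) * (q - 1) by rw [← Nat.sq_sub_sq, one_pow]]
  ring

/-! ### Poincaré certificate -/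

/-- representatives -/
def reps0 : List Tab.Rep :=
  [⟨[0], 1, 61680733070628, [(true, 1)]⟩,
   ⟨[], 0, 61770926859556, [(true, 0)]⟩]

/-- representatives -/
def reps1 : List Tab.Rep :=
  [⟨[1, 0], 2, 61676454815780, [(true, 2), (false, 0)]⟩,
   ⟨[], 0, 61770926859556, [(false, 0), (true, 2)]⟩,
   ⟨[1], 1, 61775238146084, [(true, 0), (true, 1)]⟩]

/-- representatives -/
def reps2 : List Tab.Rep :=
  [⟨[], 0, 61770926859556, [(false, 0), (false, 1), (true, 2)]⟩,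
   ⟨[2, 1, 0], 4, 62758736243494, [(true, 3), (false, 0), (true, 4)]⟩,
   ⟨[2], 2, 62870220710438, [(false, 0), (true, 3), (true, 0)]⟩,
   ⟨[2, 1], 3, 62891878984486, [(true, 1), (true, 2), (true, 6)]⟩,
   ⟨[2, 1, 0, 2], 6, 64957608959021, [(true, 6), (true, 5), (true, 1)]⟩,
   ⟨[2, 1, 0, 2, 1], 7, 65039529816109, [(false, 1), (true, 4), (true, 7)]⟩,
   ⟨[2, 1, 2], 5, 65090752027693, [(true, 4), (false, 1), (true, 3)]⟩,
   ⟨[2, 1, 0, 2, 1, 2], 9, 73835138127671, [(false, 1), (false, 0), (true, 5)]⟩]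

/-- representatives -/
def reps3 : List Tab.Rep :=
  [⟨[3, 2, 1, 0, 2, 1, 2, 3], 13, 3466796612357, [(false, 1), (false, 0), (true, 2), (true, 23)]⟩,
   ⟨[3, 2, 1, 0, 2, 1, 2, 3, 2, 1, 0], 17, 11000454001686, [(true, 3), (false, 1), (true, 9), (true, 20)]⟩,
   ⟨[3, 2, 1, 0, 2, 1, 2, 3, 2], 15, 11163060734998, [(false, 1), (true, 3), (true, 0), (true, 21)]⟩,
   ⟨[3, 2, 1, 0, 2, 1, 2, 3, 2, 1], 16, 11296804320278, [(true, 1), (true, 2), (true, 11), (true, 22)]⟩,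
   ⟨[3], 2, 16691201779235, [(false, 0), (false, 1), (true, 13), (true, 19)]⟩,
   ⟨[3, 2, 1, 0, 2, 1, 2, 3, 2, 1, 0, 2, 1, 2, 3], 24, 17790377863684, [(false, 0), (false, 1), (false, 2), (true, 18)]⟩,
   ⟨[3, 2, 1, 0, 2, 3], 10, 28622370972940, [(true, 8), (true, 7), (false, 2), (true, 15)]⟩,
   ⟨[3, 2, 1, 0, 2, 1, 3], 11, 28755947307532, [(false, 1), (true, 6), (true, 21), (true, 16)]⟩,
   ⟨[3, 2, 1, 2, 3], 9, 28858592470284, [(true, 6), (false, 1), (false, 2), (true, 17)]⟩,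
   ⟨[3, 2, 1, 0, 2, 1, 2, 3, 2, 1, 0, 2], 19, 40686380847914, [(true, 11), (true, 10), (true, 1), (false, 2)]⟩,
   ⟨[3, 2, 1, 0, 2, 1, 2, 3, 2, 1, 0, 2, 1], 20, 40880404709418, [(false, 0), (true, 9), (true, 18), (false, 2)]⟩,
   ⟨[3, 2, 1, 0, 2, 1, 2, 3, 2, 1, 2], 18, 40982731952938, [(true, 9), (false, 0), (true, 3), (false, 2)]⟩,
   ⟨[3, 2, 1, 0], 6, 46214539000357, [(true, 14), (false, 0), (true, 15), (false, 2)]⟩,
   ⟨[3, 2], 4, 46377295683877, [(false, 0), (true, 14), (true, 4), (false, 2)]⟩,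
   ⟨[3, 2, 1], 5, 46450759907877, [(true, 12), (true, 13), (true, 17), (false, 2)]⟩,
   ⟨[3, 2, 1, 0, 2], 8, 49512890567995, [(true, 17), (true, 16), (true, 12), (true, 6)]⟩,
   ⟨[3, 2, 1, 0, 2, 1], 9, 49646550790459, [(false, 1), (true, 15), (true, 23), (true, 7)]⟩,
   ⟨[3, 2, 1, 2], 7, 49749112065339, [(true, 15), (false, 1), (true, 14), (true, 8)]⟩,
   ⟨[3, 2, 1, 0, 2, 1, 2, 3, 2, 1, 0, 2, 1, 2], 22, 60670995793731, [(false, 0), (false, 1), (true, 10), (true, 5)]⟩,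
   ⟨[], 0, 61770926859556, [(false, 0), (false, 1), (false, 2), (true, 4)]⟩,
   ⟨[3, 2, 1, 0, 2, 1, 3, 2, 1, 0], 15, 67075127585329, [(true, 22), (false, 1), (false, 2), (true, 1)]⟩,
   ⟨[3, 2, 1, 0, 2, 1, 3, 2], 13, 67237767873841, [(false, 1), (true, 22), (true, 7), (true, 2)]⟩,
   ⟨[3, 2, 1, 0, 2, 1, 3, 2, 1], 14, 67371477903921, [(true, 20), (true, 21), (false, 2), (true, 3)]⟩,
   ⟨[3, 2, 1, 0, 2, 1, 2], 11, 74934465205826, [(false, 1), (false, 0), (true, 16), (true, 0)]⟩]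

/-- the steps -/
def steps : List (ℕ × List Tab.Rep) :=
  [(0, reps0), (1, reps1), (2, reps2), (3, reps3)]

theorem chainOK : E6Data.tab.checkChainB wd 1 4 [] steps = true := by decide +kernel

include hq hK in
theorem card_twisted :
    Nat.gcd 3 (q + 1) * Nat.card ↥(tw F q) = q ^ 36 * (q ^ 2 - 1) * (q ^ 5 + 1) * (q ^ 6 - 1) *
      (q ^ 8 - 1) * (q ^ 9 + 1) * (q ^ 12 - 1) := by
  have h := (X hq hK).card_G1_formula (d := 1) (M := 36) one_pos (hblk hq hK) rfl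
    (steps := steps) chainOK
  have ht : Nat.gcd 3 (q + 1) * Nat.card ↥(E6Data.tab.D.diagonalSubgroup F ⊓ (X hq hK).G1) =
      (q - 1) ^ 4 * (q + 1) ^ 2 := card_torus hq hK
  change Nat.card ↥(tw F q) = _ at h
  rw [h]
  simp only [← mul_assoc]
  rw [mul_comm (Nat.gcd 3 (q + 1)) (q ^ 36), mul_assoc (q ^ 36) (Nat.gcd 3 (q + 1)), ht]
  have h1 := hq.one_lt
  simp only [steps, reps0, reps1, reps2, reps3, List.map_cons, List.map_nil, List.sum_cons,
    List.sum_nil, List.prod_cons, List.prod_nil]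
  zify [h1.le, Nat.one_le_pow 2 q (by omega), Nat.one_le_pow 6 q (by omega),
    Nat.one_le_pow 8 q (by omega), Nat.one_le_pow 12 q (by omega)]
  ring

include hq hK in
theorem card_pos : Nat.card ↥(E6Data.tab.D.posUnipotent F ⊓ tw F q) = q ^ 36 :=
  (X hq hK).card_pos_fixed one_pos (hblk hq hK) rfl

theorem derived : ⁅(X hq hK).G1, (X hq hK).G1⁆ = (X hq hK).G1 := by
  refine (X hq hK).derived_eq
    (S := {x | ∃ w ∈ e6Words F q, x = (w.map fun e => xg g0 e.1 e.2).prod})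
    (genSubgroup_eq g0 _) split ?_
  intro b hb z hz hz1
  change b < 4 at hb
  have hfix := (twisted_fixed hq hK z hz1).2
  rcases block_cases hb with ⟨i, hi, e⟩ | ⟨i, j, hi, e⟩
  · obtain ⟨t, ht, rfl⟩ := fixed_mid hq hK hi hz hfix
    rcases hi with ⟨rfl, rfl⟩ | ⟨rfl, rfl⟩
    · refine (X hq hK).derived_of_pair (r := 1) (s := 71) (k := 46) (C := -1) (z := t)
        (by decide +kernel) (by decide +kernel) (by decide) (by decide +kernel) rfl
        (by decide +kernel) rfl rfl ?_ ?_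
      · show (E6Data.sym.ζ.getD 71 1 : F) * psi hq hK t = t
        rw [show E6Data.sym.ζ.getD 71 1 = 1 by decide +kernel, psi_apply, ht, Int.cast_one, one_mul]
      · show (E6Data.sym.ζ.getD 1 1 : F) * psi hq hK (-((-1 : ℤ) : F)) = _
        rw [show E6Data.sym.ζ.getD 1 1 = 1 by decide +kernel]
        simp
    · refine (X hq hK).derived_of_pair (r := 2) (s := 70) (k := 39) (C := -1) (z := t)
        (by decide +kernel) (by decide +kernel) (by decide) (by decide +kernel) rfl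
        (by decide +kernel) rfl rfl ?_ ?_
      · show (E6Data.sym.ζ.getD 70 1 : F) * psi hq hK t = t
        rw [show E6Data.sym.ζ.getD 70 1 = 1 by decide +kernel, psi_apply, ht, Int.cast_one, one_mul]
      · show (E6Data.sym.ζ.getD 2 1 : F) * psi hq hK (-((-1 : ℤ) : F)) = _
        rw [show E6Data.sym.ζ.getD 2 1 = 1 by decide +kernel]
        simp
  · obtain ⟨u, hu⟩ := TwField.exists_sq_ne_one (K := F) (by
      rw [hK]; exact Nat.pow_le_pow_left hq.two_le 2)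
    have hp : IsPair i j := hi.imp And.right And.right
    have hsort : [E6Data.tab.smp j, E6Data.tab.smp i].Pairwise (· < ·) ∧
        E6Data.tab.A j (E6Data.tab.smp i) = 0 ∧ E6Data.tab.A i (E6Data.tab.smp j) = 0 ∧
        E6Data.tab.A i (E6Data.tab.smp i) = 2 ∧ E6Data.tab.A j (E6Data.tab.smp j) = 2 := by
      rcases hp with ⟨rfl, rfl⟩ | ⟨rfl, rfl⟩ <;> decide +kernel
    have hinv : E6Data.tab.invSet (wd b) = [E6Data.tab.smp j, E6Data.tab.smp i].toFinset := by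
      rcases hi with ⟨rfl, rfl, rfl⟩ | ⟨rfl, rfl, rfl⟩ <;> decide +kernel
    refine (X hq hK).derived_of_torus hb (R := [E6Data.tab.smp j, E6Data.tab.smp i]) hsort.1
      hinv.symm (fix_mem hq hK (single_pair_fix hK hp u)) (fun r hr => ?_) hz hz1
    obtain ⟨-, a1, a2, a3, a4⟩ := hsort
    have hi' : i < E6Data.tab.l := (pair_data hp).1
    have hj' : j < E6Data.tab.l := (pair_data hp).2.1
    simp only [List.mem_cons, List.not_mem_nil, or_false] at hr
    rw [wt_mul, wt_single g0 hi', wt_single g0 hj']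
    rcases hr with rfl | rfl
    · rw [a2, a4, zpow_zero, one_mul, zpow_ofNat]
      intro e'
      refine hu (Units.map_injective (f := (psi hq hK).toMonoidHom) (psi hq hK).injective ?_)
      rw [map_one, ← e']
      exact Units.ext (by simp [psi_apply, ← pow_mul, mul_comm])
    · rw [a1, a3, zpow_zero, mul_one, zpow_ofNat]
      exact hu

theorem sep : (X hq hK).Sep := by
  intro b hb j hj c hc
  change b < 4 at hb
  rcases block_cases hb with ⟨i, hi, e⟩ | ⟨i, k, hi, e⟩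
  · have hm : IsMid i := hi.imp And.right And.right
    have hinv : E6Data.tab.invSet (wd b) = [E6Data.tab.smp i].toFinset := by
      rcases hi with ⟨rfl, rfl⟩ | ⟨rfl, rfl⟩ <;> decide +kernel
    refine (X hq hK).sep_of_witness (R := [E6Data.tab.smp i]) (List.pairwise_singleton _ _)
      (fun r hr => by
        show r ∈ E6Data.tab.invSet (wd b)
        rw [hinv]; exact List.mem_toFinset.2 hr) ?_ (a := fun _ => 1) one_ne_zero ?_ hc
    · change j ∈ wd b at hj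
      rw [e] at hj
      simp only [List.mem_cons, List.not_mem_nil, or_false] at hj
      rw [hj]; simp
    · simpa [sProd] using (mid_mem (F := F) (q := q) hm (one_pow q)).1
  · have hp : IsPair i k := hi.imp And.right And.right
    have hinv : E6Data.tab.invSet (wd b) = [E6Data.tab.smp k, E6Data.tab.smp i].toFinset := by
      rcases hi with ⟨rfl, rfl, rfl⟩ | ⟨rfl, rfl, rfl⟩ <;> decide +kernel
    refine (X hq hK).sep_of_witness (R := [E6Data.tab.smp k, E6Data.tab.smp i]) (by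
        rcases hp with ⟨rfl, rfl⟩ | ⟨rfl, rfl⟩ <;> decide +kernel)
      (fun r hr => by
        show r ∈ E6Data.tab.invSet (wd b)
        rw [hinv]; exact List.mem_toFinset.2 hr) ?_ (a := fun _ => 1) one_ne_zero ?_ hc
    · change j ∈ wd b at hj
      rw [e] at hj
      simp only [List.mem_cons, List.not_mem_nil, or_false] at hj
      rcases hj with rfl | rfl <;> simp
    · have : sProd g0 [E6Data.tab.smp k, E6Data.tab.smp i] (fun _ => (1 : F)) = eP F q i k 1 := by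
        simp only [eP, sProd, List.map_cons, List.map_nil, List.prod_cons, List.prod_nil, mul_one,
          one_pow]
        exact ((pair_commute hp (xg_node i _) (xg_node k _)).eq).symm
      rw [this]
      exact eP_mem hp 1

theorem cox : ∀ a b : Fin 4,
    E6Data.tab.checkOrd (wd a ++ wd b) (CoxeterMatrix.F₄ a b) = true := by
  decide +kernel

end Cfsg.Agent.Chev.TwE6
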