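import Cfsg.Agent.Lib.Lie.ChevBN

/-! The element of the Weyl group inverting all positive roots, and the core of `B`. -/

set_option autoImplicit false

namespace Cfsg.Agent.Chev

open Cfsg.Lie
open Matrix hiding zpow_mul inv_zpow mul_inv_rev zpow_add zpow_neg

namespace Tab

variable {T : Tab} {F : Type*} [Field F]

theorem chRoot_rw' (g : T.Good) : ∀ {L : List ℕ}, T.Wd L → ∀ {r s : ℕ}, r < T.n → s < T.n → ∀ m : ℕ,
    T.chRoot (T.rw' L r) (T.rw' L s) m = (T.chRoot r s m).map (T.rw' L)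
  | [], _, r, s, _, _, m => by
    cases h : T.chRoot r s m <;> simp [rw', h]
  | i :: L, h, r, s, hr, hs, m => by
    obtain ⟨hi, hL⟩ := Wd.cons_iff.1 h
    rw [rw'_cons, rw'_cons, chRoot_ref g hi (rw'_lt g hL hr) (rw'_lt g hL hs), chRoot_rw' g hL hr hs,
      Option.map_map]
    rfl

theorem exists_descent (g : T.Good) {s : ℕ} (hs : s < T.n) (hN : T.N ≤ s) :
    (∃ i < T.l, s = T.smp i) ∨
      ∃ i < T.l, T.N ≤ T.ref i s ∧ T.ref i s < s ∧ ∃ m, 1 ≤ m ∧
        T.chRoot (T.smp i) (T.ref i s) m = some s := by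
  have h := g.descent
  simp only [checkDescent, Bool.and_eq_true] at h
  obtain ⟨i, hi, h'⟩ := anyBelow_eq_true.1 (allBelow_eq_true.1 h.1 s hs)
  simp only [Bool.or_eq_true, nat_beq] at h'
  rcases h' with (h' | h') | h'
  · exact Or.inl ⟨i, hi, h'⟩
  · have := (neg_lt_N_iff (g.smp_lt hi)).2 (g.smp_ge hi)
    omega
  rw [nat_ble.2 hN, cond_true, Bool.and_eq_true, nat_blt, nat_ble] at h'
  obtain ⟨h1, h2⟩ := h'
  by_cases hsp : s = T.smp i
  · exact Or.inl ⟨i, hi, hsp⟩
  refine Or.inr ⟨i, hi, h2, h1, ?_⟩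
  have hu := g.ref_lt hi hs
  have e := (g.refl' hi hu).2.2.2.2.1
  rw [g.ref_ref hi hs, refSpec] at e
  have hp := (neg_lt_N_iff (g.smp_lt hi)).2 (g.smp_ge hi)
  split_ifs at e with q1 q2 q3 q4
  · omega
  · omega
  · rcases hk : T.chRoot (T.neg (T.smp i)) (T.ref i s) (T.A i (T.ref i s)).toNat with _ | k <;>
      rw [hk] at e
    · simp at e; omega
    · simp only [Option.getD_some] at e
      subst e
      simp only [chRoot, Option.map_eq_some_iff] at hk
      obtain ⟨q, hq, hqk⟩ := hk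
      have hne : T.ch (T.neg (T.smp i)) (T.ref i s) ≠ [] := fun he => by simp [he] at hq
      obtain ⟨-, -, -, -, -, hlow⟩ := chainOK_spec _ _ 1 _
        (g.chain' (neg_lt (g.smp_lt hi)) hu hne).2.2.1 (q, (T.A i (T.ref i s)).toNat)
        (by rw [List.mk_mem_zipIdx_iff_le_and_getElem?_sub]; exact ⟨by omega, hq⟩)
      have := (hlow hp).1
      dsimp only at this
      omega
  · rcases hk : T.chRoot (T.smp i) (T.ref i s) (-T.A i (T.ref i s)).toNat with _ | k <;> rw [hk] at e
    · simp at e; omega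
    · simp only [Option.getD_some] at e
      subst e
      exact ⟨_, by omega, hk⟩
  · omega

/-- A word inverting every fundamental root inverts every positive root. -/
theorem inverts_all (g : T.Good) {L : List ℕ} (hL : T.Wd L)
    (h : ∀ i < T.l, T.rw' L (T.smp i) < T.N) : ∀ s, T.N ≤ s → s < T.n → T.rw' L s < T.N := by
  intro s
  induction s using Nat.strong_induction_on with
  | _ s ih =>
    intro hN hs
    rcases exists_descent g hs hN with ⟨i, hi, rfl⟩ | ⟨i, hi, h2, h1, m, hm, hk⟩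
    · exact h i hi
    · have hu := g.ref_lt hi hs
      have ha := h i hi
      have hb := ih _ h1 h2 hu
      have hk' := chRoot_rw' g hL (g.smp_lt hi) hu m
      rw [hk, Option.map_some] at hk'
      simp only [chRoot, Option.map_eq_some_iff] at hk'
      obtain ⟨q, hq, hqk⟩ := hk'
      have hne : T.ch (T.rw' L (T.smp i)) (T.rw' L (T.ref i s)) ≠ [] := fun he => by simp [he] at hq
      obtain ⟨-, -, -, -, -, hlow⟩ := chainOK_spec _ _ 1 _
        (g.chain' (rw'_lt g hL (g.smp_lt hi)) (rw'_lt g hL hu) hne).2.2.1 (q, m)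
        (by rw [List.mk_mem_zipIdx_iff_le_and_getElem?_sub]; exact ⟨hm, hq⟩)
      have := (hlow ha).2.1 hb
      dsimp only at this
      omega

/-- the positive roots inverted by a word -/
def invSet (T : Tab) (L : List ℕ) : Finset ℕ :=
  (Finset.Ico T.N T.n).filter fun s => T.rw' L s < T.N

theorem invSet_grow (g : T.Good) {L : List ℕ} (hL : T.Wd L) {i : ℕ} (hi : i < T.l)
    (h : T.N ≤ T.rw' L (T.smp i)) :
    (T.invSet L).card < (T.invSet (L ++ [i])).card := by
  have hsub : insert (T.smp i) ((T.invSet L).image (T.ref i)) ⊆ T.invSet (L ++ [i]) := by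
    intro x hx
    rw [Finset.mem_insert, Finset.mem_image] at hx
    rcases hx with rfl | ⟨y, hy, rfl⟩
    · simp only [invSet, Finset.mem_filter, Finset.mem_Ico, rw'_append, rw'_cons, rw'_nil,
        g.ref_smp hi, rw'_neg g hL (g.smp_lt hi)]
      exact ⟨⟨g.smp_ge hi, g.smp_lt hi⟩, (neg_lt_N_iff (rw'_lt g hL (g.smp_lt hi))).2 h⟩
    · simp only [invSet, Finset.mem_filter, Finset.mem_Ico] at hy ⊢
      obtain ⟨⟨h1, h2⟩, h3⟩ := hy
      refine ⟨⟨g.ref_pos hi h2 h1 fun e => ?_, g.ref_lt hi h2⟩, ?_⟩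
      · subst e; omega
      · rwa [rw'_append, rw'_cons, rw'_nil, g.ref_ref hi h2]
  refine lt_of_lt_of_le ?_ (Finset.card_le_card hsub)
  rw [Finset.card_insert_of_notMem, Finset.card_image_of_injOn]
  · exact Nat.lt_succ_self _
  · intro a ha b hb hab
    simp only [invSet, Finset.coe_filter, Finset.mem_Ico, Set.mem_setOf_eq] at ha hb
    exact g.ref_inj hi ha.1.2 hb.1.2 hab
  · intro hmem
    obtain ⟨y, hy, he⟩ := Finset.mem_image.1 hmem
    simp only [invSet, Finset.mem_filter, Finset.mem_Ico] at hy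
    have e := g.ref_ref hi hy.1.2
    rw [he, g.ref_smp hi] at e
    have := (neg_lt_N_iff (g.smp_lt hi)).2 (g.smp_ge hi)
    omega

/-- There is a word inverting all positive roots. -/
theorem exists_longest (g : T.Good) :
    ∃ L, T.Wd L ∧ (∀ s, T.N ≤ s → s < T.n → T.rw' L s < T.N) ∧
      ∀ s, T.N ≤ s → s < T.n → T.rw' L.reverse s < T.N := by
  have key : ∀ k L, T.Wd L → T.n - (T.invSet L).card ≤ k →
      ∃ L, T.Wd L ∧ ∀ i < T.l, T.rw' L (T.smp i) < T.N := by
    intro k
    induction k with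
    | zero =>
      intro L hL hk
      refine ⟨L, hL, fun i hi => ?_⟩
      by_contra h
      have h1 := invSet_grow g hL hi (not_lt.1 h)
      have h2 : (T.invSet (L ++ [i])).card ≤ T.n := by
        refine (Finset.card_filter_le _ _).trans ?_
        simp
      omega
    | succ k ih =>
      intro L hL hk
      by_cases h : ∀ i < T.l, T.rw' L (T.smp i) < T.N
      · exact ⟨L, hL, h⟩
      push Not at h
      obtain ⟨i, hi, h⟩ := h
      have h1 := invSet_grow g hL hi h
      exact ih (L ++ [i]) (Wd.append_iff.2 ⟨hL, by simp [Wd, hi]⟩) (by omega)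
  obtain ⟨L, hL, h⟩ := key T.n [] (by simp [Wd]) (Nat.sub_le _ _)
  refine ⟨L, hL, inverts_all g hL h, fun s hN hs => ?_⟩
  by_contra hc
  have hu := rw'_lt g hL.reverse hs
  have h' := inverts_all g hL h _ (not_lt.1 hc) hu
  have e := rw'_rev g hL.reverse hs
  rw [List.reverse_reverse] at e
  omega

theorem rw'_rev' (g : T.Good) {L : List ℕ} (hL : T.Wd L) {s : ℕ} (hs : s < T.n) :
    T.rw' L (T.rw' L.reverse s) = s := by
  have e := rw'_rev g hL.reverse hs
  rwa [List.reverse_reverse] at e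

/-- conjugation of a subgroup generated by root groups -/
theorem genS_map_nWd (g : T.Good) {L : List ℕ} (hL : T.Wd L) {S : Set ℕ} (hS : ∀ r ∈ S, r < T.n) :
    (genS g F S).map (MulAut.conj (nWd g F L)).toMonoidHom = genS g F (T.rw' L '' S) := by
  apply le_antisymm
  · rw [Subgroup.map_le_iff_le_comap]
    refine genS_le g fun s hs t => ?_
    obtain ⟨ε, -, h⟩ := nWd_conj (F := F) g hL (hS s hs)
    simp only [Subgroup.mem_comap, MulEquiv.coe_toMonoidHom, MulAut.conj_apply, (h t).1]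
    exact xg_mem_genS g (Set.mem_image_of_mem _ hs) _
  · refine genS_le g ?_
    rintro _ ⟨s, hs, rfl⟩ t
    obtain ⟨ε, hε, h⟩ := nWd_conj (F := F) g hL (hS s hs)
    refine ⟨xg g s ((ε : F) * t), xg_mem_genS g hs _, ?_⟩
    have he : (ε : F) * ε = 1 := by rw [← Units.val_mul, hε, Units.val_one]
    rw [MulEquiv.coe_toMonoidHom, MulAut.conj_apply, (h _).1, ← mul_assoc, he, one_mul]

theorem exists_pos_to_neg (g : T.Good) :
    ∃ n ∈ T.D.monomialSubgroup F,
      (T.D.posUnipotent F).map (MulAut.conj n).toMonoidHom = T.D.negUnipotent F := by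
  obtain ⟨L, hL, h1, h2⟩ := exists_longest g
  refine ⟨nWd g F L, (mem_monomial_iff g).2 ⟨L, hL, 1, by simp⟩, ?_⟩
  rw [posUnipotent_eq g, negUnipotent_eq g, genS_map_nWd g hL fun r hr => hr.2]
  congr 1
  ext x
  constructor
  · rintro ⟨r, hr, rfl⟩; exact h1 r hr.1 hr.2
  · intro hx
    have hxn : x < T.n := by have := n_def (T := T); have : x < T.N := hx; omega
    refine ⟨T.rw' L.reverse x, ⟨?_, rw'_lt g hL.reverse hxn⟩, rw'_rev' g hL hxn⟩
    by_contra hc
    have hneg := (N_le_neg_iff (rw'_lt g hL.reverse hxn)).2 (not_le.1 hc)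
    have h := h1 _ hneg (neg_lt (rw'_lt g hL.reverse hxn))
    rw [rw'_neg g hL (rw'_lt g hL.reverse hxn), rw'_rev' g hL hxn, neg_lt_N_iff hxn] at h
    have : x < T.N := hx
    omega

/-- `B` is core free in the group. -/
theorem borel_core_free (g : T.Good) :
    ((T.D.borelSubgroup F).subgroupOf (T.D.group F)).normalCore = ⊥ := by
  rw [eq_bot_iff]
  intro x hx
  have hconj : ∀ y : ↥(T.D.group F), ((y * x * y⁻¹ : ↥(T.D.group F)) : GL T.D.Idx F) ∈
      T.D.borelSubgroup F := fun y => hx y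
  obtain ⟨n, hn, hmap⟩ := exists_pos_to_neg (F := F) g
  obtain ⟨L, hL, c, hc⟩ := (mem_monomial_iff g).1 hn
  have hdiag : ∀ z : GL T.D.Idx F, z ∈ T.D.borelSubgroup F →
      n⁻¹ * z * n ∈ T.D.borelSubgroup F → z ∈ T.D.diagonalSubgroup F := by
    intro z hz hz'
    obtain ⟨u, hu, d, hd⟩ := (mem_borel_iff g).1 hz'
    have hv : n * u * n⁻¹ ∈ T.D.negUnipotent F := by
      rw [← hmap, posUnipotent_eq g]
      exact ⟨u, hu, rfl⟩
    have hH : n * tor T F d * n⁻¹ ∈ T.D.diagonalSubgroup F := by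
      obtain ⟨e, he⟩ := wSub_conj_torus g (nWd_mem_wSub g hL) d
      rw [diagonalSubgroup_eq g, hc, show ∀ a b x : GL T.D.Idx F,
        a * b * x * (a * b)⁻¹ = a * (b * x * b⁻¹) * a⁻¹ from fun a b x => by group, he]
      exact ⟨e, by rw [← map_mul, ← map_inv, ← map_mul, mul_comm c e, mul_inv_cancel_right]⟩
    have e : z = (n * u * n⁻¹) * (n * tor T F d * n⁻¹) := by
      have : z = n * (n⁻¹ * z * n) * n⁻¹ := by group
      rw [this, hd]; group
    have hvB : n * u * n⁻¹ ∈ T.D.borelSubgroup F := by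
      have := mul_mem hz (inv_mem (Subgroup.mem_sup_right (S := T.D.posUnipotent F) hH))
      rwa [e, mul_inv_cancel_right] at this
    rw [negUnipotent_eq g] at hv
    rw [e, borel_inf_neg g hvB hv, one_mul]
    exact hH
  have hH : ∀ y : ↥(T.D.group F),
      ((y * x * y⁻¹ : ↥(T.D.group F)) : GL T.D.Idx F) ∈ T.D.diagonalSubgroup F := by
    intro y
    refine hdiag _ (hconj y) ?_
    have := hconj (⟨n⁻¹, inv_mem (monomial_le_group g hn)⟩ * y)
    simpa [mul_assoc] using this
  have hx1 := hH 1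
  simp only [one_mul, inv_one, mul_one, diagonalSubgroup_eq g] at hx1
  obtain ⟨d, hd⟩ := hx1
  have hw : ∀ r, T.N ≤ r → r < T.n → wt T F d r = 1 := by
    intro r hr hrn
    have h := hH ⟨xg g r 1, xg_mem_group g r 1⟩
    simp only [Subgroup.coe_mul, Subgroup.coe_inv, ← hd] at h
    have e : xg g r (1 : F) * tor T F d * (xg g r (1 : F))⁻¹ * (tor T F d)⁻¹ =
        xg g r (1 + (wt T F d r : F) * (-1)) := by
      rw [xg_inv, mul_assoc, mul_assoc, ← mul_assoc (tor T F d), tor_xg g d hrn, xg_add]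
    have hmem : xg g r (1 + (wt T F d r : F) * (-1)) ∈ T.D.diagonalSubgroup F := by
      rw [← e]
      exact mul_mem h (inv_mem (by rw [diagonalSubgroup_eq g]; exact ⟨d, rfl⟩))
    have h1 := pos_inf_torus g (xg_mem_genS g (S := Set.Ico T.N T.n) (r := r) ⟨hr, hrn⟩ _) hmem
    rw [← xg_zero g r] at h1
    have h2 := xg_injective g hrn h1
    refine Units.ext ?_
    rw [Units.val_one]
    linear_combination -h2
  rw [Subgroup.mem_bot]
  refine Subtype.ext ?_
  rw [Subgroup.coe_one, ← hd, tor_apply, ← map_one (dg T F)]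
  refine dg_congr g fun s hs => ?_
  by_cases hN : T.N ≤ s
  · exact hw s hN hs
  · have := hw _ ((N_le_neg_iff hs).2 (not_le.1 hN)) (neg_lt hs)
    rw [wt_neg g hs, inv_eq_one] at this
    exact this

end Tab

end Cfsg.Agent.Chev
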