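import Cfsg.Agent.Lib.Lie.ChevUnip
import Cfsg.Agent.Lib.Lie.TabD4
import Cfsg.Agent.Lib.Lie.TabE6

/-!
# Graph automorphisms in types D4 and E6

A signed permutation of the basis carries each root element to the root element of the permuted root.
-/

set_option autoImplicit false
set_option maxRecDepth 20000

namespace Cfsg.Agent.Chev

open Cfsg.Lie
open Matrix hiding zpow_mul inv_zpow mul_inv_rev zpow_add zpow_neg

/-- A symmetry of the tables: permutations of the nodes and of the roots, and signs. -/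
structure Sym where
  /-- the permutation of the nodes -/
  ρ : List ℕ
  /-- its inverse -/
  ρ' : List ℕ
  /-- the permutation of the roots -/
  π : List ℕ
  /-- its inverse -/
  π' : List ℕ
  /-- the signs -/
  ζ : List ℤ

namespace Tab

/-- image of a basis position -/
def sCode (T : Tab) (ρ π : List ℕ) (v : ℕ) : ℕ :=
  bif Nat.blt v T.l then ρ.getD v 0
  else bif Nat.blt v (Nat.add T.l T.n) then Nat.add T.l (π.getD (Nat.sub v T.l) 0) else v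

/-- sign of a basis position -/
def sSgn (T : Tab) (ζ : List ℤ) (v : ℕ) : ℤ :=
  bif Nat.blt v T.l then 1 else ζ.getD (Nat.sub v T.l) 1

/-- transport a sparse vector -/
def sMap (T : Tab) (S : Sym) (v : SVec) : SVec :=
  v.map fun e => (T.sCode S.ρ S.π e.1, (e.2.1 * T.sSgn S.ζ e.1, e.2.2))

/-- the checks of a symmetry -/
def checkSym (T : Tab) (S : Sym) : Bool :=
  allBelow (fun v =>
    Nat.blt (T.sCode S.ρ S.π v) (Nat.add T.l T.n) && Nat.blt (T.sCode S.ρ' S.π' v) (Nat.add T.l T.n) &&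
    Nat.beq (T.sCode S.ρ' S.π' (T.sCode S.ρ S.π v)) v &&
    Nat.beq (T.sCode S.ρ S.π (T.sCode S.ρ' S.π' v)) v &&
    T.sSgn S.ζ v * T.sSgn S.ζ v == 1) (Nat.add T.l T.n) &&
  allBelow (fun i =>
    Nat.blt (S.ρ.getD i 0) T.l && Nat.beq (S.π.getD (T.smp i) 0) (T.smp (S.ρ.getD i 0)) &&
    Nat.beq (S.π.getD (T.neg (T.smp i)) 0) (T.neg (T.smp (S.ρ.getD i 0))) &&
    S.ζ.getD (T.smp i) 1 == 1 && S.ζ.getD (T.neg (T.smp i)) 1 == 1) T.l &&
  allBelow (fun r =>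
    Nat.blt (S.π.getD r 0) T.n && Nat.blt (S.π'.getD r 0) T.n &&
    Nat.beq (S.π.getD (S.π'.getD r 0) 0) r && S.ζ.getD r 1 * S.ζ.getD r 1 == 1 &&
    T.colsEq (fun j => T.sMap S (T.wapply [(r, [(1, 1, 0)])] [(j, (1, 0, 0))]))
      (fun j => T.wapply [(S.π.getD r 0, [(S.ζ.getD r 1, 1, 0)])]
        [(T.sCode S.ρ S.π j, (T.sSgn S.ζ j, 0, 0))])) T.n

variable {T : Tab} {F : Type*} [Field F]

/-- the signed permutation matrix -/
def sMat (T : Tab) (F : Type*) [Field F] (ρ π : List ℕ) (f : ℕ → ℤ) : Matrix T.D.Idx T.D.Idx F :=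
  Matrix.of fun a b => (f (T.code b) : F) * bas T F (T.sCode ρ π (T.code b)) a

theorem sMat_bas (g : T.Good) (ρ π : List ℕ) (f : ℕ → ℤ) {j : ℕ} (hj : j < T.l + T.n) :
    sMat T F ρ π f *ᵥ bas T F j = (f j : F) • bas T F (T.sCode ρ π j) := by
  obtain ⟨b, rfl⟩ := exists_code g hj
  funext a
  rw [bas_code g, Matrix.mulVec_single_one]
  rfl

theorem sym_facts (T : Tab) (S : Sym) (h : T.checkSym S = true) :
    (∀ v < T.l + T.n, T.sCode S.ρ S.π v < T.l + T.n ∧ T.sCode S.ρ' S.π' v < T.l + T.n ∧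
      T.sCode S.ρ' S.π' (T.sCode S.ρ S.π v) = v ∧ T.sCode S.ρ S.π (T.sCode S.ρ' S.π' v) = v ∧
      T.sSgn S.ζ v * T.sSgn S.ζ v = 1) ∧
    (∀ i < T.l, S.ρ.getD i 0 < T.l ∧ S.π.getD (T.smp i) 0 = T.smp (S.ρ.getD i 0) ∧
      S.π.getD (T.neg (T.smp i)) 0 = T.neg (T.smp (S.ρ.getD i 0)) ∧
      S.ζ.getD (T.smp i) 1 = 1 ∧ S.ζ.getD (T.neg (T.smp i)) 1 = 1) ∧
    ∀ r < T.n, S.π.getD r 0 < T.n ∧ S.π'.getD r 0 < T.n ∧ S.π.getD (S.π'.getD r 0) 0 = r ∧
      S.ζ.getD r 1 * S.ζ.getD r 1 = 1 ∧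
      T.colsEq (fun j => T.sMap S (T.wapply [(r, [(1, 1, 0)])] [(j, (1, 0, 0))]))
        (fun j => T.wapply [(S.π.getD r 0, [(S.ζ.getD r 1, 1, 0)])]
          [(T.sCode S.ρ S.π j, (T.sSgn S.ζ j, 0, 0))]) = true := by
  simp only [checkSym, Bool.and_eq_true, allBelow_eq_true, nat_blt, nat_beq, beq_iff_eq] at h
  obtain ⟨⟨h1, h2⟩, h3⟩ := h
  refine ⟨fun v hv => ?_, fun i hi => ?_, fun r hr => ?_⟩
  · obtain ⟨⟨⟨⟨a, b⟩, c⟩, d⟩, e⟩ := h1 v hv; exact ⟨a, b, c, d, e⟩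
  · obtain ⟨⟨⟨⟨a, b⟩, c⟩, d⟩, e⟩ := h2 i hi; exact ⟨a, b, c, d, e⟩
  · obtain ⟨⟨⟨⟨a, b⟩, c⟩, d⟩, e⟩ := h3 r hr; exact ⟨a, b, c, d, e⟩

theorem sMat_x (g : T.Good) {S : Sym} (h : T.checkSym S = true) {r : ℕ} (hr : r < T.n) (t : F) :
    sMat T F S.ρ S.π (T.sSgn S.ζ) * T.D.x F r t =
      T.D.x F (S.π.getD r 0) ((S.ζ.getD r 1 : F) * t) * sMat T F S.ρ S.π (T.sSgn S.ζ) := by
  obtain ⟨h1, -, h3⟩ := sym_facts T S h
  obtain ⟨hp, -, -, -, hc⟩ := h3 r hr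
  by_cases ht : t = 0
  · subst ht; rw [mul_zero, x_zero g, x_zero g, mul_one, one_mul]
  refine ext_col g fun j hj => ?_
  have h' := colsEq_spec (T := T) (F := F) (Units.mk0 t ht) 1 hc hj
  rw [sem_wapply _ _ g _ _ (by simpa using hp)] at h'
  have hw : sem T (Units.mk0 t ht) (1 : Fˣ) (T.sMap S (T.wapply [(r, [(1, 1, 0)])] [(j, (1, 0, 0))])) =
      sMat T F S.ρ S.π (T.sSgn S.ζ) *ᵥ
        sem T (Units.mk0 t ht) (1 : Fˣ) (T.wapply [(r, [(1, 1, 0)])] [(j, (1, 0, 0))]) := by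
    induction T.wapply [(r, [(1, 1, 0)])] [(j, (1, 0, 0))] with
    | nil => simp [sMap]
    | cons e V ih =>
      rw [sMap] at ih
      simp only [sMap, List.map_cons, sem_cons, mulVec_add, mulVec_smul, ih]
      congr 1
      by_cases he : e.1 < T.l + T.n
      · rw [sMat_bas g _ _ _ he, smul_smul]
        congr 1
        simp [monVal]
        ring
      · rw [bas_eq_zero g he, mulVec_zero, smul_zero, sCode,
          nat_blt_false.2 (show T.l ≤ e.1 by omega), cond_false,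
          show Nat.blt e.1 (Nat.add T.l T.n) = false from nat_blt_false.2 (not_lt.1 he), cond_false,
          bas_eq_zero g he, smul_zero]
  rw [hw, sem_wapply _ _ g _ _ (by simpa using hr), sem_one] at h'
  rw [← mulVec_mulVec, ← mulVec_mulVec, sMat_bas g _ _ _ hj]
  have e1 : T.D.wordMat F ([(r, [((1 : ℤ), (1 : ℤ), (0 : ℤ))])].map fun e =>
      (e.1, pval (Units.mk0 t ht) 1 e.2)) = T.D.x F r t := by
    simp [ChevalleyDatum.wordMat, pval, monVal]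
  have e2 : T.D.wordMat F ([(S.π.getD r 0, [(S.ζ.getD r 1, (1 : ℤ), (0 : ℤ))])].map fun e =>
      (e.1, pval (Units.mk0 t ht) 1 e.2)) = T.D.x F (S.π.getD r 0) ((S.ζ.getD r 1 : F) * t) := by
    simp [ChevalleyDatum.wordMat, pval, monVal]
  have e3 : sem T (Units.mk0 t ht) (1 : Fˣ) [(T.sCode S.ρ S.π j, (T.sSgn S.ζ j, 0, 0))] =
      (T.sSgn S.ζ j : F) • bas T F (T.sCode S.ρ S.π j) := by simp [sem, monVal]
  rwa [e1, e2, e3] at h'

/-- the signed permutation matrix as a unit -/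
noncomputable def sUnit (g : T.Good) {S : Sym} (h : T.checkSym S = true) (F : Type*) [Field F] :
    GL T.D.Idx F :=
  ⟨sMat T F S.ρ S.π (T.sSgn S.ζ),
    sMat T F S.ρ' S.π' (fun v => T.sSgn S.ζ (T.sCode S.ρ' S.π' v)),
    ext_col g fun j hj => by
      obtain ⟨-, hb, -, hd, -⟩ := (sym_facts T S h).1 j hj
      obtain ⟨-, -, -, -, he⟩ := (sym_facts T S h).1 _ hb
      rw [← mulVec_mulVec, sMat_bas g _ _ _ hj, mulVec_smul, sMat_bas g _ _ _ hb, hd, smul_smul,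
        one_mulVec, ← Int.cast_mul, he, Int.cast_one, one_smul],
    ext_col g fun j hj => by
      obtain ⟨ha, -, hc, -, he⟩ := (sym_facts T S h).1 j hj
      rw [← mulVec_mulVec, sMat_bas g _ _ _ hj, mulVec_smul, sMat_bas g _ _ _ ha, hc, smul_smul,
        one_mulVec, ← Int.cast_mul, he, Int.cast_one, one_smul]⟩

theorem sUnit_xg (g : T.Good) {S : Sym} (h : T.checkSym S = true) {r : ℕ} (hr : r < T.n) (t : F) :
    sUnit g h F * xg g r t * (sUnit g h F)⁻¹ = xg g (S.π.getD r 0) ((S.ζ.getD r 1 : F) * t) := by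
  rw [mul_inv_eq_iff_eq_mul]
  refine Units.ext ?_
  rw [Units.val_mul, Units.val_mul, xg_val, xg_val]
  exact sMat_x g h hr t

theorem group_eq_closure (g : T.Good) :
    T.D.group F = genS g F (Set.Iio T.n) := by
  refine le_antisymm ((Subgroup.closure_le _).2 ?_) (genS_le g fun r _ t => xg_mem_group g r t)
  rintro x ⟨⟨r, hr⟩, t, hx⟩
  have hr' : r < T.n := by rwa [g.nroots_eq] at hr
  have e : x = xg g r t := Units.ext (by rw [hx, xg_val, ChevalleyDatum.x, dif_pos hr])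
  rw [e]
  exact xg_mem_genS g (S := Set.Iio T.n) hr' t

theorem group_map (g : T.Good) {S : Sym} (h : T.checkSym S = true) :
    (T.D.group F).map (MulAut.conj (sUnit g h F)).toMonoidHom = T.D.group F := by
  obtain ⟨-, -, h3⟩ := sym_facts T S h
  refine le_antisymm (Subgroup.map_le_iff_le_comap.2 ?_) ?_
  · conv_lhs => rw [group_eq_closure g]
    refine genS_le g fun r hr t => ?_
    simp only [Subgroup.mem_comap, MulEquiv.coe_toMonoidHom, MulAut.conj_apply, sUnit_xg g h hr]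
    exact xg_mem_group g _ _
  · conv_lhs => rw [group_eq_closure g]
    refine genS_le g fun r hr t => ?_
    obtain ⟨-, hr', hrr, -, -⟩ := h3 r hr
    obtain ⟨-, -, -, hz, -⟩ := h3 _ hr'
    refine ⟨xg g (S.π'.getD r 0) ((S.ζ.getD (S.π'.getD r 0) 1 : F) * t), xg_mem_group g _ _, ?_⟩
    simp only [MulEquiv.coe_toMonoidHom, MulAut.conj_apply, sUnit_xg g h hr', hrr]
    rw [← mul_assoc, ← Int.cast_mul, hz, Int.cast_one, one_mul]

/-- The automorphism of the group attached to a symmetry. -/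
theorem exists_aut (g : T.Good) {S : Sym} (h : T.checkSym S = true) :
    ∃ α : ↥(T.D.group F) ≃* ↥(T.D.group F), ∀ (x : ↥(T.D.group F)) (i : ℕ) (t : F), i < T.D.rank →
      (((x : GL T.D.Idx F) : Matrix T.D.Idx T.D.Idx F) = T.D.x F (T.D.simple i) t →
        ((α x : GL T.D.Idx F) : Matrix T.D.Idx T.D.Idx F) = T.D.x F (T.D.simple (S.ρ.getD i 0)) t) ∧
      (((x : GL T.D.Idx F) : Matrix T.D.Idx T.D.Idx F) = T.D.x F (T.D.neg (T.D.simple i)) t →
        ((α x : GL T.D.Idx F) : Matrix T.D.Idx T.D.Idx F) =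
          T.D.x F (T.D.neg (T.D.simple (S.ρ.getD i 0))) t) := by
  refine ⟨(((MulAut.conj (sUnit g h F)).subgroupMap (T.D.group F)).trans
    (MulEquiv.subgroupCongr (group_map g h))), fun x i t hi => ?_⟩
  rw [g.rank_eq] at hi
  obtain ⟨hρ, hp, hq, hz, hz'⟩ := (sym_facts T S h).2.1 i hi
  rw [g.simple_eq hi, g.simple_eq hρ, g.neg_eq (g.smp_lt hi), g.neg_eq (g.smp_lt hρ)]
  constructor
  · intro hx
    show ((sUnit g h F * (x : GL T.D.Idx F) * (sUnit g h F)⁻¹ : GL T.D.Idx F) :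
      Matrix T.D.Idx T.D.Idx F) = _
    rw [eq_xg g hx, sUnit_xg g h (g.smp_lt hi), hp, hz, Int.cast_one, one_mul, xg_val]
  · intro hx
    show ((sUnit g h F * (x : GL T.D.Idx F) * (sUnit g h F)⁻¹ : GL T.D.Idx F) :
      Matrix T.D.Idx T.D.Idx F) = _
    rw [eq_xg g hx, sUnit_xg g h (neg_lt (g.smp_lt hi)), hq, hz', Int.cast_one, one_mul, xg_val]

end Tab

namespace D4Data

/-- the symmetry -/
def symA : Sym :=
  ⟨[2, 1, 3, 0], [3, 1, 0, 2],
    [0, 1, 6, 2, 7, 10, 3, 8, 4, 9, 11, 5, 18, 12, 14, 19, 15, 20, 13, 16, 21, 17, 22, 23],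
    [0, 1, 3, 6, 8, 11, 2, 4, 7, 9, 5, 10, 13, 18, 14, 16, 19, 21, 12, 15, 17, 20, 22, 23],
    [1, 1, -1, 1, -1, 1, -1, 1, -1, 1, 1, 1, 1, 1, 1, -1, 1, -1, 1, -1, 1, -1, 1, 1]⟩

theorem symA_ok : tab.checkSym symA = true := by decide +kernel

end D4Data

namespace D4Data

/-- the symmetry -/
def symB : Sym :=
  ⟨[3, 1, 0, 2], [2, 1, 3, 0],
    [0, 1, 3, 6, 8, 11, 2, 4, 7, 9, 5, 10, 13, 18, 14, 16, 19, 21, 12, 15, 17, 20, 22, 23],
    [0, 1, 6, 2, 7, 10, 3, 8, 4, 9, 11, 5, 18, 12, 14, 19, 15, 20, 13, 16, 21, 17, 22, 23],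
    [1, 1, 1, -1, -1, 1, -1, -1, 1, 1, 1, 1, 1, 1, 1, 1, -1, -1, 1, -1, -1, 1, 1, 1]⟩

theorem symB_ok : tab.checkSym symB = true := by decide +kernel

end D4Data

namespace E6Data

/-- the symmetry -/
def sym : Sym :=
  ⟨[5, 1, 4, 3, 2, 0], [5, 1, 4, 3, 2, 0],
    [0, 1, 2, 5, 16, 3, 6, 17, 8, 19, 22, 11, 26, 30, 33, 35, 4, 7, 18, 9, 20, 23, 10, 21,
      24, 25, 12, 27, 31, 34, 13, 28, 32, 14, 29, 15, 56, 42, 57, 39, 43, 58, 37, 40, 44, 59,
      46, 47, 50, 61, 48, 51, 62, 53, 64, 67, 36, 38, 41, 45, 60, 49, 52, 63, 54, 65, 68, 55,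
      66, 69, 70, 71],
    [0, 1, 2, 5, 16, 3, 6, 17, 8, 19, 22, 11, 26, 30, 33, 35, 4, 7, 18, 9, 20, 23, 10, 21,
      24, 25, 12, 27, 31, 34, 13, 28, 32, 14, 29, 15, 56, 42, 57, 39, 43, 58, 37, 40, 44, 59,
      46, 47, 50, 61, 48, 51, 62, 53, 64, 67, 36, 38, 41, 45, 60, 49, 52, 63, 54, 65, 68, 55,
      66, 69, 70, 71],
    [1, 1, 1, 1, -1, 1, 1, -1, 1, -1, -1, 1, -1, 1, -1, 1, -1, -1, 1, -1, 1, 1, -1, 1, 1, 1,
      -1, 1, -1, 1, 1, -1, 1, -1, 1, 1, 1, 1, -1, 1, -1, 1, 1, -1, 1, -1, 1, 1, 1, -1, 1, 1,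
      -1, 1, -1, -1, 1, -1, 1, -1, 1, -1, -1, 1, -1, 1, 1, -1, 1, 1, 1, 1]⟩

theorem sym_ok : tab.checkSym sym = true := by decide +kernel

end E6Data

end Cfsg.Agent.Chev
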