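import Cfsg.Agent.Lib.Lie.ChevGroup
import Mathlib.RingTheory.IntegralDomain
import Mathlib.RingTheory.RootsOfUnity.Basic

/-! The order of the diagonal subgroup: the kernel of `(Fˣ)^l → H` is `μ_d^k`. -/

set_option autoImplicit false

namespace Cfsg.Agent.Chev

open Cfsg.Lie
open Matrix hiding zpow_mul inv_zpow mul_inv_rev zpow_add zpow_neg

namespace Tab

/-- Certificate for the kernel of the torus map. -/
structure TorCert where
  /-- exponent -/
  d : ℕ
  /-- rank -/
  k : ℕ
  /-- inclusion of `μ_d^k` -/
  v : ℕ → ℕ → ℤ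
  /-- the projection -/
  P : ℕ → ℕ → ℤ
  /-- combination of relations -/
  M : ℕ → ℕ → ℤ
  /-- combination of relations -/
  R : ℕ → ℕ → ℤ

/-- check of a certificate -/
def checkTor (T : Tab) (C : TorCert) : Bool :=
  decide (1 ≤ C.d) &&
  allBelow (fun j => allBelow (fun j' =>
    sumBelow (fun m => C.v m j * C.P m j') C.k +
      sumBelow (fun i => C.M j i * T.A j' (T.smp i)) T.l == if j = j' then 1 else 0) T.l) T.l &&
  allBelow (fun m => allBelow (fun j =>
    sumBelow (fun i => C.R m i * T.A j (T.smp i)) T.l == (C.d : ℤ) * C.P m j) T.l) C.k &&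
  allBelow (fun m => allBelow (fun s =>
    sumBelow (fun j => C.v m j * T.A j s) T.l % (C.d : ℤ) == 0) T.n) C.k &&
  allBelow (fun m => allBelow (fun m' =>
    (sumBelow (fun j => C.P m j * C.v m' j) T.l - if m = m' then 1 else 0) % (C.d : ℤ) == 0) C.k) C.k

variable {T : Tab} {F : Type*} [Field F]

theorem prod_zpow_sum {G ι : Type*} [CommGroup G] (s : Finset ι) (x : G) (f : ι → ℤ) :
    ∏ i ∈ s, x ^ f i = x ^ ∑ i ∈ s, f i := by
  classical
  induction s using Finset.induction_on with
  | empty => simp
  | insert a s ha ih => rw [Finset.prod_insert ha, Finset.sum_insert ha, ih, _root_.zpow_add]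

/-- extend by one -/
noncomputable def extC (T : Tab) (F : Type*) [Field F] : (Fin T.l → Fˣ) →* (ℕ → Fˣ) where
  toFun c j := if h : j < T.l then c ⟨j, h⟩ else 1
  map_one' := by funext j; split_ifs <;> simp_all
  map_mul' a b := by funext j; simp only [Pi.mul_apply]; split_ifs <;> simp

theorem tor_congr (g : T.Good) {c d : ℕ → Fˣ} (h : ∀ j < T.l, c j = d j) :
    tor T F c = tor T F d := by
  rw [tor_apply, tor_apply]
  refine dg_congr g fun s _ => ?_
  exact Finset.prod_congr rfl fun j hj => by rw [h j (Finset.mem_range.1 hj)]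

theorem card_diagonal_mul (g : T.Good) [Fintype F] {C : TorCert} (h : T.checkTor C = true) :
    Nat.gcd (Fintype.card F - 1) C.d ^ C.k * Nat.card (T.D.diagonalSubgroup F) =
      (Fintype.card F - 1) ^ T.l := by
  classical
  simp only [checkTor, Bool.and_eq_true, allBelow_eq_true, beq_iff_eq, decide_eq_true_eq,
    sumBelow_eq_sum] at h
  obtain ⟨⟨⟨⟨hd, h1⟩, h2⟩, h3⟩, h4⟩ := h
  let φ : (Fin T.l → Fˣ) →* GL T.D.Idx F := (tor T F).comp (extC T F)
  have hrange : φ.range = T.D.diagonalSubgroup F := by
    rw [diagonalSubgroup_eq g]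
    refine le_antisymm ?_ ?_
    · rintro _ ⟨c, rfl⟩; exact ⟨_, rfl⟩
    · rintro _ ⟨c, rfl⟩
      exact ⟨fun j => c j, tor_congr g fun j hj => by simp [extC, hj]⟩
  have hcard : Nat.card φ.ker * Nat.card φ.range = (Fintype.card F - 1) ^ T.l := by
    rw [← Subgroup.index_ker, Subgroup.card_mul_index, Nat.card_eq_fintype_card, Fintype.card_fun,
      Fintype.card_fin, Fintype.card_units]
  have hker : ∀ c : Fin T.l → Fˣ, c ∈ φ.ker ↔ ∀ s < T.n, wt T F (extC T F c) s = 1 := by
    intro c
    rw [MonoidHom.mem_ker]
    constructor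
    · intro hc s hs
      have h' := congrArg (fun X : GL T.D.Idx F =>
        (X : Matrix T.D.Idx T.D.Idx F) (Sum.inr ⟨s, by rw [g.nroots_eq]; exact hs⟩)
          (Sum.inr ⟨s, by rw [g.nroots_eq]; exact hs⟩)) hc
      refine Units.ext ?_
      simpa [φ, tor_apply, dg_val, dgv] using h'
    · intro hc
      show tor T F (extC T F c) = 1
      rw [tor_apply, ← map_one (dg T F)]
      exact dg_congr g hc
  -- the group of `d`-torsion tuples
  let Μ : Subgroup (Fin C.k → Fˣ) := MonoidHom.ker (powMonoidHom C.d)
  have hΜ : Nat.card Μ = Nat.gcd (Fintype.card F - 1) C.d ^ C.k := by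
    have e : Nat.card Μ = Nat.card (Fin C.k → (powMonoidHom C.d : Fˣ →* Fˣ).ker) := by
      refine Nat.card_congr
        { toFun := fun x m => ⟨x.1 m, congrFun (MonoidHom.mem_ker.1 x.2) m⟩
          invFun := fun x => ⟨fun m => (x m).1, MonoidHom.mem_ker.2 (funext fun m => (x m).2)⟩
          left_inv := fun _ => rfl
          right_inv := fun _ => rfl }
    rw [e, Nat.card_fun, Nat.card_fin]
    congr 1
    rw [IsCyclic.card_powMonoidHom_ker, Nat.card_eq_fintype_card, Fintype.card_units]
  let toC : (Fin C.k → Fˣ) → Fin T.l → Fˣ := fun x j => ∏ m : Fin C.k, x m ^ C.v m j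
  let toX : (Fin T.l → Fˣ) → Fin C.k → Fˣ := fun c m => ∏ j : Fin T.l, c j ^ C.P m j
  have hz : ∀ (u : Fˣ) (a b : ℤ), u ^ C.d = 1 → (a - b) % (C.d : ℤ) = 0 → u ^ a = u ^ b := by
    intro u a b hu hab
    obtain ⟨t, ht⟩ := Int.dvd_of_emod_eq_zero hab
    rw [show a = (C.d : ℤ) * t + b by omega, _root_.zpow_add, zpow_mul, zpow_natCast, hu,
      _root_.one_zpow, one_mul]
  have e : Nat.card φ.ker = Nat.card Μ := by
    refine Nat.card_congr
      { toFun := fun c => ⟨toX c.1, ?_⟩
        invFun := fun x => ⟨toC x.1, ?_⟩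
        left_inv := ?_
        right_inv := ?_ }
    · obtain ⟨c, hc⟩ := c
      rw [hker] at hc
      refine MonoidHom.mem_ker.2 (funext fun m => ?_)
      show toX c m ^ C.d = 1
      calc (∏ j : Fin T.l, c j ^ C.P m j) ^ C.d
          = ∏ j : Fin T.l, ∏ i ∈ Finset.range T.l, (c j ^ T.A j (T.smp i)) ^ C.R m i := by
            rw [← Finset.prod_pow]
            refine Finset.prod_congr rfl fun j _ => ?_
            simp only [← zpow_mul]
            rw [prod_zpow_sum, ← zpow_natCast, ← zpow_mul]
            congr 1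
            rw [mul_comm, ← h2 m m.isLt j j.isLt]
            exact Finset.sum_congr rfl fun i _ => mul_comm _ _
        _ = ∏ i ∈ Finset.range T.l, (wt T F (extC T F c) (T.smp i)) ^ C.R m i := by
            rw [Finset.prod_comm]
            refine Finset.prod_congr rfl fun i _ => ?_
            rw [Finset.prod_zpow, wt, ← Fin.prod_univ_eq_prod_range
              (fun j => (extC T F c) j ^ T.A j (T.smp i))]
            simp [extC]
        _ = 1 := Finset.prod_eq_one fun i hi => by
            rw [hc _ (g.smp_lt (Finset.mem_range.1 hi)), _root_.one_zpow]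
    · obtain ⟨x, hx⟩ := x
      rw [hker]
      intro s hs
      rw [wt, ← Fin.prod_univ_eq_prod_range (fun j => (extC T F (toC x)) j ^ T.A j s)]
      simp only [extC, MonoidHom.coe_mk, OneHom.coe_mk, Fin.is_lt, dif_pos, Fin.eta, toC]
      simp only [← Finset.prod_zpow, ← zpow_mul]
      rw [Finset.prod_comm]
      refine Finset.prod_eq_one fun m _ => ?_
      rw [prod_zpow_sum, hz (x m) _ 0 (congrFun (MonoidHom.mem_ker.1 hx) m), zpow_zero]
      rw [sub_zero, Fin.sum_univ_eq_sum_range (fun j => C.v m j * T.A j s)]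
      exact h3 m m.isLt s hs
    · rintro ⟨c, hc⟩
      rw [hker] at hc
      refine Subtype.ext (funext fun j => ?_)
      show toC (toX c) j = c j
      calc toC (toX c) j
          = ∏ j' : Fin T.l, c j' ^ ∑ m ∈ Finset.range C.k, C.v m j * C.P m j' := by
            simp only [toC, toX, ← Finset.prod_zpow, ← zpow_mul]
            rw [Finset.prod_comm]
            refine Finset.prod_congr rfl fun j' _ => ?_
            rw [prod_zpow_sum, ← Fin.sum_univ_eq_sum_range (fun m => C.v m j * C.P m j')]
            congr 1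
            exact Finset.sum_congr rfl fun m _ => mul_comm _ _
        _ = ∏ j' : Fin T.l, (c j' ^ (if (j : ℕ) = j' then 1 else 0 : ℤ) *
              ∏ i ∈ Finset.range T.l, (c j' ^ T.A j' (T.smp i)) ^ (-C.M j i)) := by
            refine Finset.prod_congr rfl fun j' _ => ?_
            simp only [← zpow_mul]
            rw [prod_zpow_sum, ← _root_.zpow_add]
            congr 1
            rw [← h1 j j.isLt j' j'.isLt, add_assoc, ← Finset.sum_add_distrib,
              Finset.sum_eq_zero (s := Finset.range T.l) (fun i _ => by ring), add_zero]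
        _ = c j * ∏ i ∈ Finset.range T.l, (wt T F (extC T F c) (T.smp i)) ^ (-C.M j i) := by
            rw [Finset.prod_mul_distrib]
            congr 1
            · rw [Finset.prod_eq_single j]
              · simp
              · intro b _ hb
                simp [Fin.val_eq_val, Ne.symm hb]
              · simp
            · rw [Finset.prod_comm]
              refine Finset.prod_congr rfl fun i _ => ?_
              rw [Finset.prod_zpow, wt, ← Fin.prod_univ_eq_prod_range
                (fun j => (extC T F c) j ^ T.A j (T.smp i))]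
              simp [extC]
        _ = c j := by
            rw [Finset.prod_eq_one fun i hi => by
              rw [hc _ (g.smp_lt (Finset.mem_range.1 hi)), _root_.one_zpow], mul_one]
    · rintro ⟨x, hx⟩
      refine Subtype.ext (funext fun m => ?_)
      show toX (toC x) m = x m
      simp only [toC, toX, ← Finset.prod_zpow, ← zpow_mul]
      rw [Finset.prod_comm]
      rw [Finset.prod_congr rfl fun m' _ => prod_zpow_sum _ _ _]
      rw [Finset.prod_congr rfl fun m' _ => hz (x m') _ (if (m : ℕ) = m' then 1 else 0)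
        (congrFun (MonoidHom.mem_ker.1 hx) m') ?_]
      · rw [Finset.prod_eq_single m]
        · simp
        · intro b _ hb
          simp [Fin.val_eq_val, Ne.symm hb]
        · simp
      · rw [Fin.sum_univ_eq_sum_range (fun j => C.v m' j * C.P m j)]
        rw [Finset.sum_congr rfl fun j (_ : j ∈ Finset.range T.l) => mul_comm (C.v m' j) (C.P m j)]
        exact h4 m m.isLt m' m'.isLt
  rw [← hΜ, ← e, ← hrange]
  exact hcard

end Tab

end Cfsg.Agent.Chev
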