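import Mathlib.FieldTheory.Finite.Basic
import Mathlib.Algebra.CharP.Frobenius
import Mathlib.GroupTheory.SpecificGroups.Cyclic
import Mathlib.RingTheory.IntegralDomain
import Mathlib.Algebra.CharP.CharAndCard

/-! The field automorphism `t ↦ t ^ q` and its fixed points. -/

set_option autoImplicit false

namespace Cfsg.Agent.Chev.TwField

variable {K : Type*} [Field K] [Fintype K] {q k : ℕ}

theorem one_lt (hq : IsPrimePow q) : 1 < q := hq.one_lt

/-- `t ↦ t ^ q` is a field endomorphism -/
theorem exists_powHom (hq : IsPrimePow q) (hK : Fintype.card K = q ^ k) :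
    ∃ ψ : K →+* K, ∀ t, ψ t = t ^ q := by
  obtain ⟨p, e, hp, he, rfl⟩ := (isPrimePow_nat_iff q).1 hq
  have := Fact.mk hp
  have : CharP K p := charP_of_card_eq_prime_pow (f := e * k) (by rw [hK, pow_mul])
  exact ⟨iterateFrobenius K p e, fun t => rfl⟩

theorem pow_pow_eq (hK : Fintype.card K = q ^ k) (t : K) : t ^ q ^ k = t := by
  rw [← hK, FiniteField.pow_card]

theorem card_units (hK : Fintype.card K = q ^ k) : Nat.card Kˣ = q ^ k - 1 := by
  rw [Nat.card_units, Nat.card_eq_fintype_card, hK]

/-- the number of solutions of `u ^ d = 1` -/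
theorem card_root (hK : Fintype.card K = q ^ k) (d : ℕ) :
    Nat.card {u : Kˣ // u ^ d = 1} = Nat.gcd (q ^ k - 1) d := by
  rw [← card_units hK, ← IsCyclic.card_powMonoidHom_ker (G := Kˣ) d]
  exact Nat.card_congr (Equiv.subtypeEquivRight fun u => by simp [MonoidHom.mem_ker])

omit [Fintype K] in
theorem fixed_iff (hq : 1 < q) (u : Kˣ) : (u : K) ^ q = u ↔ u ^ (q - 1) = 1 := by
  obtain ⟨e, rfl⟩ : ∃ e, q = e + 1 := ⟨q - 1, by omega⟩
  rw [Nat.add_sub_cancel, pow_succ, ← Units.val_pow_eq_pow_val, ← Units.val_mul, Units.val_inj,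
    mul_eq_right]

theorem card_fixed_units (hq : 1 < q) (hK : Fintype.card K = q ^ k) :
    Nat.card {u : Kˣ // (u : K) ^ q = u} = q - 1 := by
  rw [Nat.card_congr (Equiv.subtypeEquivRight fun u => fixed_iff hq u), card_root hK,
    Nat.gcd_eq_right]
  simpa using Nat.sub_dvd_pow_sub_pow q 1 k

theorem card_fixed (hq : 1 < q) (hK : Fintype.card K = q ^ k) :
    Nat.card {t : K // t ^ q = t} = q := by
  classical
  have e : {t : K // t ^ q = t} ≃ Option {u : Kˣ // (u : K) ^ q = u} :=
    { toFun := fun t => if h : t.1 = 0 then none else some ⟨Units.mk0 t.1 h, t.2⟩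
      invFun := fun o => o.elim ⟨0, zero_pow (by omega)⟩ fun u => ⟨u.1, u.2⟩
      left_inv := fun t => by
        by_cases h : t.1 = 0
        · simp only [dif_pos h, Option.elim_none]; exact Subtype.ext h.symm
        · simp only [dif_neg h, Option.elim_some, Units.val_mk0]
      right_inv := fun o => by
        rcases o with _ | u
        · simp
        · simp }
  rw [Nat.card_congr e, Finite.card_option, card_fixed_units hq hK]
  omega

/-- a unit whose square is not one -/
theorem exists_sq_ne_one (hq : 4 ≤ Fintype.card K) : ∃ u : Kˣ, u ^ 2 ≠ 1 := by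
  by_contra h
  push Not at h
  have h1 : Nat.card Kˣ ≤ 2 := by
    obtain ⟨u, hu⟩ := IsCyclic.exists_generator (α := Kˣ)
    rw [← orderOf_eq_card_of_forall_mem_zpowers hu]
    exact Nat.le_of_dvd (by norm_num) (orderOf_dvd_of_pow_eq_one (h u))
  rw [Nat.card_units, Nat.card_eq_fintype_card] at h1
  omega

end Cfsg.Agent.Chev.TwField
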