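import Cfsg.Agent.Lib.Lie.TwBN
import Cfsg.Agent.Lib.Lie.ChevGraphAut
import Cfsg.Agent.Lib.Lie.ChevTorus
import Cfsg.Agent.Lib.ChevAut.FixedPoints
import Cfsg.Agent.Lib.Lie.TwField

/-!
# Twisted groups from a symmetry of the diagram and a field endomorphism

`σ = (conjugation by the signed permutation matrix) ∘ (entrywise field endomorphism)`.
-/

set_option autoImplicit false

namespace Cfsg.Agent.Chev

open Cfsg.Lie
open Matrix hiding zpow_mul inv_zpow mul_inv_rev zpow_add zpow_neg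
open scoped commutatorElement

namespace Tab

/-- checks of a root permutation with signs and orbit words -/
def checkTw (T : Tab) (S : Sym) (J w : ℕ → List ℕ) (nb : ℕ) : Bool :=
  allBelow (fun r =>
    (Nat.ble T.N (S.π.getD r 0) == Nat.ble T.N r) &&
    Nat.beq (S.π.getD (T.neg r) 0) (T.neg (S.π.getD r 0)) &&
    S.ζ.getD (T.neg r) 1 == S.ζ.getD r 1 &&
    Nat.beq (S.π'.getD (S.π.getD r 0) 0) r) T.n &&
  allBelow (fun b =>
    (J b).all (fun j => Nat.blt j T.l && (J b).all fun j' =>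
      anyBelow (fun k => Nat.beq (((fun r => S.π.getD r 0))^[k] (T.smp j)) (T.smp j')) 4) &&
    (w b).all (fun i => memB i (J b)) &&
    allBelow (fun s => !(Nat.ble T.N s && T.inPhiB (J b) s) || Nat.blt (T.rw' (w b) s) T.N) T.n) nb &&
  allBelow (fun i => anyBelow (fun b => memB i (J b)) nb) T.l

/-- the facts given by `checkTw` -/
structure TwFacts (T : Tab) (S : Sym) (J w : ℕ → List ℕ) (nb : ℕ) : Prop where
  pos : ∀ r < T.n, (T.N ≤ S.π.getD r 0 ↔ T.N ≤ r)
  neg : ∀ r < T.n, S.π.getD (T.neg r) 0 = T.neg (S.π.getD r 0)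
  sgn : ∀ r < T.n, S.ζ.getD (T.neg r) 1 = S.ζ.getD r 1
  inj : ∀ r < T.n, ∀ r' < T.n, S.π.getD r 0 = S.π.getD r' 0 → r = r'
  J_lt : ∀ b < nb, ∀ j ∈ J b, j < T.l
  J_cover : ∀ i < T.l, ∃ b < nb, i ∈ J b
  J_orbit : ∀ b < nb, ∀ j ∈ J b, ∀ j' ∈ J b, ∃ k : ℕ, (fun r => S.π.getD r 0)^[k] (T.smp j) = T.smp j'
  w_mem : ∀ b < nb, ∀ i ∈ w b, i ∈ J b
  w_neg : ∀ b < nb, ∀ s, T.N ≤ s → s < T.n → s ∈ T.inJ {i | i ∈ J b} → T.rw' (w b) s < T.N

theorem tw_facts {T : Tab} {S : Sym} {J w : ℕ → List ℕ} {nb : ℕ} (h : T.checkTw S J w nb = true) :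
    TwFacts T S J w nb := by
  simp only [checkTw, Bool.and_eq_true, allBelow_eq_true, List.all_eq_true, anyBelow_eq_true,
    nat_beq, nat_blt, memB_iff, beq_iff_eq, Bool.or_eq_true, Bool.not_eq_true',
    Bool.and_eq_false_iff] at h
  obtain ⟨⟨h1, h2⟩, h3⟩ := h
  refine ⟨fun r hr => ?_, fun r hr => (h1 r hr).1.1.2, fun r hr => (h1 r hr).1.2,
    fun r hr r' hr' e => by rw [← (h1 r hr).2, ← (h1 r' hr').2, e],
    fun b hb j hj => ((h2 b hb).1.1 j hj).1, fun i hi => h3 i hi,
    fun b hb j hj j' hj' => ?_, fun b hb => (h2 b hb).1.2, fun b hb s hs hsn hin => ?_⟩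
  · have := (h1 r hr).1.1.1
    rw [← Bool.coe_iff_coe, nat_ble, nat_ble] at this
    exact this
  · obtain ⟨k, -, hk⟩ := ((h2 b hb).1.1 j hj).2 j' hj'
    exact ⟨k, hk⟩
  · rcases (h2 b hb).2 s hsn with (h | h) | h
    · rw [← Bool.not_eq_true, nat_ble] at h
      exact absurd hs h
    · rw [← Bool.not_eq_true, inPhiB_iff] at h
      exact absurd (fun k hk hkJ => hin.2 k hk (by simpa using hkJ)) h
    · exact h

/-- an inverse of the Cartan matrix up to the factor `d` -/
def checkKill (T : Tab) (B : List (List ℤ)) (d : ℕ) : Bool :=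
  allBelow (fun k => allBelow (fun j =>
    sumBelow (fun i => (B.getD k []).getD i 0 * T.A j (T.smp i)) T.l ==
      (bif Nat.beq k j then (d : ℤ) else 0)) T.l) T.l

variable {T : Tab} {F : Type*} [Field F]

theorem wt_kill {B : List (List ℤ)} {d : ℕ} (h : T.checkKill B d = true) {c : ℕ → Fˣ}
    (hc : ∀ i < T.l, wt T F c (T.smp i) = 1) : ∀ k < T.l, c k ^ d = 1 := by
  intro k hk
  simp only [checkKill, allBelow_eq_true, beq_iff_eq] at h
  have e : (1 : Fˣ) = ∏ i ∈ Finset.range T.l, wt T F c (T.smp i) ^ (B.getD k []).getD i 0 := by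
    symm
    refine Finset.prod_eq_one fun i hi => ?_
    rw [hc i (Finset.mem_range.1 hi), _root_.one_zpow]
  simp only [wt, ← Finset.prod_zpow] at e
  rw [Finset.prod_comm] at e
  rw [e]
  symm
  rw [Finset.prod_eq_single k]
  · simp only [← zpow_mul]
    rw [prod_zpow_sum, ← zpow_natCast]
    congr 1
    have := h k hk k hk
    rw [sumBelow_eq_sum, show Nat.beq k k = true from nat_beq.2 rfl, cond_true] at this
    rw [← this]
    exact Finset.sum_congr rfl fun i _ => mul_comm _ _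
  · intro j hj hne
    simp only [← zpow_mul]
    rw [prod_zpow_sum]
    have := h k hk j (Finset.mem_range.1 hj)
    rw [sumBelow_eq_sum, show Nat.beq k j = false from Bool.eq_false_iff.2 fun e => hne (nat_beq.1 e).symm,
      cond_false] at this
    rw [show (∑ i ∈ Finset.range T.l, T.A j (T.smp i) * (B.getD k []).getD i 0) = 0 from
      (Finset.sum_congr rfl fun i _ => mul_comm _ _).trans this, zpow_zero]
  · exact fun h => absurd (Finset.mem_range.2 hk) h

theorem tor_eq_iff_wt (g : T.Good) {c d : ℕ → Fˣ} :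
    tor T F c = tor T F d ↔ ∀ i < T.l, wt T F (c / d) (T.smp i) = 1 := by
  rw [← div_eq_one, ← map_div]
  constructor
  · intro h i hi
    have h1 := tor_xg g (c / d) (g.smp_lt hi) (1 : F)
    rw [h, one_mul, inv_one, mul_one, mul_one] at h1
    exact Units.ext (xg_injective g (g.smp_lt hi) h1).symm
  · intro h
    rw [tor_apply, ← map_one (dg T F)]
    exact dg_congr g fun s hs => wt_one_of_simple g h s hs

/-- the element of a word -/
theorem word_val (g : T.Good) (w : List (ℕ × F)) :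
    (((w.map fun e => xg g e.1 e.2).prod : GL T.D.Idx F) : Matrix T.D.Idx T.D.Idx F) =
      T.D.wordMat F w := by
  induction w with
  | nil => rfl
  | cons e L ih => rw [List.map_cons, List.prod_cons, Units.val_mul, ih, xg_val, wordMat_cons]

theorem genSubgroup_eq (g : T.Good) (W : Set (List (ℕ × F))) :
    T.D.genSubgroup F W = Subgroup.closure {x | ∃ w ∈ W, x = (w.map fun e => xg g e.1 e.2).prod} := by
  unfold ChevalleyDatum.genSubgroup
  congr 1
  ext x
  refine ⟨fun ⟨w, hw, e⟩ => ⟨w, hw, Units.ext (e.trans (word_val g w).symm)⟩, ?_⟩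
  rintro ⟨w, hw, rfl⟩
  exact ⟨w, hw, word_val g w⟩

theorem word_mem (g : T.Good) {W : Set (List (ℕ × F))} {w : List (ℕ × F)} (hw : w ∈ W) :
    (w.map fun e => xg g e.1 e.2).prod ∈ T.D.genSubgroup F W := by
  rw [genSubgroup_eq g]
  exact Subgroup.subset_closure ⟨w, hw, rfl⟩

/-- two root elements without commutator terms commute -/
theorem xg_commute (g : T.GoodA) {r s : ℕ} (hr : r < T.n) (hs : s < T.n) (h1 : s ≠ r)
    (h2 : s ≠ T.neg r) (h : T.cTerms r s = []) (t u : F) :
    Commute (xg g.toGood r t) (xg g.toGood s u) := by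
  have := xg_comm g hr hs h1 h2 t u
  simp only [cVal, h, List.map_nil, List.prod_nil, mul_one] at this
  exact this.symm

/-- pairs of roots with commuting root groups -/
def checkComList (T : Tab) (R : List ℕ) : Bool :=
  R.all fun r => Nat.blt r T.n && R.all fun s =>
    Nat.beq r s || (!Nat.beq s (T.neg r) && (T.cTerms r s).isEmpty)

theorem sProd_commute (g : T.GoodA) {R : List ℕ} (h : T.checkComList R = true) {r s : ℕ}
    (hr : r ∈ R) (hs : s ∈ R) (t u : F) : Commute (xg g.toGood r t) (xg g.toGood s u) := by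
  simp only [checkComList, List.all_eq_true, Bool.and_eq_true, nat_blt, Bool.or_eq_true, nat_beq,
    Bool.not_eq_true', List.isEmpty_iff, nat_beq_false] at h
  rcases (h r hr).2 s hs with e | ⟨h2, h3⟩
  · subst e
    show _ = _
    rw [xg_add, xg_add, add_comm]
  · by_cases e : r = s
    · subst e
      show _ = _
      rw [xg_add, xg_add, add_comm]
    · exact xg_commute g (h r hr).1 (h s hs).1 (Ne.symm e) h2 h3 t u

theorem sProd_perm (g : T.GoodA) {R R' : List ℕ} (h : T.checkComList R = true) (hp : R.Perm R')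
    (a : ℕ → F) : sProd g.toGood R a = sProd g.toGood R' a :=
  List.Perm.prod_eq' (hp.map _) (List.pairwise_of_forall_mem_list fun x hx y hy => by
    obtain ⟨r, hr, rfl⟩ := List.mem_map.1 hx
    obtain ⟨s, hs, rfl⟩ := List.mem_map.1 hy
    exact sProd_commute g h hr hs _ _)

/-- the endomorphism -/
noncomputable def graphσ (g : T.Good) {S : Sym} (h : T.checkSym S = true) (ψ : F →+* F) :
    GL T.D.Idx F →* GL T.D.Idx F :=
  (MulAut.conj (sUnit g h F)).toMonoidHom.comp (ChevAut.entryHom T ψ)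

theorem graphσ_xg (g : T.Good) {S : Sym} (h : T.checkSym S = true) (ψ : F →+* F) {r : ℕ}
    (hr : r < T.n) (t : F) :
    graphσ g h ψ (xg g r t) = xg g (S.π.getD r 0) ((S.ζ.getD r 1 : F) * ψ t) := by
  rw [graphσ, MonoidHom.comp_apply, ChevAut.entryHom_xg, MulEquiv.coe_toMonoidHom,
    MulAut.conj_apply, sUnit_xg g h hr]

theorem graphσ_group (g : T.Good) {S : Sym} (h : T.checkSym S = true) (ψ : F →+* F)
    {x : GL T.D.Idx F} (hx : x ∈ T.D.group F) : graphσ g h ψ x ∈ T.D.group F := by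
  rw [← group_map g h (F := F)]
  exact ⟨_, ChevAut.entryHom_group g ψ hx, rfl⟩

theorem graphσ_hE (g : T.Good) {S : Sym} (h : T.checkSym S = true) (ψ : F →+* F) {i : ℕ}
    (hi : i < T.l) (u : Fˣ) :
    graphσ g h ψ (hS T F i u) = hS T F (S.ρ.getD i 0) (Units.map ψ.toMonoidHom u) := by
  obtain ⟨hρ, hπ, hπn, hz, hzn⟩ := (sym_facts T S h).2.1 i hi
  rw [← hE_smp g hi, ← hE_smp g hρ]
  simp only [hE, nE, map_mul, graphσ_xg g h ψ (g.smp_lt hi), graphσ_xg g h ψ (neg_lt (g.smp_lt hi)),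
    hπ, hπn, hz, hzn, Int.cast_one, one_mul, map_neg, map_inv₀, map_one, Units.coe_map,
    RingHom.toMonoidHom_eq_coe, MonoidHom.coe_coe]

theorem graphσ_tor (g : T.Good) {S : Sym} (h : T.checkSym S = true) (ψ : F →+* F)
    (hρ' : ∀ i < T.l, S.ρ'.getD (S.ρ.getD i 0) 0 = i)
    (hρ : ∀ j < T.l, S.ρ.getD (S.ρ'.getD j 0) 0 = j ∧ S.ρ'.getD j 0 < T.l) (c : ℕ → Fˣ) :
    graphσ g h ψ (tor T F c) =
      tor T F fun j => Units.map ψ.toMonoidHom (c (S.ρ'.getD j 0)) := by
  rw [tor_eq_prod g c, map_list_prod, List.map_map]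
  have e : (List.range T.l).map (⇑(graphσ g h ψ) ∘ fun i => hS T F i (c i)) =
      ((List.range T.l).map fun i =>
        Pi.mulSingle (M := fun _ : ℕ => Fˣ) (S.ρ.getD i 0) (Units.map ψ.toMonoidHom (c i))).map
          (tor T F) := by
    rw [List.map_map]
    exact List.map_congr_left fun i hi => graphσ_hE g h ψ (List.mem_range.1 hi) (c i)
  rw [e, ← map_list_prod]
  refine tor_congr g fun j hj => ?_
  obtain ⟨hj1, hj2⟩ := hρ j hj
  rw [← List.prod_toFinset _ List.nodup_range, List.toFinset_range, Finset.prod_apply,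
    Finset.prod_eq_single (S.ρ'.getD j 0)]
  · rw [hj1, Pi.mulSingle_eq_same]
  · intro i hi hne
    refine Pi.mulSingle_eq_of_ne (fun e => hne ?_) _
    rw [e, hρ' i (Finset.mem_range.1 hi)]
  · exact fun hn => absurd (Finset.mem_range.2 hj2) hn

theorem graphσ_fixed (g : T.Good) {S : Sym} (h : T.checkSym S = true) (ψ : F →+* F)
    {W : Set (List (ℕ × F))}
    (hfix : ∀ w ∈ W, graphσ g h ψ (w.map fun e => xg g e.1 e.2).prod =
      (w.map fun e => xg g e.1 e.2).prod) :
    ∀ x ∈ T.D.genSubgroup F W, x ∈ T.D.group F ∧ graphσ g h ψ x = x := by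
  have hle : T.D.genSubgroup F W ≤
      T.D.group F ⊓ (graphσ g h ψ).eqLocus (MonoidHom.id _) := by
    rw [genSubgroup_eq g, Subgroup.closure_le]
    rintro x ⟨w, hw, rfl⟩
    exact Subgroup.mem_inf.2 ⟨Subgroup.list_prod_mem _ fun y hy => by
      obtain ⟨e, -, rfl⟩ := List.mem_map.1 hy
      exact xg_mem_group g _ _, hfix w hw⟩
  exact fun x hx => ⟨(hle hx).1, (hle hx).2⟩

theorem graphσ_sProd (g : T.Good) {S : Sym} (h : T.checkSym S = true) (ψ : F →+* F) {R : List ℕ}
    (hR : ∀ r ∈ R, r < T.n) (hinv : ∀ r ∈ R, S.π'.getD (S.π.getD r 0) 0 = r) (a : ℕ → F) :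
    graphσ g h ψ (sProd g R a) = sProd g (R.map fun r => S.π.getD r 0)
      fun s => (S.ζ.getD (S.π'.getD s 0) 1 : F) * ψ (a (S.π'.getD s 0)) := by
  rw [sProd, sProd, map_list_prod, List.map_map, List.map_map]
  refine congrArg List.prod (List.map_congr_left fun r hr => ?_)
  simp only [Function.comp_apply, graphσ_xg g h ψ (hR r hr), hinv r hr]

/-- the list is an orbit of commuting root groups -/
def checkOrbit (T : Tab) (S : Sym) (R : List ℕ) : Bool :=
  T.checkComList R && R.all (fun r => Nat.ble T.N r && Nat.blt r T.n &&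
    Nat.beq (S.π'.getD (S.π.getD r 0) 0) r) &&
  incB R && (R.map fun r => S.π.getD r 0).isPerm R

/-- fixed elements of an orbit of commuting root groups -/
theorem fixed_orbit (g : T.GoodA) {S : Sym} (h : T.checkSym S = true) (ψ : F →+* F) {R : List ℕ}
    (hR : T.checkOrbit S R = true) (a : ℕ → F) :
    graphσ g.toGood h ψ (sProd g.toGood R a) = sProd g.toGood R a ↔
      ∀ r ∈ R, a (S.π.getD r 0) = (S.ζ.getD r 1 : F) * ψ (a r) := by
  simp only [checkOrbit, Bool.and_eq_true, List.all_eq_true, nat_ble, nat_blt, nat_beq,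
    List.isPerm_iff] at hR
  obtain ⟨⟨⟨hcom, hmem⟩, hinc⟩, hperm⟩ := hR
  have hcom' : T.checkComList (R.map fun r => S.π.getD r 0) = true := by
    simp only [checkComList, List.all_eq_true] at hcom ⊢
    intro r hr
    have := hcom r (hperm.mem_iff.1 hr)
    simp only [Bool.and_eq_true, List.all_eq_true] at this ⊢
    exact ⟨this.1, fun s hs => this.2 s (hperm.mem_iff.1 hs)⟩
  rw [graphσ_sProd g.toGood h ψ (fun r hr => (hmem r hr).1.2) (fun r hr => (hmem r hr).2),
    sProd_perm g hcom' hperm]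
  constructor
  · intro e r hr
    have := sProd_unique g.toGood (incB_pairwise hinc) (fun r hr => (hmem r hr).1) e
      (S.π.getD r 0) (hperm.mem_iff.1 (List.mem_map_of_mem hr))
    simp only [(hmem r hr).2] at this
    exact this.symm
  · intro e
    refine sProd_congr g.toGood fun s hs => ?_
    obtain ⟨r, hr, rfl⟩ := List.mem_map.1 (hperm.mem_iff.2 hs)
    simp only [(hmem r hr).2]
    exact (e r hr).symm

/-- elements of a permuted list of commuting root groups, fixed -/
theorem sProd_fixed (g : T.GoodA) {S : Sym} (h : T.checkSym S = true) (ψ : F →+* F) {R : List ℕ}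
    (hcom : T.checkComList R = true) (hinv : ∀ r ∈ R, S.π'.getD (S.π.getD r 0) 0 = r)
    (hperm : (R.map fun r => S.π.getD r 0).isPerm R = true) (a : ℕ → F)
    (ha : ∀ r ∈ R, a (S.π.getD r 0) = (S.ζ.getD r 1 : F) * ψ (a r)) :
    graphσ g.toGood h ψ (sProd g.toGood R a) = sProd g.toGood R a := by
  rw [List.isPerm_iff] at hperm
  have hR : ∀ r ∈ R, r < T.n := fun r hr => by
    simp only [checkComList, List.all_eq_true, Bool.and_eq_true, nat_blt] at hcom
    exact (hcom r hr).1
  rw [graphσ_sProd g.toGood h ψ hR hinv, sProd_perm g hcom hperm.symm a]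
  refine sProd_congr g.toGood fun s hs => ?_
  obtain ⟨r, hr, rfl⟩ := List.mem_map.1 hs
  simp only [hinv r hr]
  exact (ha r hr).symm

/-- commuting pairs across two lists -/
def checkComPair (T : Tab) (A B : List ℕ) : Bool :=
  A.all fun r => Nat.blt r T.n && B.all fun s => Nat.blt s T.n && !Nat.beq s r &&
    !Nat.beq s (T.neg r) && (T.cTerms r s).isEmpty

theorem nE_commute (g : T.GoodA) {r s : ℕ}
    (h : T.checkComPair [r, T.neg r] [s, T.neg s] = true) (t u : F) :
    Commute (nE g.toGood r t) (nE g.toGood s u) := by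
  simp only [checkComPair, List.all_eq_true, Bool.and_eq_true, nat_blt, Bool.not_eq_true',
    List.isEmpty_iff, nat_beq_false] at h
  have hp : ∀ a ∈ [r, T.neg r], ∀ b ∈ [s, T.neg s], ∀ x y : F,
      Commute (xg g.toGood a x) (xg g.toGood b y) := fun a ha b hb x y =>
    xg_commute g (h a ha).1 ((h a ha).2 b hb).1.1.1 ((h a ha).2 b hb).1.1.2 ((h a ha).2 b hb).1.2
      ((h a ha).2 b hb).2 x y
  have hr : r ∈ [r, T.neg r] := by simp
  have hr' : T.neg r ∈ [r, T.neg r] := by simp
  have hs : s ∈ [s, T.neg s] := by simp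
  have hs' : T.neg s ∈ [s, T.neg s] := by simp
  have h1 : ∀ b ∈ [s, T.neg s], ∀ y, Commute (nE g.toGood r t) (xg g.toGood b y) := fun b hb y =>
    ((hp r hr b hb _ y).mul_left (hp _ hr' b hb _ y)).mul_left (hp r hr b hb _ y)
  exact ((h1 s hs _).mul_right (h1 _ hs' _)).mul_right (h1 s hs _)

/-- regroup two commuting triples -/
theorem regroup2 {G : Type*} [Group G] {a b a' b' a'' b'' : G} (h1 : Commute b a')
    (h2 : Commute b a'') (h3 : Commute b' a'') :
    (a * b) * (a' * b') * (a'' * b'') = (a * a' * a'') * (b * b' * b'') := by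
  calc (a * b) * (a' * b') * (a'' * b'') = a * (b * a') * (b' * a'') * b'' := by group
    _ = a * a' * (b * a'') * (b' * b'') := by rw [h1.eq, h3.eq]; group
    _ = _ := by rw [h2.eq]; group

/-- a Steinberg endomorphism from a symmetry and a field endomorphism -/
@[reducible]
noncomputable def graphTwist {K : List (List ℕ)} (g : T.GoodK K) {S : Sym}
    (h : T.checkSym S = true) (ψ : F →+* F) {J w : ℕ → List ℕ} {nb : ℕ}
    (hT : T.checkTw S J w nb = true) (G1 : Subgroup (GL T.D.Idx F))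
    (hG1 : ∀ x ∈ G1, x ∈ T.D.group F ∧ graphσ g.toGood h ψ x = x)
    (hn : ∀ b < nb, nWd g.toGood F (w b) ∈ G1)
    (hU : ∀ b < nb, ∀ u ∈ uMinus g.toGood F (w b), graphσ g.toGood h ψ u = u → u ∈ G1) :
    Twist g F where
  σ := graphσ g.toGood h ψ
  π r := S.π.getD r 0
  φ r t := (S.ζ.getD r 1 : F) * ψ t
  G1 := G1
  nb := nb
  J := J
  w := w
  n b := nWd g.toGood F (w b)
  σ_mem _ hx := graphσ_group g.toGood h ψ hx
  σ_mul x _ y _ := map_mul _ x y
  π_lt r hr := ((sym_facts T S h).2.2 r hr).1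
  π_pos := (tw_facts hT).pos
  π_inj := (tw_facts hT).inj
  π_neg := (tw_facts hT).neg
  φ_ne r hr t ht := by
    have hz := ((sym_facts T S h).2.2 r hr).2.2.2.1
    refine mul_ne_zero (fun h0 => ?_) ((map_ne_zero ψ).2 ht)
    have := congrArg (Int.cast (R := F)) hz
    rw [Int.cast_mul, h0, zero_mul, Int.cast_one] at this
    exact zero_ne_one this
  φ_neg r hr t := by
    have hz : (S.ζ.getD r 1 : F) * (S.ζ.getD r 1 : F) = 1 := by
      rw [← Int.cast_mul, ((sym_facts T S h).2.2 r hr).2.2.2.1, Int.cast_one]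
    rw [(tw_facts hT).sgn r hr, map_neg, map_inv₀, mul_inv, inv_eq_of_mul_eq_one_left hz, mul_neg]
  σ_xg _ hr t := graphσ_xg g.toGood h ψ hr t
  G1_le := hG1
  J_lt := (tw_facts hT).J_lt
  J_cover := (tw_facts hT).J_cover
  J_orbit := (tw_facts hT).J_orbit
  w_mem := (tw_facts hT).w_mem
  w_neg := (tw_facts hT).w_neg
  n_mem := hn
  n_eq b _ := ⟨1, by rw [map_one, one_mul]⟩
  U_mem := hU

namespace Twist

variable {K : List (List ℕ)} {g : T.GoodK K} (X : Twist g F)

/-- a fixed root element lies in the twisted group -/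
theorem xg_fixed_mem {r : ℕ} (hr : r < T.n) (hπ : X.π r = r) {t : F} (ht : X.φ r t = t) :
    xg g.toGood r t ∈ X.G1 := by
  have hσ : X.σ (xg g.toGood r t) = xg g.toGood r t := by rw [X.σ_xg r hr, hπ, ht]
  by_cases hN : T.N ≤ r
  · exact X.pos_fixed_mem (xg_mem_genS g.toGood (S := Set.Ico T.N T.n) (r := r) ⟨hN, hr⟩ t) hσ
  · obtain ⟨L, hL, hc, hneg⟩ := X.exists_longest_comm
    obtain ⟨c, hn⟩ := X.exists_lift hL hc
    exact X.neg_fixed_mem (xg_mem_genS g.toGood (S := Set.Iio T.N) (r := r) (not_le.1 hN) t) hσ hL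
      hneg hn

/-- a fundamental root element as a commutator of fixed root elements -/
theorem derived_of_pair {r s k : ℕ} (hr : r < T.n) (hs : s < T.n) (h1 : s ≠ r) (h2 : s ≠ T.neg r)
    {C : ℤ} (hC : C * C = 1) (hterm : T.cTerms r s = [(k, C, 1, 1)]) (hπr : X.π r = r)
    (hπs : X.π s = s) {z : F} (hzs : X.φ s z = z) (hzr : X.φ r (-(C : F)) = -(C : F)) :
    xg g.toGood k z ∈ ⁅X.G1, X.G1⁆ := by
  have hrm := X.xg_fixed_mem hr hπr hzr
  have hsm := X.xg_fixed_mem hs hπs hzs
  have h := xg_comm g.toGoodA hr hs h1 h2 (-(C : F)) z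
  have hC' : (C : F) * C = 1 := by rw [← Int.cast_mul, hC, Int.cast_one]
  have e : ((cVal T F r s (-(C : F)) z).map fun e => xg g.toGood e.1 e.2).prod = xg g.toGood k z := by
    simp only [cVal, hterm, List.map_cons, List.map_nil, List.prod_cons, List.prod_nil, mul_one,
      pow_one, _root_.neg_neg, hC', one_mul]
  rw [e] at h
  have hcomm : xg g.toGood k z =
      ⁅(xg g.toGood s z)⁻¹, (xg g.toGood r (-(C : F)))⁻¹⁆ := by
    rw [commutatorElement_def]
    have h' : xg g.toGood k z = (xg g.toGood r (-(C : F)) * xg g.toGood s z)⁻¹ *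
        (xg g.toGood s z * xg g.toGood r (-(C : F))) := by
      rw [h]; group
    conv_lhs => rw [h']
    group
  rw [hcomm]
  exact Subgroup.commutator_mem_commutator (X.G1.inv_mem hsm) (X.G1.inv_mem hrm)

end Twist

end Tab

end Cfsg.Agent.Chev
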