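import Cfsg.Agent.Lib.Lie.ChevLong
import Cfsg.Agent.Lib.Lie.GoodS
import Cfsg.Agent.S0319
import Mathlib.GroupTheory.Abelianization.Defs
import Mathlib.GroupTheory.Solvable

/-! Perfectness and simplicity. -/

set_option autoImplicit false

namespace Cfsg.Agent.Chev

open Cfsg.Lie
open Matrix hiding zpow_mul inv_zpow mul_inv_rev zpow_add zpow_neg
open scoped commutatorElement

namespace Tab

variable {T : Tab} {F : Type*} [Field F]

theorem pair_mem_derived (g : T.GoodA) {k i : ℕ} (h : T.checkPair k i = true) (hk : (k : F) ≠ 0)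
    (z : F) : xg g.toGood (T.smp i) z ∈ ⁅T.D.group F, T.D.group F⁆ := by
  obtain ⟨j, hj, h⟩ := anyBelow_eq_true.1 h
  obtain ⟨s, hs, h⟩ := anyBelow_eq_true.1 h
  simp only [Bool.and_eq_true, Bool.not_eq_true', nat_beq_false] at h
  obtain ⟨⟨h1, h2⟩, h3⟩ := h
  split at h3
  swap
  · exact absurd h3 Bool.false_ne_true
  rename_i a C heq
  simp only [Bool.and_eq_true, nat_beq] at h3
  obtain ⟨rfl, hC⟩ := h3
  have hr := neg_lt (g.smp_lt hj)
  have hC0 : (C : F) ≠ 0 := by
    rcases Int.natAbs_eq C with e | e <;> rw [e, hC] <;> simp [hk]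
  have h := xg_comm g hr hs h1 (by rwa [neg_neg (g.smp_lt hj)]) (-(C : F)⁻¹) z
  have e : ((cVal T F (T.neg (T.smp j)) s (-(C : F)⁻¹) z).map fun e => xg g.toGood e.1 e.2).prod =
      xg g.toGood (T.smp i) z := by
    simp [cVal, heq, hC0]
  rw [e] at h
  have hcomm : xg g.toGood (T.smp i) z =
      ⁅(xg g.toGood s z)⁻¹, (xg g.toGood (T.neg (T.smp j)) (-(C : F)⁻¹))⁻¹⁆ := by
    rw [commutatorElement_def]
    have h' : xg g.toGood (T.smp i) z =
        (xg g.toGood (T.neg (T.smp j)) (-(C : F)⁻¹) * xg g.toGood s z)⁻¹ *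
          (xg g.toGood s z * xg g.toGood (T.neg (T.smp j)) (-(C : F)⁻¹)) := by
      rw [h]; group
    conv_lhs => rw [h']
    group
  rw [hcomm]
  exact Subgroup.commutator_mem_commutator (inv_mem (xg_mem_group _ _ _))
    (inv_mem (xg_mem_group _ _ _))

theorem torus_mem_derived (g : T.Good) {j r : ℕ} (hj : j < T.l) (hr : r < T.n) (u : Fˣ)
    (hu : (u ^ T.A j r : Fˣ) ≠ 1) (z : F) : xg g r z ∈ ⁅T.D.group F, T.D.group F⁆ := by
  have hne : ((u ^ T.A j r : Fˣ) : F) - 1 ≠ 0 := by
    rw [sub_ne_zero]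
    exact fun e => hu (Units.ext e)
  set t := z / (((u ^ T.A j r : Fˣ) : F) - 1) with ht
  have e : ⁅tor T F (Pi.mulSingle j u), xg g r t⁆ = xg g r z := by
    rw [commutatorElement_def, tor_xg g _ hr, xg_inv, xg_add, wt_single g hj]
    congr 1
    rw [ht]
    field_simp
    ring
  rw [← e]
  exact Subgroup.commutator_mem_commutator (tor_mem_group g _) (xg_mem_group g _ _)

theorem derived_eq (g : T.GoodS) (h1 : T.checkPerf1 = true ∨ ∃ a : F, a ≠ 0 ∧ a ≠ 1) :
    ⁅T.D.group F, T.D.group F⁆ = T.D.group F := by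
  have hg := g.toGood
  refine le_antisymm (Subgroup.commutator_le_self _) ?_
  have hsimple : ∀ i < T.l, ∀ z : F, xg hg (T.smp i) z ∈ ⁅T.D.group F, T.D.group F⁆ := by
    intro i hi z
    rcases h1 with h1 | ⟨a, ha0, ha1⟩
    · exact pair_mem_derived g.toGoodA (allBelow_eq_true.1 h1 i hi) (by simp) z
    by_cases h2 : a * a = 1
    swap
    · refine torus_mem_derived hg hi (g.smp_lt hi) (Units.mk0 a ha0) ?_ z
      rw [A_smp_self hg hi]
      intro e
      exact h2 (by simpa [zpow_ofNat, pow_two] using congrArg Units.val e)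
    have hu : Units.mk0 a ha0 * Units.mk0 a ha0 = 1 := Units.ext h2
    have hne : Units.mk0 a ha0 ≠ 1 := fun e => ha1 (congrArg Units.val e)
    have h := allBelow_eq_true.1 g.perf2 i hi
    simp only [Bool.or_eq_true, anyBelow_eq_true, nat_beq] at h
    rcases h with (h | h) | ⟨j, hj, hA⟩
    · exact pair_mem_derived g.toGoodA h (by simp) z
    · refine pair_mem_derived g.toGoodA h ?_ z
      intro h2'
      push_cast at h2'
      have : (a - 1) * (a - 1) = 0 := by linear_combination h2 - (a - 1) * h2'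
      exact ha1 (sub_eq_zero.1 (mul_self_eq_zero.1 this))
    · refine torus_mem_derived hg hj (g.smp_lt hi) (Units.mk0 a ha0) ?_ z
      obtain ⟨k, hk⟩ : Odd (T.A j (T.smp i)) := Int.natAbs_odd.1 (Nat.odd_iff.2 hA)
      rw [hk, _root_.zpow_add, zpow_mul, zpow_one, zpow_ofNat, pow_two, hu, _root_.one_zpow, one_mul]
      exact hne
  refine group_le_of_simple hg hsimple fun i hi => ?_
  have hneg : ∀ z : F, xg hg (T.neg (T.smp i)) z ∈ ⁅T.D.group F, T.D.group F⁆ := by
    intro z
    have hm : xg hg (T.neg (T.smp i)) z =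
        nG hg F i * xg hg (T.smp i) (-z) * (nG hg F i)⁻¹ := by
      rw [nG_conj hg hi (g.smp_lt hi), hg.ref_smp hi, hg.eta_smp hi]
      simp
    rw [hm]
    have hn : nG hg F i ∈ Subgroup.normalizer ((⁅T.D.group F, T.D.group F⁆ : Subgroup (GL T.D.Idx F)) : Set (GL T.D.Idx F)) :=
      Subgroup.normalizer_commutator_ge_left (T.D.group F) (T.D.group F) (nG_mem_group hg i)
    exact (Subgroup.mem_normalizer_iff.1 hn _).1 (hsimple i hi _)
  exact mul_mem (mul_mem (hsimple i hi _) (hneg _)) (hsimple i hi _)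

theorem bn_irreducible (g : T.GoodS) : (bnPair g.toGoodA F).Irreducible := by
  have hg := g.toGood
  intro J hJ hne hne'
  classical
  let ind : ℕ → Prop := fun i => ∃ n ∈ J, (n : GL T.D.Idx F) = nG hg F i
  let s₀ : Finset ℕ := (Finset.range T.l).filter ind
  let m : ℕ := ∑ i ∈ s₀, 2 ^ i
  have hbit : ∀ i < T.l, (Nat.testBit m i = true ↔ ind i) := by
    intro i hi
    rw [← Nat.mem_bitIndices, ← List.mem_toFinset, Finset.toFinset_bitIndices_sum_two_pow]
    simp [s₀, hi]
  have hm : m < 2 ^ T.l := Nat.geomSum_lt le_rfl fun i hi => by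
    simp only [s₀, Finset.mem_filter, Finset.mem_range] at hi; exact hi.1
  obtain ⟨n, hn⟩ := hne
  obtain ⟨i, hi, ei⟩ := (mem_sSet_iff hg).1 (hJ hn)
  obtain ⟨n', hn'⟩ := hne'
  obtain ⟨j, hj, ej⟩ := (mem_sSet_iff hg).1 hn'.1
  have h1 : Nat.testBit m i = true := (hbit i hi).2 ⟨n, hn, ei⟩
  have h2 : Nat.testBit m j = false := by
    rw [← Bool.not_eq_true, hbit j hj]
    rintro ⟨n'', hn'', e⟩
    exact hn'.2 (Subtype.ext (ej.trans e.symm) ▸ hn'')
  have h := allBelow_eq_true.1 g.conn m hm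
  simp only [Bool.or_eq_true, Bool.not_eq_true', Bool.and_eq_true, anyBelow_eq_true,
    beq_eq_false_iff_ne] at h
  rcases h with (h | h) | ⟨a, ha, b, hb, ⟨hta, htb⟩, hA⟩
  · rw [← Bool.not_eq_true, anyBelow_eq_true] at h
    exact absurd ⟨i, hi, h1⟩ h
  · rw [← Bool.not_eq_true, anyBelow_eq_true] at h
    exact absurd ⟨j, hj, by rw [h2]; rfl⟩ h
  obtain ⟨x, hx, ex⟩ := (hbit a ha).1 hta
  have hbJ : ¬ ind b := fun h' => by rw [(hbit b hb).2 h'] at htb; simp at htb
  let y : ↥(T.D.group F) := ⟨nG hg F b, nG_mem_group hg b⟩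
  refine ⟨x, hx, y, ⟨(mem_sSet_iff hg).2 ⟨b, hb, rfl⟩, fun h' => hbJ ⟨y, h', rfl⟩⟩, fun hB => ?_⟩
  have hab : a ≠ b := fun e => by subst e; exact hbJ ⟨x, hx, ex⟩
  have hB' : nG hg F a * nG hg F b * (nG hg F a)⁻¹ * (nG hg F b)⁻¹ ∈ T.D.borelSubgroup F := by
    have := hB
    simpa [bnPair, Subgroup.mem_subgroupOf, y, ex] using this
  have hH := borel_inf_monomial hg hB' (mul_mem (mul_mem (mul_mem (nG_mem_monomial hg ha)
    (nG_mem_monomial hg hb)) (inv_mem (nG_mem_monomial hg ha))) (inv_mem (nG_mem_monomial hg hb)))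
  rw [diagonalSubgroup_eq hg] at hH
  obtain ⟨c, hc⟩ := hH
  have e : tor T F 1 * nWd hg F [a, b] = tor T F c * nWd hg F [b, a] := by
    simp only [nWd, List.map_cons, List.map_nil, List.prod_cons, List.prod_nil, mul_one, map_one,
      one_mul, hc]
    group
  have h' := rw'_of_nWd_eq hg (L := [a, b]) (M := [b, a]) (by simp [Wd, ha, hb]) (by simp [Wd, ha, hb])
    e (g.smp_lt hb)
  simp only [rw'_cons, rw'_nil, hg.ref_smp hb, hg.ref_neg ha (g.smp_lt hb)] at h'
  have hq : T.N ≤ T.ref a (T.smp b) :=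
    hg.ref_pos ha (g.smp_lt hb) (g.smp_ge hb) fun e => hab (g.smp_inj hb ha e).symm
  have hqn := hg.ref_lt ha (g.smp_lt hb)
  have hqb : T.ref a (T.smp b) = T.smp b := by
    by_contra hne2
    have := hg.ref_pos hb hqn hq hne2
    have := (neg_lt_N_iff hqn).2 hq
    omega
  have := A_ref_self hg ha (g.smp_lt hb)
  rw [hqb] at this
  omega

theorem group_simple (g : T.GoodS) (h1 : T.checkPerf1 = true ∨ ∃ a : F, a ≠ 0 ∧ a ≠ 1) :
    IsSimpleGroup ↥(T.D.group F) ∧ ¬ IsMulCommutative ↥(T.D.group F) := by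
  have hg := g.toGood
  have hn := n_def (T := T)
  have hNn : T.N < T.n := by have := hg.N_pos; omega
  haveI : Nontrivial ↥(T.D.group F) := by
    refine ⟨⟨⟨xg hg T.N 1, xg_mem_group hg _ _⟩, 1, fun e => ?_⟩⟩
    have e' : xg hg T.N (1 : F) = xg hg T.N 0 := by
      rw [xg_zero]; exact congrArg Subtype.val e
    exact one_ne_zero (xg_injective hg hNn e')
  have hperf : commutator ↥(T.D.group F) = ⊤ := by
    apply Subgroup.map_injective (T.D.group F).subtype_injective
    rw [map_commutator_eq, Subgroup.range_subtype, derived_eq g h1, ← MonoidHom.range_eq_map,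
      Subgroup.range_subtype]
  refine ⟨Cfsg.Agent.S0319.result (bnPair g.toGoodA F) (bn_irreducible g) ?_ hperf
    (borel_core_free hg), fun hc => ?_⟩
  · haveI := borel_solvable (F := F) g.toGoodA
    exact Group.isSolvable_of_isSolvable_injective
      (f := (Subgroup.subgroupOfEquivOfLe (borel_le_group hg)).toMonoidHom) (MulEquiv.injective _)
  · have h0 : commutator ↥(T.D.group F) = ⊥ := by
      rw [eq_bot_iff, _root_.commutator_def, Subgroup.commutator_le]
      intro a _ b _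
      rw [Subgroup.mem_bot, commutatorElement_eq_one_iff_mul_comm]
      exact hc.is_comm.comm a b
    rw [h0] at hperf
    exact bot_ne_top hperf

theorem perfect_group (g : T.GoodS) (h1 : T.checkPerf1 = true ∨ ∃ a : F, a ≠ 0 ∧ a ≠ 1) :
    commutator ↥(T.D.group F) = ⊤ := by
  apply Subgroup.map_injective (T.D.group F).subtype_injective
  rw [map_commutator_eq, Subgroup.range_subtype, derived_eq g h1, ← MonoidHom.range_eq_map,
    Subgroup.range_subtype]

end Tab

end Cfsg.Agent.Chev
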