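import Cfsg.Agent.Lib.Lie.TwGroup
import Cfsg.Agent.Lib.Lie.ChevSimple

/-!
# Twisted groups: the Tits system, core-freeness of `B¹`, perfectness, simplicity
-/

set_option autoImplicit false

namespace Cfsg.Agent.Chev

open Cfsg.Lie
open Matrix hiding zpow_mul inv_zpow mul_inv_rev zpow_add zpow_neg
open scoped commutatorElement

namespace Tab

variable {T : Tab} {K : List (List ℕ)} {F : Type*} [Field F]

/-- a torus character trivial on the fundamental roots is trivial -/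
theorem wt_one_of_simple (g : T.Good) {c : ℕ → Fˣ} (h : ∀ i < T.l, wt T F c (T.smp i) = 1) :
    ∀ s < T.n, wt T F c s = 1 := by
  have key : ∀ s, T.N ≤ s → s < T.n → wt T F c s = 1 := by
    intro s
    induction s using Nat.strong_induction_on with
    | _ s ih =>
      intro hN hs
      rcases exists_descent g hs hN with ⟨i, hi, rfl⟩ | ⟨i, hi, h2, h1, m, hm, hk⟩
      · exact h i hi
      · have hu := g.ref_lt hi hs
        obtain ⟨-, q2, -⟩ := chRoot_spec g (g.smp_lt hi) hu hm hk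
        have e : wt T F c s = wt T F c (T.smp i) ^ m * wt T F c (T.ref i s) := by
          rw [wt, wt, wt, ← Finset.prod_pow, ← Finset.prod_mul_distrib]
          refine Finset.prod_congr rfl fun j hj => ?_
          rw [q2 j (Finset.mem_range.1 hj), _root_.zpow_add, mul_comm ((m : ℕ) : ℤ), zpow_mul,
            zpow_natCast, mul_comm]
        rw [e, h i hi, ih _ h1 h2 hu, one_pow, one_mul]
  intro s hs
  by_cases hN : T.N ≤ s
  · exact key s hN hs
  · have := key _ ((N_le_neg_iff hs).2 (not_le.1 hN)) (neg_lt hs)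
    rwa [wt_neg g hs, inv_eq_one] at this

/-- the check that the orbit words do not split into commuting parts -/
def checkConnB (T : Tab) (w : ℕ → List ℕ) (nb : ℕ) : Bool :=
  allBelow (fun m => !anyBelow (fun i => Nat.testBit m i) nb ||
    !anyBelow (fun i => !Nat.testBit m i) nb ||
    anyBelow (fun i => anyBelow (fun j =>
      Nat.testBit m i && !Nat.testBit m j &&
        !listBeq (T.keyL (w i ++ w j)) (T.keyL (w j ++ w i))) nb) nb) (2 ^ nb)

theorem perm_one_torus (g : T.Good) {n : GL T.D.Idx F} {L : List ℕ} {c : ℕ → Fˣ} (hL : T.Wd L)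
    (e : n = tor T F c * nWd g F L) (h : pL g L = 1) :
    ∃ d, n = tor T F d := by
  obtain ⟨d, hd⟩ := nWd_same_perm (F := F) g hL (B := []) (by simp [Wd]) h
  exact ⟨c * d, by rw [e, hd, nWd_nil, mul_one, map_mul]⟩

theorem pos_conj (g : T.Good) {L : List ℕ} (hL : T.Wd L) (c : ℕ → Fˣ) {S : Set ℕ}
    (hS : ∀ r ∈ S, r < T.n) (hpos : ∀ r ∈ S, T.N ≤ T.rw' L.reverse r) {x : GL T.D.Idx F}
    (hx : x ∈ genS g F S) :
    (tor T F c * nWd g F L)⁻¹ * x * (tor T F c * nWd g F L) ∈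
      T.D.borelSubgroup F := by
  refine genS_pos_le_borel g (fun r hr => hr)
    (genS_mono g ?_ (nWd_rev_conj g hL c hS hx))
  rintro _ ⟨r, hr, rfl⟩
  exact ⟨hpos r hr, rw'_lt g hL.reverse (hS r hr)⟩

namespace Twist

variable {g : T.GoodK K} (X : Twist g F)

/-- elements of `N¹` -/
theorem mono_class {n : GL T.D.Idx F} (hn : n ∈ T.D.monomialSubgroup F) (h1 : n ∈ X.G1) :
    ∃ L, T.Wd L ∧ X.Comm L ∧ ∃ c, n = tor T F c * nWd g.toGood F L := by
  obtain ⟨L, hL, c, rfl⟩ := (mem_monomial_iff g.toGood).1 hn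
  exact ⟨L, hL, X.comm_of_fixed hL (X.G1_le _ h1).2, c, rfl⟩

/-- the rank one decomposition -/
theorem rank_one {b : ℕ} (hb : b < X.nb) {z : GL T.D.Idx F}
    (hz : z ∈ uMinus g.toGood F (X.w b)) (hz1 : z ∈ X.G1) :
    X.n b * z * (X.n b)⁻¹ ∈ T.D.borelSubgroup F ∨
      ∃ b₁ ∈ T.D.borelSubgroup F, b₁ ∈ X.G1 ∧ ∃ u ∈ uMinus g.toGood F (X.w b), u ∈ X.G1 ∧
        X.n b * z * (X.n b)⁻¹ = b₁ * X.n b * u := by
  have hg := g.toGood
  have hwd := X.w_wd hb
  have hn := X.n_mem b hb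
  obtain ⟨a, ha⟩ := X.n_eq b hb
  set J : Set ℕ := {i | i ∈ X.J b} with hJ
  let Nz : Subgroup (GL T.D.Idx F) :=
    Subgroup.normalizer (genS hg F (T.outJ J) : Set (GL T.D.Idx F))
  have houtlt : ∀ r ∈ T.outJ J, r < T.n := fun r hr => hr.2.1
  have hpos : genS hg F (Set.Ico T.N T.n) ≤ Nz :=
    genS_le hg fun r hr t => outJ_normalized_pos g hr.1 hr.2 t
  have htor : ∀ c, tor T F c ∈ Nz := fun c => tor_normalizes hg houtlt c
  have hsN : X.n b ∈ Nz := by
    rw [ha]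
    refine mul_mem (htor a) (Subgroup.list_prod_mem _ fun y hy => ?_)
    obtain ⟨i, hi, rfl⟩ := List.mem_map.1 hy
    exact nG_normalizes hg (hwd i hi) houtlt fun r hr =>
      ref_outJ hg (hwd i hi) (X.w_mem b hb i hi) hr
  have hxN : X.n b * z * (X.n b)⁻¹ ∈ Nz :=
    mul_mem (mul_mem hsN (hpos (uMinus_le_pos hg _ hz))) (inv_mem hsN)
  obtain ⟨v, hv, hv1, L, hL, hc, c, hm, u, hu, hu1, e⟩ :=
    X.g1_decomp (X.G1.mul_mem (X.G1.mul_mem hn hz1) (X.G1.inv_mem hn))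
  have hmN : tor T F c * nWd hg F L ∈ Nz := by
    have : tor T F c * nWd hg F L = v⁻¹ * (X.n b * z * (X.n b)⁻¹) * u⁻¹ := by rw [e]; group
    rw [this]
    exact mul_mem (mul_mem (inv_mem (hpos hv)) hxN) (inv_mem (hpos (uMinus_le_pos hg _ hu)))
  have hinv : ∀ r ∈ T.invSet L, r ∈ T.invSet (X.w b) := by
    intro r hr
    simp only [invSet, Finset.mem_filter, Finset.mem_Ico] at hr
    rcases outJ_or_inJ (J := J) hr.1.1 hr.1.2 with hout | hin
    · exfalso
      obtain ⟨ε, hε⟩ := mono_conj (F := F) hg hL c hr.1.2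
      have h1 := (Subgroup.mem_normalizer_iff.1 hmN _).1 (xg_mem_genS hg hout (1 : F))
      rw [hε] at h1
      have hq := rw'_lt hg hL hr.1.2
      have h2 := borel_inf_neg hg
        (genS_pos_le_borel hg (fun s hs => ⟨hs.1, hs.2.1⟩) h1)
        (xg_mem_genS hg (S := Set.Iio T.N) (r := T.rw' L r) hr.2 _)
      rw [← xg_zero hg (T.rw' L r)] at h2
      exact Units.ne_zero ε (by simpa using xg_injective hg hq h2)
    · exact (X.mem_invSet_w hb).2 ⟨hr.1.1, hr.1.2, hin⟩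
  rcases Nat.eq_zero_or_eq_sub_one_add_one (n := (T.invSet L).card) with h0 | hs
  · left
    obtain ⟨d, hd⟩ := perm_one_torus hg hL (c := c) (n := tor T F c * nWd hg F L) rfl (by
      rw [← pL_nil hg, pL_eq_iff hg hL (by simp [Wd])]
      exact (nWd_torus_of_pos (F := F) hg _ le_rfl hL (invSet_empty hg h0)).2)
    rw [e, hd]
    exact mul_mem (mul_mem (genS_pos_le_borel hg (fun r hr => hr) hv) (torus_le_borel hg d))
      (genS_pos_le_borel hg (fun r hr => hr) (uMinus_le_pos hg _ hu))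
  right
  obtain ⟨i, hi, hneg, -, -⟩ := invSet_peel hg hL hs
  have hiJ : i ∈ X.J b := by
    have h := ((X.mem_invSet_w hb).1 (hinv (T.smp i) (by simp [invSet, hg.smp_ge hi, hg.smp_lt hi, hneg]))).2.2
    by_contra hh
    have := h.2 i hi (by simpa using hh)
    rw [c_smp hg hi hi, if_pos rfl] at this
    exact one_ne_zero this
  have hall : ∀ r ∈ T.invSet (X.w b), T.rw' L r < T.N := fun r hr => by
    obtain ⟨h1, h2, h3⟩ := (X.mem_invSet_w hb).1 hr
    exact X.block_neg hL hc hb hiJ hneg r h1 h2 h3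
  have hp : pL hg L = pL hg (X.w b) := by
    have hw' : T.Wd (L ++ (X.w b).reverse) := Wd.append_iff.2 ⟨hL, hwd.reverse⟩
    have hempty : (T.invSet (L ++ (X.w b).reverse)).card = 0 := by
      rw [Finset.card_eq_zero, Finset.eq_empty_iff_forall_notMem]
      intro r hr
      obtain ⟨h1, h2⟩ := X.mem_peel hL hb hall hr
      exact h2 (hinv _ h1)
    have h1 : pL hg (L ++ (X.w b).reverse) = 1 := by
      rw [← pL_nil hg, pL_eq_iff hg hw' (by simp [Wd])]
      exact (nWd_torus_of_pos (F := F) hg _ le_rfl hw' (invSet_empty hg hempty)).2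
    rw [pL_append, ← pL_inv, mul_inv_eq_one] at h1
    exact h1
  obtain ⟨d, hd⟩ := nWd_same_perm (F := F) hg hL hwd hp
  have et : tor T F c * nWd hg F L = tor T F (c * d * a⁻¹) * X.n b := by
    rw [hd, ha, map_mul, map_mul, map_inv]; group
  have htG : tor T F (c * d * a⁻¹) ∈ X.G1 := by
    have : tor T F (c * d * a⁻¹) = tor T F c * nWd hg F L * (X.n b)⁻¹ := by rw [et]; group
    rw [this]
    exact X.G1.mul_mem hm (X.G1.inv_mem hn)
  refine ⟨v * tor T F (c * d * a⁻¹),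
    mul_mem (genS_pos_le_borel hg (fun r hr => hr) hv) (torus_le_borel hg _),
    X.G1.mul_mem hv1 htG, u, ?_, hu1, ?_⟩
  · rwa [uMinus_congr hg ((pL_eq_iff hg hwd hL).1 hp.symm)]
  · rw [e, et]; group

/-- The double coset axiom. -/
theorem borel_mul (hB : X.Blocks) {b : ℕ} (hb : b < X.nb) {bb n : GL T.D.Idx F}
    (hbb : bb ∈ T.D.borelSubgroup F) (hbb1 : bb ∈ X.G1) (hn : n ∈ T.D.monomialSubgroup F)
    (hn1 : n ∈ X.G1) :
    ∃ b₁ ∈ T.D.borelSubgroup F, b₁ ∈ X.G1 ∧ ∃ b₂ ∈ T.D.borelSubgroup F, b₂ ∈ X.G1 ∧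
      (X.n b * bb * n = b₁ * (X.n b * n) * b₂ ∨ X.n b * bb * n = b₁ * n * b₂) := by
  have hg := g.toGood
  have hwd := X.w_wd hb
  have hs1 := X.n_mem b hb
  obtain ⟨a, ha⟩ := X.n_eq b hb
  obtain ⟨v, hv, hv1, t, ht1, rfl⟩ := X.borel_fixed hbb hbb1
  obtain ⟨v0, hv0, hv0w, z, hz, rfl⟩ := (pos_decomp g.toGoodA _ hwd le_rfl).1 v hv
  -- both factors of `v` are fixed
  have hv0G : v0 ∈ T.D.group F := genS_le_group hg hv0
  have hzG : z ∈ T.D.group F := genS_le_group hg hz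
  obtain ⟨hsG, hsσ⟩ := X.G1_le _ hs1
  have hconjpos : ∀ x, nWd hg F (X.w b) * x * (nWd hg F (X.w b))⁻¹ ∈ genS hg F (Set.Ico T.N T.n) →
      X.n b * x * (X.n b)⁻¹ ∈ genS hg F (Set.Ico T.N T.n) := fun x hx => by
    rw [show X.n b * x * (X.n b)⁻¹ =
      tor T F a * (nWd hg F (X.w b) * x * (nWd hg F (X.w b))⁻¹) * (tor T F a)⁻¹ by rw [ha]; group]
    exact (Subgroup.mem_normalizer_iff.1 (tor_normalizes hg (fun r hr => hr.2) a) _).1 hx
  have hzfix : z ∈ X.G1 := by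
    have hσv0 : nWd hg F (X.w b) * X.σ v0 * (nWd hg F (X.w b))⁻¹ ∈ genS hg F (Set.Ico T.N T.n) := by
      have h1 := X.σ_pos (hconjpos v0 hv0w)
      rw [X.σ_conj hsG hv0G, hsσ, show X.n b * X.σ v0 * (X.n b)⁻¹ =
        tor T F a * (nWd hg F (X.w b) * X.σ v0 * (nWd hg F (X.w b))⁻¹) * (tor T F a)⁻¹ by
          rw [ha]; group] at h1
      exact (Subgroup.mem_normalizer_iff.1 (tor_normalizes hg (fun r hr => hr.2) a) _).2 h1
    obtain ⟨-, hz'⟩ := pos_decomp_unique hg hwd hσv0 hv0w (X.σ_uMinus hwd (X.w_comm hb) hz) hz (by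
      rw [← X.σ_mul _ hv0G _ hzG]; exact (X.G1_le _ hv1).2)
    exact X.uMinus_fixed_mem _ hwd (X.w_comm hb) le_rfl z hz hz'
  have hv01 : v0 ∈ X.G1 := by
    have : v0 = v0 * z * z⁻¹ := by group
    rw [this]; exact X.G1.mul_mem hv1 (X.G1.inv_mem hzfix)
  obtain ⟨L, hL, hLc, c, hnc⟩ := X.mono_class hn hn1
  set p := X.n b * v0 * (X.n b)⁻¹ with hp
  have hpB : p ∈ T.D.borelSubgroup F := genS_pos_le_borel hg (fun r hr => hr) (hconjpos v0 hv0w)
  have hp1 : p ∈ X.G1 := X.G1.mul_mem (X.G1.mul_mem hs1 hv01) (X.G1.inv_mem hs1)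
  have htn : n⁻¹ * tor T F t * n ∈ T.D.borelSubgroup F := by
    have := mono_torus_borel hg (inv_mem hn) t
    rwa [inv_inv] at this
  have htn1 : n⁻¹ * tor T F t * n ∈ X.G1 :=
    X.G1.mul_mem (X.G1.mul_mem (X.G1.inv_mem hn1) ht1) hn1
  have e0 : X.n b * (v0 * z * tor T F t) * n =
      p * (X.n b * z * n) * (n⁻¹ * tor T F t * n) := by rw [hp]; group
  have hz1S : ∀ r ∈ {r | T.N ≤ r ∧ r < T.n ∧ T.rw' (X.w b) r < T.N}, r < T.n := fun r hr => hr.2.1
  by_cases hsign : ∃ j ∈ X.J b, T.N ≤ T.rw' L.reverse (T.smp j)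
  · obtain ⟨j, hj, hjpos⟩ := hsign
    have h1 : n⁻¹ * z * n ∈ T.D.borelSubgroup F := by
      rw [hnc]
      refine pos_conj hg hL c hz1S (fun r hr => ?_) hz
      obtain ⟨h1, h2, h3⟩ := (X.mem_invSet_w hb).1 (show r ∈ T.invSet (X.w b) by
        simp [invSet, hr.1, hr.2.1, hr.2.2])
      exact X.block_pos hL.reverse (X.neg_comm_rev hL hLc) hb hj hjpos r h1 h2 h3
    refine ⟨p, hpB, hp1, (n⁻¹ * z * n) * (n⁻¹ * tor T F t * n), mul_mem h1 htn,
      X.G1.mul_mem (X.G1.mul_mem (X.G1.mul_mem (X.G1.inv_mem hn1) hzfix) hn1) htn1, Or.inl ?_⟩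
    rw [e0]; group
  push Not at hsign
  obtain ⟨i, hi⟩ : ∃ i, i ∈ X.w b := by
    rcases hw : X.w b with _ | ⟨i, l⟩
    · obtain ⟨r, hr⟩ := hB.pos b hb
      simp only [invSet, hw, Finset.mem_filter, Finset.mem_Ico, rw'_nil] at hr
      omega
    · exact ⟨i, List.mem_cons_self⟩
  have hall : ∀ r ∈ T.invSet (X.w b), T.rw' L.reverse r < T.N := fun r hr => by
    obtain ⟨h1, h2, h3⟩ := (X.mem_invSet_w hb).1 hr
    exact X.block_neg hL.reverse (X.neg_comm_rev hL hLc) hb (X.w_mem b hb i hi)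
      (hsign i (X.w_mem b hb i hi)) r h1 h2 h3
  obtain ⟨e', he'⟩ := torus_pass hg (nWd_mem_wSub (F := F) hg hwd) c
  have hsn : X.n b * n = tor T F (a * e') * nWd hg F (X.w b ++ L) := by
    rw [ha, hnc, map_mul, nWd_append]
    simp only [mul_assoc]
    rw [← mul_assoc (nWd hg F (X.w b)), he', mul_assoc]
  have hinvol : ∀ r < T.n, T.rw' (X.w b).reverse r = T.rw' (X.w b) r := fun r hr => by
    have := hB.sq b hb
    rw [pL_append, mul_eq_one_iff_eq_inv, pL_inv] at this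
    exact ((pL_eq_iff hg hwd hwd.reverse).1 this r hr).symm
  have hposB : ∀ r ∈ {r | T.N ≤ r ∧ r < T.n ∧ T.rw' (X.w b) r < T.N},
      T.N ≤ T.rw' (X.w b ++ L).reverse r := by
    intro r ⟨h1, h2, h3⟩
    rw [List.reverse_append, rw'_append, hinvol r h2]
    have hu := rw'_lt hg hwd h2
    have hm : T.neg (T.rw' (X.w b) r) ∈ T.invSet (X.w b) := by
      simp only [invSet, Finset.mem_filter, Finset.mem_Ico]
      refine ⟨⟨(N_le_neg_iff hu).2 h3, neg_lt hu⟩, ?_⟩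
      rw [rw'_neg hg hwd hu, ← hinvol _ hu, rw'_rev hg hwd h2]
      exact (neg_lt_N_iff h2).2 h1
    have := hall _ hm
    rwa [rw'_neg hg hL.reverse hu, neg_lt_N_iff (rw'_lt hg hL.reverse hu)] at this
  rcases X.rank_one hb hz hzfix with h | ⟨b₁, hb₁, hb₁1, u, hu, hu1, e⟩
  · refine ⟨p * (X.n b * z * (X.n b)⁻¹), mul_mem hpB h,
      X.G1.mul_mem hp1 (X.G1.mul_mem (X.G1.mul_mem hs1 hzfix) (X.G1.inv_mem hs1)),
      n⁻¹ * tor T F t * n, htn, htn1, Or.inl ?_⟩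
    rw [e0]; group
  · have hu2 : (X.n b * n)⁻¹ * u * (X.n b * n) ∈ T.D.borelSubgroup F := by
      rw [hsn]
      exact pos_conj hg (Wd.append_iff.2 ⟨hwd, hL⟩) _ hz1S hposB hu
    have hss : X.n b * X.n b ∈ T.D.borelSubgroup F := by
      obtain ⟨f, hf⟩ := torus_pass hg (nWd_mem_wSub (F := F) hg hwd) a
      obtain ⟨d, hd⟩ := perm_one_torus g.toGood (n := X.n b * X.n b) (c := a * f)
        (Wd.append_iff.2 ⟨hwd, hwd⟩) (by
          rw [ha, map_mul, nWd_append]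
          simp only [mul_assoc]
          rw [← mul_assoc (nWd hg F (X.w b)), hf, mul_assoc]) (hB.sq b hb)
      rw [hd]
      exact torus_le_borel hg d
    refine ⟨p * b₁ * (X.n b * X.n b), mul_mem (mul_mem hpB hb₁) hss,
      X.G1.mul_mem (X.G1.mul_mem hp1 hb₁1) (X.G1.mul_mem hs1 hs1),
      (X.n b * n)⁻¹ * u * (X.n b * n) * (n⁻¹ * tor T F t * n), mul_mem hu2 htn,
      X.G1.mul_mem (X.G1.mul_mem (X.G1.mul_mem (X.G1.inv_mem (X.G1.mul_mem hs1 hn1)) hu1)
        (X.G1.mul_mem hs1 hn1)) htn1, Or.inr ?_⟩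
    rw [e0, show X.n b * z * n = (X.n b * z * (X.n b)⁻¹) * (X.n b * n) by group, e]
    group

/-- an orbit group has a non-trivial fixed element -/
theorem exists_fixed_ne_one [Finite F] (hB : X.Blocks) {q d : ℕ} (hq : 1 < q)
    (hblk : ∀ b < X.nb, ∃ k, Nat.card ↥(uMinus g.toGood F (X.w b) ⊓ X.G1) = q ^ k ∧
      k * d = (T.invSet (X.w b)).card) {b : ℕ} (hb : b < X.nb) :
    ∃ z ∈ uMinus g.toGood F (X.w b), z ∈ X.G1 ∧ z ≠ 1 := by
  obtain ⟨k, hk, hkd⟩ := hblk b hb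
  by_contra h
  push Not at h
  have : uMinus g.toGood F (X.w b) ⊓ X.G1 = ⊥ := eq_bot_iff.2 fun z hz => h z hz.1 hz.2
  rw [this, Subgroup.card_bot] at hk
  obtain ⟨r, hr⟩ := hB.pos b hb
  have hk0 : k ≠ 0 := fun e => by
    rw [e, zero_mul, eq_comm, Finset.card_eq_zero] at hkd
    rw [hkd] at hr
    exact Finset.notMem_empty _ hr
  exact absurd hk (Nat.one_lt_pow hk0 hq).ne

/-- the representatives -/
def sS : Set ↥X.G1 := {x | ∃ b < X.nb, (x : GL T.D.Idx F) = X.n b}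

/-- The Tits system of the twisted group. -/
noncomputable def bnPair [Finite F] (hB : X.Blocks) {q d : ℕ} (hq : 1 < q)
    (hblk : ∀ b < X.nb, ∃ k, Nat.card ↥(uMinus g.toGood F (X.w b) ⊓ X.G1) = q ^ k ∧
      k * d = (T.invSet (X.w b)).card) : Cfsg.BNPair ↥X.G1 where
  B := (T.D.borelSubgroup F ⊓ X.G1).subgroupOf X.G1
  N := (T.D.monomialSubgroup F ⊓ X.G1).subgroupOf X.G1
  S := X.sS
  sup_eq_top := by
    refine eq_top_iff.2 fun x _ => ?_
    obtain ⟨v, hv, hv1, L, hL, hc, c, hm, u, hu, hu1, e⟩ := X.g1_decomp x.2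
    have hvB := genS_pos_le_borel g.toGood (fun r hr => hr) hv
    have huB := genS_pos_le_borel g.toGood (fun r hr => hr) (uMinus_le_pos g.toGood _ hu)
    have : x = ⟨v, hv1⟩ * ⟨_, hm⟩ * ⟨u, hu1⟩ := Subtype.ext e
    rw [this]
    refine mul_mem (mul_mem (Subgroup.mem_sup_left ?_) (Subgroup.mem_sup_right ?_))
      (Subgroup.mem_sup_left ?_)
    · exact Subgroup.mem_inf.2 ⟨hvB, hv1⟩
    · exact Subgroup.mem_inf.2 ⟨(mem_monomial_iff g.toGood).2 ⟨L, hL, c, rfl⟩, hm⟩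
    · exact Subgroup.mem_inf.2 ⟨huB, hu1⟩
  conj_mem n hn t ht := by
    obtain ⟨hnN, hn1⟩ := Subgroup.mem_inf.1 (Subgroup.mem_subgroupOf.1 hn)
    obtain ⟨htB, htN⟩ := Subgroup.mem_inf.1 ht
    have h := borel_inf_monomial g.toGood htB.1 htN.1
    rw [diagonalSubgroup_eq g.toGood] at h
    obtain ⟨c, hc⟩ := h
    refine Subgroup.mem_subgroupOf.2 (Subgroup.mem_inf.2 ⟨?_, (n * t * n⁻¹).2⟩)
    simp only [Subgroup.coe_mul, Subgroup.coe_inv]
    rw [show ((t : ↥X.G1) : GL T.D.Idx F) = tor T F c from hc.symm]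
    exact mono_torus_borel g.toGood hnN c
  subset := by
    rintro x ⟨b, hb, e⟩
    refine Subgroup.mem_subgroupOf.2 (Subgroup.mem_inf.2 ⟨?_, x.2⟩)
    rw [e]
    exact X.n_mem_monomial hb
  sq_mem x hx := by
    obtain ⟨b, hb, e⟩ := hx
    refine Subgroup.mem_subgroupOf.2 (Subgroup.mem_inf.2 ⟨?_, (x * x).2⟩)
    obtain ⟨a, ha⟩ := X.n_eq b hb
    obtain ⟨f, hf⟩ := torus_pass g.toGood (nWd_mem_wSub (F := F) g.toGood (X.w_wd hb)) a
    obtain ⟨d', hd⟩ := perm_one_torus g.toGood (n := X.n b * X.n b) (c := a * f)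
      (Wd.append_iff.2 ⟨X.w_wd hb, X.w_wd hb⟩) (by
        rw [ha, map_mul, nWd_append]
        simp only [mul_assoc]
        rw [← mul_assoc (nWd g.toGood F (X.w b)), hf, mul_assoc]) (hB.sq b hb)
    rw [Subgroup.coe_mul, e, hd]
    exact torus_le_borel g.toGood _
  inj s hs s' hs' h := by
    obtain ⟨b, hb, e⟩ := hs
    obtain ⟨b', hb', e'⟩ := hs'
    have h' := (Subgroup.mem_inf.1 (Subgroup.mem_subgroupOf.1 h)).1
    rw [Subgroup.coe_mul, Subgroup.coe_inv, e, e'] at h'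
    have hd := borel_inf_monomial g.toGood h'
      (mul_mem (inv_mem (X.n_mem_monomial hb)) (X.n_mem_monomial hb'))
    have hk : (⟨X.n b, X.n_mem_monomial hb⟩ : ↥(T.D.monomialSubgroup F))⁻¹ *
        ⟨X.n b', X.n_mem_monomial hb'⟩ ∈ (toPerm g.toGood (F := F)).ker := by
      rw [toPerm_ker, Subgroup.mem_subgroupOf]
      exact hd
    obtain ⟨a, ha⟩ := X.n_eq b hb
    obtain ⟨a', ha'⟩ := X.n_eq b' hb'
    rw [MonoidHom.mem_ker, map_mul, map_inv, toPerm_eq g.toGood (X.w_wd hb) (x := ⟨_, _⟩) ha,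
      toPerm_eq g.toGood (X.w_wd hb') (x := ⟨_, _⟩) ha', inv_mul_eq_one] at hk
    obtain rfl := hB.ne b hb b' hb' hk
    exact Subtype.ext (e.trans e'.symm)
  closure_sup := by
    refine le_antisymm (sup_le ((Subgroup.closure_le _).2 ?_) inf_le_right) fun x hx => ?_
    · rintro y ⟨b, hb, e⟩
      refine Subgroup.mem_subgroupOf.2 (Subgroup.mem_inf.2 ⟨?_, y.2⟩)
      rw [e]
      exact X.n_mem_monomial hb
    · obtain ⟨hxN, hx1⟩ := Subgroup.mem_inf.1 (Subgroup.mem_subgroupOf.1 hx)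
      obtain ⟨L, hL, hc, c, hxc⟩ := X.mono_class hxN hx1
      obtain ⟨Ls, hLs, hp⟩ := X.exists_flat _ hL hc le_rfl
      obtain ⟨c', hc', hmem⟩ := X.flat_lift hLs
      obtain ⟨d', hd⟩ := nWd_same_perm (F := F) g.toGood hL (X.flat_wd hLs) hp
      have hw : ∀ Ls : List ℕ, (∀ b ∈ Ls, b < X.nb) → ∃ y ∈ Subgroup.closure X.sS,
          ((y : ↥X.G1) : GL T.D.Idx F) = (Ls.map X.n).prod := by
        intro Ls
        induction Ls with
        | nil => exact fun _ => ⟨1, one_mem _, by simp⟩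
        | cons b Ls ih =>
          intro h
          obtain ⟨y, hy, e⟩ := ih fun x hx => h x (List.mem_cons_of_mem _ hx)
          exact ⟨⟨X.n b, X.n_mem b (h b List.mem_cons_self)⟩ * y,
            mul_mem (Subgroup.subset_closure ⟨b, h b List.mem_cons_self, rfl⟩) hy,
            by simp [e]⟩
      obtain ⟨y, hy, ey⟩ := hw Ls hLs
      have et : (x : GL T.D.Idx F) = tor T F (c * d' * c'⁻¹) * (Ls.map X.n).prod := by
        rw [hxc, hd, hc', map_mul, map_mul, map_inv]; group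
      have ht1 : tor T F (c * d' * c'⁻¹) ∈ X.G1 := by
        have : tor T F (c * d' * c'⁻¹) = (x : GL T.D.Idx F) * ((Ls.map X.n).prod)⁻¹ := by
          rw [et]; group
        rw [this]
        exact X.G1.mul_mem x.2 (X.G1.inv_mem hmem)
      have : x = ⟨_, ht1⟩ * y := Subtype.ext (by simp [et, ey])
      rw [this]
      refine mul_mem (Subgroup.mem_sup_right (Subgroup.mem_inf.2 ⟨?_, ?_⟩)) (Subgroup.mem_sup_left hy)
      · exact Subgroup.mem_inf.2 ⟨torus_le_borel g.toGood _, ht1⟩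
      · exact Subgroup.mem_inf.2 ⟨torus_le_monomial g.toGood _, ht1⟩
  mul_mem_union s hs n hn bb hbb := by
    obtain ⟨b, hb, e⟩ := hs
    obtain ⟨hnN, hn1⟩ := Subgroup.mem_inf.1 (Subgroup.mem_subgroupOf.1 hn)
    obtain ⟨hbB, hb1⟩ := Subgroup.mem_inf.1 (Subgroup.mem_subgroupOf.1 hbb)
    obtain ⟨b₁, h1, h11, b₂, h2, h21, h⟩ := X.borel_mul hB hb hbB hb1 hnN hn1
    rcases h with h | h
    · exact Or.inl (DoubleCoset.mem_doubleCoset.2
        ⟨⟨b₁, h11⟩, Subgroup.mem_inf.2 ⟨h1, h11⟩, ⟨b₂, h21⟩, Subgroup.mem_inf.2 ⟨h2, h21⟩,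
          Subtype.ext (by simpa [e] using h)⟩)
    · exact Or.inr (DoubleCoset.mem_doubleCoset.2
        ⟨⟨b₁, h11⟩, Subgroup.mem_inf.2 ⟨h1, h11⟩, ⟨b₂, h21⟩, Subgroup.mem_inf.2 ⟨h2, h21⟩,
          Subtype.ext (by simpa [e] using h)⟩)
  conj_ne s hs h := by
    obtain ⟨b, hb, e⟩ := hs
    obtain ⟨z, hz, hz1, hzne⟩ := X.exists_fixed_ne_one hB hq hblk hb
    have hg := g.toGood
    have hzB : (⟨z, hz1⟩ : ↥X.G1) ∈ (T.D.borelSubgroup F ⊓ X.G1).subgroupOf X.G1 :=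
      Subgroup.mem_inf.2 ⟨genS_pos_le_borel hg (fun r hr => hr) (uMinus_le_pos hg _ hz), hz1⟩
    have h' : s * ⟨z, hz1⟩ * s ∈ (((T.D.borelSubgroup F ⊓ X.G1).subgroupOf X.G1 : Subgroup ↥X.G1) :
        Set ↥X.G1) := h ▸ ⟨_, hzB, rfl⟩
    have h'' := (Subgroup.mem_inf.1 (Subgroup.mem_subgroupOf.1 h')).1
    rw [Subgroup.coe_mul, Subgroup.coe_mul, e] at h''
    obtain ⟨a, ha⟩ := X.n_eq b hb
    obtain ⟨f, hf⟩ := torus_pass hg (nWd_mem_wSub (F := F) hg (X.w_wd hb)) a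
    obtain ⟨d', hd⟩ := perm_one_torus g.toGood (n := X.n b * X.n b) (c := a * f)
      (Wd.append_iff.2 ⟨X.w_wd hb, X.w_wd hb⟩) (by
        rw [ha, map_mul, nWd_append]
        simp only [mul_assoc]
        rw [← mul_assoc (nWd hg F (X.w b)), hf, mul_assoc]) (hB.sq b hb)
    have hx : X.n b * z * (X.n b)⁻¹ ∈ T.D.borelSubgroup F := by
      have : X.n b * z * (X.n b)⁻¹ = X.n b * z * X.n b * (X.n b * X.n b)⁻¹ := by group
      rw [this, hd]
      exact mul_mem h'' (inv_mem (torus_le_borel hg d'))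
    have hneg : X.n b * z * (X.n b)⁻¹ ∈ genS hg F (Set.Iio T.N) := by
      rw [show X.n b * z * (X.n b)⁻¹ =
        tor T F a * (nWd hg F (X.w b) * z * (nWd hg F (X.w b))⁻¹) * (tor T F a)⁻¹ by rw [ha]; group]
      exact (Subgroup.mem_normalizer_iff.1 (tor_normalizes hg (fun r hr => by
        have := n_def (T := T); have : r < T.N := hr; omega) a) _).1
        (uMinus_conj_neg hg (X.w_wd hb) hz)
    exact hzne (conj_eq_one_iff.1 (borel_inf_neg hg hx hneg))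

/-- characters fixing every orbit group are trivial on the nodes -/
def Sep : Prop :=
  ∀ b < X.nb, ∀ j ∈ X.J b, ∀ c : ℕ → Fˣ, (∀ z ∈ uMinus g.toGood F (X.w b), z ∈ X.G1 →
    tor T F c * z * (tor T F c)⁻¹ = z) → wt T F c (T.smp j) = 1

/-- separation from witnesses in coordinates -/
theorem sep_of_witness {b : ℕ} {j : ℕ} {R : List ℕ}
    (hR : R.Pairwise (· < ·)) (hRw : ∀ r ∈ R, r ∈ T.invSet (X.w b)) (hj : T.smp j ∈ R) {a : ℕ → F}
    (ha : a (T.smp j) ≠ 0) (hmem : sProd g.toGood R a ∈ X.G1) {c : ℕ → Fˣ}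
    (hc : ∀ z ∈ uMinus g.toGood F (X.w b), z ∈ X.G1 → tor T F c * z * (tor T F c)⁻¹ = z) :
    wt T F c (T.smp j) = 1 := by
  have hR' : ∀ r ∈ R, T.N ≤ r ∧ r < T.n ∧ T.rw' (X.w b) r < T.N := fun r hr => by
    have := hRw r hr
    simp only [invSet, Finset.mem_filter, Finset.mem_Ico] at this
    exact ⟨this.1.1, this.1.2, this.2⟩
  have h := hc _ (sProd_mem g.toGood (S := {r | T.N ≤ r ∧ r < T.n ∧ T.rw' (X.w b) r < T.N}) hR' a)
    hmem
  rw [sProd_conj g.toGood c (fun r hr => (hR' r hr).2.1)] at h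
  have := sProd_unique g.toGood hR (fun r hr => ⟨(hR' r hr).1, (hR' r hr).2.1⟩) h _ hj
  exact Units.ext ((mul_eq_right₀ ha).1 this)

/-- `B¹` is core free. -/
theorem core_free (hsep : X.Sep) :
    ((T.D.borelSubgroup F ⊓ X.G1).subgroupOf X.G1).normalCore = ⊥ := by
  have hg := g.toGood
  rw [eq_bot_iff]
  intro x hx
  have hconj : ∀ y : ↥X.G1, ((y * x * y⁻¹ : ↥X.G1) : GL T.D.Idx F) ∈ T.D.borelSubgroup F :=
    fun y => (Subgroup.mem_inf.1 (Subgroup.mem_subgroupOf.1 (hx y))).1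
  obtain ⟨L, hL, hLc, hneg⟩ := X.exists_longest_comm
  obtain ⟨c, hn⟩ := X.exists_lift hL hLc
  have hdiag : ∀ y : ↥X.G1, ((y * x * y⁻¹ : ↥X.G1) : GL T.D.Idx F) ∈ T.D.diagonalSubgroup F := by
    intro y
    set n := tor T F c * nWd hg F L with hnd
    have hz := hconj y
    set z := ((y * x * y⁻¹ : ↥X.G1) : GL T.D.Idx F) with hzd
    have hz' : n⁻¹ * z * n ∈ T.D.borelSubgroup F := by
      have := hconj (⟨n, hn⟩⁻¹ * y)
      rw [hzd]
      simpa [mul_assoc] using this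
    obtain ⟨u, hu, d, hd⟩ := (mem_borel_iff hg).1 hz'
    obtain ⟨e, he⟩ := wSub_conj_torus hg (nWd_mem_wSub (F := F) hg hL) d
    have hv : n * u * n⁻¹ ∈ genS hg F (Set.Iio T.N) := by
      rw [show n * u * n⁻¹ = tor T F c * (nWd hg F L * u * (nWd hg F L)⁻¹) * (tor T F c)⁻¹ by
        rw [hnd]; group]
      refine (Subgroup.mem_normalizer_iff.1 (tor_normalizes hg (fun r hr => by
        have := n_def (T := T); have : r < T.N := hr; omega) c) _).1 ?_
      have h := Subgroup.mem_map_of_mem (MulAut.conj (nWd hg F L)).toMonoidHom hu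
      rw [genS_map_nWd hg hL fun r hr => hr.2] at h
      refine genS_mono hg ?_ h
      rintro _ ⟨r, hr, rfl⟩
      exact hneg r hr.1 hr.2
    have hH : n * tor T F d * n⁻¹ = tor T F e := by
      rw [show n * tor T F d * n⁻¹ =
        tor T F c * (nWd hg F L * tor T F d * (nWd hg F L)⁻¹) * (tor T F c)⁻¹ by rw [hnd]; group, he,
        ← map_mul, ← map_inv, ← map_mul, mul_comm c e, mul_inv_cancel_right]
    have ez : z = (n * u * n⁻¹) * tor T F e := by
      have : z = n * (n⁻¹ * z * n) * n⁻¹ := by group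
      rw [this, hd, ← hH]; group
    have hvB : n * u * n⁻¹ ∈ T.D.borelSubgroup F := by
      have := mul_mem hz (inv_mem (torus_le_borel hg e))
      rwa [ez, mul_inv_cancel_right] at this
    rw [ez, borel_inf_neg hg hvB hv, one_mul, diagonalSubgroup_eq hg]
    exact ⟨e, rfl⟩
  have hx1 := hdiag 1
  simp only [one_mul, inv_one, mul_one, diagonalSubgroup_eq hg] at hx1
  obtain ⟨d, hd⟩ := hx1
  have hw : ∀ i < T.l, wt T F d (T.smp i) = 1 := by
    intro i hi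
    obtain ⟨b, hb, hib⟩ := X.J_cover i hi
    refine hsep b hb i hib d fun z hz hz1 => ?_
    have h := hdiag ⟨z, hz1⟩
    simp only [Subgroup.coe_mul, Subgroup.coe_inv, ← hd] at h
    have hpos : z * (tor T F d * z⁻¹ * (tor T F d)⁻¹) ∈ genS hg F (Set.Ico T.N T.n) :=
      mul_mem (uMinus_le_pos hg _ hz) ((Subgroup.mem_normalizer_iff.1
        (tor_normalizes hg (fun r hr => hr.2) d) _).1 (inv_mem (uMinus_le_pos hg _ hz)))
    have h1 := pos_inf_torus hg hpos (by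
      have : z * (tor T F d * z⁻¹ * (tor T F d)⁻¹) = z * tor T F d * z⁻¹ * (tor T F d)⁻¹ := by group
      rw [this]
      exact mul_mem h (inv_mem (by rw [diagonalSubgroup_eq hg]; exact ⟨d, rfl⟩)))
    rw [show tor T F d * z⁻¹ * (tor T F d)⁻¹ = (tor T F d * z * (tor T F d)⁻¹)⁻¹ by group,
      mul_inv_eq_one] at h1
    exact h1.symm
  rw [Subgroup.mem_bot]
  refine Subtype.ext ?_
  rw [Subgroup.coe_one, ← hd, tor_apply, ← map_one (dg T F)]
  exact dg_congr hg fun s hs => wt_one_of_simple hg hw s hs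

/-- a torus element without fixed points puts an orbit group into the derived group -/
theorem derived_of_torus [Finite F] {b : ℕ} (hb : b < X.nb) {R : List ℕ} (hR : R.Pairwise (· < ·))
    (hRw : R.toFinset = T.invSet (X.w b)) {c : ℕ → Fˣ} (hc : tor T F c ∈ X.G1)
    (hwt : ∀ r ∈ R, wt T F c r ≠ 1) {z : GL T.D.Idx F} (hz : z ∈ uMinus g.toGood F (X.w b))
    (hz1 : z ∈ X.G1) : z ∈ ⁅X.G1, X.G1⁆ := by
  have hg := g.toGood
  let V := uMinus hg F (X.w b) ⊓ X.G1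
  have hV : ∀ x : ↥V, tor T F c * x * (tor T F c)⁻¹ * (x : GL T.D.Idx F)⁻¹ ∈ V := fun x =>
    Subgroup.mem_inf.2 ⟨mul_mem ((Subgroup.mem_normalizer_iff.1
      (tor_normalizes hg (fun r hr => hr.2.1) c) _).1 x.2.1) (inv_mem x.2.1),
      X.G1.mul_mem (X.G1.mul_mem (X.G1.mul_mem hc x.2.2) (X.G1.inv_mem hc)) (X.G1.inv_mem x.2.2)⟩
  let f : ↥V → ↥V := fun x => ⟨_, hV x⟩
  have hinj : Function.Injective f := by
    rintro ⟨x, hx⟩ ⟨y, hy⟩ e
    have e' : tor T F c * x * (tor T F c)⁻¹ * x⁻¹ = tor T F c * y * (tor T F c)⁻¹ * y⁻¹ :=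
      congrArg Subtype.val e
    have hfix : tor T F c * (y⁻¹ * x) * (tor T F c)⁻¹ = y⁻¹ * x := by
      calc _ = (tor T F c * y * (tor T F c)⁻¹)⁻¹ * (tor T F c * x * (tor T F c)⁻¹ * x⁻¹) * x := by
            group
        _ = _ := by rw [e']; group
    have hRmem : ∀ r ∈ R, T.N ≤ r ∧ r < T.n := fun r hr => by
      have : r ∈ T.invSet (X.w b) := hRw ▸ List.mem_toFinset.2 hr
      simp only [invSet, Finset.mem_filter, Finset.mem_Ico] at this
      exact this.1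
    obtain ⟨a, ha⟩ := uMinus_coords g.toGoodA (X.w_wd hb) hR hRw (mul_mem (inv_mem hy.1) hx.1)
    rw [ha, sProd_conj hg c fun r hr => (hRmem r hr).2] at hfix
    have h0 : ∀ r ∈ R, a r = (0 : ℕ → F) r := fun r hr => by
      have := sProd_unique hg hR hRmem hfix r hr
      by_contra h0
      exact hwt r hr (Units.ext ((mul_eq_right₀ h0).1 this))
    rw [sProd_congr hg h0] at ha
    have h1 : sProd hg R (0 : ℕ → F) = 1 := List.prod_eq_one fun x hx => by
      obtain ⟨r, -, rfl⟩ := List.mem_map.1 hx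
      exact xg_zero hg r
    rw [h1, inv_mul_eq_one] at ha
    exact Subtype.ext ha.symm
  obtain ⟨⟨x, hx⟩, e⟩ := (Finite.injective_iff_surjective.1 hinj) ⟨z, Subgroup.mem_inf.2 ⟨hz, hz1⟩⟩
  rw [← show tor T F c * x * (tor T F c)⁻¹ * x⁻¹ = z from congrArg Subtype.val e,
    ← commutatorElement_def]
  exact Subgroup.commutator_mem_commutator hc hx.2

theorem derived_conj {a x : GL T.D.Idx F} (ha : a ∈ X.G1) (hx : x ∈ ⁅X.G1, X.G1⁆) :
    a * x * a⁻¹ ∈ ⁅X.G1, X.G1⁆ :=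
  (Subgroup.mem_normalizer_iff.1 (Subgroup.normalizer_commutator_ge_left X.G1 X.G1 ha) _).1 hx

/-- perfectness from the orbit groups -/
theorem derived_eq {S : Set (GL T.D.Idx F)} (hS : X.G1 = Subgroup.closure S)
    (hsplit : ∀ x ∈ S, x ∈ genS g.toGood F (Set.Ico T.N T.n) ∨ x ∈ genS g.toGood F (Set.Iio T.N))
    (hD : ∀ b < X.nb, ∀ z ∈ uMinus g.toGood F (X.w b), z ∈ X.G1 → z ∈ ⁅X.G1, X.G1⁆) :
    ⁅X.G1, X.G1⁆ = X.G1 := by
  have hg := g.toGood
  have hu : ∀ (m : ℕ) {L : List ℕ}, T.Wd L → X.Comm L → (T.invSet L).card ≤ m →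
      ∀ u ∈ uMinus hg F L, X.σ u = u → u ∈ ⁅X.G1, X.G1⁆ := by
    intro m
    have base : ∀ {L : List ℕ}, (T.invSet L).card = 0 →
        ∀ u ∈ uMinus hg F L, u ∈ ⁅X.G1, X.G1⁆ := by
      intro L h0 u hu
      have hp := invSet_empty hg h0
      have : uMinus hg F L = ⊥ := le_bot_iff.1 (genS_le hg fun r hr t => by
        have := hp r hr.1 hr.2.1
        have := hr.2.2
        omega)
      rw [this, Subgroup.mem_bot] at hu
      rw [hu]; exact one_mem _
    induction m with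
    | zero => exact fun _ _ h u hu _ => base (Nat.le_zero.1 h) u hu
    | succ m ih =>
      intro L hL hc hle u hu hσ
      rcases Nat.eq_zero_or_eq_sub_one_add_one (n := (T.invSet L).card) with h0 | hs
      · exact base h0 u hu
      obtain ⟨b, hb, hall, hw', hc', -, hlt⟩ := X.comm_peel hL hc hs
      obtain ⟨y, hy, hσy, z, hz, hσz, rfl⟩ := X.uMinus_split hL hb hall hu hσ
      refine mul_mem ?_ (hD b hb z hz (X.U_mem b hb z hz hσz))
      have := X.derived_conj (X.G1.inv_mem (X.n_mem b hb)) (ih hw' hc' (by omega) y hy hσy)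
      rwa [inv_inv] at this
  refine le_antisymm (Subgroup.commutator_le_self _) ?_
  obtain ⟨L, hL, hLc, hneg⟩ := X.exists_longest_comm
  have hpos : ∀ u ∈ genS hg F (Set.Ico T.N T.n), X.σ u = u → u ∈ ⁅X.G1, X.G1⁆ := fun u hu' hσ =>
    hu _ hL hLc le_rfl u (genS_mono hg (S := Set.Ico T.N T.n)
      (S' := {r | T.N ≤ r ∧ r < T.n ∧ T.rw' L r < T.N})
      (fun r hr => ⟨hr.1, hr.2, hneg r hr.1 hr.2⟩) hu') hσ
  conv_lhs => rw [hS]
  refine (Subgroup.closure_le _).2 fun x hx => ?_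
  have hx1 : x ∈ X.G1 := hS ▸ Subgroup.subset_closure hx
  rcases hsplit x hx with h | h
  · exact hpos x h (X.G1_le x hx1).2
  · obtain ⟨c, hn⟩ := X.exists_lift hL hLc
    have hlt : ∀ r ∈ Set.Iio T.N, r < T.n := fun r hr => by
      have := n_def (T := T); have : r < T.N := hr; omega
    have h1 := nWd_rev_conj hg hL c hlt h
    set n := tor T F c * nWd hg F L with hnd
    have h2 : n⁻¹ * x * n ∈ genS hg F (Set.Ico T.N T.n) := by
      refine genS_mono hg ?_ h1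
      rintro _ ⟨r, hr, rfl⟩
      have hrn := hlt r hr
      have hv := rw'_lt hg hL.reverse hrn
      refine ⟨?_, hv⟩
      by_contra hh
      have h := hneg _ ((N_le_neg_iff hv).2 (not_le.1 hh)) (neg_lt hv)
      rw [rw'_neg hg hL hv, rw'_rev' hg hL hrn, neg_lt_N_iff hrn] at h
      have : r < T.N := hr
      omega
    have h3 := X.derived_conj hn
      (hpos _ h2 (X.G1_le _ (X.G1.mul_mem (X.G1.mul_mem (X.G1.inv_mem hn) hx1) hn)).2)
    rwa [show n * (n⁻¹ * x * n) * n⁻¹ = x by group] at h3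

theorem perfect (h : ⁅X.G1, X.G1⁆ = X.G1) : commutator ↥X.G1 = ⊤ := by
  apply Subgroup.map_injective X.G1.subtype_injective
  rw [map_commutator_eq, Subgroup.range_subtype, h, ← MonoidHom.range_eq_map,
    Subgroup.range_subtype]

theorem irreducible [Finite F] (hB : X.Blocks) {q d : ℕ} (hq : 1 < q)
    (hblk : ∀ b < X.nb, ∃ k, Nat.card ↥(uMinus g.toGood F (X.w b) ⊓ X.G1) = q ^ k ∧
      k * d = (T.invSet (X.w b)).card) (hconn : T.checkConnB X.w X.nb = true) :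
    (X.bnPair hB hq hblk).Irreducible := by
  have hg := g.toGood
  intro J hJ hne hne'
  classical
  let ind : ℕ → Prop := fun b => ∃ n ∈ J, (n : GL T.D.Idx F) = X.n b
  let s₀ : Finset ℕ := (Finset.range X.nb).filter ind
  let m : ℕ := ∑ i ∈ s₀, 2 ^ i
  have hbit : ∀ i < X.nb, (Nat.testBit m i = true ↔ ind i) := by
    intro i hi
    rw [← Nat.mem_bitIndices, ← List.mem_toFinset, Finset.toFinset_bitIndices_sum_two_pow]
    simp [s₀, hi]
  have hm : m < 2 ^ X.nb := Nat.geomSum_lt le_rfl fun i hi => by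
    simp only [s₀, Finset.mem_filter, Finset.mem_range] at hi; exact hi.1
  obtain ⟨n, hn⟩ := hne
  obtain ⟨i, hi, ei⟩ := hJ hn
  obtain ⟨n', hn'⟩ := hne'
  obtain ⟨j, hj, ej⟩ := hn'.1
  have h1 : Nat.testBit m i = true := (hbit i hi).2 ⟨n, hn, ei⟩
  have h2 : Nat.testBit m j = false := by
    rw [← Bool.not_eq_true, hbit j hj]
    rintro ⟨n'', hn'', e⟩
    exact hn'.2 (Subtype.ext (ej.trans e.symm) ▸ hn'')
  have h := allBelow_eq_true.1 hconn m hm
  simp only [Bool.or_eq_true, Bool.not_eq_true', Bool.and_eq_true, anyBelow_eq_true] at h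
  rcases h with (h | h) | ⟨a, ha, b, hb, ⟨hta, htb⟩, hA⟩
  · rw [← Bool.not_eq_true, anyBelow_eq_true] at h
    exact absurd ⟨i, hi, h1⟩ h
  · rw [← Bool.not_eq_true, anyBelow_eq_true] at h
    exact absurd ⟨j, hj, by rw [h2]; rfl⟩ h
  obtain ⟨x, hx, ex⟩ := (hbit a ha).1 hta
  have hbJ : ¬ ind b := fun h' => by rw [(hbit b hb).2 h'] at htb; simp at htb
  let y : ↥X.G1 := ⟨X.n b, X.n_mem b hb⟩
  refine ⟨x, hx, y, ⟨⟨b, hb, rfl⟩, fun h' => hbJ ⟨y, h', rfl⟩⟩, fun hmem => ?_⟩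
  have hB' : X.n a * X.n b * (X.n a)⁻¹ * (X.n b)⁻¹ ∈ T.D.borelSubgroup F := by
    have := (Subgroup.mem_inf.1 (Subgroup.mem_subgroupOf.1 hmem)).1
    simpa [y, ex] using this
  have hH := borel_inf_monomial hg hB' (mul_mem (mul_mem (mul_mem (X.n_mem_monomial ha)
    (X.n_mem_monomial hb)) (inv_mem (X.n_mem_monomial ha))) (inv_mem (X.n_mem_monomial hb)))
  let xa : ↥(T.D.monomialSubgroup F) := ⟨_, X.n_mem_monomial ha⟩
  let xb : ↥(T.D.monomialSubgroup F) := ⟨_, X.n_mem_monomial hb⟩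
  have hk : xa * xb * xa⁻¹ * xb⁻¹ ∈ (toPerm hg (F := F)).ker := by
    rw [toPerm_ker, Subgroup.mem_subgroupOf]
    exact hH
  obtain ⟨ca, hca⟩ := X.n_eq a ha
  obtain ⟨cb, hcb⟩ := X.n_eq b hb
  rw [MonoidHom.mem_ker, map_mul, map_mul, map_mul, map_inv, map_inv,
    toPerm_eq hg (X.w_wd ha) (x := xa) hca, toPerm_eq hg (X.w_wd hb) (x := xb) hcb,
    mul_inv_eq_one, mul_inv_eq_iff_eq_mul, ← pL_append, ← pL_append,
    pL_eq_iff hg (Wd.append_iff.2 ⟨X.w_wd ha, X.w_wd hb⟩)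
      (Wd.append_iff.2 ⟨X.w_wd hb, X.w_wd ha⟩)] at hk
  have := (listBeq_iff (l := T.keyL (X.w a ++ X.w b)) (m := T.keyL (X.w b ++ X.w a))).2
    (keyL_eq.2 fun i hi => hk _ (g.smp_lt hi))
  rw [this] at hA
  exact absurd hA (by simp)

/-- simplicity -/
theorem simple [Finite F] (hB : X.Blocks) {q d : ℕ} (hq : 1 < q)
    (hblk : ∀ b < X.nb, ∃ k, Nat.card ↥(uMinus g.toGood F (X.w b) ⊓ X.G1) = q ^ k ∧
      k * d = (T.invSet (X.w b)).card) (hconn : T.checkConnB X.w X.nb = true) (hsep : X.Sep)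
    (hnb : 0 < X.nb) (hder : ⁅X.G1, X.G1⁆ = X.G1) :
    IsSimpleGroup ↥X.G1 ∧ ¬ IsMulCommutative ↥X.G1 := by
  have hperf := X.perfect hder
  obtain ⟨z, -, hz1, hzne⟩ := X.exists_fixed_ne_one hB hq hblk hnb
  have : Nontrivial ↥X.G1 :=
    ⟨⟨⟨z, hz1⟩, 1, fun e => hzne (congrArg Subtype.val e)⟩⟩
  refine ⟨Cfsg.Agent.S0319.result (X.bnPair hB hq hblk) (X.irreducible hB hq hblk hconn) ?_ hperf
    (X.core_free hsep), fun hc => ?_⟩
  · haveI := borel_solvable (F := F) g.toGoodA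
    exact Group.isSolvable_of_isSolvable_injective
      (f := (Subgroup.inclusion (inf_le_left : T.D.borelSubgroup F ⊓ X.G1 ≤ _)).comp
        (Subgroup.subgroupOfEquivOfLe
          (inf_le_right : T.D.borelSubgroup F ⊓ X.G1 ≤ X.G1)).toMonoidHom)
      ((Subgroup.inclusion_injective (inf_le_left : T.D.borelSubgroup F ⊓ X.G1 ≤ _)).comp
        (MulEquiv.injective _))
  · have h0 : commutator ↥X.G1 = ⊥ := by
      rw [eq_bot_iff, _root_.commutator_def, Subgroup.commutator_le]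
      intro a _ b _
      rw [Subgroup.mem_bot, commutatorElement_eq_one_iff_mul_comm]
      exact hc.is_comm.comm a b
    rw [h0] at hperf
    exact bot_ne_top hperf

end Twist

end Tab

end Cfsg.Agent.Chev
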