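import Cfsg.Agent.Lib.Lie.BNPair
import Mathlib.GroupTheory.Solvable
import Mathlib.GroupTheory.Commutator.Basic

/-! Normal subgroups of a group with an irreducible core free (B,N)-pair (after the proof of S0319). -/

set_option autoImplicit false

namespace Cfsg.Agent.BN
open scoped Pointwise

theorem normal_eq_bot_or_sup_eq_top {G : Type*} [Group G] (P : Cfsg.BNPair G) (hirr : P.Irreducible)
    (hcore : P.B.normalCore = ⊥) (K : Subgroup G) [hK : K.Normal] : K = ⊥ ∨ P.B ⊔ K = ⊤ := by
  by_cases hne1 : K = ⊥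
  · exact Or.inl hne1
  refine Or.inr ?_
  -- `K B` is a parabolic subgroup
  set J := {s | s ∈ P.S ∧ s ∈ P.B ⊔ K} with hJdef
  have hJS : J ⊆ P.S := fun s hs => hs.1
  have hKB : P.B ⊔ K = P.parabolic J := BN.eq_parabolic P _ le_sup_left
  have hJne : J.Nonempty := by
    by_contra h
    rw [Set.not_nonempty_iff_eq_empty] at h
    rw [h] at hKB
    have h1 : P.parabolic ∅ = P.B := by simp [Cfsg.BNPair.parabolic]
    have h2 : K ≤ P.B := fun x hx => by
      rw [← h1, ← hKB]
      exact le_sup_right (a := P.B) hx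
    have h3 : K ≤ P.B.normalCore := Subgroup.normal_le_normalCore.2 h2
    rw [hcore, le_bot_iff] at h3
    exact hne1 h3
  have hJ : J = P.S := by
    by_contra h
    have hne' : (P.S \ J).Nonempty := by
      obtain ⟨x, hx, hx'⟩ := Set.not_subset.1 fun h' => h (hJS.antisymm h')
      exact ⟨x, hx, hx'⟩
    obtain ⟨s, hs, t, ⟨htS, htJ⟩, hcomm⟩ := hirr J hJS hJne hne'
    apply hcomm
    have hsN := P.subset (hJS hs)
    have htN := P.subset htS
    have htP : t ∉ P.parabolic J := fun h => htJ ((BN.mem_parabolic_iff P hJS htS).1 h)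
    -- write `s = k b`
    have hs' : s ∈ (K : Set G) * (P.B : Set G) := by
      rw [← Subgroup.normal_mul, sup_comm]
      exact hs.2
    obtain ⟨k, hk, b, hb, rfl⟩ := Set.mem_mul.1 hs'
    have hKP : K ≤ P.parabolic J := hKB ▸ le_sup_right
    -- the element `t s t⁻¹` of `N` lies in the parabolic subgroup
    have hN1 : t * (k * b) * t⁻¹ ∈ P.N := P.N.mul_mem (P.N.mul_mem htN hsN) (P.N.inv_mem htN)
    have hmem : t * (k * b) * t⁻¹ ∈ P.parabolic J := by
      have hk' : t * k * t⁻¹ ∈ P.parabolic J := hKP (hK.conj_mem k hk t)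
      have e : t * (k * b) * t⁻¹ = (t * k * t⁻¹) * (t * b * t⁻¹) := by group
      rw [e]
      have htb := BN.mul_mem_cell P ⟨t, htS⟩ (BN.σ P ⟨t, htS⟩)
        (BN.cell_mul_right P hb (BN.self_mem_cell_σ P ⟨t, htS⟩)) (BN.inv_mem_cell_σ P ⟨t, htS⟩)
      rw [BN.σ_mul_self, BN.cell_one] at htb
      rcases htb with h' | h'
      · exact mul_mem hk' (BN.B_le_parabolic P J h')
      · exfalso
        -- otherwise `t s t` would lie in `W_J ∪ W_J t`
        rw [BN.cell_σ] at h'
        obtain ⟨a, ha, c, hc, e'⟩ := DoubleCoset.mem_doubleCoset.1 h'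
        have hu : t * k * t⁻¹ * a ∈ P.parabolic J := mul_mem hk' (BN.B_le_parabolic P J ha)
        obtain ⟨m, hm, hmN, hmW, hmd⟩ := BN.parabolic_mem_cell P hJS hu
        rw [← BN.cell_mk P hmN] at hmd
        have hx : t * (k * b) * t⁻¹ ∈ BN.cell P (BN.wmk P (t * (k * b) * t⁻¹) hN1) := by
          rw [BN.cell_mk]; exact BN.self_mem_dc P _
        have hy : t * (k * b) * t⁻¹ = (t * k * t⁻¹ * a) * (t * c) := by
          rw [e]
          calc t * k * t⁻¹ * (t * b * t⁻¹) = t * k * t⁻¹ * (a * t * c) := by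
                rw [← e']
            _ = _ := by group
        replace hx : t * k * t⁻¹ * a * (t * c) ∈ BN.cell P (BN.wmk P (t * (k * b) * t⁻¹) hN1) := by
          have : ∀ z, t * (k * b) * t⁻¹ = z → z ∈ BN.cell P (BN.wmk P (t * (k * b) * t⁻¹) hN1) :=
            fun z hz => hz ▸ hx
          exact this _ hy
        have hwJ : BN.wmk P (k * b) hsN ∈ BN.wJ P J :=
          Subgroup.subset_closure ⟨⟨k * b, hJS hs⟩, hs, rfl⟩
        have hwe : BN.wmk P (t * (k * b) * t⁻¹) hN1 =
            BN.wmk P t htN * BN.wmk P (k * b) hsN * (BN.wmk P t htN)⁻¹ := rfl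
        have ht2 : (BN.wmk P t htN)⁻¹ = BN.wmk P t htN := BN.σ_inv P ⟨t, htS⟩
        rcases BN.mul_mem_cell' P ⟨t, htS⟩ _ hmd
          (BN.cell_mul_right P hc (BN.self_mem_cell_σ P ⟨t, htS⟩)) with h'' | h''
        · have he := BN.eq_of_mem_cell P hx h''
          rw [hwe, BN.σ, ht2, mul_left_inj] at he
          have h1 : BN.wmk P t htN * BN.wmk P (k * b) hsN ∈ BN.wJ P J := he ▸ hmW
          exact htJ ((BN.σ_mem_wJ_iff P ⟨t, htS⟩).1 (by
            simpa [BN.σ] using mul_mem h1 (inv_mem hwJ)))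
        · have he := BN.eq_of_mem_cell P hx h''
          have h1 : t * (k * b) * t⁻¹ ∈ P.parabolic J := by
            refine BN.mem_of_wmk_eq P (BN.B_le_parabolic P J) he.symm ?_
            exact le_sup_right (a := P.B) hm
          rw [hy] at h1
          have h2 := mul_mem (mul_mem (inv_mem hu) h1) (inv_mem (BN.B_le_parabolic P J hc))
          exact htP (by simpa [mul_assoc] using h2)
    obtain ⟨l, hl, hle⟩ := BN.exists_reduced P (BN.wmk P (t * (k * b) * t⁻¹) hN1)
    have hlM := BN.letters_mem P _ (BN.B_le_parabolic P J) hN1 hmem l hle hl.symm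
    set s' : P.S := ⟨k * b, hJS hs⟩
    set t' : P.S := ⟨t, htS⟩
    have hw : BN.wp P l = BN.σ P t' * BN.σ P s' * BN.σ P t' := by
      rw [hle]
      show BN.wmk P t htN * BN.wmk P (k * b) hsN * (BN.wmk P t htN)⁻¹ = _
      rw [show (BN.wmk P t htN)⁻¹ = BN.wmk P t htN from BN.σ_inv P t']
      rfl
    have hlle : l.length ≤ 3 := by
      rw [hl, ← hle, hw]
      simpa [mul_assoc] using BN.len_wp_le P [t', s', t']
    have hst : s' ≠ t' := fun h => htJ (by
      have h' : k * b = t := congrArg Subtype.val h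
      rw [← h']
      exact hs)
    have hfin : BN.σ P t' * BN.σ P s' * BN.σ P t' = BN.σ P s' := by
      have h3 : BN.len P (BN.σ P t' * BN.σ P s' * BN.σ P t') ≠ 3 := by
        intro h3
        have := BN.letters_mem P _ (BN.B_le_parabolic P J) hN1 hmem [t', s', t']
          (by rw [← hle, hw]; simp [mul_assoc]) (by rw [← hle, hw, h3]; rfl) t' List.mem_cons_self
        exact htP this
      have h0 : BN.len P (BN.σ P t' * BN.σ P s' * BN.σ P t') = BN.len P (BN.wp P l) := by rw [hw]
      rw [show BN.len P (BN.wp P l) = l.length by rw [hle, hl]] at h0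
      -- parity of lengths
      have hts : BN.len P (BN.σ P t' * BN.σ P s') = 2 := by
        have h1 := BN.len_σ_mul_le P t' (BN.σ P s')
        have h2 := BN.len_le_σ_mul P t' (BN.σ P s')
        have h4 := BN.len_σ_mul_ne P t' (BN.σ P s')
        rw [BN.len_σ] at h1 h2 h4
        have h5 : BN.len P (BN.σ P t' * BN.σ P s') ≠ 0 := by
          rw [Ne, BN.len_eq_zero, mul_eq_one_iff_inv_eq, BN.σ_inv]
          exact fun h => hst (BN.σ_inj P h.symm)
        omega
      have h1 := BN.len_σ_mul_le P t' (BN.σ P t' * BN.σ P s')⁻¹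
      have h2 := BN.len_le_σ_mul P t' (BN.σ P t' * BN.σ P s')⁻¹
      have h4 := BN.len_σ_mul_ne P t' (BN.σ P t' * BN.σ P s')⁻¹
      rw [show BN.σ P t' * (BN.σ P t' * BN.σ P s')⁻¹ =
        (BN.σ P t' * BN.σ P s' * BN.σ P t')⁻¹ by rw [mul_inv_rev _ (BN.σ P t'), BN.σ_inv],
        BN.len_inv, BN.len_inv, hts] at h1 h2 h4
      obtain ⟨r, rfl⟩ := List.length_eq_one_iff.1 (show l.length = 1 by omega)
      simp only [BN.wp_cons, BN.wp_nil, mul_one] at hw
      rw [← hw]
      congr 1
      by_contra hrs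
      -- otherwise `r` would be in the subgroup generated by `s` and `t`
      have hrmem : BN.σ P r ∈ BN.wJ P ({(s' : G), (t' : G)} : Set G) := by
        rw [hw]
        exact mul_mem (mul_mem (Subgroup.subset_closure ⟨t', by simp, rfl⟩)
          (Subgroup.subset_closure ⟨s', by simp, rfl⟩)) (Subgroup.subset_closure ⟨t', by simp, rfl⟩)
      rcases (BN.σ_mem_wJ_iff P r).1 hrmem with h' | h'
      · exact hrs (Subtype.ext h')
      · have h1 := hlM r List.mem_cons_self
        rw [show (r : G) = t from h'] at h1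
        exact htP h1
    have := congrArg (fun w => BN.σ P s' * w) hfin
    simp only [BN.σ_mul_self] at this
    have e : BN.wmk P (k * b * t * (k * b)⁻¹ * t⁻¹) (P.N.mul_mem (P.N.mul_mem (P.N.mul_mem hsN htN)
        (P.N.inv_mem hsN)) (P.N.inv_mem htN)) = 1 := by
      show BN.σ P s' * BN.σ P t' * (BN.σ P s')⁻¹ * (BN.σ P t')⁻¹ = 1
      rw [BN.σ_inv, BN.σ_inv, ← this]
      group
    exact (BN.wmk_eq_one_iff P _).1 e
  have htop : P.B ⊔ K = ⊤ := by
    rw [hKB, hJ, eq_top_iff, ← P.sup_eq_top]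
    refine sup_le le_sup_left ?_
    conv_lhs => rw [← P.closure_sup]
    exact sup_le le_sup_right (inf_le_left.trans le_sup_left)
  exact htop

/-- in that case a perfect subgroup lies in every non trivial normal subgroup -/
theorem perfect_le_normal {G : Type*} [Group G] (P : Cfsg.BNPair G) (hirr : P.Irreducible)
    (hsolv : Group.IsSolvable P.B) (hcore : P.B.normalCore = ⊥) (T : Subgroup G) (hT : ⁅T, T⁆ = T)
    (K : Subgroup G) [hK : K.Normal] (hne : K ≠ ⊥) : T ≤ K := by
  have htop := (normal_eq_bot_or_sup_eq_top P hirr hcore K).resolve_left hne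
  let φ : P.B →* G ⧸ K := (QuotientGroup.mk' K).comp P.B.subtype
  have hφ : Function.Surjective φ := by
    intro x
    obtain ⟨g, rfl⟩ := QuotientGroup.mk_surjective x
    have hg : g ∈ (P.B : Set G) * (K : Set G) := by
      rw [← Subgroup.mul_normal, htop]
      trivial
    obtain ⟨b, hb, k, hk, rfl⟩ := Set.mem_mul.1 hg
    exact ⟨⟨b, hb⟩, (QuotientGroup.eq).2 (by simpa using hk)⟩
  haveI := hsolv
  haveI := Group.isSolvable_of_surjective hφ
  have himg : ⁅T.map (QuotientGroup.mk' K), T.map (QuotientGroup.mk' K)⁆ =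
      T.map (QuotientGroup.mk' K) := by rw [← Subgroup.map_commutator, hT]
  by_contra h
  have hne' : T.map (QuotientGroup.mk' K) ≠ ⊥ := fun e => h (by
    intro x hx
    have : QuotientGroup.mk' K x ∈ T.map (QuotientGroup.mk' K) := ⟨x, hx, rfl⟩
    rw [e, Subgroup.mem_bot] at this
    exact (QuotientGroup.eq_one_iff x).1 this)
  haveI : Nontrivial (T.map (QuotientGroup.mk' K)) := (Subgroup.nontrivial_iff_ne_bot _).2 hne'
  have hlt := Group.IsSolvable.commutator_lt_top_of_nontrivial (G := T.map (QuotientGroup.mk' K))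
  refine hlt.ne (Subgroup.map_injective (T.map (QuotientGroup.mk' K)).subtype_injective ?_)
  rw [map_commutator_eq, Subgroup.range_subtype, himg, ← MonoidHom.range_eq_map,
    Subgroup.range_subtype]

end Cfsg.Agent.BN
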