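import Cfsg.Agent.Lib.Lie.TitsData

/-! An orbit of size 12480 closed under two elements. -/

set_option autoImplicit false
set_option maxRecDepth 100000

namespace Cfsg.Agent.Chev.TitsData

/-- the linear map with the given columns, on bit vectors -/
def appN : List Nat → Nat → Nat → Nat
  | [], _, acc => acc
  | c :: cs, v, acc => appN cs (v / 2) (bif Nat.beq (v % 2) 1 then Nat.xor acc c else acc)

/-- search -/
def Tree.mem : Tree → Nat → Bool
  | .leaf, _ => false
  | .node l k r, x => bif Nat.beq x k then true else bif Nat.blt x k then l.mem x else r.mem x

/-- all keys -/
def Tree.all : Tree → (Nat → Bool) → Bool
  | .leaf, _ => true
  | .node l k r, P => P k && l.all P && r.all P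

/-- the closure test -/
def closedAt (k : Nat) : Bool :=
  orbit.mem (appN colZ k 0) && orbit.mem (appN colR k 0) &&
    !Nat.beq k (appN colA 281474976710657 0) && Nat.blt k (2 ^ 52)

theorem Tree.all_node {l r : Tree} {k : Nat} {P : Nat → Bool} (hl : l.all P = true)
    (hk : P k = true) (hr : r.all P = true) : (Tree.node l k r).all P = true := by
  simp only [Tree.all, hl, hk, hr, Bool.and_self]

theorem chunk0OK : chunk0.all closedAt = true := by decide +kernel

theorem chunk1OK : chunk1.all closedAt = true := by decide +kernel

theorem chunk2OK : chunk2.all closedAt = true := by decide +kernel

theorem chunk3OK : chunk3.all closedAt = true := by decide +kernel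

theorem chunk4OK : chunk4.all closedAt = true := by decide +kernel

theorem chunk5OK : chunk5.all closedAt = true := by decide +kernel

theorem chunk6OK : chunk6.all closedAt = true := by decide +kernel

theorem chunk7OK : chunk7.all closedAt = true := by decide +kernel

theorem chunk8OK : chunk8.all closedAt = true := by decide +kernel

theorem chunk9OK : chunk9.all closedAt = true := by decide +kernel

theorem chunk10OK : chunk10.all closedAt = true := by decide +kernel

theorem chunk11OK : chunk11.all closedAt = true := by decide +kernel

theorem chunk12OK : chunk12.all closedAt = true := by decide +kernel

theorem chunk13OK : chunk13.all closedAt = true := by decide +kernel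

theorem chunk14OK : chunk14.all closedAt = true := by decide +kernel

theorem chunk15OK : chunk15.all closedAt = true := by decide +kernel

theorem chunk16OK : chunk16.all closedAt = true := by decide +kernel

theorem chunk17OK : chunk17.all closedAt = true := by decide +kernel

theorem chunk18OK : chunk18.all closedAt = true := by decide +kernel

theorem chunk19OK : chunk19.all closedAt = true := by decide +kernel

theorem chunk20OK : chunk20.all closedAt = true := by decide +kernel

theorem chunk21OK : chunk21.all closedAt = true := by decide +kernel

theorem chunk22OK : chunk22.all closedAt = true := by decide +kernel

theorem chunk23OK : chunk23.all closedAt = true := by decide +kernel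

theorem chunk24OK : chunk24.all closedAt = true := by decide +kernel

theorem chunk25OK : chunk25.all closedAt = true := by decide +kernel

theorem chunk26OK : chunk26.all closedAt = true := by decide +kernel

theorem chunk27OK : chunk27.all closedAt = true := by decide +kernel

theorem chunk28OK : chunk28.all closedAt = true := by decide +kernel

theorem chunk29OK : chunk29.all closedAt = true := by decide +kernel

theorem chunk30OK : chunk30.all closedAt = true := by decide +kernel

theorem chunk31OK : chunk31.all closedAt = true := by decide +kernel

theorem chunk32OK : chunk32.all closedAt = true := by decide +kernel

theorem chunk33OK : chunk33.all closedAt = true := by decide +kernel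

theorem chunk34OK : chunk34.all closedAt = true := by decide +kernel

theorem chunk35OK : chunk35.all closedAt = true := by decide +kernel

theorem chunk36OK : chunk36.all closedAt = true := by decide +kernel

theorem chunk37OK : chunk37.all closedAt = true := by decide +kernel

theorem chunk38OK : chunk38.all closedAt = true := by decide +kernel

theorem chunk39OK : chunk39.all closedAt = true := by decide +kernel

theorem chunk40OK : chunk40.all closedAt = true := by decide +kernel

theorem chunk41OK : chunk41.all closedAt = true := by decide +kernel

theorem chunk42OK : chunk42.all closedAt = true := by decide +kernel

theorem chunk43OK : chunk43.all closedAt = true := by decide +kernel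

theorem chunk44OK : chunk44.all closedAt = true := by decide +kernel

theorem chunk45OK : chunk45.all closedAt = true := by decide +kernel

theorem chunk46OK : chunk46.all closedAt = true := by decide +kernel

theorem chunk47OK : chunk47.all closedAt = true := by decide +kernel

theorem chunk48OK : chunk48.all closedAt = true := by decide +kernel

theorem chunk49OK : chunk49.all closedAt = true := by decide +kernel

theorem chunk50OK : chunk50.all closedAt = true := by decide +kernel

theorem chunk51OK : chunk51.all closedAt = true := by decide +kernel

theorem chunk52OK : chunk52.all closedAt = true := by decide +kernel

theorem chunk53OK : chunk53.all closedAt = true := by decide +kernel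

theorem chunk54OK : chunk54.all closedAt = true := by decide +kernel

theorem chunk55OK : chunk55.all closedAt = true := by decide +kernel

theorem chunk56OK : chunk56.all closedAt = true := by decide +kernel

theorem chunk57OK : chunk57.all closedAt = true := by decide +kernel

theorem chunk58OK : chunk58.all closedAt = true := by decide +kernel

theorem chunk59OK : chunk59.all closedAt = true := by decide +kernel

theorem chunk60OK : chunk60.all closedAt = true := by decide +kernel

theorem chunk61OK : chunk61.all closedAt = true := by decide +kernel

theorem chunk62OK : chunk62.all closedAt = true := by decide +kernel

theorem chunk63OK : chunk63.all closedAt = true := by decide +kernel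

theorem closedOK : orbit.all closedAt = true :=
  (Tree.all_node (Tree.all_node (Tree.all_node (Tree.all_node (Tree.all_node (Tree.all_node chunk0OK (show closedAt 4294977665 = true by decide +kernel) chunk1OK) (show closedAt 10737647617 = true by decide +kernel) (Tree.all_node chunk2OK (show closedAt 274882144258 = true by decide +kernel) chunk3OK)) (show closedAt 687207497857 = true by decide +kernel) (Tree.all_node (Tree.all_node chunk4OK (show closedAt 1099520170114 = true by decide +kernel) chunk5OK) (show closedAt 1511845286017 = true by decide +kernel) (Tree.all_node chunk6OK (show closedAt 1924166506498 = true by decide +kernel) chunk7OK))) (show closedAt 2476057362435 = true by decide +kernel) (Tree.all_node (Tree.all_node (Tree.all_node chunk8OK (show closedAt 4400202438786 = true by decide +kernel) chunk9OK) (show closedAt 5783202895875 = true by decide +kernel) (Tree.all_node chunk10OK (show closedAt 8396661479555 = true by decide +kernel) chunk11OK)) (show closedAt 9491890376704 = true by decide +kernel) (Tree.all_node (Tree.all_node chunk12OK (show closedAt 11143301535746 = true by decide +kernel) chunk13OK) (show closedAt 13056721918082 = true by decide +kernel) (Tree.all_node chunk14OK (show closedAt 14439705413763 = true by decide +kernel) chunk15OK)))) (show closedAt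 16361677940867 = true by decide +kernel) (Tree.all_node (Tree.all_node (Tree.all_node (Tree.all_node chunk16OK (show closedAt 17605071175681 = true by decide +kernel) chunk17OK) (show closedAt 18429734377602 = true by decide +kernel) (Tree.all_node chunk18OK (show closedAt 19806241894403 = true by decide +kernel) chunk19OK)) (show closedAt 20630904981504 = true by decide +kernel) (Tree.all_node (Tree.all_node chunk20OK (show closedAt 22280155846787 = true by decide +kernel) chunk21OK) (show closedAt 23776939352066 = true by decide +kernel) (Tree.all_node chunk22OK (show closedAt 24885070051456 = true by decide +kernel) chunk23OK))) (show closedAt 25840670736385 = true by decide +kernel) (Tree.all_node (Tree.all_node (Tree.all_node chunk24OK (show closedAt 26948776988800 = true by decide +kernel) chunk25OK) (show closedAt 28039723692160 = true by decide +kernel) (Tree.all_node chunk26OK (show closedAt 29141353322626 = true by decide +kernel) chunk27OK)) (show closedAt 30378320592898 = true by decide +kernel) (Tree.all_node (Tree.all_node chunk28OK (show closedAt 31486422521859 = true by decide +kernel) chunk29OK) (show closedAt 32579478956033 = true by decide +kernel) (Tree.all_node chunk30OK (show closedAt 33687597189251 = true by decide +kernel) chunk31OK))))) (show closedAt 34643218810880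 = true by decide +kernel) (Tree.all_node (Tree.all_node (Tree.all_node (Tree.all_node (Tree.all_node chunk32OK (show closedAt 282024753496065 = true by decide +kernel) chunk33OK) (show closedAt 283126416902273 = true by decide +kernel) (Tree.all_node chunk34OK (show closedAt 284230202466307 = true by decide +kernel) chunk35OK)) (show closedAt 285331857735682 = true by decide +kernel) (Tree.all_node (Tree.all_node chunk36OK (show closedAt 286431390093442 = true by decide +kernel) chunk37OK) (show closedAt 287533036660864 = true by decide +kernel) (Tree.all_node chunk38OK (show closedAt 288636847425538 = true by decide +kernel) chunk39OK))) (show closedAt 289860900483075 = true by decide +kernel) (Tree.all_node (Tree.all_node (Tree.all_node chunk40OK (show closedAt 290958293878787 = true by decide +kernel) chunk41OK) (show closedAt 292062088019971 = true by decide +kernel) (Tree.all_node chunk42OK (show closedAt 293163734708227 = true by decide +kernel) chunk43OK)) (show closedAt 294265398030464 = true by decide +kernel) (Tree.all_node (Tree.all_node chunk44OK (show closedAt 295367078242306 = true by decide +kernel) chunk45OK) (show closedAt 296468732995714 = true by decide +kernel) (Tree.all_node chunk46OK (show closedAt 297570379667458 = true by decide +kernel) chunk47OK)))) (show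 closedAt 298792285106304 = true by decide +kernel) (Tree.all_node (Tree.all_node (Tree.all_node (Tree.all_node chunk48OK (show closedAt 299891817613313 = true by decide +kernel) chunk49OK) (show closedAt 300993464301571 = true by decide +kernel) (Tree.all_node chunk50OK (show closedAt 302095119167491 = true by decide +kernel) chunk51OK)) (show closedAt 303198930081794 = true by decide +kernel) (Tree.all_node (Tree.all_node chunk52OK (show closedAt 304300610117760 = true by decide +kernel) chunk53OK) (show closedAt 305400109185024 = true by decide +kernel) (Tree.all_node chunk54OK (show closedAt 306501763860482 = true by decide +kernel) chunk55OK))) (show closedAt 307725817215104 = true by decide +kernel) (Tree.all_node (Tree.all_node (Tree.all_node chunk56OK (show closedAt 308825357936641 = true by decide +kernel) chunk57OK) (show closedAt 309929160468609 = true by decide +kernel) (Tree.all_node chunk58OK (show closedAt 311030807216257 = true by decide +kernel) chunk59OK)) (show closedAt 312132462057474 = true by decide +kernel) (Tree.all_node (Tree.all_node chunk60OK (show closedAt 313234141960320 = true by decide +kernel) chunk61OK) (show closedAt 314333649348608 = true by decide +kernel) (Tree.all_node chunk62OK (show closedAt 315437434828800 = true by decide +kernel) chunk63OK))))))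

theorem baseOK : orbit.mem 281474976710657 = true := by decide +kernel

end Cfsg.Agent.Chev.TitsData
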