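import Cfsg.Agent.Lib.Lie.TwF4
import Cfsg.Agent.Lib.Lie.TitsCheck
import Cfsg.Agent.Lib.Lie.BNNormal

/-! The Tits group `²F₄(2)'`. -/

set_option autoImplicit false
set_option maxRecDepth 20000

namespace Cfsg.Agent.Chev.Tits

open Cfsg.Lie
open Tab
open TwF4 (g0 gA gW)
open scoped commutatorElement Matrix

/-- the field -/
abbrev K2 := ZMod 2

/-- the group -/
noncomputable abbrev TW : Subgroup (GL F4Data.tab.D.Idx K2) := TwF4.tw K2 (2 ^ 0)

theorem cardK : Fintype.card K2 = 2 ^ (2 * 0 + 1) := rfl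

/-- a bit vector as a vector -/
noncomputable def vecN (v : ℕ) : F4Data.tab.D.Idx → K2 := fun i =>
  if v.testBit (F4Data.tab.code i) then 1 else 0

theorem vecN_xor (a b : ℕ) : vecN (Nat.xor a b) = vecN a + vecN b := by
  funext i
  simp only [vecN, Pi.add_apply]
  have : (Nat.xor a b).testBit (F4Data.tab.code i) =
      ((a.testBit (F4Data.tab.code i)) ^^ (b.testBit (F4Data.tab.code i))) := Nat.testBit_xor a b _
  rw [this]
  cases a.testBit (F4Data.tab.code i) <;> cases b.testBit (F4Data.tab.code i) <;> decide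

theorem vecN_zero : vecN 0 = 0 := by funext i; simp [vecN]

theorem vecN_two_pow (j : ℕ) : vecN (2 ^ j) = bas F4Data.tab K2 j := by
  funext i
  simp [vecN, bas, Nat.testBit_two_pow, eq_comm]

theorem vecN_high {v k : ℕ} (h : 52 ≤ k) : vecN (v * 2 ^ k) = 0 := by
  funext i
  have hlt : F4Data.tab.code i < 52 := code_lt g0 i
  rw [vecN, Pi.zero_apply, if_neg]
  rw [mul_comm, Nat.testBit_two_pow_mul]
  simp [show ¬ k ≤ F4Data.tab.code i by omega]

theorem vecN_inj {a b : ℕ} (ha : a < 2 ^ 52) (hb : b < 2 ^ 52) (h : vecN a = vecN b) : a = b := by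
  refine Nat.eq_of_testBit_eq fun j => ?_
  by_cases hj : j < 52
  · obtain ⟨i, hi⟩ := exists_code (T := F4Data.tab) g0 (show j < F4Data.tab.l + F4Data.tab.n from hj)
    have := congrFun h i
    simp only [vecN, hi] at this
    cases ha' : a.testBit j <;> cases hb' : b.testBit j <;> simp [ha', hb'] at this ⊢
  · rw [Nat.testBit_lt_two_pow (lt_of_lt_of_le ha (Nat.pow_le_pow_right two_pos (not_lt.1 hj))),
      Nat.testBit_lt_two_pow (lt_of_lt_of_le hb (Nat.pow_le_pow_right two_pos (not_lt.1 hj)))]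

/-- the element acts on bit vectors by `f` -/
def Act (g : GL F4Data.tab.D.Idx K2) (f : ℕ → ℕ) : Prop :=
  ∀ v, (g : Matrix F4Data.tab.D.Idx F4Data.tab.D.Idx K2) *ᵥ vecN v = vecN (f v)

theorem act_one : Act 1 id := fun v => by simp

theorem act_mul {g h : GL F4Data.tab.D.Idx K2} {f f' : ℕ → ℕ} (hg : Act g f) (hh : Act h f') :
    Act (g * h) (f ∘ f') := fun v => by
  rw [Units.val_mul, ← Matrix.mulVec_mulVec, hh, hg]; rfl

theorem act_ext {g h : GL F4Data.tab.D.Idx K2} {f f' : ℕ → ℕ} (hg : Act g f) (hh : Act h f')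
    (e : ∀ j < 52, f (2 ^ j) = f' (2 ^ j)) : g = h := by
  refine Units.ext (ext_col g0 fun j hj => ?_)
  rw [← vecN_two_pow, hg, hh, e j hj]

theorem appN_spec {g : GL F4Data.tab.D.Idx K2} :
    ∀ (cs : List ℕ) (k : ℕ), k + cs.length = 52 →
      (∀ i < cs.length, (g : Matrix F4Data.tab.D.Idx F4Data.tab.D.Idx K2) *ᵥ bas F4Data.tab K2 (k + i) =
        vecN (cs.getD i 0)) →
      ∀ v acc, vecN (TitsData.appN cs v acc) =
        (g : Matrix F4Data.tab.D.Idx F4Data.tab.D.Idx K2) *ᵥ vecN (v * 2 ^ k) + vecN acc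
  | [], k, hk, _, v, acc => by
    rw [TitsData.appN, vecN_high (by simp at hk; omega), Matrix.mulVec_zero, zero_add]
  | c :: cs, k, hk, hc, v, acc => by
    have ih := appN_spec (g := g) cs (k + 1) (by simp at hk; omega) (fun i hi => by
      have := hc (i + 1) (by simp; omega)
      rwa [List.getD_cons_succ, ← add_assoc, add_right_comm] at this)
    have h0 : (g : Matrix F4Data.tab.D.Idx F4Data.tab.D.Idx K2) *ᵥ bas F4Data.tab K2 k = vecN c := by
      simpa using hc 0 (by simp)
    rw [TitsData.appN, ih]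
    have hsplit : vecN (v * 2 ^ k) =
        vecN ((v / 2) * 2 ^ (k + 1)) + (if v % 2 = 1 then bas F4Data.tab K2 k else 0) := by
      funext i
      simp only [vecN, Pi.add_apply]
      rw [mul_comm v, mul_comm (v / 2), Nat.testBit_two_pow_mul, Nat.testBit_two_pow_mul]
      rcases lt_trichotomy (F4Data.tab.code i) k with h | h | h
      · by_cases hv : v % 2 = 1 <;>
          simp [hv, bas, show ¬ k ≤ F4Data.tab.code i by omega,
            show ¬ k + 1 ≤ F4Data.tab.code i by omega, h.ne]
      · subst h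
        by_cases hv : v % 2 = 1 <;> simp [hv, bas, Nat.testBit_zero]
      · obtain ⟨d, hd⟩ : ∃ d, F4Data.tab.code i = k + 1 + d := ⟨_, (Nat.add_sub_cancel' h).symm⟩
        by_cases hv : v % 2 = 1 <;>
          simp [hv, bas, hd, show k + 1 + d - k = d + 1 by omega, Nat.testBit_succ,
            show k ≤ k + 1 + d by omega, show k + 1 + d ≠ k by omega]
    rw [hsplit, Matrix.mulVec_add]
    by_cases hv : v % 2 = 1
    · rw [show Nat.beq (v % 2) 1 = true from nat_beq.2 hv, cond_true, vecN_xor, if_pos hv, h0]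
      abel
    · rw [show Nat.beq (v % 2) 1 = false from nat_beq_false.2 hv, cond_false, if_neg hv,
        Matrix.mulVec_zero, add_zero]

theorem act_cols {g : GL F4Data.tab.D.Idx K2} {C : List ℕ} (hl : C.length = 52)
    (hC : ∀ j < 52, (g : Matrix F4Data.tab.D.Idx F4Data.tab.D.Idx K2) *ᵥ bas F4Data.tab K2 j =
      vecN (C.getD j 0)) : Act g (fun v => TitsData.appN C v 0) := fun v => by
  have h := appN_spec (g := g) C 0 (by rw [hl]) (fun i hi => by rw [zero_add]; exact hC i (hl ▸ hi)) v 0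
  rw [h, pow_zero, mul_one, vecN_zero, add_zero]

/-- a bit vector as a sparse vector -/
def bitVec (c : ℕ) : SVec :=
  (List.range 52).filterMap fun i => if c.testBit i then some (i, (1, 0, 0)) else none

/-- the columns of a constant word -/
def checkCols (w : List (ℕ × ℤ)) (C : List ℕ) : Bool :=
  w.all (fun e => Nat.blt e.1 F4Data.tab.n) && Nat.beq C.length 52 &&
  allBelow (fun j =>
    (collect (F4Data.tab.wapply (w.map fun e => (e.1, [(e.2, 0, 0)])) [(j, (1, 0, 0))] ++
      vneg (bitVec (C.getD j 0)))).all fun x => x.2.1 % ((2 : ℕ) : ℤ) == 0) 52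

theorem sem_bitVec (c : ℕ) : sem F4Data.tab (1 : K2ˣ) 1 (bitVec c) = vecN c := by
  funext a
  have key : ∀ n, (sem F4Data.tab (1 : K2ˣ) 1
      ((List.range n).filterMap fun i => if c.testBit i then some (i, ((1 : ℤ), (0 : ℤ), (0 : ℤ))) else none)) a =
      if F4Data.tab.code a < n ∧ c.testBit (F4Data.tab.code a) then 1 else 0 := by
    intro n
    induction n with
    | zero => simp
    | succ n ih =>
      rw [List.range_succ, List.filterMap_append, sem_append, Pi.add_apply, ih]
      by_cases hn : c.testBit n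
      · simp only [List.filterMap_cons, hn, if_true, List.filterMap_nil, sem_one, bas]
        rcases lt_trichotomy (F4Data.tab.code a) n with h | h | h
        · simp [h, h.ne, Nat.lt_succ_of_lt h]
        · simp [h, hn]
        · simp [h.ne', show ¬ F4Data.tab.code a < n by omega, show ¬ F4Data.tab.code a < n + 1 by omega]
      · simp only [List.filterMap_cons, hn, List.filterMap_nil, sem_nil, Pi.zero_apply, add_zero]
        rcases lt_trichotomy (F4Data.tab.code a) n with h | h | h
        · simp [h, Nat.lt_succ_of_lt h, sem_nil]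
        · simp [h, hn, sem_nil]
        · simp [show ¬ F4Data.tab.code a < n by omega, show ¬ F4Data.tab.code a < n + 1 by omega,
            sem_nil]
  rw [bitVec, key 52]
  have hlt : F4Data.tab.code a < 52 := code_lt g0 a
  simp [vecN, hlt]

theorem act_word {w : List (ℕ × ℤ)} {C : List ℕ} (h : checkCols w C = true) :
    Act (cWordVal g0 K2 w) (fun v => TitsData.appN C v 0) := by
  simp only [checkCols, Bool.and_eq_true, List.all_eq_true, nat_blt, nat_beq, allBelow_eq_true,
    beq_iff_eq] at h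
  obtain ⟨⟨hw, hl⟩, hcols⟩ := h
  refine act_cols hl fun j hj => ?_
  have e : cWordVal g0 K2 w = ((w.map fun e => (e.1, (e.2 : K2))).map
      fun e => xg g0 e.1 e.2).prod := by simp [cWordVal, List.map_map, Function.comp_def]
  rw [e, word_val]
  have h1 : F4Data.tab.D.wordMat K2 (w.map fun e => (e.1, (e.2 : K2))) *ᵥ bas F4Data.tab K2 j =
      sem F4Data.tab (1 : K2ˣ) 1
        (F4Data.tab.wapply (w.map fun e => (e.1, [(e.2, 0, 0)])) [(j, (1, 0, 0))]) := by
    rw [sem_wapply 1 1 g0 _ _ (by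
      intro x hx; obtain ⟨a, ha, rfl⟩ := List.mem_map.1 hx; exact hw a ha), sem_one, List.map_map]
    congr 3
    funext a
    simp [pval, monVal_const]
  rw [h1, ← sem_bitVec, ← sub_eq_zero, sub_eq_add_neg, ← sem_vneg, ← sem_append, ← sem_collect]
  refine List.sum_eq_zero fun x hx => ?_
  obtain ⟨q, hq, rfl⟩ := List.mem_map.1 hx
  have hz : (q.2.1 : K2) = 0 := by rw [← cast_emod 2 q.2.1, hcols j hj q hq, Int.cast_zero]
  simp [monVal, hz]

/-! ### the generators -/

/-- the words of the five generators `p, z, n₀, n₁, a` -/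
def gWord : Fin 5 → List (ℕ × ℤ)
  | 0 => [(33, 1), (24, 1)]
  | 1 => [(28, 1), (30, 1)]
  | 2 => [(33, 1), (24, 1), (14, 1), (23, 1), (33, 1), (24, 1)]
  | 3 => TwF4.nWord1
  | 4 => [(27, 1), (25, 1), (28, 1)]

/-- their columns -/
def gCol : Fin 5 → List ℕ
  | 0 => TitsData.colP
  | 1 => TitsData.colZ
  | 2 => TitsData.colN0
  | 3 => TitsData.colN1
  | 4 => TitsData.colA

theorem gColOK : ∀ i, checkCols (gWord i) (gCol i) = true := by decide +kernel

theorem gWord_mem' {F : Type*} [Field F] [CharP F 2] (m : ℕ) :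
    ∀ i, cWordVal g0 F (gWord i) ∈ TwF4.tw F (2 ^ m) := by
  have hP : xg g0 33 (1 : F) * xg g0 24 1 ∈ TwF4.tw F (2 ^ m) := by
    simpa [f4PairWord, f4p1, f4p4] using
      word_mem g0 (W := f4Words F (2 ^ m)) (Or.inl ⟨(1 : F), Or.inl rfl⟩)
  have hN : xg g0 14 (1 : F) * xg g0 23 1 ∈ TwF4.tw F (2 ^ m) := by
    simpa [f4PairWord, f4m1, f4m4] using
      word_mem g0 (W := f4Words F (2 ^ m)) (Or.inl ⟨(1 : F), Or.inr rfl⟩)
  have hU : xg g0 28 (1 : F) * xg g0 30 1 ∈ TwF4.tw F (2 ^ m) := by
    simpa [b2ClassWord, f4a, f4b, f4ab, f4aab] using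
      word_mem g0 (W := f4Words F (2 ^ m)) (Or.inr ⟨(0 : F), 1, Or.inl rfl⟩)
  have hV : xg g0 19 (1 : F) * xg g0 17 1 ∈ TwF4.tw F (2 ^ m) := by
    simpa [b2ClassWord, f4ma, f4mb, f4mab, f4maab] using
      word_mem g0 (W := f4Words F (2 ^ m)) (Or.inr ⟨(0 : F), 1, Or.inr rfl⟩)
  have hA : xg g0 27 (1 : F) * (xg g0 25 1 * xg g0 28 1) ∈ TwF4.tw F (2 ^ m) := by
    simpa [b2ClassWord, f4a, f4b, f4ab, f4aab] using
      word_mem g0 (W := f4Words F (2 ^ m)) (Or.inr ⟨(1 : F), 0, Or.inl rfl⟩)
  intro i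
  fin_cases i
  · simpa [gWord, cWordVal] using hP
  · simpa [gWord, cWordVal] using hU
  · simpa [gWord, cWordVal, mul_assoc] using mul_mem (mul_mem hP hN) hP
  · simpa [gWord, TwF4.nWord1, cWordVal, mul_assoc] using
      mul_mem (mul_mem (mul_mem (mul_mem hU hV) hU) hV) hU
  · simpa [gWord, cWordVal] using hA

theorem gWord_mem : ∀ i, cWordVal g0 K2 (gWord i) ∈ TW := gWord_mem' 0

/-- the generators -/
noncomputable def gen (i : Fin 5) : ↥TW := ⟨cWordVal g0 K2 (gWord i), gWord_mem i⟩

/-- the value of a word in the generators -/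
noncomputable def valW (w : List (Fin 5)) : ↥TW := (w.map gen).prod

/-- its action on bit vectors -/
def fW (w : List (Fin 5)) (v : ℕ) : ℕ := w.foldr (fun i x => TitsData.appN (gCol i) x 0) v

theorem act_valW : ∀ w : List (Fin 5), Act (valW w : GL F4Data.tab.D.Idx K2) (fW w)
  | [] => act_one
  | i :: w => by
    have := act_mul (act_word (gColOK i)) (act_valW w)
    rwa [valW, List.map_cons, List.prod_cons, Subgroup.coe_mul]

/-- two words have the same columns -/
def sameW (w w' : List (Fin 5)) : Bool :=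
  allBelow (fun j => Nat.beq (fW w (2 ^ j)) (fW w' (2 ^ j))) 52

theorem valW_eq {w w' : List (Fin 5)} (h : sameW w w' = true) : valW w = valW w' :=
  Subtype.ext (act_ext (act_valW w) (act_valW w') fun j hj => nat_beq.1 (allBelow_eq_true.1 h j hj))

theorem valW_append (w w' : List (Fin 5)) : valW (w ++ w') = valW w * valW w' := by simp [valW]

theorem valW_single (i : Fin 5) : valW [i] = gen i := by simp [valW]

/-! ### generation -/

theorem negPair_word :
    F4Data.tab.checkWordP 2 [(14, 1), (23, 1)] (gWord 2 ++ gWord 0 ++ gWord 2) = true := by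
  decide +kernel

theorem az_word :
    F4Data.tab.checkWordP 2 [(27, 1), (25, 1), (30, 1)] (gWord 4 ++ gWord 1) = true := by
  decide +kernel

theorem words_le {F : Type*} [Field F] [CharP F 2] [Fintype F] (m : ℕ) (two : ∀ t : F, t = 0 ∨ t = 1)
    {L : Subgroup (GL F4Data.tab.D.Idx F)} (hg : ∀ i, cWordVal g0 F (gWord i) ∈ L) :
    TwF4.tw F (2 ^ m) ≤ L := by
  have hn1 : nWd g0 F (TwF4.wd 1) ∈ L := by
    rw [nWd_word g0, ← word_eq_modP g0 2 TwF4.nWord1OK]
    exact hg 3
  have hU : ∀ t u : F,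
      ((b2ClassWord (2 ^ m) f4a f4b f4ab f4aab t u).map fun e => xg g0 e.1 e.2).prod ∈ L := by
    intro t u
    rcases two t with rfl | rfl <;> rcases two u with rfl | rfl
    · simp [b2ClassWord, one_mem]
    · have := hg 1
      simpa [gWord, cWordVal, b2ClassWord, f4a, f4b, f4ab, f4aab] using this
    · have := hg 4
      simpa [gWord, cWordVal, b2ClassWord, f4a, f4b, f4ab, f4aab] using this
    · have h := mul_mem (hg 4) (hg 1)
      rw [← cWordVal_append, ← word_eq_modP g0 2 az_word] at h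
      simpa [cWordVal, b2ClassWord, f4a, f4b, f4ab, f4aab, CharTwo.add_self_eq_zero] using h
  intro x hx
  rw [TwF4.tw, genSubgroup_eq g0] at hx
  refine (Subgroup.closure_le _).2 ?_ hx
  rintro y ⟨w, (⟨t, rfl | rfl⟩ | ⟨t, u, rfl | rfl⟩), rfl⟩
  · rcases two t with rfl | rfl
    · simp [f4PairWord, one_mem]
    · simpa [gWord, cWordVal, f4PairWord, f4p1, f4p4] using hg 0
  · rcases two t with rfl | rfl
    · simp [f4PairWord, one_mem]
    · have h := mul_mem (mul_mem (hg 2) (hg 0)) (hg 2)
      rw [← cWordVal_append, ← cWordVal_append, ← word_eq_modP g0 2 negPair_word] at h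
      simpa [cWordVal, f4PairWord, f4m1, f4m4] using h
  · exact hU t u
  · rw [SetLike.mem_coe, TwF4.bV_word]
    exact mul_mem (mul_mem hn1 (hU t u)) (inv_mem hn1)

theorem two_vals : ∀ t : K2, t = 0 ∨ t = 1 := by decide

theorem closure_gen : Subgroup.closure (Set.range gen) = ⊤ := by
  have hle := words_le 0 two_vals (L := (Subgroup.closure (Set.range gen)).map TW.subtype)
    (fun i => Subgroup.mem_map.2 ⟨gen i, Subgroup.subset_closure ⟨i, rfl⟩, rfl⟩)
  rw [eq_top_iff]
  rintro ⟨x, hx⟩ -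
  obtain ⟨y, hy, e⟩ := Subgroup.mem_map.1 (hle hx)
  exact (Subtype.ext e : y = ⟨x, hx⟩) ▸ hy

/-! ### the group theory -/

section Abstract

variable {G : Type*} [Group G]

/-- the value of a word -/
def val (g : Fin 5 → G) (w : List (Fin 5)) : G := (w.map g).prod

theorem val_append (g : Fin 5 → G) (w w' : List (Fin 5)) : val g (w ++ w') = val g w * val g w' := by
  simp [val]

theorem val_single (g : Fin 5 → G) (i : Fin 5) : val g [i] = g i := by simp [val]

/-- five generators with the relations of the tables -/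
structure Rels (g : Fin 5 → G) : Prop where
  gen : Subgroup.closure (Set.range g) = ⊤
  rel : ∀ w w', sameW w w' = true → val g w = val g w'

namespace Rels

variable {g : Fin 5 → G} (R : Rels g)

variable (g) in
/-- the subgroup generated by `p, z, n₀, n₁` -/
def KT : Subgroup G := Subgroup.closure {g 0, g 1, g 2, g 3}

theorem gen_mem {i : Fin 5} (hi : i ≠ 4) : g i ∈ KT g := by
  refine Subgroup.subset_closure ?_
  fin_cases i <;> simp at hi ⊢

theorem val_mem {w : List (Fin 5)} (hw : (4 : Fin 5) ∉ w) : val g w ∈ KT g :=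
  Subgroup.list_prod_mem _ fun x hx => by
    obtain ⟨i, hi, rfl⟩ := List.mem_map.1 hx
    exact gen_mem fun e => hw (e ▸ hi)

include R in
theorem a_sq : g 4 * g 4 = g 1 := by
  rw [← val_single g 1, ← R.rel [4, 4] [1] (by decide +kernel)]
  simp [val]

include R in
theorem KT_conj : ∀ x ∈ KT g, g 4 * x * (g 4)⁻¹ ∈ KT g := by
  have key : ∀ (i : Fin 5) (w : List (Fin 5)), (4 : Fin 5) ∉ w → sameW [4, i] (w ++ [4]) = true →
      g 4 * g i * (g 4)⁻¹ ∈ KT g := by
    intro i w hw h
    have e := R.rel _ _ h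
    rw [val_append, val_single] at e
    simp only [val, List.map_cons, List.map_nil, List.prod_cons, List.prod_nil, mul_one] at e
    rw [e, mul_inv_cancel_right]
    exact val_mem hw
  have hle : KT g ≤ (KT g).comap (MulAut.conj (g 4)).toMonoidHom := by
    refine (Subgroup.closure_le _).2 ?_
    rintro x (rfl | rfl | rfl | rfl)
    · exact key 0 [1, 3, 1, 0, 1, 3, 1] (by decide) (by decide +kernel)
    · exact key 1 [1] (by decide) (by decide +kernel)
    · exact key 2 [0, 2, 0, 1, 3, 1, 0, 1, 3, 1, 0, 2, 0] (by decide) (by decide +kernel)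
    · exact key 3 [1, 3, 1, 3, 1] (by decide) (by decide +kernel)
  exact fun x hx => hle hx

include R in
theorem KT_normal : (KT g).Normal := by
  rw [← Subgroup.normalizer_eq_top_iff, eq_top_iff, ← R.gen, Subgroup.closure_le]
  rintro _ ⟨i, rfl⟩
  by_cases hi : i = 4
  · subst hi
    have hsq : g 4 * g 4 ∈ KT g := by rw [R.a_sq]; exact gen_mem (by decide)
    refine Subgroup.mem_normalizer_iff.2 fun x => ⟨R.KT_conj x, fun h => ?_⟩
    have h2 := R.KT_conj _ h
    have e : x = (g 4 * g 4)⁻¹ * (g 4 * (g 4 * x * (g 4)⁻¹) * (g 4)⁻¹) * (g 4 * g 4) := by group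
    rw [e]
    exact mul_mem (mul_mem (inv_mem hsq) h2) hsq
  · exact Subgroup.le_normalizer (gen_mem hi)

include R in
theorem commutator_le : commutator G ≤ KT g := by
  haveI := R.KT_normal
  rw [← QuotientGroup.ker_mk' (KT g)]
  have hcyc : ∀ y : G ⧸ KT g, y ∈ Subgroup.zpowers (QuotientGroup.mk' (KT g) (g 4)) := by
    intro y
    obtain ⟨x, rfl⟩ := QuotientGroup.mk'_surjective (KT g) y
    have h : Subgroup.closure (Set.range g) ≤
        (Subgroup.zpowers (QuotientGroup.mk' (KT g) (g 4))).comap (QuotientGroup.mk' (KT g)) := by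
      refine (Subgroup.closure_le _).2 ?_
      rintro _ ⟨i, rfl⟩
      by_cases hi : i = 4
      · subst hi; exact Subgroup.mem_zpowers _
      · show QuotientGroup.mk' (KT g) (g i) ∈ Subgroup.zpowers _
        rw [show QuotientGroup.mk' (KT g) (g i) = 1 from
          (QuotientGroup.eq_one_iff _).2 (gen_mem hi)]
        exact one_mem _
    exact h (by rw [R.gen]; trivial)
  rw [_root_.commutator_def, Subgroup.commutator_le]
  intro a _ b _
  rw [MonoidHom.mem_ker, map_commutatorElement, commutatorElement_eq_one_iff_mul_comm]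
  obtain ⟨i, hi⟩ := Subgroup.mem_zpowers_iff.1 (hcyc (QuotientGroup.mk' (KT g) a))
  obtain ⟨j, hj⟩ := Subgroup.mem_zpowers_iff.1 (hcyc (QuotientGroup.mk' (KT g) b))
  rw [← hi, ← hj, ← zpow_add, ← zpow_add, add_comm]

include R in
theorem inv_word {u u' : List (Fin 5)} (h : sameW (u ++ u') [] = true) :
    (val g u)⁻¹ = val g u' := by
  refine inv_eq_of_mul_eq_one_right ?_
  rw [← val_append, R.rel _ _ h]
  rfl

include R in
theorem comm_word {u u' v v' : List (Fin 5)} (hu : sameW (u ++ u') [] = true)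
    (hv : sameW (v ++ v') [] = true) : ⁅val g u, val g v⁆ = val g (u ++ v ++ u' ++ v') := by
  rw [commutatorElement_def, R.inv_word hu, R.inv_word hv, val_append, val_append, val_append]

include R in
theorem conj_word {N : Subgroup G} [N.Normal] {c c' t : List (Fin 5)} {i : Fin 5}
    (hc : sameW (c ++ c') [] = true) (h : sameW (c ++ t ++ c') [i] = true) (ht : val g t ∈ N) :
    g i ∈ N := by
  rw [← val_single g i, ← R.rel _ _ h, val_append, val_append, ← R.inv_word hc]
  exact (inferInstance : N.Normal).conj_mem _ ht _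

include R in
theorem KT_le {N : Subgroup G} [N.Normal] (hc : ∀ x ∈ KT g, ∀ y ∈ KT g, ⁅x, y⁆ ∈ N) :
    KT g ≤ N := by
  have hcw : ∀ u u' v v' : List (Fin 5), (4 : Fin 5) ∉ u → (4 : Fin 5) ∉ v →
      sameW (u ++ u') [] = true → sameW (v ++ v') [] = true →
      val g (u ++ v ++ u' ++ v') ∈ N := fun u u' v v' h1 h2 h3 h4 => by
    rw [← R.comm_word h3 h4]
    exact hc _ (val_mem h1) _ (val_mem h2)
  have hz : g 1 ∈ N := R.conj_word (c := [2, 3, 2]) (c' := [2, 3, 2])
    (t := [0] ++ [3, 2, 1, 2, 3] ++ [0] ++ [3, 2, 1, 2, 3]) (by decide +kernel) (by decide +kernel)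
    (hcw _ _ _ _ (by decide) (by decide) (by decide +kernel) (by decide +kernel))
  have hp : g 0 ∈ N := by
    have h1 := hcw [2, 0, 2] [2, 0, 2] [2, 3, 2, 1, 2, 3, 2] [2, 3, 2, 1, 2, 3, 2] (by decide)
      (by decide) (by decide +kernel) (by decide +kernel)
    have h2 := hcw [2, 3, 1, 3, 2] [2, 3, 1, 3, 2]
      ([2, 3, 2, 0, 2, 3, 2] ++ [2, 3, 2, 1, 2, 3, 2]) ([2, 3, 2, 1, 2, 3, 2] ++ [2, 3, 2, 0, 2, 3, 2])
      (by decide) (by decide) (by decide +kernel) (by decide +kernel)
    refine R.conj_word (c := [3]) (c' := [3]) (t := [3, 0, 3]) (by decide +kernel) (by decide +kernel) ?_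
    have e := R.rel (([2, 0, 2] ++ [2, 3, 2, 1, 2, 3, 2] ++ [2, 0, 2] ++ [2, 3, 2, 1, 2, 3, 2]) ++
      [3, 0, 3]) ([2, 3, 1, 3, 2] ++ ([2, 3, 2, 0, 2, 3, 2] ++ [2, 3, 2, 1, 2, 3, 2]) ++
      [2, 3, 1, 3, 2] ++ ([2, 3, 2, 1, 2, 3, 2] ++ [2, 3, 2, 0, 2, 3, 2])) (by decide +kernel)
    rw [val_append, ← eq_inv_mul_iff_mul_eq] at e
    rw [e]
    exact mul_mem (inv_mem h1) h2
  have hconj : ∀ c c' t : List (Fin 5), sameW (c ++ c') [] = true → val g t ∈ N →
      val g (c ++ t ++ c') ∈ N := fun c c' t h ht => by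
    rw [val_append, val_append, ← R.inv_word h]
    exact (inferInstance : N.Normal).conj_mem _ ht _
  have hp0 : val g [0] ∈ N := by rw [val_single]; exact hp
  have hz0 : val g [1] ∈ N := by rw [val_single]; exact hz
  have hn0 : g 2 ∈ N := by
    rw [← val_single g 2, R.rel [2] ([0] ++ ([2] ++ [0] ++ [2]) ++ [0]) (by decide +kernel),
      val_append, val_append]
    exact mul_mem (mul_mem hp0 (hconj [2] [2] [0] (by decide +kernel) hp0)) hp0
  have hn1 : g 3 ∈ N := by
    rw [← val_single g 3, R.rel [3] ([1] ++ ([3] ++ [1] ++ [3]) ++ [1] ++ ([3] ++ [1] ++ [3]) ++ [1])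
      (by decide +kernel), val_append, val_append, val_append, val_append]
    have h' := hconj [3] [3] [1] (by decide +kernel) hz0
    exact mul_mem (mul_mem (mul_mem (mul_mem hz0 h') hz0) h') hz0
  refine (Subgroup.closure_le _).2 ?_
  rintro x (rfl | rfl | rfl | rfl)
  · exact hp
  · exact hz
  · exact hn0
  · exact hn1

include R in
theorem KT_eq : commutator G = KT g :=
  le_antisymm R.commutator_le (R.KT_le fun x _ y _ =>
    Subgroup.commutator_mem_commutator (Subgroup.mem_top x) (Subgroup.mem_top y))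

include R in
theorem KT_perfect : ⁅KT g, KT g⁆ = KT g := by
  haveI := R.KT_normal
  exact le_antisymm (Subgroup.commutator_le_self _)
    (R.KT_le fun _ hx _ hy => Subgroup.commutator_mem_commutator hx hy)

include R in
theorem mem_or (x : G) : x ∈ KT g ∨ (g 4)⁻¹ * x ∈ KT g := by
  haveI := R.KT_normal
  have h4 : g 4 * g 4 ∈ KT g := by rw [R.a_sq]; exact gen_mem (by decide)
  have hx : x ∈ Subgroup.closure (Set.range g) := by rw [R.gen]; trivial
  induction hx using Subgroup.closure_induction_left with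
  | one => exact Or.inl (one_mem _)
  | mul_left y hy z _ hz =>
    obtain ⟨i, rfl⟩ := hy
    by_cases hi : i = 4
    · subst hi
      rcases hz with h | h
      · exact Or.inr (by rwa [inv_mul_cancel_left])
      · refine Or.inl ?_
        have : g 4 * z = g 4 * g 4 * ((g 4)⁻¹ * z) := by group
        rw [this]; exact mul_mem h4 h
    · rcases hz with h | h
      · exact Or.inl (mul_mem (gen_mem hi) h)
      · refine Or.inr ?_
        have : (g 4)⁻¹ * (g i * z) = ((g 4)⁻¹ * g i * (g 4)⁻¹⁻¹) * ((g 4)⁻¹ * z) := by group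
        rw [this]; exact mul_mem (R.KT_normal.conj_mem _ (gen_mem hi) _) h
  | inv_mul_cancel y hy z _ hz =>
    obtain ⟨i, rfl⟩ := hy
    by_cases hi : i = 4
    · subst hi
      rcases hz with h | h
      · exact Or.inr (by
          rw [show (g 4)⁻¹ * ((g 4)⁻¹ * z) = (g 4 * g 4)⁻¹ * z by group]
          exact mul_mem (inv_mem h4) h)
      · exact Or.inl h
    · rcases hz with h | h
      · exact Or.inl (mul_mem (inv_mem (gen_mem hi)) h)
      · refine Or.inr ?_
        have : (g 4)⁻¹ * ((g i)⁻¹ * z) = ((g 4)⁻¹ * (g i)⁻¹ * (g 4)⁻¹⁻¹) * ((g 4)⁻¹ * z) := by group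
        rw [this]; exact mul_mem (R.KT_normal.conj_mem _ (inv_mem (gen_mem hi)) _) h

include R in
theorem index_eq (ha : g 4 ∉ KT g) : (KT g).index = 2 := by
  rw [Subgroup.index_eq_two_iff]
  refine ⟨(g 4)⁻¹, fun b => ?_⟩
  haveI := R.KT_normal
  have hb : b * (g 4)⁻¹ ∈ KT g ↔ (g 4)⁻¹ * b ∈ KT g := (R.KT_normal).mem_comm_iff
  rcases R.mem_or b with h | h
  · refine Or.inr ⟨h, fun h' => ha ?_⟩
    simpa using inv_mem (mul_mem (inv_mem h) h')
  · refine Or.inl ⟨hb.2 h, fun h' => ha ?_⟩
    have : g 4 = b * ((g 4)⁻¹ * b)⁻¹ := by group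
    rw [this]; exact mul_mem h' (inv_mem h)

include R in
theorem simple_aux {p : ℕ} [Finite G] (hp : p.Prime) (hdvd : p ∣ Nat.card (KT g))
    (hndvd : ¬ p * p ∣ Nat.card (KT g))
    (hnormal : ∀ M : Subgroup G, M.Normal → M ≠ ⊥ → KT g ≤ M) :
    IsSimpleGroup (KT g) ∧ ¬ IsMulCommutative (KT g) := by
  haveI := R.KT_normal
  have hTne : Nat.card (KT g) ≠ 1 := fun e => hp.one_lt.ne' (Nat.dvd_one.1 (e ▸ hdvd))
  haveI : Nontrivial (KT g) := (Finite.one_lt_card_iff_nontrivial).1
    (lt_of_le_of_ne Nat.card_pos (Ne.symm hTne))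
  have h4 : g 4 * g 4 ∈ KT g := by rw [R.a_sq]; exact gen_mem (by decide)
  refine ⟨⟨fun N hN => ?_⟩, fun hc => ?_⟩
  · set L := N.map (KT g).subtype with hL
    have hLT : L ≤ KT g := Subgroup.map_subtype_le N
    let c : G → (G →* G) := fun x => (MulAut.conj x).toMonoidHom
    have hcc : ∀ x y (H : Subgroup G), (H.map (c y)).map (c x) = H.map (c (x * y)) := fun x y H => by
      rw [Subgroup.map_map]
      congr 1
      ext z
      simp [c, mul_assoc]
    have hfix : ∀ x ∈ KT g, L.map (c x) = L := by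
      intro x hx
      have hle : ∀ x ∈ KT g, L.map (c x) ≤ L := by
        rintro x hx _ ⟨_, ⟨y, hy, rfl⟩, rfl⟩
        exact ⟨⟨x, hx⟩ * y * ⟨x, hx⟩⁻¹, hN.conj_mem y hy _, rfl⟩
      refine le_antisymm (hle x hx) ?_
      have := Subgroup.map_mono (f := c x) (hle x⁻¹ (inv_mem hx))
      rw [hcc, mul_inv_cancel] at this
      refine le_trans ?_ this
      intro z hz
      exact ⟨z, hz, by simp [c]⟩
    set L' := L.map (c (g 4)) with hL'
    have hfix' : ∀ x ∈ KT g, L'.map (c x) = L' := by
      intro x hx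
      rw [hL', hcc, show x * g 4 = g 4 * ((g 4)⁻¹ * x * (g 4)⁻¹⁻¹) by group, ← hcc,
        hfix _ (R.KT_normal.conj_mem x hx _)]
    have hswap : L'.map (c (g 4)) = L := by rw [hL', hcc, hfix _ h4]
    have hnorm : ∀ M : Subgroup G, (∀ x ∈ KT g, M.map (c x) = M) → M.map (c (g 4)) = M →
        M.Normal := by
      intro M h1 h2
      rw [← Subgroup.normalizer_eq_top_iff, eq_top_iff, ← R.gen, Subgroup.closure_le]
      rintro _ ⟨i, rfl⟩
      have e : M.map (c (g i)) = M := by
        by_cases hi : i = 4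
        · subst hi; exact h2
        · exact h1 _ (gen_mem hi)
      refine Subgroup.mem_normalizer_iff.2 fun z => ⟨fun hz => ?_, fun hz => ?_⟩
      · rw [← e]; exact ⟨z, hz, rfl⟩
      · rw [← e] at hz
        obtain ⟨w, hw, e'⟩ := hz
        have : z = w := by simpa [c] using e'.symm
        exact this ▸ hw
    have hinf : L ⊓ L' = ⊥ ∨ KT g ≤ L := by
      by_cases h : L ⊓ L' = ⊥
      · exact Or.inl h
      refine Or.inr (le_trans (hnormal _ (hnorm _ (fun x hx => ?_) ?_) h) inf_le_left)
      · rw [Subgroup.map_inf _ _ _ (MulAut.conj x).injective, hfix x hx, hfix' x hx]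
      · rw [Subgroup.map_inf _ _ _ (MulAut.conj (g 4)).injective, ← hL', hswap, inf_comm]
    have htop : KT g ≤ L → N = ⊤ := fun h => eq_top_iff.2 fun y _ => by
      obtain ⟨z, hz, e⟩ := h y.2
      exact (Subtype.ext e : z = y) ▸ hz
    rcases hinf with hinf | hinf
    swap
    · exact Or.inr (htop hinf)
    by_cases hLb : L = ⊥
    · exact Or.inl ((Subgroup.map_eq_bot_iff_of_injective _ (KT g).subtype_injective).1 hLb)
    exfalso
    have hJn : (L ⊔ L').Normal := hnorm _ (fun x hx => by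
        rw [Subgroup.map_sup, hfix x hx, hfix' x hx]) (by
        rw [Subgroup.map_sup, ← hL', hswap, sup_comm])
    have hL'T : L' ≤ KT g := by
      rintro _ ⟨y, hy, rfl⟩
      exact R.KT_normal.conj_mem y (hLT hy) _
    have hJ : L ⊔ L' = KT g := le_antisymm (sup_le hLT hL'T)
      (hnormal _ hJn fun e => hLb (le_bot_iff.1 (e ▸ le_sup_left)))
    have hcomm : ∀ (x : L) (y : L'), Commute (x : G) (y : G) := by
      intro x y
      have h1 : ⁅(x : G), (y : G)⁆ ∈ L ⊓ L' := by
        refine Subgroup.mem_inf.2 ⟨?_, ?_⟩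
        · have : (y : G) * (x : G)⁻¹ * (y : G)⁻¹ ∈ L :=
            (hfix y (hL'T y.2)).le ⟨_, inv_mem x.2, by simp [c]⟩
          rw [commutatorElement_def, show (x : G) * y * (x : G)⁻¹ * (y : G)⁻¹ =
            x * (y * (x : G)⁻¹ * (y : G)⁻¹) by group]
          exact mul_mem x.2 this
        · have : (x : G) * y * (x : G)⁻¹ ∈ L' :=
            (hfix' x (hLT x.2)).le ⟨_, y.2, by simp [c]⟩
          rw [commutatorElement_def]
          exact mul_mem this (inv_mem y.2)
      rw [hinf, Subgroup.mem_bot, commutatorElement_eq_one_iff_mul_comm] at h1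
      exact h1
    let f : L × L' →* G := MonoidHom.noncommCoprod L.subtype L'.subtype hcomm
    have hf : Function.Injective f := by
      rw [injective_iff_map_eq_one]
      rintro ⟨x, y⟩ h
      change (x : G) * y = 1 at h
      have hx : (x : G) ∈ L ⊓ L' := Subgroup.mem_inf.2
        ⟨x.2, by rw [mul_eq_one_iff_eq_inv.1 h]; exact inv_mem y.2⟩
      rw [hinf, Subgroup.mem_bot] at hx
      rw [hx, one_mul] at h
      exact Prod.ext (Subtype.ext hx) (Subtype.ext h)
    have hr : f.range = KT g := by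
      refine (MonoidHom.noncommCoprod_range (f := L.subtype) (g := L'.subtype) (comm := hcomm)).trans ?_
      rw [Subgroup.range_subtype, Subgroup.range_subtype, hJ]
    have hcard : Nat.card (KT g) = Nat.card L * Nat.card L := by
      rw [← hr, ← Nat.card_congr (MonoidHom.ofInjective hf).toEquiv, Nat.card_prod, hL',
        ← Nat.card_congr (L.equivMapOfInjective _ (MulAut.conj (g 4)).injective).toEquiv]
    rw [hcard] at hdvd hndvd
    exact hndvd (Nat.mul_dvd_mul ((hp.dvd_mul.1 hdvd).elim id id) ((hp.dvd_mul.1 hdvd).elim id id))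
  · have h := R.KT_perfect
    have h0 : ⁅KT g, KT g⁆ = ⊥ := by
      rw [eq_bot_iff, Subgroup.commutator_le]
      intro a ha b hb
      rw [Subgroup.mem_bot, commutatorElement_eq_one_iff_mul_comm]
      exact congrArg Subtype.val (hc.is_comm.comm ⟨a, ha⟩ ⟨b, hb⟩)
    rw [h] at h0
    exact hTne (by rw [h0, Subgroup.card_bot])

end Rels

end Abstract

/-! ### the concrete group -/

theorem val_gen (w : List (Fin 5)) : val gen w = valW w := rfl

theorem rels : Rels gen where
  gen := closure_gen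
  rel _ _ h := by rw [val_gen, val_gen]; exact valW_eq h

/-- the orbit as a set of vectors -/
def orbitSet : Set (F4Data.tab.D.Idx → K2) := {v | ∃ k, TitsData.orbit.mem k = true ∧ v = vecN k}

theorem mem_sound (P : ℕ → Bool) :
    ∀ (t : TitsData.Tree), t.all P = true → ∀ k, t.mem k = true → P k = true
  | .leaf, _, k, h => by simp [TitsData.Tree.mem] at h
  | .node l c r, hall, k, h => by
    simp only [TitsData.Tree.all, Bool.and_eq_true] at hall
    simp only [TitsData.Tree.mem] at h
    by_cases hk : k = c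
    · subst hk; exact hall.1.1
    · rw [show Nat.beq k c = false from nat_beq_false.2 hk, cond_false] at h
      by_cases hlt : Nat.blt k c = true
      · rw [hlt, cond_true] at h; exact mem_sound P l hall.1.2 k h
      · rw [Bool.not_eq_true] at hlt
        rw [hlt, cond_false] at h; exact mem_sound P r hall.2 k h

theorem closed_at {k : ℕ} (h : TitsData.orbit.mem k = true) :
    TitsData.orbit.mem (TitsData.appN TitsData.colZ k 0) = true ∧
      TitsData.orbit.mem (TitsData.appN TitsData.colR k 0) = true ∧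
      k ≠ TitsData.appN TitsData.colA 281474976710657 0 ∧ k < 2 ^ 52 := by
  have := mem_sound _ _ TitsData.closedOK k h
  simp only [TitsData.closedAt, Bool.and_eq_true, Bool.not_eq_true', nat_blt, nat_beq_false] at this
  exact ⟨this.1.1.1, this.1.1.2, this.1.2, this.2⟩

theorem colR_eq : ∀ j < 52, fW [2, 3] (2 ^ j) = TitsData.appN TitsData.colR (2 ^ j) 0 := by
  decide +kernel

theorem act_R : Act (valW [2, 3] : GL F4Data.tab.D.Idx K2) (fun v => TitsData.appN TitsData.colR v 0) := by
  refine act_cols (by decide +kernel) fun j hj => ?_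
  have h : ∀ j < 52, TitsData.appN TitsData.colR (2 ^ j) 0 = TitsData.colR.getD j 0 := by
    decide +kernel
  rw [← vecN_two_pow, act_valW, colR_eq j hj, h j hj]

/-- the submonoid keeping the orbit -/
noncomputable def keep : Submonoid ↥TW where
  carrier := {x | ∀ v ∈ orbitSet, ((x : GL F4Data.tab.D.Idx K2) :
    Matrix F4Data.tab.D.Idx F4Data.tab.D.Idx K2) *ᵥ v ∈ orbitSet}
  one_mem' v hv := by simpa using hv
  mul_mem' {x y} hx hy v hv := by
    rw [Subgroup.coe_mul, Units.val_mul, ← Matrix.mulVec_mulVec]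
    exact hx _ (hy v hv)

theorem keep_z : valW [1] ∈ keep := by
  rintro _ ⟨k, hk, rfl⟩
  exact ⟨_, (closed_at hk).1, by rw [act_valW]; rfl⟩

theorem keep_R : valW [2, 3] ∈ keep := by
  rintro _ ⟨k, hk, rfl⟩
  exact ⟨_, (closed_at hk).2.1, by rw [act_R]⟩

theorem keep_inv {x : ↥TW} (hx : x ∈ keep) : x⁻¹ ∈ keep := by
  have h : x⁻¹ = x ^ (orderOf x - 1) := by
    refine inv_eq_of_mul_eq_one_right ?_
    rw [← pow_succ', Nat.sub_add_cancel (orderOf_pos x), pow_orderOf_eq_one]
  rw [h]
  exact Submonoid.pow_mem _ hx _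

theorem keep_KT : ∀ x ∈ Rels.KT gen, x ∈ keep := by
  have hR' : valW [3, 2] ∈ keep := by
    have e : valW [3, 2] = (valW [2, 3])⁻¹ := by
      rw [eq_inv_iff_mul_eq_one, ← valW_append, valW_eq (w' := []) (by decide +kernel)]
      rfl
    rw [e]; exact keep_inv keep_R
  -- every generator is a word in `z`, `n₀n₁`, `n₁n₀`
  have key : ∀ L : List ℕ, valW (L.flatMap fun b => if b = 0 then [1] else if b = 1 then [2, 3] else [3, 2]) ∈
      keep := by
    intro L
    induction L with
    | nil => exact keep.one_mem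
    | cons b L ih =>
      rw [List.flatMap_cons, valW_append]
      refine keep.mul_mem ?_ ih
      split_ifs
      · exact keep_z
      · exact keep_R
      · exact hR'
  have h0 : gen 0 ∈ keep := by
    rw [← valW_single, valW_eq (w' := ([2, 2, 0, 2, 0, 2, 0, 2, 0, 1, 1, 1, 0, 2, 2, 2, 0, 2, 2, 2] :
      List ℕ).flatMap fun b => if b = 0 then [1] else if b = 1 then [2, 3] else [3, 2]) (by decide +kernel)]
    exact key _
  have h2 : gen 2 ∈ keep := by
    rw [← valW_single, valW_eq (w' := ([1, 0, 1, 1, 1, 1, 0, 1, 1, 1, 1, 0, 2, 2, 2, 2, 0, 2, 2, 2, 2, 0] :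
      List ℕ).flatMap fun b => if b = 0 then [1] else if b = 1 then [2, 3] else [3, 2]) (by decide +kernel)]
    exact key _
  have h3 : gen 3 ∈ keep := by
    rw [← valW_single, valW_eq (w' := ([0, 1, 1, 1, 1, 0, 1, 1, 1, 1, 0, 1, 1, 1, 1, 0, 2, 2, 2, 2, 0] :
      List ℕ).flatMap fun b => if b = 0 then [1] else if b = 1 then [2, 3] else [3, 2]) (by decide +kernel)]
    exact key _
  intro x hx
  induction hx using Subgroup.closure_induction with
  | mem y hy =>
    rcases hy with rfl | rfl | rfl | rfl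
    · exact h0
    · rw [← valW_single]; exact keep_z
    · exact h2
    · exact h3
  | one => exact keep.one_mem
  | mul a b _ _ ha hb => exact keep.mul_mem ha hb
  | inv a _ ha => exact keep_inv ha

theorem a_not_mem : gen 4 ∉ Rels.KT gen := by
  intro h
  obtain ⟨k, hk, e⟩ := keep_KT _ h (vecN 281474976710657) ⟨_, TitsData.baseOK, rfl⟩
  have h1 := closed_at hk
  rw [← valW_single, act_valW] at e
  refine h1.2.2.1 (vecN_inj h1.2.2.2 ?_ ?_)
  · show TitsData.appN TitsData.colA 281474976710657 0 < 2 ^ 52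
    decide +kernel
  · exact e.symm

theorem index_two : (commutator ↥TW).index = 2 := by
  rw [rels.KT_eq]; exact rels.index_eq a_not_mem

theorem card_TW : Nat.card ↥TW = 2 ^ 12 * 3 ^ 3 * 5 ^ 2 * 13 := by
  have h := TwF4.card_twisted (F := K2) cardK
  exact h.trans (by norm_num)

theorem card_T : Nat.card (commutator ↥TW) = 2 ^ 11 * 3 ^ 3 * 5 ^ 2 * 13 := by
  have h := (commutator ↥TW).card_mul_index
  rw [index_two, card_TW] at h
  omega

theorem normal_ge (M : Subgroup ↥TW) (hM : M.Normal) (hne : M ≠ ⊥) : Rels.KT gen ≤ M := by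
  haveI := borel_solvable (F := K2) gA
  let P := (TwF4.X cardK).bnPair (TwF4.blocks cardK) (TwF4.hq (m := 0)) (TwF4.hblk cardK)
  refine BN.perfect_le_normal P
    ((TwF4.X cardK).irreducible (TwF4.blocks cardK) (TwF4.hq (m := 0)) (TwF4.hblk cardK) TwF4.connOK)
    ?_ ((TwF4.X cardK).core_free (TwF4.sep cardK)) _ rels.KT_perfect M hne
  exact Group.isSolvable_of_isSolvable_injective
    (f := (Subgroup.inclusion (inf_le_left : F4Data.tab.D.borelSubgroup K2 ⊓ TW ≤ _)).comp
      (Subgroup.subgroupOfEquivOfLe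
        (inf_le_right : F4Data.tab.D.borelSubgroup K2 ⊓ TW ≤ TW)).toMonoidHom)
    ((Subgroup.inclusion_injective (inf_le_left : F4Data.tab.D.borelSubgroup K2 ⊓ TW ≤ _)).comp
      (MulEquiv.injective _))

theorem simple : IsSimpleGroup (commutator ↥TW) ∧ ¬ IsMulCommutative (commutator ↥TW) := by
  have hc := card_T
  rw [rels.KT_eq] at hc ⊢
  exact rels.simple_aux (p := 13) (by norm_num) (by rw [hc]; norm_num) (by rw [hc]; norm_num) normal_ge

end Cfsg.Agent.Chev.Tits
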