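import Cfsg.Agent.Lib.Lie.GoodK

/-!
# Splitting witnesses

For each fundamental root `p` a pair `(r, s)` of roots other than `±p` whose commutator has one term at
`p`, with unit coefficient and linear in one parameter, and no other term at `±p`.
-/

set_option autoImplicit false
set_option maxRecDepth 8000

namespace Cfsg.Agent.Chev

open Cfsg.Lie

namespace Tab

/-- The check of a splitting witness. -/
def checkSplit (T : Tab) (W : List (ℕ × ℕ × ℕ)) : Bool :=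
  allBelow (fun i =>
    match W[i]? with
    | some (r, s, m) =>
      Nat.blt r T.n && Nat.blt s T.n && !Nat.beq r (T.smp i) && !Nat.beq r (T.neg (T.smp i)) &&
      !Nat.beq s (T.smp i) && !Nat.beq s (T.neg (T.smp i)) && !Nat.beq s r && !Nat.beq s (T.neg r) &&
      (match (T.cTerms r s).drop m with
        | (k, C, a, b) :: rest =>
          Nat.beq k (T.smp i) && Nat.beq C.natAbs 1 && (Nat.beq a 1 || Nat.beq b 1) &&
          ((T.cTerms r s).take m ++ rest).all fun c =>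
            !Nat.beq c.1 (T.smp i) && !Nat.beq c.1 (T.neg (T.smp i))
        | [] => false)
    | none => false) T.l

/-- `GoodK` together with splitting witnesses. -/
structure GoodW (T : Tab) (K : List (List ℕ)) (W : List (ℕ × ℕ × ℕ)) : Prop extends T.GoodK K where
  splitOK : T.checkSplit W = true

end Tab

theorem exists_goodW {D : ChevalleyDatum}
    (hD : D ∈ [chevG2, chevB2, chevD4, chevF4, chevE6, chevE7, chevE8]) :
    ∃ T : Tab, ∃ K W, T.GoodW K W ∧ T.D = D := by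
  simp only [List.mem_cons, List.not_mem_nil, or_false] at hD
  rcases hD with rfl | rfl | rfl | rfl | rfl | rfl | rfl
  · exact ⟨_, [[2, 3], [1, 2]],
      [(0, 9, 1), (0, 8, 2)],
      ⟨⟨⟨G2Data.good, by decide +kernel⟩, by decide +kernel⟩, by decide +kernel⟩, rfl⟩
  · exact ⟨_, [[2, 2], [1, 2]],
      [(1, 7, 0), (0, 6, 1)],
      ⟨⟨⟨B2Data.good, by decide +kernel⟩, by decide +kernel⟩, by decide +kernel⟩, rfl⟩
  · exact ⟨_, [[4, 4, 2, 2], [4, 8, 4, 4], [2, 4, 4, 2], [2, 4, 2, 4]],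
      [(6, 22, 0), (1, 23, 0), (3, 22, 0), (2, 22, 0)],
      ⟨⟨⟨D4Data.good, by decide +kernel⟩, by decide +kernel⟩, by decide +kernel⟩, rfl⟩
  · exact ⟨_, [[2, 3, 4, 2], [3, 6, 8, 4], [2, 4, 6, 3], [1, 2, 3, 2]],
      [(7, 44, 0), (3, 45, 0), (0, 39, 1), (1, 47, 0)],
      ⟨⟨⟨F4Data.good, by decide +kernel⟩, by decide +kernel⟩, by decide +kernel⟩, rfl⟩
  · exact ⟨_, [[4, 3, 5, 6, 4, 2], [3, 6, 6, 9, 6, 3], [5, 6, 10, 12, 8, 4], [6, 9, 12, 18, 12, 6], [4, 6, 8, 12, 10, 5], [2, 3, 4, 6, 5, 4]],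
      [(16, 66, 0), (1, 71, 0), (5, 69, 0), (2, 70, 0), (3, 69, 0), (4, 68, 0)],
      ⟨⟨⟨E6Data.good, by decide +kernel⟩, by decide +kernel⟩, by decide +kernel⟩, rfl⟩
  · exact ⟨_, [[4, 4, 6, 8, 6, 4, 2], [4, 7, 8, 12, 9, 6, 3], [6, 8, 12, 16, 12, 8, 4], [8, 12, 16, 24, 18, 12, 6], [6, 9, 12, 18, 15, 10, 5], [4, 6, 8, 12, 10, 8, 4], [2, 3, 4, 6, 5, 4, 3]],
      [(1, 125, 0), (7, 122, 0), (2, 124, 0), (3, 123, 0), (4, 122, 0), (5, 121, 0), (6, 120, 0)],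
      ⟨⟨⟨E7Data.good, by decide +kernel⟩, by decide +kernel⟩, by decide +kernel⟩, rfl⟩
  · exact ⟨_, [[4, 5, 7, 10, 8, 6, 4, 2], [5, 8, 10, 15, 12, 9, 6, 3], [7, 10, 14, 20, 16, 12, 8, 4], [10, 15, 20, 30, 24, 18, 12, 6], [8, 12, 16, 24, 20, 15, 10, 5], [6, 9, 12, 18, 15, 12, 8, 4], [4, 6, 8, 12, 10, 8, 6, 3], [2, 3, 4, 6, 5, 4, 3, 2]],
      [(14, 233, 0), (7, 234, 0), (6, 234, 0), (5, 235, 0), (4, 236, 0), (3, 237, 0), (2, 238, 0), (1, 239, 0)],
      ⟨⟨⟨E8Data.good, by decide +kernel⟩, by decide +kernel⟩, by decide +kernel⟩, rfl⟩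

end Cfsg.Agent.Chev
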