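import Cfsg.Agent.Lib.Lie.TwIsog
import Cfsg.Agent.Lib.Lie.TwField
import Cfsg.Agent.Lib.Lie.GoodW
import Cfsg.Prelude.Def_LieTwisted
import Mathlib.GroupTheory.SpecificGroups.Dihedral

/-! The groups `²F₄(2^(2m+1))`. -/

set_option autoImplicit false
set_option maxRecDepth 20000

namespace Cfsg.Agent.Chev.TwF4

open Cfsg.Lie
open Tab
open scoped commutatorElement

theorem gW : F4Data.tab.GoodW [[2, 3, 4, 2], [3, 6, 8, 4], [2, 4, 6, 3], [1, 2, 3, 2]]
    [(7, 44, 0), (3, 45, 0), (0, 39, 1), (1, 47, 0)] :=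
  ⟨⟨⟨F4Data.good, by decide +kernel⟩, by decide +kernel⟩, by decide +kernel⟩

theorem gA : F4Data.tab.GoodA := gW.toGoodA

theorem g0 : F4Data.tab.Good := gW.toGood

theorem facts : IsogFacts F4Data.tab F4Data.isog := isog_facts _ _ F4Data.isog_ok

/-- the twisted group, typed over the tables -/
noncomputable abbrev tw (F : Type*) [Field F] (e : ℕ) : Subgroup (GL F4Data.tab.D.Idx F) :=
  F4Data.tab.D.genSubgroup F (f4Words F e)

theorem tw_eq (F : Type*) [Field F] (e : ℕ) : twistedF4 F e = tw F e := rfl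

/-- the orbits -/
def orb : ℕ → List ℕ
  | 0 => [0, 3]
  | 1 => [1, 2]
  | _ => []

/-- the orbit words -/
def wd : ℕ → List ℕ
  | 0 => [0, 3]
  | 1 => [1, 2, 1, 2]
  | _ => []

theorem twOK : F4Data.tab.checkTw F4Data.isog.toSym orb wd 2 = true := by decide +kernel

theorem blkOK : F4Data.tab.checkBlk wd 2 = true := by decide +kernel

theorem connOK : F4Data.tab.checkConnB wd 2 = true := by decide +kernel

theorem inv0 : F4Data.tab.invSet (wd 0) = [24, 33].toFinset := by decide +kernel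

theorem inv1 : F4Data.tab.invSet (wd 1) = [25, 27, 28, 30].toFinset := by decide +kernel

theorem wd_wd : ∀ b, F4Data.tab.Wd (wd b)
  | 0 => by intro i hi; change i ∈ [0, 3] at hi; fin_cases hi <;> decide
  | 1 => by intro i hi; change i ∈ [1, 2, 1, 2] at hi; fin_cases hi <;> decide
  | n + 2 => by intro i hi; simp [wd] at hi

/-- the long element of the class of type `B₂` from its central root elements -/
def nWord1 : List (ℕ × ℤ) :=
  [(28, 1), (30, 1), (19, 1), (17, 1), (28, 1), (30, 1), (19, 1), (17, 1), (28, 1), (30, 1)]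

theorem nWord1OK : F4Data.tab.checkWordP 2 nWord1 (F4Data.tab.nWord (wd 1)) = true := by
  decide +kernel

theorem braid0 : F4Data.tab.checkWordP 2 (F4Data.tab.nWord ((wd 0).map fun i => F4Data.isog.ρ.getD i 0))
    (F4Data.tab.nWord (wd 0)) = true := by decide +kernel

theorem braid1 : F4Data.tab.checkWordP 2 (F4Data.tab.nWord ((wd 1).map fun i => F4Data.isog.ρ.getD i 0))
    (F4Data.tab.nWord (wd 1)) = true := by decide +kernel

variable {F : Type*} [Field F] [CharP F 2]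

instance : CharP F F4Data.isog.p := ‹CharP F 2›

instance : ExpChar F F4Data.isog.p := ExpChar.prime Nat.prime_two

theorem two_zero : (2 : F) = 0 := CharTwo.two_eq_zero

theorem sign_one {z : ℤ} (hz : z * z = 1) : (z : F) = 1 := by
  rcases mul_self_eq_one_iff.1 hz with h | h <;> simp [h, CharTwo.neg_eq]

theorem xg_neg2 (r : ℕ) (t : F) : xg g0 r (-t) = xg g0 r t := by rw [CharTwo.neg_eq]

theorem comm2 {r s : ℕ} (hr : r < F4Data.tab.n) (hs : s < F4Data.tab.n)
    (h : F4Data.tab.commOK 2 r s = true) (a b : F) : Commute (xg g0 r a) (xg g0 s b) :=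
  commute_of_commOK gA 2 hr hs h a b

/-! ### the class of type `B₂` -/

theorem swap25 (A B : F) :
    xg g0 27 B * xg g0 25 A =
      xg g0 25 A * xg g0 27 B * (xg g0 28 (A * B) * xg g0 30 (A * B ^ 2)) := by
  have hc : F4Data.tab.cTerms 25 27 = [(28, 1, 1, 1), (30, -1, 1, 2)] := by decide +kernel
  rw [show xg g0 27 B * xg g0 25 A = _ from xg_comm gA (r := 25) (s := 27) (by decide +kernel)
    (by decide +kernel) (by decide) (by decide +kernel) A B]
  simp [cVal, hc, xg_neg2, CharTwo.neg_eq, mul_assoc]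

/-- the sorted product along the class -/
noncomputable def bP (A B C D : F) : GL F4Data.tab.D.Idx F :=
  xg g0 25 A * xg g0 27 B * xg g0 28 C * xg g0 30 D

theorem bP_word (t s C D : F) :
    xg g0 27 s * xg g0 25 t * (xg g0 28 C * xg g0 30 D) =
      bP t s (t * s + C) (t * s ^ 2 + D) := by
  have hc : Commute (xg g0 30 (t * s ^ 2)) (xg g0 28 C) :=
    comm2 (by decide +kernel) (by decide +kernel) (by decide +kernel) _ _
  rw [swap25, bP, ← xg_add, ← xg_add]
  calc _ = xg g0 25 t * xg g0 27 s * xg g0 28 (t * s) *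
        (xg g0 30 (t * s ^ 2) * xg g0 28 C) * xg g0 30 D := by group
    _ = _ := by rw [hc.eq]; group

/-- sorted coordinates -/
def crd (A B C D : F) (r : ℕ) : F := if r = 25 then A else if r = 27 then B else if r = 28 then C else D

theorem bP_eq (A B C D : F) : bP A B C D = sProd g0 [25, 27, 28, 30] (crd A B C D) := by
  simp [bP, sProd, crd, mul_assoc]

theorem sProd_bP (a : ℕ → F) : sProd g0 [25, 27, 28, 30] a = bP (a 25) (a 27) (a 28) (a 30) := by
  simp [bP, sProd, mul_assoc]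

theorem bP_inj {A B C D A' B' C' D' : F} (h : bP A B C D = bP A' B' C' D') :
    A = A' ∧ B = B' ∧ C = C' ∧ D = D' := by
  rw [bP_eq, bP_eq] at h
  have := sProd_unique g0 (by decide : ([25, 27, 28, 30] : List ℕ).Pairwise (· < ·))
    (by decide +kernel) h
  exact ⟨by simpa [crd] using this 25 (by simp), by simpa [crd] using this 27 (by simp),
    by simpa [crd] using this 28 (by simp), by simpa [crd] using this 30 (by simp)⟩

variable [Fintype F] {m : ℕ} (hK : Fintype.card F = 2 ^ (2 * m + 1))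

theorem perf (x : F) : ∃ y : F, y ^ F4Data.isog.p = x :=
  (Finite.injective_iff_surjective.1 (frobenius F 2).injective) x

/-- `t ↦ t^θ` -/
noncomputable def psi (m : ℕ) : F →+* F := iterateFrobenius F 2 m

theorem psi_apply (t : F) : psi (F := F) m t = t ^ 2 ^ m := rfl

include hK in
theorem theta_sq (t : F) : (t ^ 2 ^ m) ^ (2 * 2 ^ m) = t := by
  rw [← pow_mul, show 2 ^ m * (2 * 2 ^ m) = 2 ^ (2 * m + 1) by ring, ← hK, FiniteField.pow_card]

include hK in
theorem theta_sq' (t : F) : (t ^ (2 * 2 ^ m)) ^ 2 ^ m = t := by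
  rw [← pow_mul, mul_comm, pow_mul]
  exact theta_sq hK t

/-- the endomorphism -/
noncomputable abbrev sigma (m : ℕ) : GL F4Data.tab.D.Idx F → GL F4Data.tab.D.Idx F :=
  isoσ gW facts perf (psi m)

theorem isoφ_val {r : ℕ} (hr : r < F4Data.tab.n) (m : ℕ) (t : F) :
    isoφ F4Data.isog (psi m) r t = t ^ (F4Data.isog.e.getD r 1 * 2 ^ m) := by
  rw [isoφ_eq facts _ hr, sign_one (facts.root r hr).2.2.2.2.1, one_mul, psi_apply, ← pow_mul,
    mul_comm]

theorem sigma_xg {r : ℕ} (hr : r < F4Data.tab.n) (t : F) :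
    sigma m (xg g0 r t) = xg g0 (F4Data.isog.π.getD r 0) (t ^ (F4Data.isog.e.getD r 1 * 2 ^ m)) := by
  rw [← isoφ_val hr]
  exact isoσ_xg gW facts perf _ hr t

theorem mul_grp {x y : GL F4Data.tab.D.Idx F} (hx : x ∈ F4Data.tab.D.group F)
    (hy : y ∈ F4Data.tab.D.group F) : sigma m (x * y) = sigma m x * sigma m y :=
  isoσ_mul gW facts perf _ hx hy

theorem xgG (r : ℕ) (t : F) : xg g0 r t ∈ F4Data.tab.D.group F := xg_mem_group g0 r t

theorem sigma_bP (A B C D : F) : sigma m (bP A B C D) =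
    bP (B ^ (2 * 2 ^ m)) (A ^ 2 ^ m) (B ^ (2 * 2 ^ m) * A ^ 2 ^ m + D ^ 2 ^ m)
      (B ^ (2 * 2 ^ m) * (A ^ 2 ^ m) ^ 2 + C ^ (2 * 2 ^ m)) := by
  have h : ∀ r ∈ [25, 27, 28, 30], r < F4Data.tab.n := by decide +kernel
  rw [bP, mul_grp (mul_mem (mul_mem (xgG _ _) (xgG _ _)) (xgG _ _)) (xgG _ _),
    mul_grp (mul_mem (xgG _ _) (xgG _ _)) (xgG _ _), mul_grp (xgG _ _) (xgG _ _),
    sigma_xg (h 25 (by simp)), sigma_xg (h 27 (by simp)), sigma_xg (h 28 (by simp)),
    sigma_xg (h 30 (by simp))]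
  have hd : F4Data.isog.π.getD 25 0 = 27 ∧ F4Data.isog.π.getD 27 0 = 25 ∧
      F4Data.isog.π.getD 28 0 = 30 ∧ F4Data.isog.π.getD 30 0 = 28 ∧
      F4Data.isog.e.getD 25 1 = 1 ∧ F4Data.isog.e.getD 27 1 = 2 ∧
      F4Data.isog.e.getD 28 1 = 2 ∧ F4Data.isog.e.getD 30 1 = 1 := by decide +kernel
  obtain ⟨p1, p2, p3, p4, e1, e2, e3, e4⟩ := hd
  rw [p1, p2, p3, p4, e1, e2, e3, e4, one_mul, mul_assoc _ (xg g0 30 _),
    ((comm2 (by decide +kernel) (by decide +kernel) (by decide +kernel) _ _ :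
      Commute (xg g0 30 (C ^ (2 * 2 ^ m))) (xg g0 28 (D ^ 2 ^ m)))).eq, bP_word]

include hK in
theorem sigma_bP_iff (A B C D : F) : sigma m (bP A B C D) = bP A B C D ↔
    B = A ^ 2 ^ m ∧ D = A * B ^ 2 + C ^ (2 * 2 ^ m) := by
  rw [sigma_bP]
  constructor
  · intro h
    obtain ⟨h1, h2, -, h4⟩ := bP_inj h
    exact ⟨h2.symm, by rw [← h4, h1, h2]⟩
  · rintro ⟨rfl, rfl⟩
    rw [theta_sq hK]
    congr 1
    have e : (A * (A ^ 2 ^ m) ^ 2 + C ^ (2 * 2 ^ m)) ^ 2 ^ m = A ^ 2 ^ m * A + C := by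
      rw [← psi_apply, map_add, map_mul, map_pow, psi_apply, psi_apply, psi_apply, theta_sq' hK,
        ← pow_mul _ _ 2, mul_comm _ 2, theta_sq hK]
    rw [e, mul_comm A, ← add_assoc, CharTwo.add_self_eq_zero, zero_add]

/-- the elements of the class in the group -/
theorem bU_word (t u : F) :
    ((b2ClassWord (2 ^ m) f4a f4b f4ab f4aab t u).map fun e => xg g0 e.1 e.2).prod =
      bP t (t ^ 2 ^ m) u (t * (t ^ 2 ^ m) ^ 2 + u ^ (2 * 2 ^ m)) := by
  simp only [b2ClassWord, f4a, f4b, f4ab, f4aab, List.map_cons, List.map_nil, List.prod_cons,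
    List.prod_nil, mul_one]
  rw [← mul_assoc, bP_word]
  congr 1
  rw [pow_succ, mul_comm t, ← add_assoc, CharTwo.add_self_eq_zero, zero_add]

include hK in
theorem bU_fixed (t u : F) : sigma m (((b2ClassWord (2 ^ m) f4a f4b f4ab f4aab t u).map
    fun e => xg g0 e.1 e.2).prod) =
    ((b2ClassWord (2 ^ m) f4a f4b f4ab f4aab t u).map fun e => xg g0 e.1 e.2).prod := by
  rw [bU_word, sigma_bP_iff hK]
  exact ⟨rfl, rfl⟩

theorem word_grp (w : List (ℕ × F)) :
    (w.map fun e => xg g0 e.1 e.2).prod ∈ F4Data.tab.D.group F :=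
  Subgroup.list_prod_mem _ fun y hy => by
    obtain ⟨e, -, rfl⟩ := List.mem_map.1 hy
    exact xgG _ _

theorem nWd_grp {L : List ℕ} : nWd g0 F L ∈ F4Data.tab.D.group F := by
  rw [nWd_word g0]
  exact Subgroup.list_prod_mem _ fun y hy => by
    obtain ⟨e, -, rfl⟩ := List.mem_map.1 hy
    exact xgG _ _

theorem sigma_nWd {b : ℕ} (hb : b < 2) : sigma m (nWd g0 F (wd b)) = nWd g0 F (wd b) := by
  refine (isoσ_nWd gW facts perf _ (wd_wd b)).trans ?_
  rw [nWd_word g0, nWd_word g0]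
  interval_cases b
  · exact word_eq_modP g0 2 braid0
  · exact word_eq_modP g0 2 braid1

/-- conjugation by the long element negates the class -/
theorem nWd_neg {r : ℕ} (hr : r ∈ [25, 27, 28, 30]) (t : F) :
    nWd g0 F (wd 1) * xg g0 r t * (nWd g0 F (wd 1))⁻¹ = xg g0 (F4Data.tab.rw' (wd 1) r) t := by
  have hlt : ∀ r ∈ [25, 27, 28, 30], r < F4Data.tab.n := by decide +kernel
  obtain ⟨ε, hε, h⟩ := nWd_conj (F := F) g0 (wd_wd 1) (hlt r hr)
  have e1 : (ε : F) = 1 := by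
    have : (ε : F) * ε = 1 := by rw [← Units.val_mul, hε, Units.val_one]
    rcases mul_self_eq_one_iff.1 this with h | h <;> simp [h, CharTwo.neg_eq]
  rw [(h t).1, e1, one_mul]

theorem bV_word (t u : F) :
    ((b2ClassWord (2 ^ m) f4ma f4mb f4mab f4maab t u).map fun e => xg g0 e.1 e.2).prod =
      nWd g0 F (wd 1) * ((b2ClassWord (2 ^ m) f4a f4b f4ab f4aab t u).map
        fun e => xg g0 e.1 e.2).prod * (nWd g0 F (wd 1))⁻¹ := by
  have hd : F4Data.tab.rw' (wd 1) 27 = f4ma ∧ F4Data.tab.rw' (wd 1) 25 = f4mb ∧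
      F4Data.tab.rw' (wd 1) 28 = f4mab ∧ F4Data.tab.rw' (wd 1) 30 = f4maab := by decide +kernel
  obtain ⟨d1, d2, d3, d4⟩ := hd
  simp only [b2ClassWord, f4a, f4b, f4ab, f4aab, List.map_cons, List.map_nil, List.prod_cons,
    List.prod_nil, mul_one]
  have e1 := nWd_neg (F := F) (r := 27) (by simp) (t ^ 2 ^ m)
  have e2 := nWd_neg (F := F) (r := 25) (by simp) t
  have e3 := nWd_neg (F := F) (r := 28) (by simp) (t ^ (2 ^ m + 1) + u)
  have e4 := nWd_neg (F := F) (r := 30) (by simp) (u ^ (2 * 2 ^ m))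
  rw [d1] at e1; rw [d2] at e2; rw [d3] at e3; rw [d4] at e4
  rw [← e1, ← e2, ← e3, ← e4]
  group

theorem pair_comm (a b : F) : Commute (xg g0 24 a) (xg g0 33 b) :=
  comm2 (by decide +kernel) (by decide +kernel) (by decide +kernel) _ _

theorem pair_comm' (a b : F) : Commute (xg g0 23 a) (xg g0 14 b) :=
  comm2 (by decide +kernel) (by decide +kernel) (by decide +kernel) _ _

include hK in
theorem pairP_fixed (t : F) : sigma m (xg g0 33 (t ^ 2 ^ m) * xg g0 24 t) =
    xg g0 33 (t ^ 2 ^ m) * xg g0 24 t := by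
  have hd : 33 < F4Data.tab.n ∧ 24 < F4Data.tab.n ∧ F4Data.isog.π.getD 33 0 = 24 ∧
      F4Data.isog.π.getD 24 0 = 33 ∧ F4Data.isog.e.getD 33 1 = 2 ∧ F4Data.isog.e.getD 24 1 = 1 := by
    decide +kernel
  obtain ⟨l1, l2, p1, p2, e1, e2⟩ := hd
  rw [mul_grp (xgG _ _) (xgG _ _), sigma_xg l1, sigma_xg l2, p1, p2, e1, e2, one_mul, theta_sq hK]
  exact (pair_comm _ _).eq

include hK in
theorem pairN_fixed (t : F) : sigma m (xg g0 14 (t ^ 2 ^ m) * xg g0 23 t) =
    xg g0 14 (t ^ 2 ^ m) * xg g0 23 t := by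
  have hd : 14 < F4Data.tab.n ∧ 23 < F4Data.tab.n ∧ F4Data.isog.π.getD 14 0 = 23 ∧
      F4Data.isog.π.getD 23 0 = 14 ∧ F4Data.isog.e.getD 14 1 = 2 ∧ F4Data.isog.e.getD 23 1 = 1 := by
    decide +kernel
  obtain ⟨l1, l2, p1, p2, e1, e2⟩ := hd
  rw [mul_grp (xgG _ _) (xgG _ _), sigma_xg l1, sigma_xg l2, p1, p2, e1, e2, one_mul, theta_sq hK]
  exact (pair_comm' _ _).eq

theorem sigma_one : sigma m (1 : GL F4Data.tab.D.Idx F) = 1 := isoσ_one gW facts perf _

theorem fixed_inv {x : GL F4Data.tab.D.Idx F} (hx : x ∈ F4Data.tab.D.group F)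
    (h : sigma m x = x) : sigma m x⁻¹ = x⁻¹ := by
  have := mul_grp (m := m) hx (inv_mem hx)
  rw [mul_inv_cancel, sigma_one, h] at this
  exact (inv_eq_of_mul_eq_one_right this.symm).symm

include hK in
theorem twisted_fixed : ∀ x ∈ tw F (2 ^ m),
    x ∈ F4Data.tab.D.group F ∧ sigma m x = x := by
  intro x hx
  rw [tw, genSubgroup_eq g0] at hx
  induction hx using Subgroup.closure_induction with
  | mem y hy =>
    obtain ⟨w, hw, rfl⟩ := hy
    refine ⟨word_grp w, ?_⟩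
    rcases hw with ⟨t, rfl | rfl⟩ | ⟨t, u, rfl | rfl⟩
    · simpa [f4PairWord, f4p1, f4p4] using pairP_fixed hK t
    · simpa [f4PairWord, f4m1, f4m4] using pairN_fixed hK t
    · exact bU_fixed hK t u
    · rw [bV_word, mul_grp (mul_mem nWd_grp (word_grp _)) (inv_mem nWd_grp),
        mul_grp nWd_grp (word_grp _), bU_fixed hK, fixed_inv nWd_grp (sigma_nWd (by norm_num)),
        sigma_nWd (by norm_num)]
  | one => exact ⟨one_mem _, sigma_one⟩
  | mul a b _ _ ha hb => exact ⟨mul_mem ha.1 hb.1, by rw [mul_grp ha.1 hb.1, ha.2, hb.2]⟩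
  | inv a _ ha => exact ⟨inv_mem ha.1, fixed_inv ha.1 ha.2⟩

theorem n_mem : ∀ b < 2, nWd g0 F (wd b) ∈ tw F (2 ^ m) := by
  intro b hb
  interval_cases b
  · have hP : ∀ t : F, xg g0 33 (t ^ 2 ^ m) * xg g0 24 t ∈ tw F (2 ^ m) := fun t => by
      simpa [f4PairWord, f4p1, f4p4] using
        word_mem g0 (W := f4Words F (2 ^ m)) (Or.inl ⟨t, Or.inl rfl⟩)
    have hN : ∀ t : F, xg g0 14 (t ^ 2 ^ m) * xg g0 23 t ∈ tw F (2 ^ m) := fun t => by
      simpa [f4PairWord, f4m1, f4m4] using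
        word_mem g0 (W := f4Words F (2 ^ m)) (Or.inl ⟨t, Or.inr rfl⟩)
    have e : nWd g0 F (wd 0) = cWordVal g0 F [(33, 1), (24, 1), (14, 1), (23, 1), (33, 1), (24, 1)] := by
      rw [nWd_word g0]
      exact word_eq_modP g0 2 (by decide +kernel)
    rw [e]
    simp only [cWordVal, List.map_cons, List.map_nil, List.prod_cons, List.prod_nil, mul_one,
      Int.cast_one]
    have h1 := hP 1
    have h2 := hN 1
    rw [one_pow] at h1 h2
    simpa [mul_assoc] using mul_mem (mul_mem h1 h2) h1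
  · have hU : xg g0 28 (1 : F) * xg g0 30 1 ∈ tw F (2 ^ m) := by
      simpa [b2ClassWord, f4a, f4b, f4ab, f4aab] using
        word_mem g0 (W := f4Words F (2 ^ m)) (Or.inr ⟨0, 1, Or.inl rfl⟩)
    have hV : xg g0 19 (1 : F) * xg g0 17 1 ∈ tw F (2 ^ m) := by
      simpa [b2ClassWord, f4ma, f4mb, f4mab, f4maab] using
        word_mem g0 (W := f4Words F (2 ^ m)) (Or.inr ⟨0, 1, Or.inr rfl⟩)
    have e : nWd g0 F (wd 1) = cWordVal g0 F nWord1 := by
      rw [nWd_word g0]
      exact (word_eq_modP g0 2 nWord1OK).symm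
    rw [e]
    simp only [nWord1, cWordVal, List.map_cons, List.map_nil, List.prod_cons, List.prod_nil, mul_one,
      Int.cast_one]
    simpa [mul_assoc] using mul_mem (mul_mem (mul_mem (mul_mem hU hV) hU) hV) hU

include hK in
theorem fixed0 {u : GL F4Data.tab.D.Idx F} (hu : u ∈ uMinus g0 F (wd 0)) (h : sigma m u = u) :
    ∃ t : F, u = xg g0 33 (t ^ 2 ^ m) * xg g0 24 t := by
  obtain ⟨a, rfl⟩ := uMinus_coords gA (wd_wd 0) (by decide : ([24, 33] : List ℕ).Pairwise (· < ·))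
    inv0.symm hu
  have e : ∀ b : ℕ → F, sProd g0 [24, 33] b = xg g0 24 (b 24) * xg g0 33 (b 33) := fun b => by
    simp [sProd]
  have hd : 33 < F4Data.tab.n ∧ 24 < F4Data.tab.n ∧ F4Data.isog.π.getD 33 0 = 24 ∧
      F4Data.isog.π.getD 24 0 = 33 ∧ F4Data.isog.e.getD 33 1 = 2 ∧ F4Data.isog.e.getD 24 1 = 1 := by
    decide +kernel
  obtain ⟨l1, l2, p1, p2, e1, e2⟩ := hd
  rw [e, mul_grp (xgG _ _) (xgG _ _), sigma_xg l1, sigma_xg l2, p1, p2, e1, e2, one_mul,
    ← (pair_comm _ _).eq] at h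
  have h' : sProd g0 [24, 33] (fun r => if r = 24 then a 33 ^ (2 * 2 ^ m) else a 24 ^ 2 ^ m) =
      sProd g0 [24, 33] a := by
    rw [e, e]
    simpa using h
  have := sProd_unique g0 (by decide : ([24, 33] : List ℕ).Pairwise (· < ·)) (by decide +kernel) h'
    33 (by simp)
  simp at this
  exact ⟨a 24, by rw [e, this, (pair_comm _ _).eq]⟩

include hK in
theorem fixed1 {z : GL F4Data.tab.D.Idx F} (hz : z ∈ uMinus g0 F (wd 1)) (h : sigma m z = z) :
    ∃ t u : F, z = ((b2ClassWord (2 ^ m) f4a f4b f4ab f4aab t u).map fun e => xg g0 e.1 e.2).prod := by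
  obtain ⟨a, rfl⟩ := uMinus_coords gA (wd_wd 1)
    (by decide : ([25, 27, 28, 30] : List ℕ).Pairwise (· < ·)) inv1.symm hz
  rw [sProd_bP, sigma_bP_iff hK] at h
  refine ⟨a 25, a 28, ?_⟩
  rw [sProd_bP, bU_word, h.2, h.1]

/-- the data of the twisted group -/
@[reducible]
noncomputable def X : Tab.Twist gW.toGoodK F :=
  isoTwist gW facts perf (psi m) twOK (tw F (2 ^ m)) (twisted_fixed hK) n_mem
    (fun b hb u hu h => by
      interval_cases b
      · obtain ⟨t, rfl⟩ := fixed0 hK hu h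
        simpa [f4PairWord, f4p1, f4p4] using
          word_mem g0 (W := f4Words F (2 ^ m)) (Or.inl ⟨t, Or.inl rfl⟩)
      · obtain ⟨t, v, rfl⟩ := fixed1 hK hu h
        exact word_mem g0 (W := f4Words F (2 ^ m)) (Or.inr ⟨t, v, Or.inl rfl⟩))

theorem blocks : (X hK).Blocks := (X hK).blocks_of_check blkOK

/-- the fixed elements of the pair orbit -/
noncomputable def eP (m : ℕ) (t : F) : GL F4Data.tab.D.Idx F :=
  sProd g0 [24, 33] fun r => if r = 24 then t else t ^ 2 ^ m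

theorem eP_word (t : F) : eP m t = xg g0 33 (t ^ 2 ^ m) * xg g0 24 t := by
  rw [← (pair_comm _ _).eq]
  simp [eP, sProd]

theorem eP_mem (t : F) : eP m t ∈ uMinus g0 F (wd 0) ⊓ tw F (2 ^ m) := by
  refine Subgroup.mem_inf.2 ⟨sProd_mem g0 (show ∀ r ∈ ([24, 33] : List ℕ),
    r ∈ {r | F4Data.tab.N ≤ r ∧ r < F4Data.tab.n ∧ F4Data.tab.rw' (wd 0) r < F4Data.tab.N} by
      show ∀ r ∈ ([24, 33] : List ℕ), _ ∧ _ ∧ _
      decide +kernel) _, ?_⟩
  rw [eP_word]
  simpa [f4PairWord, f4p1, f4p4] using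
    word_mem g0 (W := f4Words F (2 ^ m)) (Or.inl ⟨t, Or.inl rfl⟩)

theorem bU_mem (t u : F) :
    ((b2ClassWord (2 ^ m) f4a f4b f4ab f4aab t u).map fun e => xg g0 e.1 e.2).prod ∈
      uMinus g0 F (wd 1) ⊓ tw F (2 ^ m) := by
  refine Subgroup.mem_inf.2 ⟨?_, word_mem g0 (Or.inr ⟨t, u, Or.inl rfl⟩)⟩
  rw [bU_word, bP_eq]
  refine sProd_mem g0 ?_ _
  show ∀ r ∈ ([25, 27, 28, 30] : List ℕ), _ ∧ _ ∧ _
  decide +kernel

include hK in
theorem card_orbit0 :
    Nat.card ↥(uMinus g0 F (wd 0) ⊓ tw F (2 ^ m)) = 2 ^ (2 * m + 1) := by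
  let f : F → ↥(uMinus g0 F (wd 0) ⊓ tw F (2 ^ m)) := fun t => ⟨eP m t, eP_mem t⟩
  have hf : Function.Bijective f := by
    refine ⟨fun a b e => ?_, ?_⟩
    · have e' := congrArg Subtype.val e
      change eP m a = eP m b at e'
      rw [eP, eP] at e'
      have hs : ∀ r ∈ ([24, 33] : List ℕ), F4Data.tab.N ≤ r ∧ r < F4Data.tab.n := by decide +kernel
      simpa using sProd_unique g0 (by decide : ([24, 33] : List ℕ).Pairwise (· < ·)) hs e' 24 (by simp)
    rintro ⟨u, hu⟩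
    obtain ⟨t, rfl⟩ := fixed0 hK hu.1 (twisted_fixed hK u hu.2).2
    exact ⟨t, Subtype.ext (eP_word t)⟩
  rw [← Nat.card_eq_of_bijective f hf, Nat.card_eq_fintype_card, hK]

include hK in
theorem card_orbit1 :
    Nat.card ↥(uMinus g0 F (wd 1) ⊓ tw F (2 ^ m)) = (2 ^ (2 * m + 1)) ^ 2 := by
  let f : F × F → ↥(uMinus g0 F (wd 1) ⊓ tw F (2 ^ m)) := fun p => ⟨_, bU_mem p.1 p.2⟩
  have hf : Function.Bijective f := by
    refine ⟨fun a b e => ?_, ?_⟩
    · have e' := congrArg Subtype.val e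
      change _ = ((b2ClassWord (2 ^ m) f4a f4b f4ab f4aab b.1 b.2).map fun e => xg g0 e.1 e.2).prod at e'
      simp only [f] at e'
      rw [bU_word, bU_word] at e'
      obtain ⟨h1, -, h3, -⟩ := bP_inj e'
      exact Prod.ext h1 h3
    rintro ⟨z, hz⟩
    obtain ⟨t, u, rfl⟩ := fixed1 hK hz.1 (twisted_fixed hK z hz.2).2
    exact ⟨(t, u), rfl⟩
  rw [← Nat.card_eq_of_bijective f hf, Nat.card_prod, Nat.card_eq_fintype_card, hK, sq]

theorem hq : 1 < 2 ^ (2 * m + 1) := Nat.one_lt_two_pow (by omega)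

theorem hblk : ∀ b < (X hK).nb, ∃ k,
    Nat.card ↥(uMinus gW.toGood F ((X hK).w b) ⊓ (X hK).G1) = (2 ^ (2 * m + 1)) ^ k ∧
      k * 2 = (F4Data.tab.invSet ((X hK).w b)).card := by
  intro b hb
  change b < 2 at hb
  show ∃ k, Nat.card ↥(uMinus g0 F (wd b) ⊓ tw F (2 ^ m)) = (2 ^ (2 * m + 1)) ^ k ∧
    k * 2 = (F4Data.tab.invSet (wd b)).card
  interval_cases b
  · exact ⟨1, (card_orbit0 hK).trans (pow_one _).symm, by rw [inv0]; decide⟩
  · exact ⟨2, card_orbit1 hK, by rw [inv1]; decide⟩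

/-! ### the torus -/

theorem A_vals : (List.range 4).map (fun i => (List.range 4).map fun j =>
    F4Data.tab.A j (F4Data.tab.smp i)) =
    [[2, -1, 0, 0], [-1, 2, -1, 0], [0, -2, 2, -1], [0, 0, -1, 2]] := by decide +kernel

/-- the inverse Cartan matrix -/
def killB : List (List ℤ) := [[2, 3, 2, 1], [3, 6, 4, 2], [4, 8, 6, 3], [2, 4, 3, 2]]

theorem killOK : F4Data.tab.checkKill killB 1 = true := by decide +kernel

theorem tor_inj {c d : ℕ → Fˣ} (h : tor F4Data.tab F c = tor F4Data.tab F d) :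
    ∀ j < 4, c j = d j := fun j hj => by
  have := wt_kill killOK ((tor_eq_iff_wt g0).1 h) j hj
  rwa [pow_one, Pi.div_apply, div_eq_one] at this

/-- parameters of the fixed torus -/
def par (m : ℕ) (p : Fˣ × Fˣ) (j : ℕ) : Fˣ :=
  match j with
  | 0 => p.1 ^ 2 ^ m
  | 1 => p.2 ^ 2 ^ m
  | 2 => p.2
  | 3 => p.1
  | _ => 1

theorem sigma_tor (c : ℕ → Fˣ) : sigma m (tor F4Data.tab F c) =
    tor F4Data.tab F fun j => (c (F4Data.isog.ρ.getD j 0) ^ 2 ^ m) ^
      F4Data.isog.ν.getD (F4Data.isog.ρ.getD j 0) 0 := by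
  have hm : ∀ u : Fˣ, Units.map (psi (F := F) m).toMonoidHom u = u ^ 2 ^ m := fun u =>
    Units.ext (by simp [psi_apply])
  refine (isoσ_tor gW facts perf _ c).trans ?_
  simp only [hm]

include hK in
theorem units_theta (t : Fˣ) : (t ^ 2 ^ m) ^ (2 * 2 ^ m) = t :=
  Units.ext (by simp only [Units.val_pow_eq_pow_val]; exact theta_sq hK _)

include hK in
theorem par_fixed (p : Fˣ × Fˣ) :
    sigma m (tor F4Data.tab F (par m p)) = tor F4Data.tab F (par m p) := by
  rw [sigma_tor]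
  refine tor_congr g0 fun j hj => ?_
  change j < 4 at hj
  interval_cases j <;> simp [par, F4Data.isog]
  all_goals rw [← pow_mul (_ ^ 2 ^ m), mul_comm _ 2, units_theta hK]

theorem S_split : ∀ x ∈ {x | ∃ w ∈ f4Words F (2 ^ m), x = (w.map fun e => xg g0 e.1 e.2).prod},
    x ∈ genS g0 F (Set.Ico F4Data.tab.N F4Data.tab.n) ∨
      x ∈ genS g0 F (Set.Iio F4Data.tab.N) := by
  have hp : ∀ r ∈ [33, 24, 27, 25, 28, 30], F4Data.tab.N ≤ r ∧ r < F4Data.tab.n := by decide +kernel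
  have hn : ∀ r ∈ [14, 23, 20, 22, 19, 17], r < F4Data.tab.N := by decide +kernel
  have P : ∀ w : List (ℕ × F), (∀ e ∈ w, e.1 ∈ [33, 24, 27, 25, 28, 30]) →
      (w.map fun e => xg g0 e.1 e.2).prod ∈ genS g0 F (Set.Ico F4Data.tab.N F4Data.tab.n) :=
    fun w hw => Subgroup.list_prod_mem _ fun y hy => by
      obtain ⟨e, he, rfl⟩ := List.mem_map.1 hy
      exact xg_mem_genS g0 (S := Set.Ico F4Data.tab.N F4Data.tab.n) (r := e.1) (hp _ (hw e he)) _
  have M : ∀ w : List (ℕ × F), (∀ e ∈ w, e.1 ∈ [14, 23, 20, 22, 19, 17]) →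
      (w.map fun e => xg g0 e.1 e.2).prod ∈ genS g0 F (Set.Iio F4Data.tab.N) :=
    fun w hw => Subgroup.list_prod_mem _ fun y hy => by
      obtain ⟨e, he, rfl⟩ := List.mem_map.1 hy
      exact xg_mem_genS g0 (S := Set.Iio F4Data.tab.N) (r := e.1) (hn _ (hw e he)) _
  rintro x ⟨w, (⟨t, rfl | rfl⟩ | ⟨t, u, rfl | rfl⟩), rfl⟩
  · exact Or.inl (P _ (by simp [f4PairWord, f4p1, f4p4]))
  · exact Or.inr (M _ (by simp [f4PairWord, f4m1, f4m4]))
  · exact Or.inl (P _ (by simp [b2ClassWord, f4a, f4b, f4ab, f4aab]))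
  · exact Or.inr (M _ (by simp [b2ClassWord, f4ma, f4mb, f4mab, f4maab]))

theorem neg0 : F4Data.tab.checkNeg (wd 0) [0, 3] = true := by decide +kernel

theorem neg1 : F4Data.tab.checkNeg (wd 1) [1, 2] = true := by decide +kernel

include hK in
theorem par_mem (p : Fˣ × Fˣ) : tor F4Data.tab F (par m p) ∈ tw F (2 ^ m) := by
  have hs : ∀ u : Fˣ, ∃ v : Fˣ, v * v = u := fun u => by
    obtain ⟨y, hy⟩ := perf (u : F)
    change y ^ 2 = _ at hy
    refine ⟨Units.mk0 y (fun h => u.ne_zero (by rw [← hy, h, zero_pow two_ne_zero])),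
      Units.ext ?_⟩
    rw [Units.val_mul, Units.val_mk0, ← pow_two, hy]
  obtain ⟨t, ht⟩ := hs p.1
  obtain ⟨s, hs'⟩ := hs p.2
  have key : ∀ b < 2, ∀ (Js : List ℕ), F4Data.tab.checkNeg (wd b) Js = true → ∀ q : Fˣ × Fˣ,
      (∀ j < 4, j ∉ Js → par m q j = 1) →
      tor F4Data.tab F (par m q * par m q) ∈ tw F (2 ^ m) := fun b hb Js hJ q hq =>
    (X hK).torus_sq_mem (genSubgroup_eq g0 _) S_split hb rfl hJ hq (tor_mem_group g0 _)
      (par_fixed hK q)
  have h0 := key 0 (by norm_num) [0, 3] neg0 (t, 1) (fun j hj hj' => by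
    interval_cases j <;> simp_all [par])
  have h1 := key 1 (by norm_num) [1, 2] neg1 (1, s) (fun j hj hj' => by
    interval_cases j <;> simp_all [par])
  have e : tor F4Data.tab F (par m p) = tor F4Data.tab F (par m (t, 1) * par m (t, 1)) *
      tor F4Data.tab F (par m (1, s) * par m (1, s)) := by
    rw [← map_mul]
    refine tor_congr g0 fun j hj => ?_
    change j < 4 at hj
    interval_cases j <;> simp [par, ← mul_pow, ht, hs']
  rw [e]
  exact mul_mem h0 h1

include hK in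
theorem card_torus :
    Nat.card ↥(F4Data.tab.D.diagonalSubgroup F ⊓ tw F (2 ^ m)) = (2 ^ (2 * m + 1) - 1) ^ 2 := by
  let f : Fˣ × Fˣ → ↥(F4Data.tab.D.diagonalSubgroup F ⊓ tw F (2 ^ m)) := fun p =>
    ⟨tor F4Data.tab F (par m p), Subgroup.mem_inf.2
      ⟨by rw [diagonalSubgroup_eq g0]; exact ⟨_, rfl⟩, par_mem hK p⟩⟩
  have hf : Function.Bijective f := by
    constructor
    · intro p p' e
      have h := tor_inj (congrArg Subtype.val e)
      exact Prod.ext (by simpa [par] using h 3 (by norm_num)) (by simpa [par] using h 2 (by norm_num))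
    · rintro ⟨x, hx⟩
      obtain ⟨hxd, hx1⟩ := Subgroup.mem_inf.1 hx
      rw [diagonalSubgroup_eq g0] at hxd
      obtain ⟨c, rfl⟩ := hxd
      have hfix := (twisted_fixed hK _ hx1).2
      rw [sigma_tor] at hfix
      have h := tor_inj hfix
      have h0 := h 0 (by norm_num)
      have h1 := h 1 (by norm_num)
      simp [F4Data.isog] at h0 h1
      refine ⟨(c 3, c 2), Subtype.ext (tor_congr g0 fun j hj => ?_)⟩
      change j < 4 at hj
      interval_cases j <;> simp [par, h0, h1]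
  rw [← Nat.card_eq_of_bijective f hf, Nat.card_prod, TwField.card_units (q := 2 ^ (2 * m + 1)) (k := 1)
    (by rw [hK, pow_one]), pow_one, sq]

/-! ### Poincaré certificate -/

/-- representatives -/
def reps0 : List Tab.Rep :=
  [⟨[0], 1, 237115927, [(true, 1)]⟩,
   ⟨[], 0, 555424024, [(true, 0)]⟩]

/-- representatives -/
def reps1 : List Tab.Rep :=
  [⟨[1, 0, 1, 0], 6, 136128770, [(true, 7), (true, 6)]⟩,
   ⟨[1, 0, 1, 0, 1, 0], 9, 153229828, [(true, 6), (true, 3)]⟩,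
   ⟨[1, 0], 3, 170073871, [(true, 5), (true, 7)]⟩,
   ⟨[1, 0, 1, 0, 1, 0, 1], 11, 554505496, [(false, 0), (true, 1)]⟩,
   ⟨[], 0, 555424024, [(false, 0), (true, 5)]⟩,
   ⟨[1], 2, 622073376, [(true, 2), (true, 4)]⟩,
   ⟨[1, 0, 1, 0, 1], 8, 638715435, [(true, 1), (true, 0)]⟩,
   ⟨[1, 0, 1], 5, 655101997, [(true, 0), (true, 2)]⟩]

/-- the steps -/
def steps : List (ℕ × List Tab.Rep) :=
  [(0, reps0), (1, reps1)]

theorem chainOK : F4Data.tab.checkChainB wd 2 2 [] steps = true := by decide +kernel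

include hK in
theorem card_twisted :
    Nat.card ↥(tw F (2 ^ m)) = (2 ^ (2 * m + 1)) ^ 12 * (2 ^ (2 * m + 1) - 1) *
      ((2 ^ (2 * m + 1)) ^ 3 + 1) * ((2 ^ (2 * m + 1)) ^ 4 - 1) *
      ((2 ^ (2 * m + 1)) ^ 6 + 1) := by
  have h := (X hK).card_G1_formula (d := 2) (M := 12) two_pos (hblk hK) rfl
    (steps := steps) chainOK
  have ht : Nat.card ↥(F4Data.tab.D.diagonalSubgroup F ⊓ (X hK).G1) =
      (2 ^ (2 * m + 1) - 1) ^ 2 := card_torus hK
  rw [ht] at h
  refine h.trans ?_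
  have h1 := hq (m := m)
  simp only [steps, reps0, reps1, List.map_cons, List.map_nil, List.sum_cons, List.sum_nil,
    List.prod_cons, List.prod_nil]
  generalize 2 ^ (2 * m + 1) = q at h1 ⊢
  zify [h1.le, Nat.one_le_pow 4 q (by omega)]
  ring

include hK in
theorem card_pos :
    Nat.card ↥(F4Data.tab.D.posUnipotent F ⊓ tw F (2 ^ m)) = (2 ^ (2 * m + 1)) ^ 12 :=
  (X hK).card_pos_fixed two_pos (hblk hK) rfl

theorem sep : (X hK).Sep := by
  intro b hb j hj c hc
  change b < 2 at hb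
  interval_cases b
  · refine (X hK).sep_of_witness (R := [24, 33]) (by decide)
      (fun r hr => by rw [show F4Data.tab.invSet _ = _ from inv0]; exact List.mem_toFinset.2 hr)
      ?_ (a := fun _ => 1) one_ne_zero ?_ hc
    · change j ∈ [0, 3] at hj
      simp only [List.mem_cons, List.not_mem_nil, or_false] at hj
      rcases hj with rfl | rfl <;> decide +kernel
    · have : sProd g0 [24, 33] (fun _ => (1 : F)) = eP m 1 :=
        sProd_congr g0 fun r _ => by simp
      rw [this]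
      exact (eP_mem 1).2
  · refine (X hK).sep_of_witness (R := [25, 27, 28, 30]) (by decide)
      (fun r hr => by rw [show F4Data.tab.invSet _ = _ from inv1]; exact List.mem_toFinset.2 hr)
      ?_ (a := crd 1 1 1 (1 * 1 ^ 2 + 1)) ?_ ?_ hc
    · change j ∈ [1, 2] at hj
      simp only [List.mem_cons, List.not_mem_nil, or_false] at hj
      rcases hj with rfl | rfl <;> decide +kernel
    · change j ∈ [1, 2] at hj
      simp only [List.mem_cons, List.not_mem_nil, or_false] at hj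
      rcases hj with rfl | rfl
      · rw [show F4Data.tab.smp 1 = 27 by decide +kernel]; simp [crd]
      · rw [show F4Data.tab.smp 2 = 25 by decide +kernel]; simp [crd]
    · rw [← bP_eq]
      have := (bU_mem (F := F) (m := m) 1 1).2
      rw [bU_word, one_pow, one_pow, one_pow] at this
      simpa using this

include hK in
theorem derived (hm : 1 ≤ m) : ⁅(X hK).G1, (X hK).G1⁆ = (X hK).G1 := by
  refine (X hK).derived_eq
    (S := {x | ∃ w ∈ f4Words F (2 ^ m), x = (w.map fun e => xg g0 e.1 e.2).prod})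
    (genSubgroup_eq g0 _) S_split ?_
  obtain ⟨u, hu⟩ := IsCyclic.exists_ofOrder_eq_natCard (α := Fˣ)
  have hord : orderOf u = 2 ^ (2 * m + 1) - 1 := by
    rw [hu, TwField.card_units (q := 2 ^ (2 * m + 1)) (k := 1) (by rw [hK, pow_one]), pow_one]
  have hth : 2 ≤ 2 ^ m := by
    calc 2 = 2 ^ 1 := rfl
      _ ≤ 2 ^ m := Nat.pow_le_pow_right two_pos hm
  have hq2 : 2 ^ (2 * m + 1) = 2 * (2 ^ m * 2 ^ m) := by ring
  have hsq : 2 * 2 ^ m ≤ 2 ^ m * 2 ^ m := Nat.mul_le_mul_right _ hth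
  have hne : ∀ z : ℤ, z ≠ 0 → z.natAbs < 2 ^ (2 * m + 1) - 1 → u ^ z ≠ 1 := fun z h0 hz h => by
    have h1 := orderOf_dvd_iff_zpow_eq_one.2 h
    rw [hord, Int.natCast_dvd] at h1
    exact absurd (Nat.le_of_dvd (Int.natAbs_pos.2 h0) h1) (not_le.2 hz)
  have hA : ([24, 33, 25, 27, 28, 30] : List ℕ).map (fun r => (List.range 4).map fun j =>
      F4Data.tab.A j r) = [[0, 0, -1, 2], [2, -1, 0, 0], [0, -2, 2, -1], [-1, 2, -1, 0],
        [-1, 0, 1, -1], [-2, 2, 0, -1]] := by decide +kernel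
  simp only [List.range_succ, List.range_zero, List.nil_append, List.cons_append, List.map_cons,
    List.map_nil, List.cons.injEq, and_true] at hA
  intro b hb z hz hz1
  change b < 2 at hb
  interval_cases b
  · refine (X hK).derived_of_torus hb (R := [24, 33]) (by decide) inv0.symm
      (par_mem hK (u, 1)) (fun r hr => ?_) hz hz1
    simp only [List.mem_cons, List.not_mem_nil, or_false] at hr
    rcases hr with rfl | rfl
    · have e : wt F4Data.tab F (par m (u, 1)) 24 = u ^ (2 : ℤ) := by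
        simp [wt, show F4Data.tab.l = 4 from rfl, Finset.prod_range_succ, hA, par]
      rw [e]
      exact hne _ (by norm_num) (by omega)
    · have e : wt F4Data.tab F (par m (u, 1)) 33 = u ^ (2 * (2 ^ m : ℕ) : ℤ) := by
        simp only [wt, show F4Data.tab.l = 4 from rfl, Finset.prod_range_succ, hA, par,
          Finset.prod_range_zero, one_mul, _root_.one_zpow, one_pow, mul_one, zpow_zero,
          ← zpow_natCast, ← zpow_mul]
        congr 1
        ring
      rw [e]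
      exact hne _ (by omega) (by omega)
  · refine (X hK).derived_of_torus hb (R := [25, 27, 28, 30]) (by decide) inv1.symm
      (par_mem hK (1, u)) (fun r hr => ?_) hz hz1
    simp only [List.mem_cons, List.not_mem_nil, or_false] at hr
    have e : ∀ r, wt F4Data.tab F (par m (1, u)) r =
        u ^ ((2 ^ m : ℕ) * F4Data.tab.A 1 r + F4Data.tab.A 2 r : ℤ) := fun r => by
      simp only [wt, show F4Data.tab.l = 4 from rfl, Finset.prod_range_succ, par,
        Finset.prod_range_zero, one_mul, _root_.one_zpow, one_pow, mul_one,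
        ← zpow_natCast, ← zpow_mul, ← _root_.zpow_add]
    rw [e]
    rcases hr with rfl | rfl | rfl | rfl <;>
      refine hne _ ?_ ?_ <;> simp only [hA] <;> omega

/-- a model of `W¹` -/
noncomputable def iotaFun : DihedralGroup 8 → Equiv.Perm (Fin F4Data.tab.n)
  | DihedralGroup.r i => (pL g0 (wd 0) * pL g0 (wd 1)) ^ i.val
  | DihedralGroup.sr i => pL g0 (wd 0) * (pL g0 (wd 0) * pL g0 (wd 1)) ^ i.val

theorem pL_val (L : List ℕ) (hL : F4Data.tab.Wd L) (s : Fin F4Data.tab.n) :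
    (pL g0 L s : ℕ) = F4Data.tab.rw' L s := pL_apply g0 hL s

/-- the word of an element of the model -/
def iotaWord : DihedralGroup 8 → List ℕ
  | DihedralGroup.r i => (List.replicate i.val (wd 0 ++ wd 1)).flatten
  | DihedralGroup.sr i => wd 0 ++ (List.replicate i.val (wd 0 ++ wd 1)).flatten

theorem iotaFun_eq : ∀ x : DihedralGroup 8, iotaFun x = pL g0 (iotaWord x) := by
  have h : ∀ k, (pL g0 (wd 0) * pL g0 (wd 1)) ^ k =
      pL g0 (List.replicate k (wd 0 ++ wd 1)).flatten := by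
    intro k
    induction k with
    | zero => rfl
    | succ k ih =>
      rw [pow_succ', ih, List.replicate_succ, List.flatten_cons, ← pL_append, ← pL_append]
  rintro (i | i)
  · exact h i.val
  · show pL g0 (wd 0) * _ = pL g0 (wd 0 ++ _)
    rw [h, ← pL_append]

theorem iotaWord_wd : ∀ x, F4Data.tab.Wd (iotaWord x) := by
  show ∀ x, ∀ i ∈ iotaWord x, i < F4Data.tab.l
  decide +kernel

theorem iota_key : (∀ x y : DihedralGroup 8, ∀ s < F4Data.tab.n,
    F4Data.tab.rw' (iotaWord (x * y)) s = F4Data.tab.rw' (iotaWord x ++ iotaWord y) s) ∧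
    ∀ x y : DihedralGroup 8,
      (∀ s < F4Data.tab.n, F4Data.tab.rw' (iotaWord x) s = F4Data.tab.rw' (iotaWord y) s) → x = y := by
  decide +kernel

/-- the model -/
noncomputable def iota : DihedralGroup 8 →* Equiv.Perm (Fin F4Data.tab.n) :=
  MonoidHom.mk' iotaFun fun x y => by
    rw [iotaFun_eq, iotaFun_eq, iotaFun_eq, ← pL_append]
    exact (pL_eq_iff g0 (iotaWord_wd _) (Wd.append_iff.2 ⟨iotaWord_wd _, iotaWord_wd _⟩)).2
      (iota_key.1 x y)

theorem iota_injective : Function.Injective iota := by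
  intro x y h
  change iotaFun x = iotaFun y at h
  rw [iotaFun_eq, iotaFun_eq] at h
  exact iota_key.2 x y ((pL_eq_iff g0 (iotaWord_wd _) (iotaWord_wd _)).1 h)

include hK in
theorem weyl_hom :
    ∃ φ : ↥(F4Data.tab.D.monomialSubgroup F ⊓ tw F (2 ^ m)) →* DihedralGroup 8,
      Function.Surjective φ ∧
      φ.ker = (F4Data.tab.D.diagonalSubgroup F ⊓ tw F (2 ^ m)).subgroupOf
        (F4Data.tab.D.monomialSubgroup F ⊓ tw F (2 ^ m)) := by
  refine (X hK).exists_model_hom1 (blocks hK) (hq (m := m)) (hblk hK) iota iota_injective ?_ ?_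
  · intro b hb
    change b < 2 at hb
    interval_cases b
    · exact ⟨DihedralGroup.sr 0, by
        show pL g0 (wd 0) * _ ^ (0 : ZMod 8).val = _
        rw [ZMod.val_zero, pow_zero, mul_one]⟩
    · refine ⟨DihedralGroup.sr 1, ?_⟩
      show pL g0 (wd 0) * (pL g0 (wd 0) * pL g0 (wd 1)) ^ (1 : ZMod 8).val = _
      rw [show ((1 : ZMod 8)).val = 1 from rfl, pow_one, ← mul_assoc]
      have : pL g0 (wd 0) * pL g0 (wd 0) = 1 := by
        have hsq := (blocks hK).sq 0 (by norm_num : 0 < 2)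
        rwa [pL_append] at hsq
      rw [this, one_mul]
  · rintro _ ⟨x, rfl⟩
    have ha : pL g0 (wd 0) ∈ Subgroup.closure {p | ∃ b < (X hK).nb, p = pL g0 ((X hK).w b)} :=
      Subgroup.subset_closure ⟨0, Nat.two_pos, rfl⟩
    have hb : pL g0 (wd 1) ∈ Subgroup.closure {p | ∃ b < (X hK).nb, p = pL g0 ((X hK).w b)} :=
      Subgroup.subset_closure ⟨1, Nat.one_lt_two, rfl⟩
    rcases x with i | i
    · exact pow_mem (mul_mem ha hb) _
    · exact mul_mem ha (pow_mem (mul_mem ha hb) _)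

end Cfsg.Agent.Chev.TwF4
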