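import Cfsg.Agent.Lib.Lie.TabE8Data

/-! Kernel checks of the tables of type E8. -/

set_option autoImplicit false
set_option maxRecDepth 8000

namespace Cfsg.Agent.Chev.E8Data

theorem shape : tab.checkShape = true := by decide +kernel

theorem cartanT : tab.checkCartan = true := by decide +kernel

theorem corootT : tab.checkCoroot = true := by decide +kernel

theorem walkT : tab.checkWalk = true := by decide +kernel

theorem sign : tab.checkSign = true := by decide +kernel

theorem refl : tab.checkRef = true := by decide +kernel

theorem equiv : tab.checkEquiv = true := by decide +kernel

theorem chains : tab.checkChains = true := by decide +kernel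

theorem descent : tab.checkDescent = true := by decide +kernel

theorem add : tab.checkAdd = true := by decide +kernel

theorem nMon : tab.checkN = true := by decide +kernel

theorem hDiag : tab.checkH = true := by decide +kernel

theorem comm : tab.checkComm = true := by decide +kernel

theorem chainT : tab.D.chain = (listBelow tab.rowA tab.n).toArray :=
  rfl

theorem good : tab.Good :=
  ⟨shape, cartanT, corootT, chainT, walkT, sign, refl, equiv, chains, descent, add, nMon, hDiag, comm⟩

end Cfsg.Agent.Chev.E8Data
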