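import Cfsg.Agent.Lib.Lie.ChevOrder
import Cfsg.Agent.Lib.Lie.TabE8

/-! Certificates for the order in type E8. -/

set_option autoImplicit false
set_option maxRecDepth 20000

namespace Cfsg.Agent.Chev.E8Data

/-- representatives -/
def reps0 : List Tab.Rep :=
  [⟨[], 0, 11713167200398047608, [(true, 1)]⟩,
   ⟨[4], 1, 11713167204475173240, [(true, 0)]⟩]

/-- representatives -/
def reps1 : List Tab.Rep :=
  [⟨[], 0, 11713167200398047608, [(false, 4), (true, 1)]⟩,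
   ⟨[3], 1, 11713449684775958904, [(true, 2), (true, 0)]⟩,
   ⟨[3, 4], 2, 11713449757405116792, [(true, 1), (false, 4)]⟩]

/-- representatives -/
def reps2 : List Tab.Rep :=
  [⟨[], 0, 11713167200398047608, [(false, 4), (false, 3), (true, 1)]⟩,
   ⟨[2], 1, 11785190735345318264, [(false, 4), (true, 2), (true, 0)]⟩,
   ⟨[2, 3], 2, 11786908030958532984, [(true, 3), (true, 1), (false, 3)]⟩,
   ⟨[2, 3, 4], 3, 11786908129156561272, [(true, 2), (false, 4), (false, 3)]⟩]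

/-- representatives -/
def reps3 : List Tab.Rep :=
  [⟨[1], 1, 11701063827939096952, [(false, 4), (true, 1), (false, 2), (true, 3)]⟩,
   ⟨[1, 3], 2, 11710084028345055608, [(true, 2), (true, 0), (true, 5), (false, 3)]⟩,
   ⟨[1, 3, 4], 3, 11710084152111954296, [(true, 1), (false, 4), (true, 6), (false, 3)]⟩,
   ⟨[], 0, 11713167200398047608, [(false, 4), (false, 3), (false, 2), (true, 0)]⟩,
   ⟨[1, 3, 2, 4, 3, 1], 6, 12202360814468888952, [(false, 2), (false, 3), (false, 4), (true, 7)]⟩,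
   ⟨[1, 3, 2], 3, 12214426876679780728, [(true, 6), (false, 2), (true, 1), (false, 3)]⟩,
   ⟨[1, 3, 2, 4], 4, 12214426931727202680, [(true, 5), (true, 7), (true, 2), (false, 3)]⟩,
   ⟨[1, 3, 2, 4, 3], 5, 12220656520451357048, [(false, 2), (true, 6), (false, 4), (true, 4)]⟩]

/-- representatives -/
def reps4 : List Tab.Rep :=
  [⟨[5, 4, 3, 1], 4, 11700222697316187256, [(false, 3), (false, 1), (true, 5), (true, 4), (false, 4)]⟩,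
   ⟨[], 0, 11713167200398047608, [(false, 4), (false, 3), (false, 2), (false, 1), (true, 2)]⟩,
   ⟨[5], 1, 11713167200414366840, [(true, 3), (false, 3), (false, 2), (false, 1), (true, 1)]⟩,
   ⟨[5, 4], 2, 11713167208753298552, [(true, 2), (true, 4), (false, 2), (false, 1), (false, 4)]⟩,
   ⟨[5, 4, 3], 3, 11714014825146121336, [(false, 3), (true, 3), (true, 9), (true, 0), (false, 4)]⟩,
   ⟨[5, 4, 3, 1, 2], 5, 11988412425897409656, [(false, 3), (true, 6), (true, 0), (true, 9), (false, 4)]⟩,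
   ⟨[5, 4, 3, 1, 2, 3], 6, 11999715152413752440, [(true, 7), (true, 5), (false, 1), (false, 2), (false, 4)]⟩,
   ⟨[5, 4, 3, 1, 2, 3, 4], 7, 11999715323090336888, [(true, 6), (false, 3), (false, 1), (false, 2), (true, 8)]⟩,
   ⟨[5, 4, 3, 1, 2, 3, 4, 5], 8, 11999715323756650360, [(false, 4), (false, 3), (false, 1), (false, 2), (true, 7)]⟩,
   ⟨[5, 4, 3, 2], 4, 12002204639626689656, [(false, 3), (false, 2), (true, 4), (true, 5), (false, 4)]⟩]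

/-- representatives -/
def reps5 : List Tab.Rep :=
  [⟨[0, 2, 3, 1, 4, 3, 2, 0, 5, 4, 3, 1], 12, 3980541598672725880, [(false, 3), (false, 4), (true, 6), (true, 4), (false, 1), (true, 22)]⟩,
   ⟨[0, 2, 3, 1, 4, 3, 2, 0], 8, 3998782513943574904, [(false, 1), (false, 3), (false, 2), (false, 4), (true, 2), (true, 23)]⟩,
   ⟨[0, 2, 3, 1, 4, 3, 2, 0, 5], 9, 3998782514440808312, [(true, 3), (false, 3), (false, 2), (false, 4), (true, 1), (true, 24)]⟩,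
   ⟨[0, 2, 3, 1, 4, 3, 2, 0, 5, 4], 10, 3998782705990739832, [(true, 2), (true, 4), (false, 2), (false, 4), (false, 1), (true, 25)]⟩,
   ⟨[0, 2, 3, 1, 4, 3, 2, 0, 5, 4, 3], 11, 4013473904659900280, [(false, 3), (true, 3), (true, 10), (true, 0), (false, 1), (true, 26)]⟩,
   ⟨[0], 1, 5588302493499750776, [(false, 4), (false, 3), (true, 17), (false, 1), (false, 5), (true, 21)]⟩,
   ⟨[0, 2, 3, 1, 4, 3, 2, 0, 5, 4, 3, 1, 2], 13, 8880314223516559224, [(false, 3), (true, 7), (true, 0), (true, 10), (false, 1), (false, 5)]⟩,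
   ⟨[0, 2, 3, 1, 4, 3, 2, 0, 5, 4, 3, 1, 2, 3], 14, 8901221949293569912, [(true, 8), (true, 6), (false, 4), (false, 2), (false, 1), (false, 5)]⟩,
   ⟨[0, 2, 3, 1, 4, 3, 2, 0, 5, 4, 3, 1, 2, 3, 4], 15, 8901222286100309880, [(true, 7), (false, 3), (false, 4), (false, 2), (true, 9), (false, 5)]⟩,
   ⟨[0, 2, 3, 1, 4, 3, 2, 0, 5, 4, 3, 1, 2, 3, 4, 5], 16, 8901222287699862136, [(false, 1), (false, 3), (false, 4), (false, 2), (true, 8), (false, 5)]⟩,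
   ⟨[0, 2, 3, 1, 4, 3, 2, 0, 5, 4, 3, 2], 12, 8913246568158439288, [(false, 3), (false, 2), (true, 4), (true, 6), (false, 1), (false, 5)]⟩,
   ⟨[0, 2, 3, 1], 4, 9747621988368349560, [(true, 12), (false, 1), (false, 3), (true, 18), (false, 5), (false, 2)]⟩,
   ⟨[0, 2, 3, 1, 4], 5, 9747622111398492536, [(true, 11), (true, 14), (false, 3), (true, 19), (true, 13), (false, 2)]⟩,
   ⟨[0, 2, 3, 1, 4, 5], 6, 9747622112214493048, [(false, 5), (true, 15), (false, 3), (true, 20), (true, 12), (false, 2)]⟩,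
   ⟨[0, 2, 3, 1, 4, 3], 6, 9763432655938287992, [(false, 1), (true, 12), (true, 23), (false, 4), (true, 15), (false, 2)]⟩,
   ⟨[0, 2, 3, 1, 4, 3, 5], 7, 9763432656435521400, [(true, 16), (true, 13), (true, 24), (false, 4), (true, 14), (false, 2)]⟩,
   ⟨[0, 2, 3, 1, 4, 3, 5, 4], 8, 9763432886640158584, [(true, 15), (false, 5), (true, 25), (false, 4), (false, 1), (false, 2)]⟩,
   ⟨[0, 2], 2, 9767547436216842616, [(false, 4), (true, 18), (true, 5), (false, 1), (false, 5), (false, 2)]⟩,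
   ⟨[0, 2, 3], 3, 9775487727594862968, [(true, 19), (true, 17), (false, 3), (true, 11), (false, 5), (false, 2)]⟩,
   ⟨[0, 2, 3, 4], 4, 9775487945114286456, [(true, 18), (false, 4), (false, 3), (true, 12), (true, 20), (false, 2)]⟩,
   ⟨[0, 2, 3, 4, 5], 5, 9775487945930286968, [(false, 5), (false, 4), (false, 3), (true, 13), (true, 19), (false, 2)]⟩,
   ⟨[], 0, 11713167200398047608, [(false, 4), (false, 3), (false, 2), (false, 1), (false, 5), (true, 5)]⟩,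
   ⟨[0, 2, 3, 1, 4, 3, 2, 5, 4, 3, 1], 11, 13275903059844507512, [(false, 3), (false, 4), (false, 5), (true, 26), (false, 1), (true, 0)]⟩,
   ⟨[0, 2, 3, 1, 4, 3, 2], 7, 13294135179022334328, [(false, 1), (false, 3), (true, 14), (false, 4), (true, 24), (true, 1)]⟩,
   ⟨[0, 2, 3, 1, 4, 3, 2, 5], 8, 13294135179519567736, [(true, 25), (false, 3), (true, 15), (false, 4), (true, 23), (true, 2)]⟩,
   ⟨[0, 2, 3, 1, 4, 3, 2, 5, 4], 9, 13294135371069499256, [(true, 24), (true, 26), (true, 16), (false, 4), (false, 1), (true, 3)]⟩,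
   ⟨[0, 2, 3, 1, 4, 3, 2, 5, 4, 3], 10, 13308835365831681912, [(false, 3), (true, 25), (false, 5), (true, 22), (false, 1), (true, 4)]⟩]

/-- representatives -/
def reps6 : List Tab.Rep :=
  [⟨[6, 5, 4, 3, 1, 2, 0, 3, 2, 4, 3, 1, 5, 4, 3, 2, 0, 6, 5, 4, 3, 1], 22, 2461163863644021409, [(false, 3), (false, 4), (true, 12), (true, 5), (false, 2), (true, 50), (false, 0)]⟩,
   ⟨[6, 5, 4, 3, 1, 2, 0, 3, 2, 4, 3, 1, 5, 4, 3, 2, 0], 17, 2485579636115939194, [(false, 2), (false, 3), (false, 1), (false, 4), (false, 0), (true, 51), (true, 2)]⟩,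
   ⟨[6, 5, 4, 3, 1, 2, 0, 3, 2, 4, 3, 1, 5, 4, 3, 2, 0, 6], 18, 2485579636117164193, [(false, 2), (false, 3), (false, 1), (false, 4), (true, 3), (true, 52), (true, 1)]⟩,
   ⟨[6, 5, 4, 3, 1, 2, 0, 3, 2, 4, 3, 1, 5, 4, 3, 2, 0, 6, 5], 19, 2485579637048648353, [(true, 4), (false, 3), (false, 1), (false, 4), (true, 2), (true, 53), (false, 0)]⟩,
   ⟨[6, 5, 4, 3, 1, 2, 0, 3, 2, 4, 3, 1, 5, 4, 3, 2, 0, 6, 5, 4], 20, 2485579922417361569, [(true, 3), (true, 5), (false, 1), (false, 4), (false, 2), (true, 54), (false, 0)]⟩,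
   ⟨[6, 5, 4, 3, 1, 2, 0, 3, 2, 4, 3, 1, 5, 4, 3, 2, 0, 6, 5, 4, 3], 21, 2506480974117184161, [(false, 3), (true, 4), (true, 17), (true, 0), (false, 2), (true, 55), (false, 0)]⟩,
   ⟨[6, 5, 4, 3, 1, 2, 0], 7, 5214784185859734394, [(false, 3), (true, 7), (false, 0), (true, 11), (false, 4), (true, 44), (false, 5)]⟩,
   ⟨[6, 5, 4, 3, 1, 2, 0, 3], 8, 5226335393430797178, [(true, 8), (true, 6), (true, 28), (false, 2), (false, 4), (true, 45), (false, 5)]⟩,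
   ⟨[6, 5, 4, 3, 1, 2, 0, 3, 4], 9, 5226335568368860026, [(true, 7), (false, 3), (true, 29), (false, 2), (true, 9), (true, 46), (false, 5)]⟩,
   ⟨[6, 5, 4, 3, 1, 2, 0, 3, 4, 5], 10, 5226335569051819898, [(false, 4), (false, 3), (true, 30), (false, 2), (true, 8), (true, 47), (true, 10)]⟩,
   ⟨[6, 5, 4, 3, 1, 2, 0, 3, 4, 5, 6], 11, 5226335569054486689, [(false, 4), (false, 3), (true, 31), (false, 2), (false, 5), (true, 48), (true, 9)]⟩,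
   ⟨[6, 5, 4, 3, 2, 0], 6, 5229139345247468410, [(false, 3), (false, 2), (false, 0), (true, 6), (false, 4), (true, 49), (false, 5)]⟩,
   ⟨[6, 5, 4, 3, 1, 2, 0, 3, 2, 4, 3, 1, 5, 4, 3, 2, 0, 6, 5, 4, 3, 1, 2], 23, 8874097679261999777, [(false, 3), (true, 13), (true, 0), (true, 17), (false, 2), (false, 5), (false, 0)]⟩,
   ⟨[6, 5, 4, 3, 1, 2, 0, 3, 2, 4, 3, 1, 5, 4, 3, 2, 0, 6, 5, 4, 3, 1, 2, 3], 24, 8902910704999703201, [(true, 14), (true, 12), (false, 4), (false, 1), (false, 2), (false, 5), (false, 0)]⟩,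
   ⟨[6, 5, 4, 3, 1, 2, 0, 3, 2, 4, 3, 1, 5, 4, 3, 2, 0, 6, 5, 4, 3, 1, 2, 3, 4], 25, 8902911135626011297, [(true, 13), (false, 3), (false, 4), (false, 1), (true, 15), (false, 5), (false, 0)]⟩,
   ⟨[6, 5, 4, 3, 1, 2, 0, 3, 2, 4, 3, 1, 5, 4, 3, 2, 0, 6, 5, 4, 3, 1, 2, 3, 4, 5], 26, 8902911137458479777, [(false, 2), (false, 3), (false, 4), (false, 1), (true, 14), (false, 5), (true, 16)]⟩,
   ⟨[6, 5, 4, 3, 1, 2, 0, 3, 2, 4, 3, 1, 5, 4, 3, 2, 0, 6, 5, 4, 3, 1, 2, 3, 4, 5, 6], 27, 8902911137467731438, [(false, 2), (false, 3), (false, 4), (false, 1), (false, 0), (false, 5), (true, 15)]⟩,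
   ⟨[6, 5, 4, 3, 1, 2, 0, 3, 2, 4, 3, 1, 5, 4, 3, 2, 0, 6, 5, 4, 3, 2], 22, 8919414854159671969, [(false, 3), (false, 1), (true, 5), (true, 12), (false, 2), (false, 5), (false, 0)]⟩,
   ⟨[6, 5, 4, 3, 1, 2, 0, 3, 2, 4, 3, 1], 12, 10175182452173929338, [(false, 0), (false, 2), (false, 3), (true, 32), (true, 19), (false, 1), (false, 5)]⟩,
   ⟨[6, 5, 4, 3, 1, 2, 0, 3, 2, 4, 3, 1, 5], 13, 10175182452454236026, [(true, 21), (false, 2), (false, 3), (true, 33), (true, 18), (false, 1), (true, 20)]⟩,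
   ⟨[6, 5, 4, 3, 1, 2, 0, 3, 2, 4, 3, 1, 5, 6], 14, 10175182452456902817, [(true, 22), (false, 2), (false, 3), (true, 34), (false, 5), (false, 1), (true, 19)]⟩,
   ⟨[6, 5, 4, 3, 1, 2, 0, 3, 2, 4, 3, 1, 5, 4], 14, 10175182682391224186, [(true, 19), (true, 24), (false, 3), (true, 35), (false, 0), (false, 1), (true, 22)]⟩,
   ⟨[6, 5, 4, 3, 1, 2, 0, 3, 2, 4, 3, 1, 5, 4, 6], 15, 10175182682392449185, [(true, 20), (true, 25), (false, 3), (true, 36), (true, 23), (false, 1), (true, 21)]⟩,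
   ⟨[6, 5, 4, 3, 1, 2, 0, 3, 2, 4, 3, 1, 5, 4, 6, 5], 16, 10175182683441373857, [(false, 5), (true, 26), (false, 3), (true, 37), (true, 22), (false, 1), (false, 0)]⟩,
   ⟨[6, 5, 4, 3, 1, 2, 0, 3, 2, 4, 3, 1, 5, 4, 3], 15, 10195801228204744570, [(false, 2), (true, 21), (true, 51), (false, 4), (false, 0), (false, 1), (true, 25)]⟩,
   ⟨[6, 5, 4, 3, 1, 2, 0, 3, 2, 4, 3, 1, 5, 4, 3, 6], 16, 10195801228205969569, [(false, 2), (true, 22), (true, 52), (false, 4), (true, 26), (false, 1), (true, 24)]⟩,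
   ⟨[6, 5, 4, 3, 1, 2, 0, 3, 2, 4, 3, 1, 5, 4, 3, 6, 5], 17, 10195801229137453729, [(true, 27), (true, 23), (true, 53), (false, 4), (true, 25), (false, 1), (false, 0)]⟩,
   ⟨[6, 5, 4, 3, 1, 2, 0, 3, 2, 4, 3, 1, 5, 4, 3, 6, 5, 4], 18, 10195801540275970721, [(true, 26), (false, 5), (true, 54), (false, 4), (false, 2), (false, 1), (false, 0)]⟩,
   ⟨[6, 5, 4, 3, 1, 2, 0, 3, 2], 9, 10198194246859520890, [(true, 29), (false, 0), (true, 7), (false, 2), (false, 4), (false, 1), (false, 5)]⟩,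
   ⟨[6, 5, 4, 3, 1, 2, 0, 3, 2, 4], 10, 10198194305833466746, [(true, 28), (true, 32), (true, 8), (false, 2), (true, 30), (false, 1), (false, 5)]⟩,
   ⟨[6, 5, 4, 3, 1, 2, 0, 3, 2, 4, 5], 11, 10198194306516426618, [(false, 4), (true, 33), (true, 9), (false, 2), (true, 29), (false, 1), (true, 31)]⟩,
   ⟨[6, 5, 4, 3, 1, 2, 0, 3, 2, 4, 5, 6], 12, 10198194306519093409, [(false, 4), (true, 34), (true, 10), (false, 2), (false, 5), (false, 1), (true, 30)]⟩,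
   ⟨[6, 5, 4, 3, 1, 2, 0, 3, 2, 4, 3], 11, 10212618314838801274, [(false, 0), (true, 29), (false, 3), (true, 18), (true, 33), (false, 1), (false, 5)]⟩,
   ⟨[6, 5, 4, 3, 1, 2, 0, 3, 2, 4, 3, 5], 12, 10212618315119107962, [(true, 35), (true, 30), (false, 3), (true, 19), (true, 32), (false, 1), (true, 34)]⟩,
   ⟨[6, 5, 4, 3, 1, 2, 0, 3, 2, 4, 3, 5, 6], 13, 10212618315121774753, [(true, 36), (true, 31), (false, 3), (true, 20), (false, 5), (false, 1), (true, 33)]⟩,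
   ⟨[6, 5, 4, 3, 1, 2, 0, 3, 2, 4, 3, 5, 4], 13, 10212618583710801786, [(true, 33), (false, 4), (false, 3), (true, 21), (false, 0), (false, 1), (true, 36)]⟩,
   ⟨[6, 5, 4, 3, 1, 2, 0, 3, 2, 4, 3, 5, 4, 6], 14, 10212618583712026785, [(true, 34), (false, 4), (false, 3), (true, 22), (true, 37), (false, 1), (true, 35)]⟩,
   ⟨[6, 5, 4, 3, 1, 2, 0, 3, 2, 4, 3, 5, 4, 6, 5], 15, 10212618584760951457, [(false, 5), (false, 4), (false, 3), (true, 23), (true, 36), (false, 1), (false, 0)]⟩,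
   ⟨[6, 5, 4, 3, 1], 5, 11699942321851104122, [(false, 3), (false, 1), (true, 44), (true, 43), (false, 4), (false, 0), (false, 5)]⟩,
   ⟨[], 0, 11713167200398047608, [(false, 4), (false, 3), (false, 2), (false, 1), (false, 5), (false, 0), (true, 40)]⟩,
   ⟨[6], 1, 11713167200398112378, [(false, 4), (false, 3), (false, 2), (false, 1), (true, 41), (false, 0), (true, 39)]⟩,
   ⟨[6, 5], 2, 11713167200431078266, [(true, 42), (false, 3), (false, 2), (false, 1), (true, 40), (false, 0), (false, 5)]⟩,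
   ⟨[6, 5, 4], 3, 11713167213031488378, [(true, 41), (true, 43), (false, 2), (false, 1), (false, 4), (false, 0), (false, 5)]⟩,
   ⟨[6, 5, 4, 3], 4, 11714297395339492218, [(false, 3), (true, 42), (true, 49), (true, 38), (false, 4), (false, 0), (false, 5)]⟩,
   ⟨[6, 5, 4, 3, 1, 2], 6, 12060187449741966202, [(false, 3), (true, 45), (true, 38), (true, 49), (false, 4), (true, 6), (false, 5)]⟩,
   ⟨[6, 5, 4, 3, 1, 2, 3], 7, 12071772742173490042, [(true, 46), (true, 44), (false, 1), (false, 2), (false, 4), (true, 7), (false, 5)]⟩,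
   ⟨[6, 5, 4, 3, 1, 2, 3, 4], 8, 12071772917111552890, [(true, 45), (false, 3), (false, 1), (false, 2), (true, 47), (true, 8), (false, 5)]⟩,
   ⟨[6, 5, 4, 3, 1, 2, 3, 4, 5], 9, 12071772917794512762, [(false, 4), (false, 3), (false, 1), (false, 2), (true, 46), (true, 9), (true, 48)]⟩,
   ⟨[6, 5, 4, 3, 1, 2, 3, 4, 5, 6], 10, 12071772917797179553, [(false, 4), (false, 3), (false, 1), (false, 2), (false, 5), (true, 10), (true, 47)]⟩,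
   ⟨[6, 5, 4, 3, 2], 5, 12074542609129700218, [(false, 3), (false, 2), (true, 43), (true, 44), (false, 4), (true, 11), (false, 5)]⟩,
   ⟨[6, 5, 4, 3, 1, 2, 0, 3, 2, 4, 3, 1, 5, 4, 3, 2, 6, 5, 4, 3, 1], 21, 14782920085152965281, [(false, 3), (false, 4), (false, 5), (true, 55), (false, 2), (true, 0), (false, 0)]⟩,
   ⟨[6, 5, 4, 3, 1, 2, 0, 3, 2, 4, 3, 1, 5, 4, 3, 2], 16, 14807321563973721978, [(false, 2), (false, 3), (true, 24), (false, 4), (false, 0), (true, 1), (true, 52)]⟩,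
   ⟨[6, 5, 4, 3, 1, 2, 0, 3, 2, 4, 3, 1, 5, 4, 3, 2, 6], 17, 14807321563974946977, [(false, 2), (false, 3), (true, 25), (false, 4), (true, 53), (true, 2), (true, 51)]⟩,
   ⟨[6, 5, 4, 3, 1, 2, 0, 3, 2, 4, 3, 1, 5, 4, 3, 2, 6, 5], 18, 14807321564906431137, [(true, 54), (false, 3), (true, 26), (false, 4), (true, 52), (true, 3), (false, 0)]⟩,
   ⟨[6, 5, 4, 3, 1, 2, 0, 3, 2, 4, 3, 1, 5, 4, 3, 2, 6, 5, 4], 19, 14807321850275144353, [(true, 53), (true, 55), (true, 27), (false, 4), (false, 2), (true, 4), (false, 0)]⟩,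
   ⟨[6, 5, 4, 3, 1, 2, 0, 3, 2, 4, 3, 1, 5, 4, 3, 2, 6, 5, 4, 3], 20, 14828237195626128033, [(false, 3), (true, 54), (false, 5), (true, 50), (false, 2), (true, 5), (false, 0)]⟩]

/-- representatives -/
def reps7 : List Tab.Rep :=
  [⟨[7, 6, 5, 4, 3, 1, 2, 0, 3, 2, 4, 3, 1, 5, 4, 3, 2, 6, 5, 4, 3, 1, 7, 6, 5, 4, 3, 2, 0], 29, 34285501980772258, [(false, 4), (false, 5), (true, 34), (false, 6), (false, 3), (true, 239), (false, 2), (false, 0)]⟩,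
   ⟨[7, 6, 5, 4, 3, 1, 2, 0, 3, 2, 4, 3, 1, 5, 4, 3, 2, 0, 6, 5, 4, 3, 1, 2, 3, 4, 5, 6, 7, 6, 5, 4, 3, 1, 2, 0, 3, 2, 4, 3, 1, 5, 4, 3, 2, 0, 6, 5, 4, 3, 1], 51, 1011033409587149689, [(false, 3), (false, 2), (true, 169), (true, 7), (false, 4), (true, 232), (false, 5), (false, 6)]⟩,
   ⟨[7, 6, 5, 4, 3, 1, 2, 0, 3, 2, 4, 3, 1, 5, 4, 3, 2, 0, 6, 5, 4, 3, 1, 2, 3, 4, 5, 7, 6, 5, 4, 3, 1, 2, 0, 3, 2, 4, 3, 1, 5, 4, 3, 2, 0], 45, 1046961029994215907, [(false, 4), (false, 3), (false, 1), (false, 2), (false, 5), (true, 233), (false, 6), (true, 3)]⟩,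
   ⟨[7, 6, 5, 4, 3, 1, 2, 0, 3, 2, 4, 3, 1, 5, 4, 3, 2, 0, 6, 5, 4, 3, 1, 2, 3, 4, 5, 6, 7, 6, 5, 4, 3, 1, 2, 0, 3, 2, 4, 3, 1, 5, 4, 3, 2, 0], 46, 1046961029994243084, [(false, 4), (false, 3), (false, 1), (false, 2), (false, 5), (true, 234), (true, 4), (true, 2)]⟩,
   ⟨[7, 6, 5, 4, 3, 1, 2, 0, 3, 2, 4, 3, 1, 5, 4, 3, 2, 0, 6, 5, 4, 3, 1, 2, 3, 4, 5, 6, 7, 6, 5, 4, 3, 1, 2, 0, 3, 2, 4, 3, 1, 5, 4, 3, 2, 0, 6], 47, 1046961030001134457, [(false, 4), (false, 3), (false, 1), (false, 2), (true, 5), (true, 235), (true, 3), (false, 6)]⟩,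
   ⟨[7, 6, 5, 4, 3, 1, 2, 0, 3, 2, 4, 3, 1, 5, 4, 3, 2, 0, 6, 5, 4, 3, 1, 2, 3, 4, 5, 6, 7, 6, 5, 4, 3, 1, 2, 0, 3, 2, 4, 3, 1, 5, 4, 3, 2, 0, 6, 5], 48, 1046961031731641209, [(true, 6), (false, 3), (false, 1), (false, 2), (true, 4), (true, 236), (false, 5), (false, 6)]⟩,
   ⟨[7, 6, 5, 4, 3, 1, 2, 0, 3, 2, 4, 3, 1, 5, 4, 3, 2, 0, 6, 5, 4, 3, 1, 2, 3, 4, 5, 6, 7, 6, 5, 4, 3, 1, 2, 0, 3, 2, 4, 3, 1, 5, 4, 3, 2, 0, 6, 5, 4], 49, 1046961461823175545, [(true, 5), (true, 7), (false, 1), (false, 2), (false, 4), (true, 237), (false, 5), (false, 6)]⟩,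
   ⟨[7, 6, 5, 4, 3, 1, 2, 0, 3, 2, 4, 3, 1, 5, 4, 3, 2, 0, 6, 5, 4, 3, 1, 2, 3, 4, 5, 6, 7, 6, 5, 4, 3, 1, 2, 0, 3, 2, 4, 3, 1, 5, 4, 3, 2, 0, 6, 5, 4, 3], 50, 1074364733886200697, [(false, 3), (true, 6), (true, 182), (true, 1), (false, 4), (true, 238), (false, 5), (false, 6)]⟩,
   ⟨[7, 6, 5, 4, 3, 1, 2, 0, 3, 2, 4, 3, 1, 5, 4, 3, 2, 0, 6, 5, 4, 3, 1], 23, 2388825894141010593, [(false, 3), (false, 4), (true, 63), (true, 24), (false, 2), (true, 211), (false, 0), (true, 9)]⟩,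
   ⟨[7, 6, 5, 4, 3, 1, 2, 0, 3, 2, 4, 3, 1, 5, 4, 3, 2, 0, 6, 5, 4, 3, 1, 7], 24, 2388825894141015886, [(false, 3), (false, 4), (true, 64), (true, 25), (false, 2), (true, 212), (true, 10), (true, 8)]⟩,
   ⟨[7, 6, 5, 4, 3, 1, 2, 0, 3, 2, 4, 3, 1, 5, 4, 3, 2, 0, 6, 5, 4, 3, 1, 7, 6], 25, 2388825894144784546, [(false, 3), (false, 4), (true, 65), (true, 26), (true, 11), (true, 213), (true, 9), (false, 0)]⟩,
   ⟨[7, 6, 5, 4, 3, 1, 2, 0, 3, 2, 4, 3, 1, 5, 4, 3, 2, 0, 6, 5, 4, 3, 1, 7, 6, 5], 26, 2388825895292798882, [(true, 12), (false, 4), (true, 66), (true, 27), (true, 10), (true, 214), (false, 2), (false, 0)]⟩,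
   ⟨[7, 6, 5, 4, 3, 1, 2, 0, 3, 2, 4, 3, 1, 5, 4, 3, 2, 0, 6, 5, 4, 3, 1, 7, 6, 5, 4], 27, 2388826219048241058, [(true, 11), (true, 13), (true, 67), (true, 28), (false, 3), (true, 215), (false, 2), (false, 0)]⟩,
   ⟨[7, 6, 5, 4, 3, 1, 2, 0, 3, 2, 4, 3, 1, 5, 4, 3, 2, 0, 6, 5, 4, 3, 1, 7, 6, 5, 4, 3], 28, 2412222019748923298, [(false, 4), (true, 12), (true, 195), (false, 6), (false, 3), (true, 216), (false, 2), (false, 0)]⟩,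
   ⟨[7, 6, 5, 4, 3, 1, 2, 0, 3, 2, 4, 3, 1, 5, 4, 3, 2, 0], 18, 2413522042078011513, [(false, 2), (false, 3), (false, 1), (false, 4), (false, 0), (true, 217), (true, 15), (false, 6)]⟩,
   ⟨[7, 6, 5, 4, 3, 1, 2, 0, 3, 2, 4, 3, 1, 5, 4, 3, 2, 0, 6], 19, 2413522042079301537, [(false, 2), (false, 3), (false, 1), (false, 4), (true, 17), (true, 218), (true, 14), (true, 16)]⟩,
   ⟨[7, 6, 5, 4, 3, 1, 2, 0, 3, 2, 4, 3, 1, 5, 4, 3, 2, 0, 6, 7], 20, 2413522042079312206, [(false, 2), (false, 3), (false, 1), (false, 4), (true, 18), (true, 219), (false, 6), (true, 15)]⟩,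
   ⟨[7, 6, 5, 4, 3, 1, 2, 0, 3, 2, 4, 3, 1, 5, 4, 3, 2, 0, 6, 5], 20, 2413522043027432097, [(true, 20), (false, 3), (false, 1), (false, 4), (true, 15), (true, 220), (false, 0), (true, 18)]⟩,
   ⟨[7, 6, 5, 4, 3, 1, 2, 0, 3, 2, 4, 3, 1, 5, 4, 3, 2, 0, 6, 5, 7], 21, 2413522043027437390, [(true, 21), (false, 3), (false, 1), (false, 4), (true, 16), (true, 221), (true, 19), (true, 17)]⟩,
   ⟨[7, 6, 5, 4, 3, 1, 2, 0, 3, 2, 4, 3, 1, 5, 4, 3, 2, 0, 6, 5, 7, 6], 22, 2413522043031599266, [(true, 22), (false, 3), (false, 1), (false, 4), (false, 6), (true, 222), (true, 18), (false, 0)]⟩,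
   ⟨[7, 6, 5, 4, 3, 1, 2, 0, 3, 2, 4, 3, 1, 5, 4, 3, 2, 0, 6, 5, 4], 21, 2413522332657623713, [(true, 17), (true, 24), (false, 1), (false, 4), (false, 2), (true, 223), (false, 0), (true, 21)]⟩,
   ⟨[7, 6, 5, 4, 3, 1, 2, 0, 3, 2, 4, 3, 1, 5, 4, 3, 2, 0, 6, 5, 4, 7], 22, 2413522332657629006, [(true, 18), (true, 25), (false, 1), (false, 4), (false, 2), (true, 224), (true, 22), (true, 20)]⟩,
   ⟨[7, 6, 5, 4, 3, 1, 2, 0, 3, 2, 4, 3, 1, 5, 4, 3, 2, 0, 6, 5, 4, 7, 6], 23, 2413522332661397666, [(true, 19), (true, 26), (false, 1), (false, 4), (true, 23), (true, 225), (true, 21), (false, 0)]⟩,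
   ⟨[7, 6, 5, 4, 3, 1, 2, 0, 3, 2, 4, 3, 1, 5, 4, 3, 2, 0, 6, 5, 4, 7, 6, 5], 24, 2413522333893298082, [(false, 6), (true, 27), (false, 1), (false, 4), (true, 22), (true, 226), (false, 2), (false, 0)]⟩,
   ⟨[7, 6, 5, 4, 3, 1, 2, 0, 3, 2, 4, 3, 1, 5, 4, 3, 2, 0, 6, 5, 4, 3], 22, 2434705950272627361, [(false, 3), (true, 20), (true, 88), (true, 8), (false, 2), (true, 227), (false, 0), (true, 25)]⟩,
   ⟨[7, 6, 5, 4, 3, 1, 2, 0, 3, 2, 4, 3, 1, 5, 4, 3, 2, 0, 6, 5, 4, 3, 7], 23, 2434705950272632654, [(false, 3), (true, 21), (true, 89), (true, 9), (false, 2), (true, 228), (true, 26), (true, 24)]⟩,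
   ⟨[7, 6, 5, 4, 3, 1, 2, 0, 3, 2, 4, 3, 1, 5, 4, 3, 2, 0, 6, 5, 4, 3, 7, 6], 24, 2434705950276401314, [(false, 3), (true, 22), (true, 90), (true, 10), (true, 27), (true, 229), (true, 25), (false, 0)]⟩,
   ⟨[7, 6, 5, 4, 3, 1, 2, 0, 3, 2, 4, 3, 1, 5, 4, 3, 2, 0, 6, 5, 4, 3, 7, 6, 5], 25, 2434705951424415650, [(true, 28), (true, 23), (true, 91), (true, 11), (true, 26), (true, 230), (false, 2), (false, 0)]⟩,
   ⟨[7, 6, 5, 4, 3, 1, 2, 0, 3, 2, 4, 3, 1, 5, 4, 3, 2, 0, 6, 5, 4, 3, 7, 6, 5, 4], 26, 2434706292359727010, [(true, 27), (false, 6), (true, 92), (true, 12), (false, 3), (true, 231), (false, 2), (false, 0)]⟩,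
   ⟨[7, 6, 5, 4, 3, 1, 2, 0, 3, 2, 4, 3, 1, 5, 4, 3, 2, 0, 6, 5, 4, 3, 1, 2, 7, 6, 5, 4, 3, 1, 2, 0], 32, 2602653397836531618, [(true, 30), (false, 6), (false, 5), (true, 45), (false, 3), (true, 190), (false, 2), (false, 0)]⟩,
   ⟨[7, 6, 5, 4, 3, 1, 2, 0, 3, 2, 4, 3, 1, 5, 4, 3, 2, 0, 6, 5, 4, 3, 1, 2, 3, 7, 6, 5, 4, 3, 1, 2, 0], 33, 2602653785613895586, [(true, 29), (true, 35), (false, 5), (true, 46), (true, 31), (true, 191), (false, 2), (false, 0)]⟩,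
   ⟨[7, 6, 5, 4, 3, 1, 2, 0, 3, 2, 4, 3, 1, 5, 4, 3, 2, 0, 6, 5, 4, 3, 1, 2, 3, 4, 7, 6, 5, 4, 3, 1, 2, 0], 34, 2602653787312676002, [(false, 3), (true, 36), (false, 5), (true, 47), (true, 30), (true, 192), (true, 32), (false, 0)]⟩,
   ⟨[7, 6, 5, 4, 3, 1, 2, 0, 3, 2, 4, 3, 1, 5, 4, 3, 2, 0, 6, 5, 4, 3, 1, 2, 3, 4, 5, 7, 6, 5, 4, 3, 1, 2, 0], 35, 2602653787319899107, [(false, 3), (true, 37), (false, 5), (true, 48), (false, 2), (true, 193), (true, 31), (true, 33)]⟩,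
   ⟨[7, 6, 5, 4, 3, 1, 2, 0, 3, 2, 4, 3, 1, 5, 4, 3, 2, 0, 6, 5, 4, 3, 1, 2, 3, 4, 5, 6, 7, 6, 5, 4, 3, 1, 2, 0], 36, 2602653787319935500, [(false, 3), (true, 38), (false, 5), (true, 49), (false, 2), (true, 194), (false, 0), (true, 32)]⟩,
   ⟨[7, 6, 5, 4, 3, 1, 2, 0, 3, 2, 4, 3, 1, 5, 4, 3, 2, 0, 6, 5, 4, 3, 1, 7, 6, 5, 4, 3, 2, 0], 30, 2628169036906792866, [(false, 4), (true, 45), (true, 0), (false, 6), (false, 3), (true, 195), (false, 2), (false, 0)]⟩,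
   ⟨[7, 6, 5, 4, 3, 1, 2, 0, 3, 2, 4, 3, 1, 5, 4, 3, 2, 0, 6, 5, 4, 3, 1, 2, 3, 7, 6, 5, 4, 3, 1, 2, 0, 3], 34, 2629773546415949730, [(false, 6), (true, 30), (true, 119), (false, 4), (true, 36), (true, 196), (false, 2), (false, 0)]⟩,
   ⟨[7, 6, 5, 4, 3, 1, 2, 0, 3, 2, 4, 3, 1, 5, 4, 3, 2, 0, 6, 5, 4, 3, 1, 2, 3, 4, 7, 6, 5, 4, 3, 1, 2, 0, 3], 35, 2629773547997289634, [(true, 39), (true, 31), (true, 120), (false, 4), (true, 35), (true, 197), (true, 37), (false, 0)]⟩,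
   ⟨[7, 6, 5, 4, 3, 1, 2, 0, 3, 2, 4, 3, 1, 5, 4, 3, 2, 0, 6, 5, 4, 3, 1, 2, 3, 4, 5, 7, 6, 5, 4, 3, 1, 2, 0, 3], 36, 2629773548004512739, [(true, 40), (true, 32), (true, 121), (false, 4), (false, 2), (true, 198), (true, 36), (true, 38)]⟩,
   ⟨[7, 6, 5, 4, 3, 1, 2, 0, 3, 2, 4, 3, 1, 5, 4, 3, 2, 0, 6, 5, 4, 3, 1, 2, 3, 4, 5, 6, 7, 6, 5, 4, 3, 1, 2, 0, 3], 37, 2629773548004549132, [(true, 41), (true, 33), (true, 122), (false, 4), (false, 2), (true, 199), (false, 0), (true, 37)]⟩,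
   ⟨[7, 6, 5, 4, 3, 1, 2, 0, 3, 2, 4, 3, 1, 5, 4, 3, 2, 0, 6, 5, 4, 3, 1, 2, 3, 4, 7, 6, 5, 4, 3, 1, 2, 0, 3, 4], 36, 2629773987147275426, [(true, 36), (false, 3), (true, 123), (false, 4), (false, 6), (true, 200), (true, 40), (false, 0)]⟩,
   ⟨[7, 6, 5, 4, 3, 1, 2, 0, 3, 2, 4, 3, 1, 5, 4, 3, 2, 0, 6, 5, 4, 3, 1, 2, 3, 4, 5, 7, 6, 5, 4, 3, 1, 2, 0, 3, 4], 37, 2629773987153777635, [(true, 37), (false, 3), (true, 124), (false, 4), (true, 42), (true, 201), (true, 39), (true, 41)]⟩,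
   ⟨[7, 6, 5, 4, 3, 1, 2, 0, 3, 2, 4, 3, 1, 5, 4, 3, 2, 0, 6, 5, 4, 3, 1, 2, 3, 4, 5, 6, 7, 6, 5, 4, 3, 1, 2, 0, 3, 4], 38, 2629773987153814028, [(true, 38), (false, 3), (true, 125), (false, 4), (true, 43), (true, 202), (false, 0), (true, 40)]⟩,
   ⟨[7, 6, 5, 4, 3, 1, 2, 0, 3, 2, 4, 3, 1, 5, 4, 3, 2, 0, 6, 5, 4, 3, 1, 2, 3, 4, 5, 7, 6, 5, 4, 3, 1, 2, 0, 3, 4, 5], 38, 2629773989019548131, [(false, 2), (false, 3), (true, 126), (false, 4), (true, 40), (true, 203), (false, 6), (true, 43)]⟩,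
   ⟨[7, 6, 5, 4, 3, 1, 2, 0, 3, 2, 4, 3, 1, 5, 4, 3, 2, 0, 6, 5, 4, 3, 1, 2, 3, 4, 5, 6, 7, 6, 5, 4, 3, 1, 2, 0, 3, 4, 5], 39, 2629773989019575308, [(false, 2), (false, 3), (true, 127), (false, 4), (true, 41), (true, 204), (true, 44), (true, 42)]⟩,
   ⟨[7, 6, 5, 4, 3, 1, 2, 0, 3, 2, 4, 3, 1, 5, 4, 3, 2, 0, 6, 5, 4, 3, 1, 2, 3, 4, 5, 6, 7, 6, 5, 4, 3, 1, 2, 0, 3, 4, 5, 6], 40, 2629773989028957049, [(false, 2), (false, 3), (true, 128), (false, 4), (false, 0), (true, 205), (true, 43), (false, 6)]⟩,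
   ⟨[7, 6, 5, 4, 3, 1, 2, 0, 3, 2, 4, 3, 1, 5, 4, 3, 2, 0, 6, 5, 4, 3, 1, 2, 7, 6, 5, 4, 3, 2, 0], 31, 2653037032120682402, [(true, 46), (true, 34), (false, 5), (true, 29), (false, 3), (true, 206), (false, 2), (false, 0)]⟩,
   ⟨[7, 6, 5, 4, 3, 1, 2, 0, 3, 2, 4, 3, 1, 5, 4, 3, 2, 0, 6, 5, 4, 3, 1, 2, 3, 7, 6, 5, 4, 3, 2, 0], 32, 2653037437077915554, [(true, 45), (false, 4), (false, 5), (true, 30), (true, 47), (true, 207), (false, 2), (false, 0)]⟩,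
   ⟨[7, 6, 5, 4, 3, 1, 2, 0, 3, 2, 4, 3, 1, 5, 4, 3, 2, 0, 6, 5, 4, 3, 1, 2, 3, 4, 7, 6, 5, 4, 3, 2, 0], 33, 2653037438776695970, [(false, 3), (false, 4), (false, 5), (true, 31), (true, 46), (true, 208), (true, 48), (false, 0)]⟩,
   ⟨[7, 6, 5, 4, 3, 1, 2, 0, 3, 2, 4, 3, 1, 5, 4, 3, 2, 0, 6, 5, 4, 3, 1, 2, 3, 4, 5, 7, 6, 5, 4, 3, 2, 0], 34, 2653037438783919075, [(false, 3), (false, 4), (false, 5), (true, 32), (false, 2), (true, 209), (true, 47), (true, 49)]⟩,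
   ⟨[7, 6, 5, 4, 3, 1, 2, 0, 3, 2, 4, 3, 1, 5, 4, 3, 2, 0, 6, 5, 4, 3, 1, 2, 3, 4, 5, 6, 7, 6, 5, 4, 3, 2, 0], 35, 2653037438783955468, [(false, 3), (false, 4), (false, 5), (true, 33), (false, 2), (true, 210), (false, 0), (true, 48)]⟩,
   ⟨[7, 6, 5, 4, 3, 1, 2, 0], 8, 5142445121140063097, [(false, 3), (true, 51), (false, 0), (true, 56), (false, 4), (true, 183), (false, 5), (false, 6)]⟩,
   ⟨[7, 6, 5, 4, 3, 1, 2, 0, 3], 9, 5154278894626306937, [(true, 52), (true, 50), (true, 139), (false, 2), (false, 4), (true, 184), (false, 5), (false, 6)]⟩,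
   ⟨[7, 6, 5, 4, 3, 1, 2, 0, 3, 4], 10, 5154279073825848185, [(true, 51), (false, 3), (true, 140), (false, 2), (true, 53), (true, 185), (false, 5), (false, 6)]⟩,
   ⟨[7, 6, 5, 4, 3, 1, 2, 0, 3, 4, 5], 11, 5154279074525454457, [(false, 4), (false, 3), (true, 141), (false, 2), (true, 52), (true, 186), (true, 54), (false, 6)]⟩,
   ⟨[7, 6, 5, 4, 3, 1, 2, 0, 3, 4, 5, 6], 12, 5154279074528186273, [(false, 4), (false, 3), (true, 142), (false, 2), (false, 5), (true, 187), (true, 53), (true, 55)]⟩,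
   ⟨[7, 6, 5, 4, 3, 1, 2, 0, 3, 4, 5, 6, 7], 13, 5154279074528196942, [(false, 4), (false, 3), (true, 143), (false, 2), (false, 5), (true, 188), (false, 6), (true, 54)]⟩,
   ⟨[7, 6, 5, 4, 3, 2, 0], 7, 5157363226186251129, [(false, 3), (false, 2), (false, 0), (true, 50), (false, 4), (true, 189), (false, 5), (false, 6)]⟩,
   ⟨[7, 6, 5, 4, 3, 1, 2, 0, 3, 2, 4, 3, 1, 5, 4, 3, 2, 0, 6, 5, 4, 3, 2, 7, 6, 5, 4, 3, 1], 29, 8863217973234665378, [(false, 1), (true, 58), (false, 6), (true, 98), (false, 3), (false, 5), (false, 2), (false, 0)]⟩,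
   ⟨[7, 6, 5, 4, 3, 1, 2, 0, 3, 2, 4, 3, 1, 5, 4, 3, 2, 0, 6, 5, 4, 3, 1, 2, 7, 6, 5, 4, 3, 1], 30, 8871750584072570786, [(true, 59), (true, 57), (true, 190), (true, 93), (false, 3), (false, 5), (false, 2), (false, 0)]⟩,
   ⟨[7, 6, 5, 4, 3, 1, 2, 0, 3, 2, 4, 3, 1, 5, 4, 3, 2, 0, 6, 5, 4, 3, 1, 2, 3, 7, 6, 5, 4, 3, 1], 31, 8871751023389542306, [(true, 58), (false, 1), (true, 191), (true, 94), (true, 60), (false, 5), (false, 2), (false, 0)]⟩,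
   ⟨[7, 6, 5, 4, 3, 1, 2, 0, 3, 2, 4, 3, 1, 5, 4, 3, 2, 0, 6, 5, 4, 3, 1, 2, 3, 4, 7, 6, 5, 4, 3, 1], 32, 8871751025088322722, [(false, 3), (false, 1), (true, 192), (true, 95), (true, 59), (false, 5), (true, 61), (false, 0)]⟩,
   ⟨[7, 6, 5, 4, 3, 1, 2, 0, 3, 2, 4, 3, 1, 5, 4, 3, 2, 0, 6, 5, 4, 3, 1, 2, 3, 4, 5, 7, 6, 5, 4, 3, 1], 33, 8871751025095545827, [(false, 3), (false, 1), (true, 193), (true, 96), (false, 2), (false, 5), (true, 60), (true, 62)]⟩,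
   ⟨[7, 6, 5, 4, 3, 1, 2, 0, 3, 2, 4, 3, 1, 5, 4, 3, 2, 0, 6, 5, 4, 3, 1, 2, 3, 4, 5, 6, 7, 6, 5, 4, 3, 1], 34, 8871751025095582220, [(false, 3), (false, 1), (true, 194), (true, 97), (false, 2), (false, 5), (false, 0), (true, 61)]⟩,
   ⟨[7, 6, 5, 4, 3, 1, 2, 0, 3, 2, 4, 3, 1, 5, 4, 3, 2, 0, 6, 5, 4, 3, 1, 2], 24, 8873815109068628641, [(false, 3), (true, 68), (true, 8), (true, 88), (false, 2), (false, 5), (false, 0), (true, 64)]⟩,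
   ⟨[7, 6, 5, 4, 3, 1, 2, 0, 3, 2, 4, 3, 1, 5, 4, 3, 2, 0, 6, 5, 4, 3, 1, 2, 7], 25, 8873815109068633934, [(false, 3), (true, 69), (true, 9), (true, 89), (false, 2), (false, 5), (true, 65), (true, 63)]⟩,
   ⟨[7, 6, 5, 4, 3, 1, 2, 0, 3, 2, 4, 3, 1, 5, 4, 3, 2, 0, 6, 5, 4, 3, 1, 2, 7, 6], 26, 8873815109072402594, [(false, 3), (true, 70), (true, 10), (true, 90), (true, 66), (false, 5), (true, 64), (false, 0)]⟩,
   ⟨[7, 6, 5, 4, 3, 1, 2, 0, 3, 2, 4, 3, 1, 5, 4, 3, 2, 0, 6, 5, 4, 3, 1, 2, 7, 6, 5], 27, 8873815110220416930, [(true, 67), (true, 71), (true, 11), (true, 91), (true, 65), (false, 5), (false, 2), (false, 0)]⟩,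
   ⟨[7, 6, 5, 4, 3, 1, 2, 0, 3, 2, 4, 3, 1, 5, 4, 3, 2, 0, 6, 5, 4, 3, 1, 2, 7, 6, 5, 4], 28, 8873815227817428898, [(true, 66), (true, 93), (true, 12), (true, 92), (false, 3), (false, 5), (false, 2), (false, 0)]⟩,
   ⟨[7, 6, 5, 4, 3, 1, 2, 0, 3, 2, 4, 3, 1, 5, 4, 3, 2, 0, 6, 5, 4, 3, 1, 2, 3], 25, 8902910700721513121, [(true, 72), (true, 63), (false, 4), (false, 1), (false, 2), (false, 5), (false, 0), (true, 69)]⟩,
   ⟨[7, 6, 5, 4, 3, 1, 2, 0, 3, 2, 4, 3, 1, 5, 4, 3, 2, 0, 6, 5, 4, 3, 1, 2, 3, 7], 26, 8902910700721518414, [(true, 73), (true, 64), (false, 4), (false, 1), (false, 2), (false, 5), (true, 70), (true, 68)]⟩,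
   ⟨[7, 6, 5, 4, 3, 1, 2, 0, 3, 2, 4, 3, 1, 5, 4, 3, 2, 0, 6, 5, 4, 3, 1, 2, 3, 7, 6], 27, 8902910700725287074, [(true, 74), (true, 65), (false, 4), (false, 1), (true, 71), (false, 5), (true, 69), (false, 0)]⟩,
   ⟨[7, 6, 5, 4, 3, 1, 2, 0, 3, 2, 4, 3, 1, 5, 4, 3, 2, 0, 6, 5, 4, 3, 1, 2, 3, 7, 6, 5], 28, 8902910701118326690, [(true, 84), (true, 66), (false, 4), (false, 1), (true, 70), (false, 5), (false, 2), (false, 0)]⟩,
   ⟨[7, 6, 5, 4, 3, 1, 2, 0, 3, 2, 4, 3, 1, 5, 4, 3, 2, 0, 6, 5, 4, 3, 1, 2, 3, 4], 26, 8902911135609299617, [(true, 68), (false, 3), (false, 4), (false, 1), (true, 75), (false, 5), (false, 0), (true, 73)]⟩,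
   ⟨[7, 6, 5, 4, 3, 1, 2, 0, 3, 2, 4, 3, 1, 5, 4, 3, 2, 0, 6, 5, 4, 3, 1, 2, 3, 4, 7], 27, 8902911135609304910, [(true, 69), (false, 3), (false, 4), (false, 1), (true, 76), (false, 5), (true, 74), (true, 72)]⟩,
   ⟨[7, 6, 5, 4, 3, 1, 2, 0, 3, 2, 4, 3, 1, 5, 4, 3, 2, 0, 6, 5, 4, 3, 1, 2, 3, 4, 7, 6], 28, 8902911135610517666, [(true, 70), (false, 3), (false, 4), (false, 1), (true, 81), (false, 5), (true, 73), (false, 0)]⟩,
   ⟨[7, 6, 5, 4, 3, 1, 2, 0, 3, 2, 4, 3, 1, 5, 4, 3, 2, 0, 6, 5, 4, 3, 1, 2, 3, 4, 5], 27, 8902911137458414497, [(false, 2), (false, 3), (false, 4), (false, 1), (true, 72), (false, 5), (true, 77), (true, 76)]⟩,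
   ⟨[7, 6, 5, 4, 3, 1, 2, 0, 3, 2, 4, 3, 1, 5, 4, 3, 2, 0, 6, 5, 4, 3, 1, 2, 3, 4, 5, 7], 28, 8902911137458417486, [(false, 2), (false, 3), (false, 4), (false, 1), (true, 73), (false, 5), (true, 79), (true, 75)]⟩,
   ⟨[7, 6, 5, 4, 3, 1, 2, 0, 3, 2, 4, 3, 1, 5, 4, 3, 2, 0, 6, 5, 4, 3, 1, 2, 3, 4, 5, 6], 28, 8902911137467731183, [(false, 2), (false, 3), (false, 4), (false, 1), (false, 0), (false, 5), (true, 75), (true, 78)]⟩,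
   ⟨[7, 6, 5, 4, 3, 1, 2, 0, 3, 2, 4, 3, 1, 5, 4, 3, 2, 0, 6, 5, 4, 3, 1, 2, 3, 4, 5, 6, 7], 29, 8902911137467769088, [(false, 2), (false, 3), (false, 4), (false, 1), (false, 0), (false, 5), (true, 80), (true, 77)]⟩,
   ⟨[7, 6, 5, 4, 3, 1, 2, 0, 3, 2, 4, 3, 1, 5, 4, 3, 2, 0, 6, 5, 4, 3, 1, 2, 3, 4, 5, 7, 6], 29, 8902911137469104355, [(false, 2), (false, 3), (false, 4), (false, 1), (true, 82), (false, 5), (true, 76), (true, 80)]⟩,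
   ⟨[7, 6, 5, 4, 3, 1, 2, 0, 3, 2, 4, 3, 1, 5, 4, 3, 2, 0, 6, 5, 4, 3, 1, 2, 3, 4, 5, 6, 7, 6], 30, 8902911137469124108, [(false, 2), (false, 3), (false, 4), (false, 1), (true, 83), (false, 5), (true, 78), (true, 79)]⟩,
   ⟨[7, 6, 5, 4, 3, 1, 2, 0, 3, 2, 4, 3, 1, 5, 4, 3, 2, 0, 6, 5, 4, 3, 1, 2, 3, 4, 7, 6, 5], 29, 8902911138430246050, [(true, 85), (false, 3), (false, 4), (false, 1), (true, 74), (false, 5), (true, 82), (false, 0)]⟩,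
   ⟨[7, 6, 5, 4, 3, 1, 2, 0, 3, 2, 4, 3, 1, 5, 4, 3, 2, 0, 6, 5, 4, 3, 1, 2, 3, 4, 5, 7, 6, 5], 30, 8902911138433864675, [(true, 86), (false, 3), (false, 4), (false, 1), (true, 79), (false, 5), (true, 81), (true, 83)]⟩,
   ⟨[7, 6, 5, 4, 3, 1, 2, 0, 3, 2, 4, 3, 1, 5, 4, 3, 2, 0, 6, 5, 4, 3, 1, 2, 3, 4, 5, 6, 7, 6, 5], 31, 8902911138433901068, [(true, 87), (false, 3), (false, 4), (false, 1), (true, 80), (false, 5), (false, 0), (true, 82)]⟩,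
   ⟨[7, 6, 5, 4, 3, 1, 2, 0, 3, 2, 4, 3, 1, 5, 4, 3, 2, 0, 6, 5, 4, 3, 1, 2, 3, 7, 6, 5, 4], 29, 8902911431559055266, [(true, 71), (true, 94), (false, 4), (false, 1), (true, 85), (false, 5), (false, 2), (false, 0)]⟩,
   ⟨[7, 6, 5, 4, 3, 1, 2, 0, 3, 2, 4, 3, 1, 5, 4, 3, 2, 0, 6, 5, 4, 3, 1, 2, 3, 4, 7, 6, 5, 4], 30, 8902911432318311586, [(true, 81), (true, 95), (false, 4), (false, 1), (true, 84), (false, 5), (true, 86), (false, 0)]⟩,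
   ⟨[7, 6, 5, 4, 3, 1, 2, 0, 3, 2, 4, 3, 1, 5, 4, 3, 2, 0, 6, 5, 4, 3, 1, 2, 3, 4, 5, 7, 6, 5, 4], 31, 8902911432325534691, [(true, 82), (true, 96), (false, 4), (false, 1), (false, 2), (false, 5), (true, 85), (true, 87)]⟩,
   ⟨[7, 6, 5, 4, 3, 1, 2, 0, 3, 2, 4, 3, 1, 5, 4, 3, 2, 0, 6, 5, 4, 3, 1, 2, 3, 4, 5, 6, 7, 6, 5, 4], 32, 8902911432325571084, [(true, 83), (true, 97), (false, 4), (false, 1), (false, 2), (false, 5), (false, 0), (true, 86)]⟩,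
   ⟨[7, 6, 5, 4, 3, 1, 2, 0, 3, 2, 4, 3, 1, 5, 4, 3, 2, 0, 6, 5, 4, 3, 2], 23, 8919695229624754849, [(false, 3), (false, 1), (true, 24), (true, 63), (false, 2), (false, 5), (false, 0), (true, 89)]⟩,
   ⟨[7, 6, 5, 4, 3, 1, 2, 0, 3, 2, 4, 3, 1, 5, 4, 3, 2, 0, 6, 5, 4, 3, 2, 7], 24, 8919695229624760142, [(false, 3), (false, 1), (true, 25), (true, 64), (false, 2), (false, 5), (true, 90), (true, 88)]⟩,
   ⟨[7, 6, 5, 4, 3, 1, 2, 0, 3, 2, 4, 3, 1, 5, 4, 3, 2, 0, 6, 5, 4, 3, 2, 7, 6], 25, 8919695229628528802, [(false, 3), (false, 1), (true, 26), (true, 65), (true, 91), (false, 5), (true, 89), (false, 0)]⟩,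
   ⟨[7, 6, 5, 4, 3, 1, 2, 0, 3, 2, 4, 3, 1, 5, 4, 3, 2, 0, 6, 5, 4, 3, 2, 7, 6, 5], 26, 8919695230776543138, [(true, 92), (false, 1), (true, 27), (true, 66), (true, 90), (false, 5), (false, 2), (false, 0)]⟩,
   ⟨[7, 6, 5, 4, 3, 1, 2, 0, 3, 2, 4, 3, 1, 5, 4, 3, 2, 0, 6, 5, 4, 3, 2, 7, 6, 5, 4], 27, 8919695520172246946, [(true, 91), (true, 98), (true, 28), (true, 67), (false, 3), (false, 5), (false, 2), (false, 0)]⟩,
   ⟨[7, 6, 5, 4, 3, 1, 2, 0, 3, 2, 4, 3, 1, 5, 4, 3, 2, 0, 6, 5, 4, 3, 1, 2, 7, 6, 5, 4, 3], 29, 8922134441695020962, [(true, 94), (true, 67), (true, 206), (true, 58), (false, 3), (false, 5), (false, 2), (false, 0)]⟩,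
   ⟨[7, 6, 5, 4, 3, 1, 2, 0, 3, 2, 4, 3, 1, 5, 4, 3, 2, 0, 6, 5, 4, 3, 1, 2, 3, 7, 6, 5, 4, 3], 30, 8922134610429052834, [(true, 93), (true, 84), (true, 207), (true, 59), (true, 95), (false, 5), (false, 2), (false, 0)]⟩,
   ⟨[7, 6, 5, 4, 3, 1, 2, 0, 3, 2, 4, 3, 1, 5, 4, 3, 2, 0, 6, 5, 4, 3, 1, 2, 3, 4, 7, 6, 5, 4, 3], 31, 8922134612127833250, [(false, 3), (true, 85), (true, 208), (true, 60), (true, 94), (false, 5), (true, 96), (false, 0)]⟩,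
   ⟨[7, 6, 5, 4, 3, 1, 2, 0, 3, 2, 4, 3, 1, 5, 4, 3, 2, 0, 6, 5, 4, 3, 1, 2, 3, 4, 5, 7, 6, 5, 4, 3], 32, 8922134612135056355, [(false, 3), (true, 86), (true, 209), (true, 61), (false, 2), (false, 5), (true, 95), (true, 97)]⟩,
   ⟨[7, 6, 5, 4, 3, 1, 2, 0, 3, 2, 4, 3, 1, 5, 4, 3, 2, 0, 6, 5, 4, 3, 1, 2, 3, 4, 5, 6, 7, 6, 5, 4, 3], 33, 8922134612135092748, [(false, 3), (true, 87), (true, 210), (true, 62), (false, 2), (false, 5), (false, 0), (true, 96)]⟩,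
   ⟨[7, 6, 5, 4, 3, 1, 2, 0, 3, 2, 4, 3, 1, 5, 4, 3, 2, 0, 6, 5, 4, 3, 2, 7, 6, 5, 4, 3], 28, 8930489758229104546, [(false, 1), (true, 92), (false, 6), (true, 57), (false, 3), (false, 5), (false, 2), (false, 0)]⟩,
   ⟨[7, 6, 5, 4, 3, 1, 2, 0, 3, 2, 4, 3, 1, 5, 4, 3, 2, 0, 6, 5, 4, 3, 1, 2, 3, 4, 7, 6, 5, 4, 3, 1, 2, 0, 3, 2, 4, 3, 1], 39, 10166175213607836834, [(false, 5), (false, 4), (false, 3), (true, 159), (false, 6), (false, 1), (true, 100), (false, 0)]⟩,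
   ⟨[7, 6, 5, 4, 3, 1, 2, 0, 3, 2, 4, 3, 1, 5, 4, 3, 2, 0, 6, 5, 4, 3, 1, 2, 3, 4, 5, 7, 6, 5, 4, 3, 1, 2, 0, 3, 2, 4, 3, 1], 40, 10166175213614339043, [(false, 5), (false, 4), (false, 3), (true, 160), (true, 102), (false, 1), (true, 99), (true, 101)]⟩,
   ⟨[7, 6, 5, 4, 3, 1, 2, 0, 3, 2, 4, 3, 1, 5, 4, 3, 2, 0, 6, 5, 4, 3, 1, 2, 3, 4, 5, 6, 7, 6, 5, 4, 3, 1, 2, 0, 3, 2, 4, 3, 1], 41, 10166175213614375436, [(false, 5), (false, 4), (false, 3), (true, 161), (true, 103), (false, 1), (false, 0), (true, 100)]⟩,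
   ⟨[7, 6, 5, 4, 3, 1, 2, 0, 3, 2, 4, 3, 1, 5, 4, 3, 2, 0, 6, 5, 4, 3, 1, 2, 3, 4, 5, 7, 6, 5, 4, 3, 1, 2, 0, 3, 2, 4, 3, 1, 5], 41, 10166175215262005731, [(true, 105), (false, 4), (false, 3), (true, 162), (true, 100), (false, 1), (false, 6), (true, 103)]⟩,
   ⟨[7, 6, 5, 4, 3, 1, 2, 0, 3, 2, 4, 3, 1, 5, 4, 3, 2, 0, 6, 5, 4, 3, 1, 2, 3, 4, 5, 6, 7, 6, 5, 4, 3, 1, 2, 0, 3, 2, 4, 3, 1, 5], 42, 10166175215262032908, [(true, 106), (false, 4), (false, 3), (true, 163), (true, 101), (false, 1), (true, 104), (true, 102)]⟩,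
   ⟨[7, 6, 5, 4, 3, 1, 2, 0, 3, 2, 4, 3, 1, 5, 4, 3, 2, 0, 6, 5, 4, 3, 1, 2, 3, 4, 5, 6, 7, 6, 5, 4, 3, 1, 2, 0, 3, 2, 4, 3, 1, 5, 6], 43, 10166175215271414649, [(true, 107), (false, 4), (false, 3), (true, 164), (false, 0), (false, 1), (true, 103), (false, 6)]⟩,
   ⟨[7, 6, 5, 4, 3, 1, 2, 0, 3, 2, 4, 3, 1, 5, 4, 3, 2, 0, 6, 5, 4, 3, 1, 2, 3, 4, 5, 7, 6, 5, 4, 3, 1, 2, 0, 3, 2, 4, 3, 1, 5, 4], 42, 10166175628441385443, [(true, 102), (true, 144), (false, 3), (true, 165), (false, 5), (false, 1), (false, 6), (true, 106)]⟩,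
   ⟨[7, 6, 5, 4, 3, 1, 2, 0, 3, 2, 4, 3, 1, 5, 4, 3, 2, 0, 6, 5, 4, 3, 1, 2, 3, 4, 5, 6, 7, 6, 5, 4, 3, 1, 2, 0, 3, 2, 4, 3, 1, 5, 4], 43, 10166175628441412620, [(true, 103), (true, 145), (false, 3), (true, 166), (false, 5), (false, 1), (true, 107), (true, 105)]⟩,
   ⟨[7, 6, 5, 4, 3, 1, 2, 0, 3, 2, 4, 3, 1, 5, 4, 3, 2, 0, 6, 5, 4, 3, 1, 2, 3, 4, 5, 6, 7, 6, 5, 4, 3, 1, 2, 0, 3, 2, 4, 3, 1, 5, 4, 6], 44, 10166175628448303993, [(true, 104), (true, 146), (false, 3), (true, 167), (true, 108), (false, 1), (true, 106), (false, 6)]⟩,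
   ⟨[7, 6, 5, 4, 3, 1, 2, 0, 3, 2, 4, 3, 1, 5, 4, 3, 2, 0, 6, 5, 4, 3, 1, 2, 3, 4, 5, 6, 7, 6, 5, 4, 3, 1, 2, 0, 3, 2, 4, 3, 1, 5, 4, 6, 5], 45, 10166175630866676601, [(false, 0), (true, 147), (false, 3), (true, 168), (true, 107), (false, 1), (false, 5), (false, 6)]⟩,
   ⟨[7, 6, 5, 4, 3, 1, 2, 0, 3, 2, 4, 3, 1], 13, 10174900977197284217, [(false, 0), (false, 2), (false, 3), (true, 149), (true, 110), (false, 1), (false, 5), (false, 6)]⟩,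
   ⟨[7, 6, 5, 4, 3, 1, 2, 0, 3, 2, 4, 3, 1, 5], 14, 10174900977494237305, [(true, 113), (false, 2), (false, 3), (true, 150), (true, 109), (false, 1), (true, 111), (false, 6)]⟩,
   ⟨[7, 6, 5, 4, 3, 1, 2, 0, 3, 2, 4, 3, 1, 5, 6], 15, 10174900977496969121, [(true, 114), (false, 2), (false, 3), (true, 151), (false, 5), (false, 1), (true, 110), (true, 112)]⟩,
   ⟨[7, 6, 5, 4, 3, 1, 2, 0, 3, 2, 4, 3, 1, 5, 6, 7], 16, 10174900977496979790, [(true, 115), (false, 2), (false, 3), (true, 152), (false, 5), (false, 1), (false, 6), (true, 111)]⟩,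
   ⟨[7, 6, 5, 4, 3, 1, 2, 0, 3, 2, 4, 3, 1, 5, 4], 15, 10174901211692703865, [(true, 110), (true, 129), (false, 3), (true, 153), (false, 0), (false, 1), (true, 114), (false, 6)]⟩,
   ⟨[7, 6, 5, 4, 3, 1, 2, 0, 3, 2, 4, 3, 1, 5, 4, 6], 16, 10174901211693993889, [(true, 111), (true, 130), (false, 3), (true, 154), (true, 116), (false, 1), (true, 113), (true, 115)]⟩,
   ⟨[7, 6, 5, 4, 3, 1, 2, 0, 3, 2, 4, 3, 1, 5, 4, 6, 7], 17, 10174901211694004558, [(true, 112), (true, 131), (false, 3), (true, 155), (true, 117), (false, 1), (false, 6), (true, 114)]⟩,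
   ⟨[7, 6, 5, 4, 3, 1, 2, 0, 3, 2, 4, 3, 1, 5, 4, 6, 5], 17, 10174901212759564961, [(false, 5), (true, 132), (false, 3), (true, 156), (true, 114), (false, 1), (false, 0), (true, 117)]⟩,
   ⟨[7, 6, 5, 4, 3, 1, 2, 0, 3, 2, 4, 3, 1, 5, 4, 6, 5, 7], 18, 10174901212759570254, [(false, 5), (true, 133), (false, 3), (true, 157), (true, 115), (false, 1), (true, 118), (true, 116)]⟩,
   ⟨[7, 6, 5, 4, 3, 1, 2, 0, 3, 2, 4, 3, 1, 5, 4, 6, 5, 7, 6], 19, 10174901212763732130, [(false, 5), (true, 134), (false, 3), (true, 158), (false, 6), (false, 1), (true, 117), (false, 0)]⟩,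
   ⟨[7, 6, 5, 4, 3, 1, 2, 0, 3, 2, 4, 3, 1, 5, 4, 3, 2, 0, 6, 5, 4, 3, 1, 2, 3, 7, 6, 5, 4, 3, 1, 2, 0, 3, 2], 35, 10195615724040849314, [(false, 6), (false, 5), (true, 35), (false, 4), (true, 120), (false, 1), (false, 2), (false, 0)]⟩,
   ⟨[7, 6, 5, 4, 3, 1, 2, 0, 3, 2, 4, 3, 1, 5, 4, 3, 2, 0, 6, 5, 4, 3, 1, 2, 3, 4, 7, 6, 5, 4, 3, 1, 2, 0, 3, 2], 36, 10195615725622189218, [(true, 123), (false, 5), (true, 36), (false, 4), (true, 119), (false, 1), (true, 121), (false, 0)]⟩,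
   ⟨[7, 6, 5, 4, 3, 1, 2, 0, 3, 2, 4, 3, 1, 5, 4, 3, 2, 0, 6, 5, 4, 3, 1, 2, 3, 4, 5, 7, 6, 5, 4, 3, 1, 2, 0, 3, 2], 37, 10195615725629412323, [(true, 124), (false, 5), (true, 37), (false, 4), (false, 2), (false, 1), (true, 120), (true, 122)]⟩,
   ⟨[7, 6, 5, 4, 3, 1, 2, 0, 3, 2, 4, 3, 1, 5, 4, 3, 2, 0, 6, 5, 4, 3, 1, 2, 3, 4, 5, 6, 7, 6, 5, 4, 3, 1, 2, 0, 3, 2], 38, 10195615725629448716, [(true, 125), (false, 5), (true, 38), (false, 4), (false, 2), (false, 1), (false, 0), (true, 121)]⟩,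
   ⟨[7, 6, 5, 4, 3, 1, 2, 0, 3, 2, 4, 3, 1, 5, 4, 3, 2, 0, 6, 5, 4, 3, 1, 2, 3, 4, 7, 6, 5, 4, 3, 1, 2, 0, 3, 2, 4], 37, 10195616126117469346, [(true, 120), (true, 159), (true, 39), (false, 4), (false, 6), (false, 1), (true, 124), (false, 0)]⟩,
   ⟨[7, 6, 5, 4, 3, 1, 2, 0, 3, 2, 4, 3, 1, 5, 4, 3, 2, 0, 6, 5, 4, 3, 1, 2, 3, 4, 5, 7, 6, 5, 4, 3, 1, 2, 0, 3, 2, 4], 38, 10195616126123971555, [(true, 121), (true, 160), (true, 40), (false, 4), (true, 126), (false, 1), (true, 123), (true, 125)]⟩,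
   ⟨[7, 6, 5, 4, 3, 1, 2, 0, 3, 2, 4, 3, 1, 5, 4, 3, 2, 0, 6, 5, 4, 3, 1, 2, 3, 4, 5, 6, 7, 6, 5, 4, 3, 1, 2, 0, 3, 2, 4], 39, 10195616126124007948, [(true, 122), (true, 161), (true, 41), (false, 4), (true, 127), (false, 1), (false, 0), (true, 124)]⟩,
   ⟨[7, 6, 5, 4, 3, 1, 2, 0, 3, 2, 4, 3, 1, 5, 4, 3, 2, 0, 6, 5, 4, 3, 1, 2, 3, 4, 5, 7, 6, 5, 4, 3, 1, 2, 0, 3, 2, 4, 5], 39, 10195616127989742051, [(false, 2), (true, 162), (true, 42), (false, 4), (true, 124), (false, 1), (false, 6), (true, 127)]⟩,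
   ⟨[7, 6, 5, 4, 3, 1, 2, 0, 3, 2, 4, 3, 1, 5, 4, 3, 2, 0, 6, 5, 4, 3, 1, 2, 3, 4, 5, 6, 7, 6, 5, 4, 3, 1, 2, 0, 3, 2, 4, 5], 40, 10195616127989769228, [(false, 2), (true, 163), (true, 43), (false, 4), (true, 125), (false, 1), (true, 128), (true, 126)]⟩,
   ⟨[7, 6, 5, 4, 3, 1, 2, 0, 3, 2, 4, 3, 1, 5, 4, 3, 2, 0, 6, 5, 4, 3, 1, 2, 3, 4, 5, 6, 7, 6, 5, 4, 3, 1, 2, 0, 3, 2, 4, 5, 6], 41, 10195616127999150969, [(false, 2), (true, 164), (true, 44), (false, 4), (false, 0), (false, 1), (true, 127), (false, 6)]⟩,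
   ⟨[7, 6, 5, 4, 3, 1, 2, 0, 3, 2, 4, 3, 1, 5, 4, 3], 16, 10195802323421405305, [(false, 2), (true, 113), (true, 217), (false, 4), (false, 0), (false, 1), (true, 130), (false, 6)]⟩,
   ⟨[7, 6, 5, 4, 3, 1, 2, 0, 3, 2, 4, 3, 1, 5, 4, 3, 6], 17, 10195802323422695329, [(false, 2), (true, 114), (true, 218), (false, 4), (true, 132), (false, 1), (true, 129), (true, 131)]⟩,
   ⟨[7, 6, 5, 4, 3, 1, 2, 0, 3, 2, 4, 3, 1, 5, 4, 3, 6, 7], 18, 10195802323422705998, [(false, 2), (true, 115), (true, 219), (false, 4), (true, 133), (false, 1), (false, 6), (true, 130)]⟩,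
   ⟨[7, 6, 5, 4, 3, 1, 2, 0, 3, 2, 4, 3, 1, 5, 4, 3, 6, 5], 18, 10195802324370825889, [(true, 135), (true, 116), (true, 220), (false, 4), (true, 130), (false, 1), (false, 0), (true, 133)]⟩,
   ⟨[7, 6, 5, 4, 3, 1, 2, 0, 3, 2, 4, 3, 1, 5, 4, 3, 6, 5, 7], 19, 10195802324370831182, [(true, 136), (true, 117), (true, 221), (false, 4), (true, 131), (false, 1), (true, 134), (true, 132)]⟩,
   ⟨[7, 6, 5, 4, 3, 1, 2, 0, 3, 2, 4, 3, 1, 5, 4, 3, 6, 5, 7, 6], 20, 10195802324374993058, [(true, 137), (true, 118), (true, 222), (false, 4), (false, 6), (false, 1), (true, 133), (false, 0)]⟩,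
   ⟨[7, 6, 5, 4, 3, 1, 2, 0, 3, 2, 4, 3, 1, 5, 4, 3, 6, 5, 4], 19, 10195802639770821281, [(true, 132), (false, 5), (true, 223), (false, 4), (false, 2), (false, 1), (false, 0), (true, 136)]⟩,
   ⟨[7, 6, 5, 4, 3, 1, 2, 0, 3, 2, 4, 3, 1, 5, 4, 3, 6, 5, 4, 7], 20, 10195802639770826574, [(true, 133), (false, 5), (true, 224), (false, 4), (false, 2), (false, 1), (true, 137), (true, 135)]⟩,
   ⟨[7, 6, 5, 4, 3, 1, 2, 0, 3, 2, 4, 3, 1, 5, 4, 3, 6, 5, 4, 7, 6], 21, 10195802639774595234, [(true, 134), (false, 5), (true, 225), (false, 4), (true, 138), (false, 1), (true, 136), (false, 0)]⟩,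
   ⟨[7, 6, 5, 4, 3, 1, 2, 0, 3, 2, 4, 3, 1, 5, 4, 3, 6, 5, 4, 7, 6, 5], 22, 10195802641006495650, [(false, 6), (false, 5), (true, 226), (false, 4), (true, 137), (false, 1), (false, 2), (false, 0)]⟩,
   ⟨[7, 6, 5, 4, 3, 1, 2, 0, 3, 2], 10, 10198193147364670329, [(true, 140), (false, 0), (true, 51), (false, 2), (false, 4), (false, 1), (false, 5), (false, 6)]⟩,
   ⟨[7, 6, 5, 4, 3, 1, 2, 0, 3, 2, 4], 11, 10198193210600094585, [(true, 139), (true, 149), (true, 52), (false, 2), (true, 141), (false, 1), (false, 5), (false, 6)]⟩,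
   ⟨[7, 6, 5, 4, 3, 1, 2, 0, 3, 2, 4, 5], 12, 10198193211299700857, [(false, 4), (true, 150), (true, 53), (false, 2), (true, 140), (false, 1), (true, 142), (false, 6)]⟩,
   ⟨[7, 6, 5, 4, 3, 1, 2, 0, 3, 2, 4, 5, 6], 13, 10198193211302432673, [(false, 4), (true, 151), (true, 54), (false, 2), (false, 5), (false, 1), (true, 141), (true, 143)]⟩,
   ⟨[7, 6, 5, 4, 3, 1, 2, 0, 3, 2, 4, 5, 6, 7], 14, 10198193211302443342, [(false, 4), (true, 152), (true, 55), (false, 2), (false, 5), (false, 1), (false, 6), (true, 142)]⟩,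
   ⟨[7, 6, 5, 4, 3, 1, 2, 0, 3, 2, 4, 3, 1, 5, 4, 3, 2, 0, 6, 5, 4, 3, 1, 2, 3, 4, 5, 7, 6, 5, 4, 3, 1, 2, 0, 3, 2, 4, 3, 1, 5, 4, 3], 43, 10198366242649897443, [(false, 4), (true, 105), (true, 233), (false, 2), (false, 5), (false, 1), (false, 6), (true, 145)]⟩,
   ⟨[7, 6, 5, 4, 3, 1, 2, 0, 3, 2, 4, 3, 1, 5, 4, 3, 2, 0, 6, 5, 4, 3, 1, 2, 3, 4, 5, 6, 7, 6, 5, 4, 3, 1, 2, 0, 3, 2, 4, 3, 1, 5, 4, 3], 44, 10198366242649924620, [(false, 4), (true, 106), (true, 234), (false, 2), (false, 5), (false, 1), (true, 146), (true, 144)]⟩,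
   ⟨[7, 6, 5, 4, 3, 1, 2, 0, 3, 2, 4, 3, 1, 5, 4, 3, 2, 0, 6, 5, 4, 3, 1, 2, 3, 4, 5, 6, 7, 6, 5, 4, 3, 1, 2, 0, 3, 2, 4, 3, 1, 5, 4, 3, 6], 45, 10198366242656815993, [(false, 4), (true, 107), (true, 235), (false, 2), (true, 147), (false, 1), (true, 145), (false, 6)]⟩,
   ⟨[7, 6, 5, 4, 3, 1, 2, 0, 3, 2, 4, 3, 1, 5, 4, 3, 2, 0, 6, 5, 4, 3, 1, 2, 3, 4, 5, 6, 7, 6, 5, 4, 3, 1, 2, 0, 3, 2, 4, 3, 1, 5, 4, 3, 6, 5], 46, 10198366244387322745, [(true, 148), (true, 108), (true, 236), (false, 2), (true, 146), (false, 1), (false, 5), (false, 6)]⟩,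
   ⟨[7, 6, 5, 4, 3, 1, 2, 0, 3, 2, 4, 3, 1, 5, 4, 3, 2, 0, 6, 5, 4, 3, 1, 2, 3, 4, 5, 6, 7, 6, 5, 4, 3, 1, 2, 0, 3, 2, 4, 3, 1, 5, 4, 3, 6, 5, 4], 47, 10198366867752385401, [(true, 147), (false, 0), (true, 237), (false, 2), (false, 4), (false, 1), (false, 5), (false, 6)]⟩,
   ⟨[7, 6, 5, 4, 3, 1, 2, 0, 3, 2, 4, 3], 12, 10212899785520610169, [(false, 0), (true, 140), (false, 3), (true, 109), (true, 150), (false, 1), (false, 5), (false, 6)]⟩,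
   ⟨[7, 6, 5, 4, 3, 1, 2, 0, 3, 2, 4, 3, 5], 13, 10212899785817563257, [(true, 153), (true, 141), (false, 3), (true, 110), (true, 149), (false, 1), (true, 151), (false, 6)]⟩,
   ⟨[7, 6, 5, 4, 3, 1, 2, 0, 3, 2, 4, 3, 5, 6], 14, 10212899785820295073, [(true, 154), (true, 142), (false, 3), (true, 111), (false, 5), (false, 1), (true, 150), (true, 152)]⟩,
   ⟨[7, 6, 5, 4, 3, 1, 2, 0, 3, 2, 4, 3, 5, 6, 7], 15, 10212899785820305742, [(true, 155), (true, 143), (false, 3), (true, 112), (false, 5), (false, 1), (false, 6), (true, 151)]⟩,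
   ⟨[7, 6, 5, 4, 3, 1, 2, 0, 3, 2, 4, 3, 5, 4], 14, 10212900058670735481, [(true, 150), (false, 4), (false, 3), (true, 113), (false, 0), (false, 1), (true, 154), (false, 6)]⟩,
   ⟨[7, 6, 5, 4, 3, 1, 2, 0, 3, 2, 4, 3, 5, 4, 6], 15, 10212900058672025505, [(true, 151), (false, 4), (false, 3), (true, 114), (true, 156), (false, 1), (true, 153), (true, 155)]⟩,
   ⟨[7, 6, 5, 4, 3, 1, 2, 0, 3, 2, 4, 3, 5, 4, 6, 7], 16, 10212900058672036174, [(true, 152), (false, 4), (false, 3), (true, 115), (true, 157), (false, 1), (false, 6), (true, 154)]⟩,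
   ⟨[7, 6, 5, 4, 3, 1, 2, 0, 3, 2, 4, 3, 5, 4, 6, 5], 16, 10212900059737596577, [(false, 5), (false, 4), (false, 3), (true, 116), (true, 154), (false, 1), (false, 0), (true, 157)]⟩,
   ⟨[7, 6, 5, 4, 3, 1, 2, 0, 3, 2, 4, 3, 5, 4, 6, 5, 7], 17, 10212900059737601870, [(false, 5), (false, 4), (false, 3), (true, 117), (true, 155), (false, 1), (true, 158), (true, 156)]⟩,
   ⟨[7, 6, 5, 4, 3, 1, 2, 0, 3, 2, 4, 3, 5, 4, 6, 5, 7, 6], 18, 10212900059741763746, [(false, 5), (false, 4), (false, 3), (true, 118), (false, 6), (false, 1), (true, 157), (false, 0)]⟩,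
   ⟨[7, 6, 5, 4, 3, 1, 2, 0, 3, 2, 4, 3, 1, 5, 4, 3, 2, 0, 6, 5, 4, 3, 1, 2, 3, 4, 7, 6, 5, 4, 3, 1, 2, 0, 3, 2, 4, 3], 38, 10221625337343237282, [(false, 5), (true, 123), (false, 3), (true, 99), (false, 6), (false, 1), (true, 160), (false, 0)]⟩,
   ⟨[7, 6, 5, 4, 3, 1, 2, 0, 3, 2, 4, 3, 1, 5, 4, 3, 2, 0, 6, 5, 4, 3, 1, 2, 3, 4, 5, 7, 6, 5, 4, 3, 1, 2, 0, 3, 2, 4, 3], 39, 10221625337349739491, [(false, 5), (true, 124), (false, 3), (true, 100), (true, 162), (false, 1), (true, 159), (true, 161)]⟩,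
   ⟨[7, 6, 5, 4, 3, 1, 2, 0, 3, 2, 4, 3, 1, 5, 4, 3, 2, 0, 6, 5, 4, 3, 1, 2, 3, 4, 5, 6, 7, 6, 5, 4, 3, 1, 2, 0, 3, 2, 4, 3], 40, 10221625337349775884, [(false, 5), (true, 125), (false, 3), (true, 101), (true, 163), (false, 1), (false, 0), (true, 160)]⟩,
   ⟨[7, 6, 5, 4, 3, 1, 2, 0, 3, 2, 4, 3, 1, 5, 4, 3, 2, 0, 6, 5, 4, 3, 1, 2, 3, 4, 5, 7, 6, 5, 4, 3, 1, 2, 0, 3, 2, 4, 3, 5], 40, 10221625338997406179, [(true, 165), (true, 126), (false, 3), (true, 102), (true, 160), (false, 1), (false, 6), (true, 163)]⟩,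
   ⟨[7, 6, 5, 4, 3, 1, 2, 0, 3, 2, 4, 3, 1, 5, 4, 3, 2, 0, 6, 5, 4, 3, 1, 2, 3, 4, 5, 6, 7, 6, 5, 4, 3, 1, 2, 0, 3, 2, 4, 3, 5], 41, 10221625338997433356, [(true, 166), (true, 127), (false, 3), (true, 103), (true, 161), (false, 1), (true, 164), (true, 162)]⟩,
   ⟨[7, 6, 5, 4, 3, 1, 2, 0, 3, 2, 4, 3, 1, 5, 4, 3, 2, 0, 6, 5, 4, 3, 1, 2, 3, 4, 5, 6, 7, 6, 5, 4, 3, 1, 2, 0, 3, 2, 4, 3, 5, 6], 42, 10221625339006815097, [(true, 167), (true, 128), (false, 3), (true, 104), (false, 0), (false, 1), (true, 163), (false, 6)]⟩,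
   ⟨[7, 6, 5, 4, 3, 1, 2, 0, 3, 2, 4, 3, 1, 5, 4, 3, 2, 0, 6, 5, 4, 3, 1, 2, 3, 4, 5, 7, 6, 5, 4, 3, 1, 2, 0, 3, 2, 4, 3, 5, 4], 41, 10221625820896262627, [(true, 162), (false, 2), (false, 3), (true, 105), (false, 5), (false, 1), (false, 6), (true, 166)]⟩,
   ⟨[7, 6, 5, 4, 3, 1, 2, 0, 3, 2, 4, 3, 1, 5, 4, 3, 2, 0, 6, 5, 4, 3, 1, 2, 3, 4, 5, 6, 7, 6, 5, 4, 3, 1, 2, 0, 3, 2, 4, 3, 5, 4], 42, 10221625820896289804, [(true, 163), (false, 2), (false, 3), (true, 106), (false, 5), (false, 1), (true, 167), (true, 165)]⟩,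
   ⟨[7, 6, 5, 4, 3, 1, 2, 0, 3, 2, 4, 3, 1, 5, 4, 3, 2, 0, 6, 5, 4, 3, 1, 2, 3, 4, 5, 6, 7, 6, 5, 4, 3, 1, 2, 0, 3, 2, 4, 3, 5, 4, 6], 43, 10221625820903181177, [(true, 164), (false, 2), (false, 3), (true, 107), (true, 168), (false, 1), (true, 166), (false, 6)]⟩,
   ⟨[7, 6, 5, 4, 3, 1, 2, 0, 3, 2, 4, 3, 1, 5, 4, 3, 2, 0, 6, 5, 4, 3, 1, 2, 3, 4, 5, 6, 7, 6, 5, 4, 3, 1, 2, 0, 3, 2, 4, 3, 5, 4, 6, 5], 44, 10221625823321553785, [(false, 0), (false, 2), (false, 3), (true, 108), (true, 167), (false, 1), (false, 5), (false, 6)]⟩,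
   ⟨[7, 6, 5, 4, 3, 1, 2, 0, 3, 2, 4, 3, 1, 5, 4, 3, 2, 0, 6, 5, 4, 3, 1, 2, 3, 4, 5, 6, 7, 6, 5, 4, 3, 1, 2, 0, 3, 2, 4, 3, 1, 5, 4, 3, 2, 0, 6, 5, 4, 3, 1, 2], 52, 11675308163262741369, [(false, 3), (true, 171), (true, 1), (true, 182), (false, 4), (false, 0), (false, 5), (false, 6)]⟩,
   ⟨[7, 6, 5, 4, 3, 1], 6, 11699661946386021241, [(false, 3), (false, 1), (true, 183), (true, 181), (false, 4), (false, 0), (false, 5), (false, 6)]⟩,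
   ⟨[7, 6, 5, 4, 3, 1, 2, 0, 3, 2, 4, 3, 1, 5, 4, 3, 2, 0, 6, 5, 4, 3, 1, 2, 3, 4, 5, 6, 7, 6, 5, 4, 3, 1, 2, 0, 3, 2, 4, 3, 1, 5, 4, 3, 2, 0, 6, 5, 4, 3, 1, 2, 3], 53, 11713166665356049273, [(true, 172), (true, 169), (false, 2), (false, 1), (false, 4), (false, 0), (false, 5), (false, 6)]⟩,
   ⟨[7, 6, 5, 4, 3, 1, 2, 0, 3, 2, 4, 3, 1, 5, 4, 3, 2, 0, 6, 5, 4, 3, 1, 2, 3, 4, 5, 6, 7, 6, 5, 4, 3, 1, 2, 0, 3, 2, 4, 3, 1, 5, 4, 3, 2, 0, 6, 5, 4, 3, 1, 2, 3, 4], 54, 11713167198358633337, [(true, 171), (false, 3), (false, 2), (false, 1), (true, 173), (false, 0), (false, 5), (false, 6)]⟩,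
   ⟨[7, 6, 5, 4, 3, 1, 2, 0, 3, 2, 4, 3, 1, 5, 4, 3, 2, 0, 6, 5, 4, 3, 1, 2, 3, 4, 5, 6, 7, 6, 5, 4, 3, 1, 2, 0, 3, 2, 4, 3, 1, 5, 4, 3, 2, 0, 6, 5, 4, 3, 1, 2, 3, 4, 5], 55, 11713167200390212985, [(false, 4), (false, 3), (false, 2), (false, 1), (true, 172), (false, 0), (true, 174), (false, 6)]⟩,
   ⟨[7, 6, 5, 4, 3, 1, 2, 0, 3, 2, 4, 3, 1, 5, 4, 3, 2, 0, 6, 5, 4, 3, 1, 2, 3, 4, 5, 6, 7, 6, 5, 4, 3, 1, 2, 0, 3, 2, 4, 3, 1, 5, 4, 3, 2, 0, 6, 5, 4, 3, 1, 2, 3, 4, 5, 6], 56, 11713167200398017262, [(false, 4), (false, 3), (false, 2), (false, 1), (false, 5), (false, 0), (true, 173), (true, 175)]⟩,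
   ⟨[7, 6, 5, 4, 3, 1, 2, 0, 3, 2, 4, 3, 1, 5, 4, 3, 2, 0, 6, 5, 4, 3, 1, 2, 3, 4, 5, 6, 7, 6, 5, 4, 3, 1, 2, 0, 3, 2, 4, 3, 1, 5, 4, 3, 2, 0, 6, 5, 4, 3, 1, 2, 3, 4, 5, 6, 7], 57, 11713167200398047489, [(false, 4), (false, 3), (false, 2), (false, 1), (false, 5), (false, 0), (false, 6), (true, 174)]⟩,
   ⟨[], 0, 11713167200398047608, [(false, 4), (false, 3), (false, 2), (false, 1), (false, 5), (false, 0), (false, 6), (true, 177)]⟩,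
   ⟨[7], 1, 11713167200398047863, [(false, 4), (false, 3), (false, 2), (false, 1), (false, 5), (false, 0), (true, 178), (true, 176)]⟩,
   ⟨[7, 6], 2, 11713167200398177657, [(false, 4), (false, 3), (false, 2), (false, 1), (true, 179), (false, 0), (true, 177), (false, 6)]⟩,
   ⟨[7, 6, 5], 3, 11713167200447789945, [(true, 180), (false, 3), (false, 2), (false, 1), (true, 178), (false, 0), (false, 5), (false, 6)]⟩,
   ⟨[7, 6, 5, 4], 4, 11713167217309678457, [(true, 179), (true, 181), (false, 2), (false, 1), (false, 4), (false, 0), (false, 5), (false, 6)]⟩,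
   ⟨[7, 6, 5, 4, 3], 5, 11714579965532863353, [(false, 3), (true, 180), (true, 189), (true, 170), (false, 4), (false, 0), (false, 5), (false, 6)]⟩,
   ⟨[7, 6, 5, 4, 3, 1, 2, 0, 3, 2, 4, 3, 1, 5, 4, 3, 2, 0, 6, 5, 4, 3, 1, 2, 3, 4, 5, 6, 7, 6, 5, 4, 3, 1, 2, 0, 3, 2, 4, 3, 1, 5, 4, 3, 2, 0, 6, 5, 4, 3, 2], 51, 11738639633590680441, [(false, 3), (false, 1), (true, 7), (true, 169), (false, 4), (false, 0), (false, 5), (false, 6)]⟩,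
   ⟨[7, 6, 5, 4, 3, 1, 2], 7, 12131962473586523001, [(false, 3), (true, 184), (true, 170), (true, 189), (false, 4), (true, 50), (false, 5), (false, 6)]⟩,
   ⟨[7, 6, 5, 4, 3, 1, 2, 3], 8, 12143830331933227897, [(true, 185), (true, 183), (false, 1), (false, 2), (false, 4), (true, 51), (false, 5), (false, 6)]⟩,
   ⟨[7, 6, 5, 4, 3, 1, 2, 3, 4], 9, 12143830511132769145, [(true, 184), (false, 3), (false, 1), (false, 2), (true, 186), (true, 52), (false, 5), (false, 6)]⟩,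
   ⟨[7, 6, 5, 4, 3, 1, 2, 3, 4, 5], 10, 12143830511832375417, [(false, 4), (false, 3), (false, 1), (false, 2), (true, 185), (true, 53), (true, 187), (false, 6)]⟩,
   ⟨[7, 6, 5, 4, 3, 1, 2, 3, 4, 5, 6], 11, 12143830511835107233, [(false, 4), (false, 3), (false, 1), (false, 2), (false, 5), (true, 54), (true, 186), (true, 188)]⟩,
   ⟨[7, 6, 5, 4, 3, 1, 2, 3, 4, 5, 6, 7], 12, 12143830511835117902, [(false, 4), (false, 3), (false, 1), (false, 2), (false, 5), (true, 55), (false, 6), (true, 187)]⟩,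
   ⟨[7, 6, 5, 4, 3, 2], 6, 12146880578632711033, [(false, 3), (false, 2), (true, 181), (true, 183), (false, 4), (true, 56), (false, 5), (false, 6)]⟩,
   ⟨[7, 6, 5, 4, 3, 1, 2, 0, 3, 2, 4, 3, 1, 5, 4, 3, 2, 0, 6, 5, 4, 3, 1, 2, 7, 6, 5, 4, 3, 1, 2], 31, 14636177044170508194, [(true, 191), (false, 6), (true, 58), (true, 206), (false, 3), (true, 29), (false, 2), (false, 0)]⟩,
   ⟨[7, 6, 5, 4, 3, 1, 2, 0, 3, 2, 4, 3, 1, 5, 4, 3, 2, 0, 6, 5, 4, 3, 1, 2, 3, 7, 6, 5, 4, 3, 1, 2], 32, 14636177431947872162, [(true, 190), (true, 196), (true, 59), (true, 207), (true, 192), (true, 30), (false, 2), (false, 0)]⟩,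
   ⟨[7, 6, 5, 4, 3, 1, 2, 0, 3, 2, 4, 3, 1, 5, 4, 3, 2, 0, 6, 5, 4, 3, 1, 2, 3, 4, 7, 6, 5, 4, 3, 1, 2], 33, 14636177433646652578, [(false, 3), (true, 197), (true, 60), (true, 208), (true, 191), (true, 31), (true, 193), (false, 0)]⟩,
   ⟨[7, 6, 5, 4, 3, 1, 2, 0, 3, 2, 4, 3, 1, 5, 4, 3, 2, 0, 6, 5, 4, 3, 1, 2, 3, 4, 5, 7, 6, 5, 4, 3, 1, 2], 34, 14636177433653875683, [(false, 3), (true, 198), (true, 61), (true, 209), (false, 2), (true, 32), (true, 192), (true, 194)]⟩,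
   ⟨[7, 6, 5, 4, 3, 1, 2, 0, 3, 2, 4, 3, 1, 5, 4, 3, 2, 0, 6, 5, 4, 3, 1, 2, 3, 4, 5, 6, 7, 6, 5, 4, 3, 1, 2], 35, 14636177433653912076, [(false, 3), (true, 199), (true, 62), (true, 210), (false, 2), (true, 33), (false, 0), (true, 193)]⟩,
   ⟨[7, 6, 5, 4, 3, 1, 2, 0, 3, 2, 4, 3, 1, 5, 4, 3, 2, 0, 6, 5, 4, 3, 1, 7, 6, 5, 4, 3, 2], 29, 14661750957357041570, [(false, 4), (true, 206), (true, 13), (false, 6), (false, 3), (true, 34), (false, 2), (false, 0)]⟩,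
   ⟨[7, 6, 5, 4, 3, 1, 2, 0, 3, 2, 4, 3, 1, 5, 4, 3, 2, 0, 6, 5, 4, 3, 1, 2, 3, 7, 6, 5, 4, 3, 1, 2, 3], 33, 14663312585912715170, [(false, 6), (true, 191), (false, 1), (false, 4), (true, 197), (true, 35), (false, 2), (false, 0)]⟩,
   ⟨[7, 6, 5, 4, 3, 1, 2, 0, 3, 2, 4, 3, 1, 5, 4, 3, 2, 0, 6, 5, 4, 3, 1, 2, 3, 4, 7, 6, 5, 4, 3, 1, 2, 3], 34, 14663312587494055074, [(true, 200), (true, 192), (false, 1), (false, 4), (true, 196), (true, 36), (true, 198), (false, 0)]⟩,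
   ⟨[7, 6, 5, 4, 3, 1, 2, 0, 3, 2, 4, 3, 1, 5, 4, 3, 2, 0, 6, 5, 4, 3, 1, 2, 3, 4, 5, 7, 6, 5, 4, 3, 1, 2, 3], 35, 14663312587501278179, [(true, 201), (true, 193), (false, 1), (false, 4), (false, 2), (true, 37), (true, 197), (true, 199)]⟩,
   ⟨[7, 6, 5, 4, 3, 1, 2, 0, 3, 2, 4, 3, 1, 5, 4, 3, 2, 0, 6, 5, 4, 3, 1, 2, 3, 4, 5, 6, 7, 6, 5, 4, 3, 1, 2, 3], 36, 14663312587501314572, [(true, 202), (true, 194), (false, 1), (false, 4), (false, 2), (true, 38), (false, 0), (true, 198)]⟩,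
   ⟨[7, 6, 5, 4, 3, 1, 2, 0, 3, 2, 4, 3, 1, 5, 4, 3, 2, 0, 6, 5, 4, 3, 1, 2, 3, 4, 7, 6, 5, 4, 3, 1, 2, 3, 4], 35, 14663313026644040866, [(true, 197), (false, 3), (false, 1), (false, 4), (false, 6), (true, 39), (true, 201), (false, 0)]⟩,
   ⟨[7, 6, 5, 4, 3, 1, 2, 0, 3, 2, 4, 3, 1, 5, 4, 3, 2, 0, 6, 5, 4, 3, 1, 2, 3, 4, 5, 7, 6, 5, 4, 3, 1, 2, 3, 4], 36, 14663313026650543075, [(true, 198), (false, 3), (false, 1), (false, 4), (true, 203), (true, 40), (true, 200), (true, 202)]⟩,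
   ⟨[7, 6, 5, 4, 3, 1, 2, 0, 3, 2, 4, 3, 1, 5, 4, 3, 2, 0, 6, 5, 4, 3, 1, 2, 3, 4, 5, 6, 7, 6, 5, 4, 3, 1, 2, 3, 4], 37, 14663313026650579468, [(true, 199), (false, 3), (false, 1), (false, 4), (true, 204), (true, 41), (false, 0), (true, 201)]⟩,
   ⟨[7, 6, 5, 4, 3, 1, 2, 0, 3, 2, 4, 3, 1, 5, 4, 3, 2, 0, 6, 5, 4, 3, 1, 2, 3, 4, 5, 7, 6, 5, 4, 3, 1, 2, 3, 4, 5], 37, 14663313028516313571, [(false, 2), (false, 3), (false, 1), (false, 4), (true, 201), (true, 42), (false, 6), (true, 204)]⟩,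
   ⟨[7, 6, 5, 4, 3, 1, 2, 0, 3, 2, 4, 3, 1, 5, 4, 3, 2, 0, 6, 5, 4, 3, 1, 2, 3, 4, 5, 6, 7, 6, 5, 4, 3, 1, 2, 3, 4, 5], 38, 14663313028516340748, [(false, 2), (false, 3), (false, 1), (false, 4), (true, 202), (true, 43), (true, 205), (true, 203)]⟩,
   ⟨[7, 6, 5, 4, 3, 1, 2, 0, 3, 2, 4, 3, 1, 5, 4, 3, 2, 0, 6, 5, 4, 3, 1, 2, 3, 4, 5, 6, 7, 6, 5, 4, 3, 1, 2, 3, 4, 5, 6], 39, 14663313028525722489, [(false, 2), (false, 3), (false, 1), (false, 4), (false, 0), (true, 44), (true, 204), (false, 6)]⟩,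
   ⟨[7, 6, 5, 4, 3, 1, 2, 0, 3, 2, 4, 3, 1, 5, 4, 3, 2, 0, 6, 5, 4, 3, 1, 2, 7, 6, 5, 4, 3, 2], 30, 14686560678454658978, [(true, 207), (true, 195), (true, 93), (true, 190), (false, 3), (true, 45), (false, 2), (false, 0)]⟩,
   ⟨[7, 6, 5, 4, 3, 1, 2, 0, 3, 2, 4, 3, 1, 5, 4, 3, 2, 0, 6, 5, 4, 3, 1, 2, 3, 7, 6, 5, 4, 3, 2], 31, 14686561083411892130, [(true, 206), (false, 4), (true, 94), (true, 191), (true, 208), (true, 46), (false, 2), (false, 0)]⟩,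
   ⟨[7, 6, 5, 4, 3, 1, 2, 0, 3, 2, 4, 3, 1, 5, 4, 3, 2, 0, 6, 5, 4, 3, 1, 2, 3, 4, 7, 6, 5, 4, 3, 2], 32, 14686561085110672546, [(false, 3), (false, 4), (true, 95), (true, 192), (true, 207), (true, 47), (true, 209), (false, 0)]⟩,
   ⟨[7, 6, 5, 4, 3, 1, 2, 0, 3, 2, 4, 3, 1, 5, 4, 3, 2, 0, 6, 5, 4, 3, 1, 2, 3, 4, 5, 7, 6, 5, 4, 3, 2], 33, 14686561085117895651, [(false, 3), (false, 4), (true, 96), (true, 193), (false, 2), (true, 48), (true, 208), (true, 210)]⟩,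
   ⟨[7, 6, 5, 4, 3, 1, 2, 0, 3, 2, 4, 3, 1, 5, 4, 3, 2, 0, 6, 5, 4, 3, 1, 2, 3, 4, 5, 6, 7, 6, 5, 4, 3, 2], 34, 14686561085117932044, [(false, 3), (false, 4), (true, 97), (true, 194), (false, 2), (true, 49), (false, 0), (true, 209)]⟩,
   ⟨[7, 6, 5, 4, 3, 1, 2, 0, 3, 2, 4, 3, 1, 5, 4, 3, 2, 6, 5, 4, 3, 1], 22, 14854696204214182561, [(false, 3), (false, 4), (false, 5), (true, 227), (false, 2), (true, 8), (false, 0), (true, 212)]⟩,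
   ⟨[7, 6, 5, 4, 3, 1, 2, 0, 3, 2, 4, 3, 1, 5, 4, 3, 2, 6, 5, 4, 3, 1, 7], 23, 14854696204214187854, [(false, 3), (false, 4), (false, 5), (true, 228), (false, 2), (true, 9), (true, 213), (true, 211)]⟩,
   ⟨[7, 6, 5, 4, 3, 1, 2, 0, 3, 2, 4, 3, 1, 5, 4, 3, 2, 6, 5, 4, 3, 1, 7, 6], 24, 14854696204217956514, [(false, 3), (false, 4), (false, 5), (true, 229), (true, 214), (true, 10), (true, 212), (false, 0)]⟩,
   ⟨[7, 6, 5, 4, 3, 1, 2, 0, 3, 2, 4, 3, 1, 5, 4, 3, 2, 6, 5, 4, 3, 1, 7, 6, 5], 25, 14854696205365970850, [(true, 215), (false, 4), (false, 5), (true, 230), (true, 213), (true, 11), (false, 2), (false, 0)]⟩,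
   ⟨[7, 6, 5, 4, 3, 1, 2, 0, 3, 2, 4, 3, 1, 5, 4, 3, 2, 6, 5, 4, 3, 1, 7, 6, 5, 4], 26, 14854696529121413026, [(true, 214), (true, 216), (false, 5), (true, 231), (false, 3), (true, 12), (false, 2), (false, 0)]⟩,
   ⟨[7, 6, 5, 4, 3, 1, 2, 0, 3, 2, 4, 3, 1, 5, 4, 3, 2, 6, 5, 4, 3, 1, 7, 6, 5, 4, 3], 27, 14878146205891856290, [(false, 4), (true, 215), (true, 239), (false, 6), (false, 3), (true, 13), (false, 2), (false, 0)]⟩,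
   ⟨[7, 6, 5, 4, 3, 1, 2, 0, 3, 2, 4, 3, 1, 5, 4, 3, 2], 17, 14879378058500022393, [(false, 2), (false, 3), (true, 129), (false, 4), (false, 0), (true, 14), (true, 218), (false, 6)]⟩,
   ⟨[7, 6, 5, 4, 3, 1, 2, 0, 3, 2, 4, 3, 1, 5, 4, 3, 2, 6], 18, 14879378058501312417, [(false, 2), (false, 3), (true, 130), (false, 4), (true, 220), (true, 15), (true, 217), (true, 219)]⟩,
   ⟨[7, 6, 5, 4, 3, 1, 2, 0, 3, 2, 4, 3, 1, 5, 4, 3, 2, 6, 7], 19, 14879378058501323086, [(false, 2), (false, 3), (true, 131), (false, 4), (true, 221), (true, 16), (false, 6), (true, 218)]⟩,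
   ⟨[7, 6, 5, 4, 3, 1, 2, 0, 3, 2, 4, 3, 1, 5, 4, 3, 2, 6, 5], 19, 14879378059449442977, [(true, 223), (false, 3), (true, 132), (false, 4), (true, 218), (true, 17), (false, 0), (true, 221)]⟩,
   ⟨[7, 6, 5, 4, 3, 1, 2, 0, 3, 2, 4, 3, 1, 5, 4, 3, 2, 6, 5, 7], 20, 14879378059449448270, [(true, 224), (false, 3), (true, 133), (false, 4), (true, 219), (true, 18), (true, 222), (true, 220)]⟩,
   ⟨[7, 6, 5, 4, 3, 1, 2, 0, 3, 2, 4, 3, 1, 5, 4, 3, 2, 6, 5, 7, 6], 21, 14879378059453610146, [(true, 225), (false, 3), (true, 134), (false, 4), (false, 6), (true, 19), (true, 221), (false, 0)]⟩,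
   ⟨[7, 6, 5, 4, 3, 1, 2, 0, 3, 2, 4, 3, 1, 5, 4, 3, 2, 6, 5, 4], 20, 14879378349079634593, [(true, 220), (true, 227), (true, 135), (false, 4), (false, 2), (true, 20), (false, 0), (true, 224)]⟩,
   ⟨[7, 6, 5, 4, 3, 1, 2, 0, 3, 2, 4, 3, 1, 5, 4, 3, 2, 6, 5, 4, 7], 21, 14879378349079639886, [(true, 221), (true, 228), (true, 136), (false, 4), (false, 2), (true, 21), (true, 225), (true, 223)]⟩,
   ⟨[7, 6, 5, 4, 3, 1, 2, 0, 3, 2, 4, 3, 1, 5, 4, 3, 2, 6, 5, 4, 7, 6], 22, 14879378349083408546, [(true, 222), (true, 229), (true, 137), (false, 4), (true, 226), (true, 22), (true, 224), (false, 0)]⟩,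
   ⟨[7, 6, 5, 4, 3, 1, 2, 0, 3, 2, 4, 3, 1, 5, 4, 3, 2, 6, 5, 4, 7, 6, 5], 23, 14879378350315308962, [(false, 6), (true, 230), (true, 138), (false, 4), (true, 225), (true, 23), (false, 2), (false, 0)]⟩,
   ⟨[7, 6, 5, 4, 3, 1, 2, 0, 3, 2, 4, 3, 1, 5, 4, 3, 2, 6, 5, 4, 3], 21, 14900576260345799329, [(false, 3), (true, 223), (false, 5), (true, 211), (false, 2), (true, 24), (false, 0), (true, 228)]⟩,
   ⟨[7, 6, 5, 4, 3, 1, 2, 0, 3, 2, 4, 3, 1, 5, 4, 3, 2, 6, 5, 4, 3, 7], 22, 14900576260345804622, [(false, 3), (true, 224), (false, 5), (true, 212), (false, 2), (true, 25), (true, 229), (true, 227)]⟩,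
   ⟨[7, 6, 5, 4, 3, 1, 2, 0, 3, 2, 4, 3, 1, 5, 4, 3, 2, 6, 5, 4, 3, 7, 6], 23, 14900576260349573282, [(false, 3), (true, 225), (false, 5), (true, 213), (true, 230), (true, 26), (true, 228), (false, 0)]⟩,
   ⟨[7, 6, 5, 4, 3, 1, 2, 0, 3, 2, 4, 3, 1, 5, 4, 3, 2, 6, 5, 4, 3, 7, 6, 5], 24, 14900576261497587618, [(true, 231), (true, 226), (false, 5), (true, 214), (true, 229), (true, 27), (false, 2), (false, 0)]⟩,
   ⟨[7, 6, 5, 4, 3, 1, 2, 0, 3, 2, 4, 3, 1, 5, 4, 3, 2, 6, 5, 4, 3, 7, 6, 5, 4], 25, 14900576602432898978, [(true, 230), (false, 6), (false, 5), (true, 215), (false, 3), (true, 28), (false, 2), (false, 0)]⟩,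
   ⟨[7, 6, 5, 4, 3, 1, 2, 0, 3, 2, 4, 3, 1, 5, 4, 3, 2, 0, 6, 5, 4, 3, 1, 2, 3, 4, 5, 6, 7, 6, 5, 4, 3, 1, 2, 0, 3, 2, 4, 3, 1, 5, 4, 3, 2, 6, 5, 4, 3, 1], 50, 16215107686264372089, [(false, 3), (false, 2), (false, 0), (true, 238), (false, 4), (true, 1), (false, 5), (false, 6)]⟩,
   ⟨[7, 6, 5, 4, 3, 1, 2, 0, 3, 2, 4, 3, 1, 5, 4, 3, 2, 0, 6, 5, 4, 3, 1, 2, 3, 4, 5, 7, 6, 5, 4, 3, 1, 2, 0, 3, 2, 4, 3, 1, 5, 4, 3, 2], 44, 16250974833531910627, [(false, 4), (false, 3), (true, 144), (false, 2), (false, 5), (true, 2), (false, 6), (true, 234)]⟩,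
   ⟨[7, 6, 5, 4, 3, 1, 2, 0, 3, 2, 4, 3, 1, 5, 4, 3, 2, 0, 6, 5, 4, 3, 1, 2, 3, 4, 5, 6, 7, 6, 5, 4, 3, 1, 2, 0, 3, 2, 4, 3, 1, 5, 4, 3, 2], 45, 16250974833531937804, [(false, 4), (false, 3), (true, 145), (false, 2), (false, 5), (true, 3), (true, 235), (true, 233)]⟩,
   ⟨[7, 6, 5, 4, 3, 1, 2, 0, 3, 2, 4, 3, 1, 5, 4, 3, 2, 0, 6, 5, 4, 3, 1, 2, 3, 4, 5, 6, 7, 6, 5, 4, 3, 1, 2, 0, 3, 2, 4, 3, 1, 5, 4, 3, 2, 6], 46, 16250974833538829177, [(false, 4), (false, 3), (true, 146), (false, 2), (true, 236), (true, 4), (true, 234), (false, 6)]⟩,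
   ⟨[7, 6, 5, 4, 3, 1, 2, 0, 3, 2, 4, 3, 1, 5, 4, 3, 2, 0, 6, 5, 4, 3, 1, 2, 3, 4, 5, 6, 7, 6, 5, 4, 3, 1, 2, 0, 3, 2, 4, 3, 1, 5, 4, 3, 2, 6, 5], 47, 16250974835269335929, [(true, 237), (false, 3), (true, 147), (false, 2), (true, 235), (true, 5), (false, 5), (false, 6)]⟩,
   ⟨[7, 6, 5, 4, 3, 1, 2, 0, 3, 2, 4, 3, 1, 5, 4, 3, 2, 0, 6, 5, 4, 3, 1, 2, 3, 4, 5, 6, 7, 6, 5, 4, 3, 1, 2, 0, 3, 2, 4, 3, 1, 5, 4, 3, 2, 6, 5, 4], 48, 16250975265360870265, [(true, 236), (true, 238), (true, 148), (false, 2), (false, 4), (true, 6), (false, 5), (false, 6)]⟩,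
   ⟨[7, 6, 5, 4, 3, 1, 2, 0, 3, 2, 4, 3, 1, 5, 4, 3, 2, 0, 6, 5, 4, 3, 1, 2, 3, 4, 5, 6, 7, 6, 5, 4, 3, 1, 2, 0, 3, 2, 4, 3, 1, 5, 4, 3, 2, 6, 5, 4, 3], 49, 16278439010563423097, [(false, 3), (true, 237), (false, 0), (true, 232), (false, 4), (true, 7), (false, 5), (false, 6)]⟩,
   ⟨[7, 6, 5, 4, 3, 1, 2, 0, 3, 2, 4, 3, 1, 5, 4, 3, 2, 6, 5, 4, 3, 1, 7, 6, 5, 4, 3, 2], 28, 17255863560068827042, [(false, 4), (false, 5), (true, 216), (false, 6), (false, 3), (true, 0), (false, 2), (false, 0)]⟩]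

/-- the steps -/
def steps : List (ℕ × List Tab.Rep) :=
  [(4, reps0), (3, reps1), (2, reps2), (1, reps3), (5, reps4), (0, reps5), (6, reps6), (7, reps7)]

/-- torus certificate -/
def cert : Tab.TorCert :=
  ⟨1, 0, fun _ _ => 0, fun _ _ => 0, fun a b => ([[4, 5, 7, 10, 8, 6, 4, 2], [5, 8, 10, 15, 12, 9, 6, 3], [7, 10, 14, 20, 16, 12, 8, 4], [10, 15, 20, 30, 24, 18, 12, 6], [8, 12, 16, 24, 20, 15, 10, 5], [6, 9, 12, 18, 15, 12, 8, 4], [4, 6, 8, 12, 10, 8, 6, 3], [2, 3, 4, 6, 5, 4, 3, 2]].getD a []).getD b 0, fun _ _ => 0⟩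

theorem step0 : tab.checkStep [] [4] reps0 = true := by decide +kernel

theorem step1 : tab.checkStep [4] [4, 3] reps1 = true := by decide +kernel

theorem step2 : tab.checkStep [4, 3] [4, 3, 2] reps2 = true := by decide +kernel

theorem step3 : tab.checkStep [4, 3, 2] [4, 3, 2, 1] reps3 = true := by decide +kernel

theorem step4 : tab.checkStep [4, 3, 2, 1] [4, 3, 2, 1, 5] reps4 = true := by decide +kernel

theorem step5 : tab.checkStep [4, 3, 2, 1, 5] [4, 3, 2, 1, 5, 0] reps5 = true := by decide +kernel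

theorem step6 : tab.checkStep [4, 3, 2, 1, 5, 0] [4, 3, 2, 1, 5, 0, 6] reps6 = true := by decide +kernel

theorem step7 : tab.checkStep [4, 3, 2, 1, 5, 0, 6] [4, 3, 2, 1, 5, 0, 6, 7] reps7 = true := by decide +kernel

theorem chainOK : tab.checkChain [] steps = true := by
  simp only [steps, Tab.checkChain, List.nil_append, List.cons_append, Bool.and_eq_true]
  exact ⟨step0, step1, step2, step3, step4, step5, step6, step7, by decide +kernel⟩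

theorem torOK : tab.checkTor cert = true := by decide +kernel

theorem polyOK : tab.checkPoly steps [2, 8, 12, 14, 18, 20, 24, 30] = true := by decide +kernel

end Cfsg.Agent.Chev.E8Data
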