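import Cfsg.Agent.Lib.Lie.ChevOrder
import Cfsg.Agent.Lib.Lie.TabF4

/-! Certificates for the order in type F4. -/

set_option autoImplicit false
set_option maxRecDepth 20000

namespace Cfsg.Agent.Chev.F4Data

/-- representatives -/
def reps0 : List Tab.Rep :=
  [⟨[], 0, 555424024, [(true, 1)]⟩,
   ⟨[2], 1, 555488794, [(true, 0)]⟩]

/-- representatives -/
def reps1 : List Tab.Rep :=
  [⟨[], 0, 555424024, [(false, 2), (true, 1)]⟩,
   ⟨[1], 1, 571743768, [(true, 2), (true, 0)]⟩,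
   ⟨[1, 2], 2, 572264735, [(true, 1), (true, 3)]⟩,
   ⟨[1, 2, 1], 3, 622008607, [(false, 2), (true, 2)]⟩]

/-- representatives -/
def reps2 : List Tab.Rep :=
  [⟨[], 0, 555424024, [(false, 2), (false, 1), (true, 1)]⟩,
   ⟨[3], 1, 555424279, [(true, 2), (false, 1), (true, 0)]⟩,
   ⟨[3, 2], 2, 555554073, [(true, 1), (true, 3), (false, 2)]⟩,
   ⟨[3, 2, 1], 3, 605167385, [(true, 4), (true, 2), (false, 2)]⟩,
   ⟨[3, 2, 1, 2], 4, 605753376, [(true, 3), (false, 1), (true, 5)]⟩,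
   ⟨[3, 2, 1, 2, 3], 5, 605755663, [(false, 2), (false, 1), (true, 4)]⟩]

/-- representatives -/
def reps3 : List Tab.Rep :=
  [⟨[0, 1, 2, 1, 3, 2, 1, 0], 8, 52762649, [(false, 3), (true, 5), (false, 2), (true, 23)]⟩,
   ⟨[0, 1, 2, 1, 0, 3, 2, 1, 0, 2, 1, 3, 2, 1, 0], 15, 119216408, [(false, 2), (false, 1), (false, 3), (true, 22)]⟩,
   ⟨[0, 1, 2, 1, 0], 5, 169548074, [(false, 2), (false, 1), (true, 3), (true, 19)]⟩,
   ⟨[0, 1, 2, 1, 0, 3], 6, 169552645, [(true, 4), (false, 1), (true, 2), (true, 20)]⟩,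
   ⟨[0, 1, 2, 1, 0, 3, 2], 7, 170656793, [(true, 3), (true, 16), (false, 2), (true, 21)]⟩,
   ⟨[0, 1, 2, 1, 0, 3, 2, 1, 0], 9, 185216281, [(true, 6), (true, 0), (false, 2), (true, 16)]⟩,
   ⟨[0, 1, 2, 1, 0, 3, 2, 1, 0, 2], 10, 187040302, [(true, 5), (true, 9), (true, 7), (true, 17)]⟩,
   ⟨[0, 1, 2, 1, 0, 3, 2, 1, 0, 2, 3], 11, 187046145, [(false, 2), (true, 10), (true, 6), (true, 18)]⟩,
   ⟨[0], 1, 237115672, [(false, 2), (true, 11), (false, 3), (true, 15)]⟩,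
   ⟨[0, 1, 2, 1, 0, 3, 2, 1, 0, 2, 1], 11, 453580846, [(false, 3), (true, 6), (true, 10), (false, 1)]⟩,
   ⟨[0, 1, 2, 1, 0, 3, 2, 1, 0, 2, 1, 3], 12, 453586689, [(true, 14), (true, 7), (true, 9), (false, 1)]⟩,
   ⟨[0, 1], 2, 453847320, [(true, 12), (true, 8), (false, 3), (false, 1)]⟩,
   ⟨[0, 1, 2], 3, 455280170, [(true, 11), (true, 19), (true, 13), (false, 1)]⟩,
   ⟨[0, 1, 2, 3], 4, 455284741, [(false, 3), (true, 20), (true, 12), (false, 1)]⟩,
   ⟨[0, 1, 2, 1, 0, 3, 2, 1, 0, 2, 1, 3, 2], 13, 455540760, [(true, 10), (true, 22), (false, 3), (false, 1)]⟩,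
   ⟨[], 0, 555424024, [(false, 2), (false, 1), (false, 3), (true, 8)]⟩,
   ⟨[0, 1, 2, 1, 0, 3, 2, 1], 8, 604187929, [(true, 17), (true, 4), (false, 2), (true, 5)]⟩,
   ⟨[0, 1, 2, 1, 0, 3, 2, 1, 2], 9, 605749806, [(true, 16), (false, 1), (true, 18), (true, 6)]⟩,
   ⟨[0, 1, 2, 1, 0, 3, 2, 1, 2, 3], 10, 605755649, [(false, 2), (false, 1), (true, 17), (true, 7)]⟩,
   ⟨[0, 1, 2, 1], 4, 621549866, [(false, 2), (true, 12), (true, 20), (true, 2)]⟩,
   ⟨[0, 1, 2, 1, 3], 5, 621554437, [(true, 21), (true, 13), (true, 19), (true, 3)]⟩,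
   ⟨[0, 1, 2, 1, 3, 2], 6, 623117337, [(true, 20), (true, 23), (false, 2), (true, 4)]⟩,
   ⟨[0, 1, 2, 1, 0, 3, 2, 1, 0, 2, 1, 3, 2, 1], 14, 671619352, [(false, 2), (true, 14), (false, 3), (true, 1)]⟩,
   ⟨[0, 1, 2, 1, 3, 2, 1], 7, 738924569, [(false, 3), (true, 21), (false, 2), (true, 0)]⟩]

/-- the steps -/
def steps : List (ℕ × List Tab.Rep) :=
  [(2, reps0), (1, reps1), (3, reps2), (0, reps3)]

/-- torus certificate -/
def cert : Tab.TorCert :=
  ⟨1, 0, fun _ _ => 0, fun _ _ => 0, fun a b => ([[2, 3, 2, 1], [3, 6, 4, 2], [4, 8, 6, 3], [2, 4, 3, 2]].getD a []).getD b 0, fun _ _ => 0⟩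

theorem step0 : tab.checkStep [] [2] reps0 = true := by decide +kernel

theorem step1 : tab.checkStep [2] [2, 1] reps1 = true := by decide +kernel

theorem step2 : tab.checkStep [2, 1] [2, 1, 3] reps2 = true := by decide +kernel

theorem step3 : tab.checkStep [2, 1, 3] [2, 1, 3, 0] reps3 = true := by decide +kernel

theorem chainOK : tab.checkChain [] steps = true := by
  simp only [steps, Tab.checkChain, List.nil_append, List.cons_append, Bool.and_eq_true]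
  exact ⟨step0, step1, step2, step3, by decide +kernel⟩

theorem torOK : tab.checkTor cert = true := by decide +kernel

theorem polyOK : tab.checkPoly steps [2, 6, 8, 12] = true := by decide +kernel

end Cfsg.Agent.Chev.F4Data
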