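import Cfsg.Agent.Lib.Lie.ChevOrder
import Cfsg.Agent.Lib.Lie.TabG2

/-! Certificates for the order in type G2. -/

set_option autoImplicit false
set_option maxRecDepth 20000

namespace Cfsg.Agent.Chev.G2Data

/-- representatives -/
def reps0 : List Tab.Rep :=
  [⟨[], 0, 1798, [(true, 1)]⟩,
   ⟨[1], 1, 2053, [(true, 0)]⟩]

/-- representatives -/
def reps1 : List Tab.Rep :=
  [⟨[0, 1, 0], 3, 523, [(true, 4), (true, 5)]⟩,
   ⟨[0, 1, 0, 1, 0], 5, 774, [(false, 1), (true, 4)]⟩,
   ⟨[0], 1, 1034, [(true, 5), (true, 3)]⟩,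
   ⟨[], 0, 1798, [(false, 1), (true, 2)]⟩,
   ⟨[0, 1, 0, 1], 4, 2048, [(true, 0), (true, 1)]⟩,
   ⟨[0, 1], 2, 2305, [(true, 2), (true, 0)]⟩]

/-- the steps -/
def steps : List (ℕ × List Tab.Rep) :=
  [(1, reps0), (0, reps1)]

/-- torus certificate -/
def cert : Tab.TorCert :=
  ⟨1, 0, fun _ _ => 0, fun _ _ => 0, fun a b => ([[2, 1], [3, 2]].getD a []).getD b 0, fun _ _ => 0⟩

theorem step0 : tab.checkStep [] [1] reps0 = true := by decide +kernel

theorem step1 : tab.checkStep [1] [1, 0] reps1 = true := by decide +kernel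

theorem chainOK : tab.checkChain [] steps = true := by
  simp only [steps, Tab.checkChain, List.nil_append, List.cons_append, Bool.and_eq_true]
  exact ⟨step0, step1, by decide +kernel⟩

theorem torOK : tab.checkTor cert = true := by decide +kernel

theorem polyOK : tab.checkPoly steps [2, 6] = true := by decide +kernel

end Cfsg.Agent.Chev.G2Data
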