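import Cfsg.Agent.Lib.Lie.StBruhat
import Cfsg.Agent.Lib.Lie.OrderG2
import Cfsg.Agent.Lib.Lie.OrderF4
import Cfsg.Agent.Lib.Lie.OrderE8

/-!
# Steinberg groups: the projection as a map onto the group, determinant one
-/

set_option autoImplicit false
set_option maxRecDepth 8000

namespace Cfsg.Agent.Chev

open Cfsg.Lie
open Matrix hiding zpow_mul inv_zpow mul_inv_rev zpow_add zpow_neg

namespace Tab

variable {T : Tab} {K : List (List ℕ)} {W : List (ℕ × ℕ × ℕ)} {F : Type*} [Field F]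

/-- the projection onto the group -/
noncomputable def θG (g : T.GoodA) (F : Type*) [Field F] : T.D.SteinbergGroup F →* ↥(T.D.group F) :=
  (θ0 g F).codRestrict (T.D.group F) fun x => by rw [← θ0_range (F := F) g]; exact ⟨x, rfl⟩

theorem θG_surjective (g : T.GoodA) : Function.Surjective (θG g F) := by
  rintro ⟨y, hy⟩
  rw [← θ0_range g] at hy
  obtain ⟨x, rfl⟩ := hy
  exact ⟨x, rfl⟩

theorem θG_ker (g : T.GoodA) : (θG g F).ker = (θ0 g F).ker := by
  ext x
  simp [MonoidHom.mem_ker, θG]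

theorem θG_stGen (g : T.GoodA) (r : ℕ) (t : F) :
    ((θG g F (T.D.stGen F r t) : GL T.D.Idx F) : Matrix T.D.Idx T.D.Idx F) = T.D.x F r t := by
  show ((θ0 g F (sx T F r t) : GL T.D.Idx F) : Matrix T.D.Idx T.D.Idx F) = _
  rw [θ0_sx, xg_val]

/-- the kernel of any homomorphism agreeing with the projection on generators -/
theorem ker_le_closure (g : T.GoodW K W) (θ : T.D.SteinbergGroup F →* ↥(T.D.group F))
    (hθ : ∀ (r : ℕ) (t : F), r < T.D.nroots →
      ((θ (T.D.stGen F r t) : GL T.D.Idx F) : Matrix T.D.Idx T.D.Idx F) = T.D.x F r t) :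
    θ.ker ≤ Subgroup.closure {h | ∃ (i : ℕ) (t : F), i < T.D.rank ∧ t ≠ 0 ∧
      h = PresentedGroup.mk (T.D.steinbergRels F) (T.D.stH (T.D.simple i) t)} := by
  have hg := g.toGood
  have e : θ = θG g.toGoodA F := by
    refine PresentedGroup.ext fun p => Subtype.ext (Units.ext ?_)
    have hp : (PresentedGroup.of p : T.D.SteinbergGroup F) = T.D.stGen F p.1 p.2 := by
      rw [ChevalleyDatum.stGen, ChevalleyDatum.stX, dif_pos p.1.isLt]
      rfl
    rw [hp, hθ _ _ p.1.isLt, θG_stGen]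
  intro x hx
  rw [e, θG_ker, MonoidHom.mem_ker] at hx
  obtain ⟨c, rfl, -⟩ := ker_mem g hx
  refine Subgroup.list_prod_mem _ fun y hy => ?_
  obtain ⟨i, hi, rfl⟩ := List.mem_map.1 hy
  have hi' := List.mem_range.1 hi
  refine Subgroup.subset_closure ⟨i, (c i : F), by rw [hg.rank_eq]; exact hi', (c i).ne_zero, ?_⟩
  rw [hg.simple_eq hi', mk_stH hg (hg.smp_lt hi'), hb]

/-- With determinant one the centre is trivial. -/
theorem center_eq_bot (g : T.GoodW K W) {C : TorCert} (hC : T.checkTor C = true) (hk : C.k = 0) :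
    Subgroup.center (T.D.SteinbergGroup F) = ⊥ := by
  classical
  rw [← ker_eq_center g, eq_bot_iff]
  intro x hx
  obtain ⟨c, rfl, hc⟩ := ker_mem g (MonoidHom.mem_ker.1 hx)
  have hg := g.toGood
  simp only [checkTor, Bool.and_eq_true, allBelow_eq_true, beq_iff_eq, decide_eq_true_eq,
    sumBelow_eq_sum, hk] at hC
  obtain ⟨⟨⟨⟨-, h1⟩, -⟩, -⟩, -⟩ := hC
  have hwt : ∀ i < T.l, wt T F c (T.smp i) = 1 := by
    intro i hi
    refine Units.ext ?_
    have := tor_xg hg c (hg.smp_lt hi) (1 : F)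
    rw [hc, one_mul, inv_one, mul_one, mul_one] at this
    exact (xg_mono_inj hg (hg.smp_lt hi) this).symm.trans (by simp)
  have hcj : ∀ j < T.l, c j = 1 := by
    intro j hj
    have hprod : ∏ i ∈ Finset.range T.l, wt T F c (T.smp i) ^ C.M j i = c j := by
      simp only [wt, ← Finset.prod_zpow, ← zpow_mul]
      rw [Finset.prod_comm]
      refine (Finset.prod_eq_single j ?_ ?_).trans ?_
      · intro j' hj' hne
        rw [prod_zpow_sum]
        have := h1 j hj j' (Finset.mem_range.1 hj')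
        rw [Finset.range_zero, Finset.sum_empty, zero_add, if_neg (Ne.symm hne)] at this
        rw [← zpow_zero (c j'), ← this]
        exact congrArg _ (Finset.sum_congr rfl fun i _ => mul_comm _ _)
      · exact fun h => absurd (Finset.mem_range.2 hj) h
      · rw [prod_zpow_sum]
        have := h1 j hj j hj
        rw [Finset.range_zero, Finset.sum_empty, zero_add, if_pos rfl] at this
        conv_rhs => rw [← zpow_one (c j), ← this]
        exact congrArg _ (Finset.sum_congr rfl fun i _ => mul_comm _ _)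
    rw [← hprod]
    exact Finset.prod_eq_one fun i hi => by rw [hwt i (Finset.mem_range.1 hi), _root_.one_zpow]
  rw [Subgroup.mem_bot]
  refine List.prod_eq_one fun y hy => ?_
  obtain ⟨i, hi, rfl⟩ := List.mem_map.1 hy
  rw [hcj i (List.mem_range.1 hi), hb, Units.val_one, sh_one hg]

end Tab

theorem exists_goodW_one {D : ChevalleyDatum} (hD : D ∈ [chevG2, chevF4, chevE8]) :
    ∃ T : Tab, ∃ K W, T.GoodW K W ∧ (∃ C : Tab.TorCert, C.k = 0 ∧ T.checkTor C = true) ∧ T.D = D := by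
  simp only [List.mem_cons, List.not_mem_nil, or_false] at hD
  rcases hD with rfl | rfl | rfl
  · exact ⟨_, [[2, 3], [1, 2]], [(0, 9, 1), (0, 8, 2)],
      ⟨⟨⟨G2Data.good, by decide +kernel⟩, by decide +kernel⟩, by decide +kernel⟩,
      ⟨_, rfl, G2Data.torOK⟩, rfl⟩
  · exact ⟨_, [[2, 3, 4, 2], [3, 6, 8, 4], [2, 4, 6, 3], [1, 2, 3, 2]],
      [(7, 44, 0), (3, 45, 0), (0, 39, 1), (1, 47, 0)],
      ⟨⟨⟨F4Data.good, by decide +kernel⟩, by decide +kernel⟩, by decide +kernel⟩,
      ⟨_, rfl, F4Data.torOK⟩, rfl⟩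
  · exact ⟨_, [[4, 5, 7, 10, 8, 6, 4, 2], [5, 8, 10, 15, 12, 9, 6, 3], [7, 10, 14, 20, 16, 12, 8, 4],
        [10, 15, 20, 30, 24, 18, 12, 6], [8, 12, 16, 24, 20, 15, 10, 5], [6, 9, 12, 18, 15, 12, 8, 4],
        [4, 6, 8, 12, 10, 8, 6, 3], [2, 3, 4, 6, 5, 4, 3, 2]],
      [(14, 233, 0), (7, 234, 0), (6, 234, 0), (5, 235, 0), (4, 236, 0), (3, 237, 0), (2, 238, 0),
        (1, 239, 0)],
      ⟨⟨⟨E8Data.good, by decide +kernel⟩, by decide +kernel⟩, by decide +kernel⟩,
      ⟨_, rfl, E8Data.torOK⟩, rfl⟩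

end Cfsg.Agent.Chev
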