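import Cfsg.Agent.Lib.Lie.ChevOrder
import Cfsg.Agent.Lib.Lie.TabE6

/-! Certificates for the order in type E6. -/

set_option autoImplicit false
set_option maxRecDepth 20000

namespace Cfsg.Agent.Chev.E6Data

/-- representatives -/
def reps0 : List Tab.Rep :=
  [⟨[], 0, 61770926859556, [(true, 1)]⟩,
   ⟨[4], 1, 61770926924326, [(true, 0)]⟩]

/-- representatives -/
def reps1 : List Tab.Rep :=
  [⟨[], 0, 61770926859556, [(false, 4), (true, 1)]⟩,
   ⟨[3], 1, 61775238146084, [(true, 2), (true, 0)]⟩,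
   ⟨[3, 4], 2, 61775238471465, [(true, 1), (false, 4)]⟩]

/-- representatives -/
def reps2 : List Tab.Rep :=
  [⟨[], 0, 61770926859556, [(false, 4), (false, 3), (true, 1)]⟩,
   ⟨[2], 1, 62870220645668, [(false, 4), (true, 2), (true, 0)]⟩,
   ⟨[2, 3], 2, 62887567305764, [(true, 3), (true, 1), (false, 3)]⟩,
   ⟨[2, 3, 4], 3, 62887567891245, [(true, 2), (false, 4), (false, 3)]⟩]

/-- representatives -/
def reps3 : List Tab.Rep :=
  [⟨[1], 1, 61680733070628, [(false, 4), (true, 1), (false, 2), (true, 3)]⟩,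
   ⟨[1, 3], 2, 61740995325988, [(true, 2), (true, 0), (true, 5), (false, 3)]⟩,
   ⟨[1, 3, 4], 3, 61740996171569, [(true, 1), (false, 4), (true, 6), (false, 3)]⟩,
   ⟨[], 0, 61770926859556, [(false, 4), (false, 3), (false, 2), (true, 0)]⟩,
   ⟨[1, 3, 2, 4, 3, 1], 6, 67148142029361, [(false, 2), (false, 3), (false, 4), (true, 7)]⟩,
   ⟨[1, 3, 2], 3, 67238068105252, [(true, 6), (false, 2), (true, 1), (false, 3)]⟩,
   ⟨[1, 3, 2, 4], 4, 67238068688689, [(true, 5), (true, 7), (true, 2), (false, 3)]⟩,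
   ⟨[1, 3, 2, 4, 3], 5, 67298464639537, [(false, 2), (true, 6), (false, 4), (true, 4)]⟩]

/-- representatives -/
def reps4 : List Tab.Rep :=
  [⟨[5, 4, 3, 1], 4, 61667898435365, [(false, 3), (false, 1), (true, 5), (true, 4), (false, 4)]⟩,
   ⟨[], 0, 61770926859556, [(false, 4), (false, 3), (false, 2), (false, 1), (true, 2)]⟩,
   ⟨[5], 1, 61770926859811, [(true, 3), (false, 3), (false, 2), (false, 1), (true, 1)]⟩,
   ⟨[5, 4], 2, 61770926989605, [(true, 2), (true, 4), (false, 2), (false, 1), (false, 4)]⟩,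
   ⟨[5, 4, 3], 3, 61783861503781, [(false, 3), (true, 3), (true, 9), (true, 0), (false, 4)]⟩,
   ⟨[5, 4, 3, 1, 2], 5, 66065626572581, [(false, 3), (true, 6), (true, 0), (true, 9), (false, 4)]⟩,
   ⟨[5, 4, 3, 1, 2, 3], 6, 66151859303973, [(true, 7), (true, 5), (false, 1), (false, 2), (false, 4)]⟩,
   ⟨[5, 4, 3, 1, 2, 3, 4], 7, 66151860605239, [(true, 6), (false, 3), (false, 1), (false, 2), (true, 8)]⟩,
   ⟨[5, 4, 3, 1, 2, 3, 4, 5], 8, 66151860610320, [(false, 4), (false, 3), (false, 1), (false, 2), (true, 7)]⟩,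
   ⟨[5, 4, 3, 2], 4, 66181590034213, [(false, 3), (false, 2), (true, 4), (true, 5), (false, 4)]⟩]

/-- representatives -/
def reps5 : List Tab.Rep :=
  [⟨[0, 2, 3, 1, 4, 3, 2, 0, 5, 4, 3, 1], 12, 4420664633134, [(false, 3), (false, 4), (true, 6), (true, 4), (false, 1), (true, 22)]⟩,
   ⟨[0, 2, 3, 1, 4, 3, 2, 0], 8, 4557667511868, [(false, 1), (false, 3), (false, 2), (false, 4), (true, 2), (true, 23)]⟩,
   ⟨[0, 2, 3, 1, 4, 3, 2, 0, 5], 9, 4557667516171, [(true, 3), (false, 3), (false, 2), (false, 4), (true, 1), (true, 24)]⟩,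
   ⟨[0, 2, 3, 1, 4, 3, 2, 0, 5, 4], 10, 4557669206062, [(true, 2), (true, 4), (false, 2), (false, 4), (false, 1), (true, 25)]⟩,
   ⟨[0, 2, 3, 1, 4, 3, 2, 0, 5, 4, 3], 11, 4682655606574, [(false, 3), (true, 3), (true, 10), (true, 0), (false, 1), (true, 26)]⟩,
   ⟨[0], 1, 16691201778980, [(false, 4), (false, 3), (true, 17), (false, 1), (false, 5), (true, 21)]⟩,
   ⟨[0, 2, 3, 1, 4, 3, 2, 0, 5, 4, 3, 1, 2], 13, 39603948300078, [(false, 3), (true, 7), (true, 0), (true, 10), (false, 1), (false, 5)]⟩,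
   ⟨[0, 2, 3, 1, 4, 3, 2, 0, 5, 4, 3, 1, 2, 3], 14, 39763428132398, [(true, 8), (true, 6), (false, 4), (false, 2), (false, 1), (false, 5)]⟩,
   ⟨[0, 2, 3, 1, 4, 3, 2, 0, 5, 4, 3, 1, 2, 3, 4], 15, 39763430539591, [(true, 7), (false, 3), (false, 4), (false, 2), (true, 9), (false, 5)]⟩,
   ⟨[0, 2, 3, 1, 4, 3, 2, 0, 5, 4, 3, 1, 2, 3, 4, 5], 16, 39763430551040, [(false, 1), (false, 3), (false, 4), (false, 2), (true, 8), (false, 5)]⟩,
   ⟨[0, 2, 3, 1, 4, 3, 2, 0, 5, 4, 3, 2], 12, 39865939535662, [(false, 3), (false, 2), (true, 4), (true, 6), (false, 1), (false, 5)]⟩,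
   ⟨[0, 2, 3, 1], 4, 46223095380772, [(true, 12), (false, 1), (false, 3), (true, 18), (false, 5), (false, 2)]⟩,
   ⟨[0, 2, 3, 1, 4], 5, 46223096417340, [(true, 11), (true, 14), (false, 3), (true, 19), (true, 13), (false, 2)]⟩,
   ⟨[0, 2, 3, 1, 4, 5], 6, 46223096423435, [(false, 5), (true, 15), (false, 3), (true, 20), (true, 12), (false, 2)]⟩,
   ⟨[0, 2, 3, 1, 4, 3], 6, 46339476500028, [(false, 1), (true, 12), (true, 23), (false, 4), (true, 15), (false, 2)]⟩,
   ⟨[0, 2, 3, 1, 4, 3, 5], 7, 46339476504331, [(true, 16), (true, 13), (true, 24), (false, 4), (true, 14), (false, 2)]⟩,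
   ⟨[0, 2, 3, 1, 4, 3, 5, 4], 8, 46339478259758, [(true, 15), (false, 5), (true, 25), (false, 4), (false, 1), (false, 2)]⟩,
   ⟨[0, 2], 2, 46377295553828, [(false, 4), (true, 18), (true, 5), (false, 1), (false, 5), (false, 2)]⟩,
   ⟨[0, 2, 3], 3, 46442136550180, [(true, 19), (true, 17), (false, 3), (true, 11), (false, 5), (false, 2)]⟩,
   ⟨[0, 2, 3, 4], 4, 46442138111036, [(true, 18), (false, 4), (false, 3), (true, 12), (true, 20), (false, 2)]⟩,
   ⟨[0, 2, 3, 4, 5], 5, 46442138117131, [(false, 5), (false, 4), (false, 3), (true, 13), (true, 19), (false, 2)]⟩,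
   ⟨[], 0, 61770926859556, [(false, 4), (false, 3), (false, 2), (false, 1), (false, 5), (true, 5)]⟩,
   ⟨[0, 2, 3, 1, 4, 3, 2, 5, 4, 3, 1], 11, 73689360312110, [(false, 3), (false, 4), (false, 5), (true, 26), (false, 1), (true, 0)]⟩,
   ⟨[0, 2, 3, 1, 4, 3, 2], 7, 73826312859196, [(false, 1), (false, 3), (true, 14), (false, 4), (true, 24), (true, 1)]⟩,
   ⟨[0, 2, 3, 1, 4, 3, 2, 5], 8, 73826312863499, [(true, 25), (false, 3), (true, 15), (false, 4), (true, 23), (true, 2)]⟩,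
   ⟨[0, 2, 3, 1, 4, 3, 2, 5, 4], 9, 73826314553390, [(true, 24), (true, 26), (true, 16), (false, 4), (false, 1), (true, 3)]⟩,
   ⟨[0, 2, 3, 1, 4, 3, 2, 5, 4, 3], 10, 73951351285550, [(false, 3), (true, 25), (false, 5), (true, 22), (false, 1), (true, 4)]⟩]

/-- the steps -/
def steps : List (ℕ × List Tab.Rep) :=
  [(4, reps0), (3, reps1), (2, reps2), (1, reps3), (5, reps4), (0, reps5)]

/-- torus certificate -/
def cert : Tab.TorCert :=
  ⟨3, 1, fun a b => ([[1, 0, 2, 0, 1, 2]].getD a []).getD b 0, fun a b => ([[0, 0, 1, -1, 0, 1]].getD a []).getD b 0, fun a b => ([[1, 1, 1, 2, 1, 0], [1, 2, 2, 3, 2, 1], [1, 2, 2, 4, 2, 0], [2, 3, 4, 6, 4, 2], [1, 2, 2, 4, 3, 1], [0, 1, 0, 2, 1, 0]].getD a []).getD b 0, fun a b => ([[1, 0, 2, 0, 1, 2]].getD a []).getD b 0⟩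

theorem step0 : tab.checkStep [] [4] reps0 = true := by decide +kernel

theorem step1 : tab.checkStep [4] [4, 3] reps1 = true := by decide +kernel

theorem step2 : tab.checkStep [4, 3] [4, 3, 2] reps2 = true := by decide +kernel

theorem step3 : tab.checkStep [4, 3, 2] [4, 3, 2, 1] reps3 = true := by decide +kernel

theorem step4 : tab.checkStep [4, 3, 2, 1] [4, 3, 2, 1, 5] reps4 = true := by decide +kernel

theorem step5 : tab.checkStep [4, 3, 2, 1, 5] [4, 3, 2, 1, 5, 0] reps5 = true := by decide +kernel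

theorem chainOK : tab.checkChain [] steps = true := by
  simp only [steps, Tab.checkChain, List.nil_append, List.cons_append, Bool.and_eq_true]
  exact ⟨step0, step1, step2, step3, step4, step5, by decide +kernel⟩

theorem torOK : tab.checkTor cert = true := by decide +kernel

theorem polyOK : tab.checkPoly steps [2, 5, 6, 8, 9, 12] = true := by decide +kernel

end Cfsg.Agent.Chev.E6Data
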