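import Cfsg.Agent.Lib.Lie.TwGraph

/-!
# Twisted groups: the torus of the generated group

If the rank one decompositions use only torus elements of a subgroup `H'`, the torus elements of the
twisted group are those of `H'` times signs coming from Weyl group lifts.
-/

set_option autoImplicit false

namespace Cfsg.Agent.Chev

open Cfsg.Lie
open Matrix hiding zpow_mul inv_zpow mul_inv_rev zpow_add zpow_neg

namespace Tab

variable {T : Tab} {F : Type*} [Field F]

/-- conjugating a torus element by `n_p` -/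
theorem nG_tor (g : T.Good) {i : ℕ} (hi : i < T.l) (c : ℕ → Fˣ) :
    nG g F i * tor T F c * (nG g F i)⁻¹ =
      tor T F (c * Pi.mulSingle i (wt T F c (T.smp i))⁻¹) := by
  rw [tor_apply, nG_dg g hi, tor_apply]
  refine dg_congr g fun s hs => ?_
  rw [wt_mul, wt_single g hi, inv_zpow, ← _root_.zpow_neg]
  simp only [wt, ← Finset.prod_zpow, ← Finset.prod_mul_distrib]
  refine Finset.prod_congr rfl fun j hj => ?_
  rw [A_ref g hi (Finset.mem_range.1 hj) hs, sub_eq_add_neg, ← mul_neg, _root_.zpow_add,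
    ← zpow_mul]

theorem genS_commute (g : T.GoodA) {A B : List ℕ} (h : T.checkComPair A B = true)
    {x y : GL T.D.Idx F} (hx : x ∈ genS g.toGood F {r | r ∈ A})
    (hy : y ∈ genS g.toGood F {r | r ∈ B}) : Commute x y := by
  simp only [checkComPair, List.all_eq_true, Bool.and_eq_true, nat_blt, Bool.not_eq_true',
    List.isEmpty_iff, nat_beq_false] at h
  refine genS_induction g.toGood (p := fun x => Commute x y) (Commute.one_left _) ?_ hx
  intro r hr t x' hx'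
  refine Commute.mul_left ?_ hx'
  refine genS_induction g.toGood (p := fun y => Commute (xg g.toGood r t) y) (Commute.one_right _)
    ?_ hy
  intro s hs u y' hy'
  obtain ⟨hrn, hrs⟩ := h r hr
  obtain ⟨⟨⟨hsn, h1⟩, h2⟩, h3⟩ := hrs s hs
  exact (xg_commute g hrn hsn h1 h2 h3 t u).mul_right hy'

theorem nE_mem_node (g : T.Good) (r : ℕ) (t : F) :
    nE g r t ∈ genS g F {s | s ∈ [r, T.neg r]} :=
  mul_mem (mul_mem (xg_mem_genS g (by simp) _) (xg_mem_genS g (by simp) _))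
    (xg_mem_genS g (by simp) _)

theorem nG_mem_node (g : T.Good) (i : ℕ) :
    nG g F i ∈ genS g F {s | s ∈ [T.smp i, T.neg (T.smp i)]} := by
  have : nG g F i = nE g (T.smp i) (1 : F) := by simp [nG, nE]
  rw [this]
  exact nE_mem_node g _ _

theorem hS_mem_node (g : T.Good) {i : ℕ} (hi : i < T.l) (u : Fˣ) :
    hS T F i u ∈ genS g F {s | s ∈ [T.smp i, T.neg (T.smp i)]} := by
  rw [← hE_smp g hi]
  exact mul_mem (nE_mem_node g _ _) (nE_mem_node g _ _)

/-- the rank one identity -/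
theorem rk1_node (g : T.Good) {i : ℕ} (hi : i < T.l) {a : F} (ha : a ≠ 0) :
    nG g F i * xg g (T.smp i) a * (nG g F i)⁻¹ =
      xg g (T.smp i) (-a⁻¹) * (hS T F i (Units.mk0 a ha)⁻¹ * nG g F i) * xg g (T.smp i) (-a⁻¹) := by
  have h1 : nG g F i * xg g (T.smp i) a * (nG g F i)⁻¹ = xg g (T.neg (T.smp i)) (-a) := by
    rw [nG_conj g hi (g.smp_lt hi), g.ref_smp hi, g.eta_smp hi]
    congr 1
    push_cast
    ring
  have e : ((Units.mk0 a ha)⁻¹ : Fˣ) = Units.mk0 a⁻¹ (inv_ne_zero ha) := Units.ext (by simp)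
  rw [h1, ← nE_simple g hi, e, Units.val_mk0, inv_inv, ← xg_inv g (T.smp i)]
  group

/-- regroup four commuting factors -/
theorem regroup4 {G : Type*} [Group G] {a b c d a' b' c' d' : G} (ha : Commute (b * c * d) a')
    (hb : Commute (c * d) b') (hc : Commute d c') :
    (a * b * c * d) * (a' * b' * c' * d') = (a * a') * (b * b') * (c * c') * (d * d') := by
  calc (a * b * c * d) * (a' * b' * c' * d') = a * ((b * c * d) * a') * b' * c' * d' := by group
    _ = a * a' * b * ((c * d) * b') * c' * d' := by rw [ha.eq]; group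
    _ = a * a' * (b * b') * c * (d * c') * d' := by rw [hb.eq]; group
    _ = _ := by rw [hc.eq]; group

namespace Twist

variable {K : List (List ℕ)} {g : T.GoodK K} (X : Twist g F) {H' : Subgroup (GL T.D.Idx F)}

/-- the torus elements of the generated group -/
theorem torus_closure (hH : H' ≤ T.D.diagonalSubgroup F ⊓ X.G1)
    (hn : ∀ b < X.nb, ∀ h ∈ H', X.n b * h * (X.n b)⁻¹ ∈ H')
    (hsq : ∀ b < X.nb, X.n b * X.n b ∈ H')
    (hB : X.Blocks)
    (hr1 : ∀ b < X.nb, ∀ z ∈ uMinus g.toGood F (X.w b), z ∈ X.G1 → z = 1 ∨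
      ∃ v ∈ uMinus g.toGood F (X.w b), v ∈ X.G1 ∧ ∃ h ∈ H',
        ∃ u ∈ uMinus g.toGood F (X.w b), u ∈ X.G1 ∧ X.n b * z * (X.n b)⁻¹ = v * h * X.n b * u)
    (hnw : ∀ b < X.nb, X.n b = nWd g.toGood F (X.w b))
    {S : Set (GL T.D.Idx F)} (hS : X.G1 = Subgroup.closure S)
    (hsplit : ∀ x ∈ S, x ∈ genS g.toGood F (Set.Ico T.N T.n) ∨ x ∈ genS g.toGood F (Set.Iio T.N))
    {x : GL T.D.Idx F} (hx : x ∈ T.D.diagonalSubgroup F ⊓ X.G1) :
    ∃ h ∈ H', ∃ N ∈ T.D.diagonalSubgroup F, N ∈ X.G1 ∧ N * N = 1 ∧ x = h * N := by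
  have hg := g.toGood
  -- the union of the cells with torus part in `H'`
  let P : GL T.D.Idx F → Prop := fun y => y ∈ genS hg F (Set.Ico T.N T.n) ∧ y ∈ X.G1
  let M : GL T.D.Idx F → Prop := fun y => ∃ v, P v ∧ ∃ h ∈ H', ∃ Ls : List ℕ,
    (∀ b ∈ Ls, b < X.nb) ∧ ∃ u, P u ∧ y = v * h * (Ls.map X.n).prod * u
  have hP1 : P 1 := ⟨one_mem _, one_mem _⟩
  have hPm : ∀ {a b}, P a → P b → P (a * b) := fun ha hb =>
    ⟨mul_mem ha.1 hb.1, mul_mem ha.2 hb.2⟩
  have hM1 : M 1 := ⟨1, hP1, 1, one_mem _, [], by simp, 1, hP1, by simp⟩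
  have hMU : ∀ {a y}, P a → M y → M (a * y) := by
    rintro a y ha ⟨v, hv, h, hh, Ls, hLs, u, hu, rfl⟩
    exact ⟨a * v, hPm ha hv, h, hh, Ls, hLs, u, hu, by group⟩
  have hconj : ∀ {h z}, h ∈ H' → P z → P (h * z * h⁻¹) := by
    intro h z hh hz
    obtain ⟨hd, h1⟩ := Subgroup.mem_inf.1 (hH hh)
    rw [diagonalSubgroup_eq hg] at hd
    obtain ⟨c, rfl⟩ := hd
    exact ⟨(Subgroup.mem_normalizer_iff.1 (tor_normalizes hg (fun r hr => hr.2) c) _).1 hz.1,
      X.G1.mul_mem (X.G1.mul_mem h1 hz.2) (X.G1.inv_mem h1)⟩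
  have hMH : ∀ {a y}, a ∈ H' → M y → M (a * y) := by
    rintro a y ha ⟨v, hv, h, hh, Ls, hLs, u, hu, rfl⟩
    exact ⟨a * v * a⁻¹, hconj ha hv, a * h, mul_mem ha hh, Ls, hLs, u, hu, by group⟩
  have hMn : ∀ {b y}, b < X.nb → M y → M (X.n b * y) := by
    rintro b y hb ⟨v, hv, h, hh, Ls, hLs, u, hu, rfl⟩
    have hwd := X.w_wd hb
    have hs1 := X.n_mem b hb
    obtain ⟨hsG, hsσ⟩ := X.G1_le _ hs1
    obtain ⟨v0, hv0, hv0w, z, hz, rfl⟩ := (pos_decomp g.toGoodA _ hwd le_rfl).1 v hv.1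
    have hv0G : v0 ∈ T.D.group F := genS_le_group hg hv0
    have hzG : z ∈ T.D.group F := genS_le_group hg hz
    have hσv0 : nWd hg F (X.w b) * X.σ v0 * (nWd hg F (X.w b))⁻¹ ∈ genS hg F (Set.Ico T.N T.n) := by
      have h1 := X.σ_pos hv0w
      rw [← hnw b hb] at h1 ⊢
      rwa [X.σ_conj hsG hv0G, hsσ] at h1
    obtain ⟨-, hz'⟩ := pos_decomp_unique hg hwd hσv0 hv0w (X.σ_uMinus hwd (X.w_comm hb) hz) hz (by
      rw [← X.σ_mul _ hv0G _ hzG]; exact (X.G1_le _ hv.2).2)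
    have hz1 : z ∈ X.G1 := X.uMinus_fixed_mem _ hwd (X.w_comm hb) le_rfl z hz hz'
    have hv01 : v0 ∈ X.G1 := by
      have : v0 = v0 * z * z⁻¹ := by group
      rw [this]; exact X.G1.mul_mem hv.2 (X.G1.inv_mem hz1)
    set p := X.n b * v0 * (X.n b)⁻¹ with hp
    have hpP : P p := ⟨by rw [hp, hnw b hb]; exact hv0w,
      X.G1.mul_mem (X.G1.mul_mem hs1 hv01) (X.G1.inv_mem hs1)⟩
    -- move the torus part to the left
    set z' := h⁻¹ * z * h with hz'def
    obtain ⟨hhd, hh1⟩ := Subgroup.mem_inf.1 (hH hh)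
    have hz'm : z' ∈ uMinus hg F (X.w b) := by
      rw [diagonalSubgroup_eq hg] at hhd
      obtain ⟨c, rfl⟩ := hhd
      have := (Subgroup.mem_normalizer_iff.1 (inv_mem (tor_normalizes (F := F) hg
        (S := {r | T.N ≤ r ∧ r < T.n ∧ T.rw' (X.w b) r < T.N}) (fun r hr => hr.2.1) c)) z).1 hz
      rwa [inv_inv] at this
    have hz'1 : z' ∈ X.G1 := X.G1.mul_mem (X.G1.mul_mem (X.G1.inv_mem hh1) hz1) hh1
    have hh' := hn b hb h hh
    suffices hmain : M (X.n b * z' * ((Ls.map X.n).prod * u)) by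
      have := hMU hpP (hMH hh' hmain)
      convert this using 1
      rw [hp, hz'def]
      group
    obtain ⟨c, hc, hcmem⟩ := X.flat_lift hLs
    set n := (Ls.map X.n).prod with hndef
    set L := flatW X.w Ls with hLdef
    have hL : T.Wd L := X.flat_wd hLs
    have hLc : X.Comm L := X.flat_comm hLs
    have hz1S : ∀ r ∈ {r | T.N ≤ r ∧ r < T.n ∧ T.rw' (X.w b) r < T.N}, r < T.n :=
      fun r hr => hr.2.1
    have hcons : ∀ b' ∈ b :: Ls, b' < X.nb := fun b' hb' => by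
      rcases List.mem_cons.1 hb' with rfl | hb'
      · exact hb
      · exact hLs b' hb'
    by_cases hsign : ∃ j ∈ X.J b, T.N ≤ T.rw' L.reverse (T.smp j)
    · obtain ⟨j, hj, hjpos⟩ := hsign
      have h1 : n⁻¹ * z' * n ∈ genS hg F (Set.Ico T.N T.n) := by
        rw [hc]
        refine genS_mono hg ?_ (nWd_rev_conj hg hL c hz1S hz'm)
        rintro _ ⟨r, hr, rfl⟩
        obtain ⟨h1, h2, h3⟩ := (X.mem_invSet_w hb).1 (show r ∈ T.invSet (X.w b) by
          simp [invSet, hr.1, hr.2.1, hr.2.2])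
        exact ⟨X.block_pos hL.reverse (X.neg_comm_rev hL hLc) hb hj hjpos r h1 h2 h3,
          rw'_lt hg hL.reverse h2⟩
      refine ⟨1, hP1, 1, one_mem _, b :: Ls, hcons, n⁻¹ * z' * n * u,
        hPm ⟨h1, X.G1.mul_mem (X.G1.mul_mem (X.G1.inv_mem hcmem) hz'1) hcmem⟩ hu, ?_⟩
      rw [List.map_cons, List.prod_cons, ← hndef]
      group
    push Not at hsign
    rcases hr1 b hb z' hz'm hz'1 with h1 | ⟨v', hv', hv'1, h', hh'', u', hu', hu'1, e⟩
    · refine ⟨1, hP1, 1, one_mem _, b :: Ls, hcons, u, hu, ?_⟩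
      rw [h1, List.map_cons, List.prod_cons, ← hndef]
      group
    obtain ⟨i, hi⟩ : ∃ i, i ∈ X.w b := by
      rcases hw : X.w b with _ | ⟨i, l⟩
      · obtain ⟨r, hr⟩ := hB.pos b hb
        simp only [invSet, hw, Finset.mem_filter, Finset.mem_Ico, rw'_nil] at hr
        omega
      · exact ⟨i, List.mem_cons_self⟩
    have hall : ∀ r ∈ T.invSet (X.w b), T.rw' L.reverse r < T.N := fun r hr => by
      obtain ⟨h1, h2, h3⟩ := (X.mem_invSet_w hb).1 hr
      exact X.block_neg hL.reverse (X.neg_comm_rev hL hLc) hb (X.w_mem b hb i hi)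
        (hsign i (X.w_mem b hb i hi)) r h1 h2 h3
    obtain ⟨c2, hc2, hc2mem⟩ := X.flat_lift hcons
    have hu2 : (X.n b * n)⁻¹ * u' * (X.n b * n) ∈ genS hg F (Set.Ico T.N T.n) := by
      have hsn : X.n b * n = tor T F c2 * nWd hg F (X.w b ++ L) := by
        rw [hLdef, ← flatW_cons, ← hc2, List.map_cons, List.prod_cons]
      rw [hsn]
      refine genS_mono hg ?_ (nWd_rev_conj hg (Wd.append_iff.2 ⟨hwd, hL⟩) c2 hz1S hu')
      rintro _ ⟨r, ⟨h1, h2, h3⟩, rfl⟩
      refine ⟨?_, rw'_lt hg (Wd.append_iff.2 ⟨hwd, hL⟩).reverse h2⟩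
      have hinvol : ∀ r < T.n, T.rw' (X.w b).reverse r = T.rw' (X.w b) r := fun r hr => by
        have := hB.sq b hb
        rw [pL_append, mul_eq_one_iff_eq_inv, pL_inv] at this
        exact ((pL_eq_iff hg hwd hwd.reverse).1 this r hr).symm
      rw [List.reverse_append, rw'_append, hinvol r h2]
      have hu0 := rw'_lt hg hwd h2
      have hm : T.neg (T.rw' (X.w b) r) ∈ T.invSet (X.w b) := by
        simp only [invSet, Finset.mem_filter, Finset.mem_Ico]
        refine ⟨⟨(N_le_neg_iff hu0).2 h3, neg_lt hu0⟩, ?_⟩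
        rw [rw'_neg hg hwd hu0, ← hinvol _ hu0, rw'_rev hg hwd h2]
        exact (neg_lt_N_iff h2).2 h1
      have := hall _ hm
      rwa [rw'_neg hg hL.reverse hu0, neg_lt_N_iff (rw'_lt hg hL.reverse hu0)] at this
    have hu21 : (X.n b * n)⁻¹ * u' * (X.n b * n) ∈ X.G1 :=
      X.G1.mul_mem (X.G1.mul_mem (X.G1.inv_mem (X.G1.mul_mem hs1 hcmem)) hu'1)
        (X.G1.mul_mem hs1 hcmem)
    refine ⟨v', ⟨uMinus_le_pos hg _ hv', hv'1⟩, h' * (X.n b * X.n b),
      mul_mem hh'' (hsq b hb), Ls, hLs, (X.n b * n)⁻¹ * u' * (X.n b * n) * u,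
      hPm ⟨hu2, hu21⟩ hu, ?_⟩
    calc X.n b * z' * (n * u) = (X.n b * z' * (X.n b)⁻¹) * (X.n b * n) * u := by group
      _ = _ := by rw [e, ← hndef]; group
  have hMn' : ∀ {b y}, b < X.nb → M y → M ((X.n b)⁻¹ * y) := by
    intro b y hb hy
    have := hMH (inv_mem (hsq b hb)) (hMn hb hy)
    convert this using 1
    group
  -- everything lies in `M`
  let S' : Set (GL T.D.Idx F) := {a | P a} ∪ {a | ∃ b < X.nb, a = X.n b}
  have hle : X.G1 ≤ Subgroup.closure S' := by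
    rw [hS, Subgroup.closure_le]
    intro a ha
    have ha1 : a ∈ X.G1 := hS ▸ Subgroup.subset_closure ha
    rcases hsplit a ha with h | h
    · exact Subgroup.subset_closure (Or.inl ⟨h, ha1⟩)
    obtain ⟨L, hL, hLc, hneg⟩ := X.exists_longest_comm
    obtain ⟨Ls, hLs, e⟩ := X.exists_flat _ hL hLc le_rfl
    obtain ⟨c, hc, hmem⟩ := X.flat_lift hLs
    have hneg' : ∀ s, T.N ≤ s → s < T.n → T.rw' (flatW X.w Ls) s < T.N := fun s h1 h2 => by
      rw [← (pL_eq_iff hg hL (X.flat_wd hLs)).1 e s h2]; exact hneg s h1 h2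
    have hlt : ∀ r ∈ Set.Iio T.N, r < T.n := fun r hr => by
      have := n_def (T := T); have : r < T.N := hr; omega
    have h1 := nWd_rev_conj hg (X.flat_wd hLs) c hlt h
    rw [← hc] at h1
    have h2 : ((Ls.map X.n).prod)⁻¹ * a * (Ls.map X.n).prod ∈ genS hg F (Set.Ico T.N T.n) := by
      refine genS_mono hg ?_ h1
      rintro _ ⟨r, hr, rfl⟩
      have hrn := hlt r hr
      have hL' := X.flat_wd hLs
      have hv := rw'_lt hg hL'.reverse hrn
      refine ⟨?_, hv⟩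
      by_contra hh
      have h := hneg' _ ((N_le_neg_iff hv).2 (not_le.1 hh)) (neg_lt hv)
      rw [rw'_neg hg hL' hv, rw'_rev' hg hL' hrn, neg_lt_N_iff hrn] at h
      have : r < T.N := hr
      omega
    have hp : (Ls.map X.n).prod ∈ Subgroup.closure S' := Subgroup.list_prod_mem _ fun y hy => by
      obtain ⟨b, hb, rfl⟩ := List.mem_map.1 hy
      exact Subgroup.subset_closure (Or.inr ⟨b, hLs b hb, rfl⟩)
    have hu := mul_mem (mul_mem hp (Subgroup.subset_closure (show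
      ((Ls.map X.n).prod)⁻¹ * a * (Ls.map X.n).prod ∈ S' from Or.inl ⟨h2,
        X.G1.mul_mem (X.G1.mul_mem (X.G1.inv_mem hmem) ha1) hmem⟩))) (inv_mem hp)
    rwa [show (Ls.map X.n).prod * (((Ls.map X.n).prod)⁻¹ * a * (Ls.map X.n).prod) *
      ((Ls.map X.n).prod)⁻¹ = a by group] at hu
  obtain ⟨hxd, hx1⟩ := Subgroup.mem_inf.1 hx
  have hall : M x := by
    refine Subgroup.closure_induction_left (p := fun y _ => M y) hM1 ?_ ?_ (hle hx1)
    · rintro a (ha | ⟨b, hb, rfl⟩) y _ hy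
      · exact hMU ha hy
      · exact hMn hb hy
    · rintro a (ha | ⟨b, hb, rfl⟩) y _ hy
      · exact hMU ⟨inv_mem ha.1, X.G1.inv_mem ha.2⟩ hy
      · exact hMn' hb hy
  obtain ⟨v, hv, h, hh, Ls, hLs, u, hu, e⟩ := hall
  obtain ⟨hhd, hh1⟩ := Subgroup.mem_inf.1 (hH hh)
  obtain ⟨c, hc, hmem⟩ := X.flat_lift hLs
  have hnN : (Ls.map X.n).prod ∈ T.D.monomialSubgroup F := by
    rw [hc]
    exact (mem_monomial_iff hg).2 ⟨_, X.flat_wd hLs, c, rfl⟩
  have hB' : ∀ {a}, P a → a ∈ T.D.borelSubgroup F := fun ha =>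
    genS_pos_le_borel hg (fun r hr => hr) ha.1
  have hND : (Ls.map X.n).prod ∈ T.D.diagonalSubgroup F := by
    refine borel_inf_monomial hg ?_ hnN
    have : (Ls.map X.n).prod = h⁻¹ * v⁻¹ * x * u⁻¹ := by rw [e]; group
    rw [this]
    exact mul_mem (mul_mem (mul_mem (inv_mem (Subgroup.mem_sup_right hhd)) (inv_mem (hB' hv)))
      (Subgroup.mem_sup_right hxd)) (inv_mem (hB' hu))
  set N := (Ls.map X.n).prod with hN
  -- the unipotent parts cancel
  have hd : h * N ∈ T.D.diagonalSubgroup F := mul_mem hhd hND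
  have hxe : x = h * N := by
    have hw : v * ((h * N) * u * (h * N)⁻¹) ∈ genS hg F (Set.Ico T.N T.n) := by
      refine mul_mem hv.1 ?_
      rw [diagonalSubgroup_eq hg] at hd
      obtain ⟨d, hd⟩ := hd
      rw [← hd]
      exact (Subgroup.mem_normalizer_iff.1 (tor_normalizes hg (fun r hr => hr.2) d) _).1 hu.1
    have h1 := pos_inf_torus hg hw (by
      have : v * ((h * N) * u * (h * N)⁻¹) = x * (h * N)⁻¹ := by rw [e]; group
      rw [this]
      exact mul_mem hxd (inv_mem hd))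
    calc x = v * ((h * N) * u * (h * N)⁻¹) * (h * N) := by rw [e]; group
      _ = h * N := by rw [h1, one_mul]
  refine ⟨h, hh, N, hND, hmem, ?_, hxe⟩
  -- the signs
  have hNw : N = nWd hg F (flatW X.w Ls) := by
    rw [hN, flatW, nWd, List.map_flatMap, List.flatMap_def, List.prod_flatten, List.map_map]
    refine congrArg List.prod (List.map_congr_left fun b hb => ?_)
    exact hnw b (hLs b hb)
  rw [diagonalSubgroup_eq hg] at hND
  obtain ⟨d, hd'⟩ := hND
  rw [← hd', ← map_mul, ← map_one (tor T F), tor_eq_iff_wt hg]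
  intro i hi
  rw [div_one, wt_mul]
  have hq := hg.smp_lt hi
  obtain ⟨ε, hε, hc'⟩ := nWd_conj (F := F) hg (X.flat_wd hLs) hq
  have h1 := (hc' 1).1
  rw [← hNw, ← hd', tor_xg hg d hq] at h1
  have hr : T.smp i = T.rw' (flatW X.w Ls) (T.smp i) := xg_root_eq hg hq
    (rw'_lt hg (X.flat_wd hLs) hq) (mul_ne_zero (Units.ne_zero _) one_ne_zero) h1
  rw [← hr] at h1
  have h2 : wt T F d (T.smp i) = ε := Units.ext (by
    simpa using xg_injective hg hq h1)
  rw [h2, hε]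

end Twist

end Tab

end Cfsg.Agent.Chev
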