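import Cfsg.Agent.Lib.Lie.TwIsog
import Cfsg.Agent.Lib.Lie.TwClosure
import Cfsg.Agent.Lib.Lie.TwField
import Cfsg.Agent.Lib.Lie.GoodW
import Cfsg.Agent.Lib.Lie.TabG2
import Cfsg.Prelude.Def_LieTwisted

/-! The groups `²G₂(3^(2m+1))`. -/

set_option autoImplicit false
set_option maxRecDepth 20000

namespace Cfsg.Agent.Chev.TwG2

open Cfsg.Lie
open Tab
open scoped commutatorElement

theorem gW : G2Data.tab.GoodW [[2, 3], [1, 2]] [(0, 9, 1), (0, 8, 2)] :=
  ⟨⟨⟨G2Data.good, by decide +kernel⟩, by decide +kernel⟩, by decide +kernel⟩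

theorem gA : G2Data.tab.GoodA := gW.toGoodA

theorem g0 : G2Data.tab.Good := gW.toGood

theorem facts : IsogFacts G2Data.tab G2Data.isog := isog_facts _ _ G2Data.isog_ok

/-- the twisted group, typed over the tables -/
noncomputable abbrev tw (F : Type*) [Field F] (e : ℕ) : Subgroup (GL G2Data.tab.D.Idx F) :=
  G2Data.tab.D.genSubgroup F (g2Words F e)

theorem tw_eq (F : Type*) [Field F] (e : ℕ) : twistedG2 F e = tw F e := rfl

/-- the orbit -/
def orb : ℕ → List ℕ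
  | 0 => [0, 1]
  | _ => []

/-- the orbit word -/
def wd : ℕ → List ℕ
  | 0 => [0, 1, 0, 1, 0, 1]
  | _ => []

theorem twOK : G2Data.tab.checkTw G2Data.isog.toSym orb wd 1 = true := by decide +kernel

theorem blkOK : G2Data.tab.checkBlk wd 1 = true := by decide +kernel

theorem connOK : G2Data.tab.checkConnB wd 1 = true := by decide +kernel

theorem inv0 : G2Data.tab.invSet (wd 0) = [6, 7, 8, 9, 10, 11].toFinset := by decide +kernel

theorem wd_wd : ∀ b, G2Data.tab.Wd (wd b)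
  | 0 => by intro i hi; change i ∈ [0, 1, 0, 1, 0, 1] at hi; fin_cases hi <;> decide
  | n + 1 => by intro i hi; simp [wd] at hi

/-- constant word of `x(0, 0, 1)` -/
def wA : List (ℕ × ℤ) := [(7, 0), (6, 0), (8, 0), (9, 1), (10, 0), (11, 1)]

/-- constant word of `x(-1, -1, -1)` -/
def wB : List (ℕ × ℤ) := [(7, -1), (6, -1), (8, 0), (9, -2), (10, -1), (11, -1)]

/-- constant word of `x(-1, 0, 1)` -/
def wC : List (ℕ × ℤ) := [(7, -1), (6, -1), (8, 1), (9, 0), (10, 0), (11, 1)]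

/-- constant word of `x(1, 1, 1)` -/
def wD : List (ℕ × ℤ) := [(7, 1), (6, 1), (8, 2), (9, 2), (10, 1), (11, 1)]

/-- constant word of `x(-1, 1, -1)` -/
def wE : List (ℕ × ℤ) := [(7, -1), (6, -1), (8, 2), (9, -2), (10, 1), (11, -1)]

/-- the negated word -/
def negW (w : List (ℕ × ℤ)) : List (ℕ × ℤ) := w.map fun p => (G2Data.tab.neg p.1, -p.2)

theorem nWordOK :
    G2Data.tab.checkWordP 3 (wA ++ negW wB ++ wC) (G2Data.tab.nWord (wd 0)) = true := by
  decide +kernel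

theorem hWordOK :
    G2Data.tab.checkWordP 3 (wA ++ negW wA ++ wD ++ negW wE) (G2Data.tab.nWord [0, 0, 1, 1]) = true := by
  decide +kernel

theorem braid0 : G2Data.tab.checkWordP 3 (G2Data.tab.nWord ((wd 0).map fun i => G2Data.isog.ρ.getD i 0))
    (G2Data.tab.nWord (wd 0)) = true := by decide +kernel

theorem nNegOK : ∀ r ∈ [6, 7, 8, 9, 10, 11],
    G2Data.tab.checkWordP 3 (G2Data.tab.nWord (wd 0) ++ [(r, 1)])
      ((G2Data.tab.neg r, -1) :: G2Data.tab.nWord (wd 0)) = true ∧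
    G2Data.tab.rw' (wd 0) r = G2Data.tab.neg r ∧ r < G2Data.tab.n := by decide +kernel

variable {F : Type*} [Field F] [CharP F 3]

instance : CharP F G2Data.isog.p := ‹CharP F 3›

instance : ExpChar F G2Data.isog.p := ExpChar.prime Nat.prime_three

theorem three_zero : (3 : F) = 0 := by exact_mod_cast CharP.cast_eq_zero F 3

theorem comm3 {r s : ℕ} (hr : r < G2Data.tab.n) (hs : s < G2Data.tab.n)
    (h : G2Data.tab.commOK 3 r s = true) (a b : F) : Commute (xg g0 r a) (xg g0 s b) :=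
  commute_of_commOK gA 3 hr hs h a b

theorem comm_high {r s : ℕ} (hr : r ∈ [8, 9, 10, 11]) (hs : s ∈ [8, 9, 10, 11]) (a b : F) :
    Commute (xg g0 r a) (xg g0 s b) := by
  have h : ∀ r ∈ [8, 9, 10, 11], ∀ s ∈ [8, 9, 10, 11],
      r < G2Data.tab.n ∧ s < G2Data.tab.n ∧ G2Data.tab.commOK 3 r s = true := by decide +kernel
  obtain ⟨h1, h2, h3⟩ := h r hr s hs
  exact comm3 h1 h2 h3 a b

/-- the sorted product -/
noncomputable def uP (A B C D E G : F) : GL G2Data.tab.D.Idx F :=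
  xg g0 6 A * xg g0 7 B * (xg g0 8 C * xg g0 9 D * xg g0 10 E * xg g0 11 G)

theorem swap67 (t u : F) :
    xg g0 7 u * xg g0 6 t = xg g0 6 t * xg g0 7 u *
      (xg g0 8 (-(t * u)) * xg g0 9 (-(t * u ^ 2)) * xg g0 10 (t * u ^ 3) *
        xg g0 11 (t ^ 2 * u ^ 3)) := by
  have hc : G2Data.tab.cTerms 6 7 = [(8, 1, 1, 1), (9, 1, 1, 2), (10, -1, 1, 3), (11, -2, 2, 3)] := by
    decide +kernel
  rw [show xg g0 7 u * xg g0 6 t = _ from xg_comm gA (r := 6) (s := 7) (by decide +kernel)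
    (by decide +kernel) (by decide) (by decide +kernel) t u]
  have h3 : (-2 : F) = 1 := by linear_combination -(three_zero (F := F))
  simp [cVal, hc, h3, mul_assoc]

theorem uP_word (t u c d e g : F) :
    xg g0 7 u * xg g0 6 t * (xg g0 8 c * xg g0 9 d * xg g0 10 e * xg g0 11 g) =
      uP t u (-(t * u) + c) (-(t * u ^ 2) + d) (t * u ^ 3 + e) (t ^ 2 * u ^ 3 + g) := by
  rw [swap67, uP, mul_assoc _ (xg g0 8 (-(t * u)) * _ * _ * _), regroup4, xg_add, xg_add, xg_add,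
    xg_add]
  · exact ((comm_high (by simp) (by simp) _ _).mul_left (comm_high (by simp) (by simp) _ _)).mul_left
      (comm_high (by simp) (by simp) _ _)
  · exact (comm_high (by simp) (by simp) _ _).mul_left (comm_high (by simp) (by simp) _ _)
  · exact comm_high (by simp) (by simp) _ _

/-- sorted coordinates -/
def crd (A B C D E G : F) (r : ℕ) : F :=
  if r = 6 then A else if r = 7 then B else if r = 8 then C else if r = 9 then D else
    if r = 10 then E else G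

theorem uP_eq (A B C D E G : F) : uP A B C D E G = sProd g0 [6, 7, 8, 9, 10, 11] (crd A B C D E G) := by
  simp [uP, sProd, crd, mul_assoc]

theorem sProd_uP (a : ℕ → F) :
    sProd g0 [6, 7, 8, 9, 10, 11] a = uP (a 6) (a 7) (a 8) (a 9) (a 10) (a 11) := by
  simp [uP, sProd, mul_assoc]

theorem uP_inj {A B C D E G A' B' C' D' E' G' : F} (h : uP A B C D E G = uP A' B' C' D' E' G') :
    A = A' ∧ B = B' ∧ C = C' ∧ D = D' ∧ E = E' ∧ G = G' := by
  rw [uP_eq, uP_eq] at h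
  have hs : ∀ r ∈ ([6, 7, 8, 9, 10, 11] : List ℕ), G2Data.tab.N ≤ r ∧ r < G2Data.tab.n := by
    decide +kernel
  have := sProd_unique g0 (by decide : ([6, 7, 8, 9, 10, 11] : List ℕ).Pairwise (· < ·)) hs h
  exact ⟨by simpa [crd] using this 6 (by simp), by simpa [crd] using this 7 (by simp),
    by simpa [crd] using this 8 (by simp), by simpa [crd] using this 9 (by simp),
    by simpa [crd] using this 10 (by simp), by simpa [crd] using this 11 (by simp)⟩

variable [Fintype F] {m : ℕ} (hK : Fintype.card F = 3 ^ (2 * m + 1))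

theorem perf (x : F) : ∃ y : F, y ^ G2Data.isog.p = x :=
  (Finite.injective_iff_surjective.1 (frobenius F 3).injective) x

/-- `t ↦ t^θ` -/
noncomputable def psi (m : ℕ) : F →+* F := iterateFrobenius F 3 m

theorem psi_apply (t : F) : psi (F := F) m t = t ^ 3 ^ m := rfl

theorem neg_one_theta : (-1 : F) ^ 3 ^ m = -1 := by rw [← psi_apply, map_neg, map_one]

include hK in
theorem theta_sq (t : F) : (t ^ 3 ^ m) ^ (3 * 3 ^ m) = t := by
  rw [← pow_mul, show 3 ^ m * (3 * 3 ^ m) = 3 ^ (2 * m + 1) by ring, ← hK, FiniteField.pow_card]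

include hK in
theorem theta_sq' (t : F) : (t ^ (3 * 3 ^ m)) ^ 3 ^ m = t := by
  rw [← pow_mul, mul_comm, pow_mul]
  exact theta_sq hK t

/-- the endomorphism -/
noncomputable abbrev sigma (m : ℕ) : GL G2Data.tab.D.Idx F → GL G2Data.tab.D.Idx F :=
  isoσ gW facts perf (psi m)

theorem sigma_xg {r : ℕ} (hr : r < G2Data.tab.n) (hζ : G2Data.isog.ζ.getD r 1 = 1) (t : F) :
    sigma m (xg g0 r t) = xg g0 (G2Data.isog.π.getD r 0) (t ^ (G2Data.isog.e.getD r 1 * 3 ^ m)) := by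
  have h := isoσ_xg gW facts perf (psi m) hr t
  rw [isoφ_eq facts _ hr, hζ, Int.cast_one, one_mul, psi_apply, ← pow_mul, mul_comm] at h
  exact h

theorem mul_grp {x y : GL G2Data.tab.D.Idx F} (hx : x ∈ G2Data.tab.D.group F)
    (hy : y ∈ G2Data.tab.D.group F) : sigma m (x * y) = sigma m x * sigma m y :=
  isoσ_mul gW facts perf _ hx hy

theorem xgG (r : ℕ) (t : F) : xg g0 r t ∈ G2Data.tab.D.group F := xg_mem_group g0 r t

theorem sigma_uP (A B C D E G : F) : sigma m (uP A B C D E G) =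
    uP (B ^ (3 * 3 ^ m)) (A ^ 3 ^ m) (-(B ^ (3 * 3 ^ m) * A ^ 3 ^ m) + E ^ 3 ^ m)
      (-(B ^ (3 * 3 ^ m) * (A ^ 3 ^ m) ^ 2) + G ^ 3 ^ m)
      (B ^ (3 * 3 ^ m) * (A ^ 3 ^ m) ^ 3 + C ^ (3 * 3 ^ m))
      ((B ^ (3 * 3 ^ m)) ^ 2 * (A ^ 3 ^ m) ^ 3 + D ^ (3 * 3 ^ m)) := by
  have h : ∀ r ∈ [6, 7, 8, 9, 10, 11], r < G2Data.tab.n ∧ G2Data.isog.ζ.getD r 1 = 1 := by
    decide +kernel
  rw [uP, mul_grp (mul_mem (xgG _ _) (xgG _ _))
      (mul_mem (mul_mem (mul_mem (xgG _ _) (xgG _ _)) (xgG _ _)) (xgG _ _)),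
    mul_grp (xgG _ _) (xgG _ _), mul_grp (mul_mem (mul_mem (xgG _ _) (xgG _ _)) (xgG _ _)) (xgG _ _),
    mul_grp (mul_mem (xgG _ _) (xgG _ _)) (xgG _ _), mul_grp (xgG _ _) (xgG _ _),
    sigma_xg (h 6 (by simp)).1 (h 6 (by simp)).2, sigma_xg (h 7 (by simp)).1 (h 7 (by simp)).2,
    sigma_xg (h 8 (by simp)).1 (h 8 (by simp)).2, sigma_xg (h 9 (by simp)).1 (h 9 (by simp)).2,
    sigma_xg (h 10 (by simp)).1 (h 10 (by simp)).2, sigma_xg (h 11 (by simp)).1 (h 11 (by simp)).2]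
  have hd : G2Data.isog.π.getD 6 0 = 7 ∧ G2Data.isog.π.getD 7 0 = 6 ∧
      G2Data.isog.π.getD 8 0 = 10 ∧ G2Data.isog.π.getD 9 0 = 11 ∧
      G2Data.isog.π.getD 10 0 = 8 ∧ G2Data.isog.π.getD 11 0 = 9 ∧
      G2Data.isog.e.getD 6 1 = 1 ∧ G2Data.isog.e.getD 7 1 = 3 ∧ G2Data.isog.e.getD 8 1 = 3 ∧
      G2Data.isog.e.getD 9 1 = 3 ∧ G2Data.isog.e.getD 10 1 = 1 ∧ G2Data.isog.e.getD 11 1 = 1 := by
    decide +kernel
  obtain ⟨p1, p2, p3, p4, p5, p6, e1, e2, e3, e4, e5, e6⟩ := hd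
  rw [p1, p2, p3, p4, p5, p6, e1, e2, e3, e4, e5, e6, one_mul]
  rw [mul_assoc (xg g0 10 _ * xg g0 11 _),
    (Commute.mul_left (Commute.mul_right (comm_high (by simp) (by simp) _ _) (comm_high (by simp) (by simp) _ _))
      (Commute.mul_right (comm_high (by simp) (by simp) _ _) (comm_high (by simp) (by simp) _ _)) :
      Commute (xg g0 10 (C ^ (3 * 3 ^ m)) * xg g0 11 (D ^ (3 * 3 ^ m)))
        (xg g0 8 (E ^ 3 ^ m) * xg g0 9 (G ^ 3 ^ m))).eq,
    ← mul_assoc (xg g0 8 _ * xg g0 9 _), uP_word]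

include hK in
theorem sigma_uP_iff (A B C D E G : F) : sigma m (uP A B C D E G) = uP A B C D E G ↔
    B = A ^ 3 ^ m ∧ E = C ^ (3 * 3 ^ m) + A * B ^ 3 ∧
      G = D ^ (3 * 3 ^ m) + A ^ 2 * B ^ 3 := by
  rw [sigma_uP]
  constructor
  · intro h
    obtain ⟨h1, h2, -, -, h5, h6⟩ := uP_inj h
    exact ⟨h2.symm, by rw [← h5, h1, h2, add_comm], by rw [← h6, h1, h2, add_comm]⟩
  · rintro ⟨rfl, rfl, rfl⟩
    rw [theta_sq hK]
    have p3 : ∀ a : F, ((a ^ 3 ^ m) ^ 3) ^ 3 ^ m = a := fun a => by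
      rw [← pow_mul (a ^ 3 ^ m)]
      exact theta_sq hK a
    congr 1
    · rw [← psi_apply (m := m) (C ^ _ + _), map_add, map_mul, psi_apply, psi_apply, psi_apply,
        theta_sq' hK, p3]
      ring
    · rw [← psi_apply (m := m) (D ^ _ + _), map_add, map_mul, psi_apply, psi_apply, psi_apply,
        theta_sq' hK, p3, ← pow_mul A 2, mul_comm 2 (3 ^ m), pow_mul]
      ring
    · ring
    · ring

theorem uU_word (t u v : F) :
    ((reeWordU (3 ^ m) t u v).map fun e => xg g0 e.1 e.2).prod =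
      uP t (t ^ 3 ^ m) (u ^ 3 ^ m) (v ^ 3 ^ m) (t * (t ^ 3 ^ m) ^ 3 + u)
        (t ^ 2 * (t ^ 3 ^ m) ^ 3 + v) := by
  simp only [reeWordU, g2a, g2b, g2ab, g2aab, g2aaab, g2aaabb, List.map_cons, List.map_nil,
    List.prod_cons, List.prod_nil, mul_one]
  simp only [← mul_assoc]
  rw [mul_assoc (xg g0 7 _ * xg g0 6 _), mul_assoc (xg g0 7 _ * xg g0 6 _),
    mul_assoc (xg g0 7 _ * xg g0 6 _), uP_word]
  congr 1 <;> ring

include hK in
theorem uU_fixed (t u v : F) : sigma m (((reeWordU (3 ^ m) t u v).map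
    fun e => xg g0 e.1 e.2).prod) = ((reeWordU (3 ^ m) t u v).map fun e => xg g0 e.1 e.2).prod := by
  rw [uU_word, sigma_uP_iff hK]
  refine ⟨rfl, ?_, ?_⟩ <;> rw [theta_sq hK] <;> ring

theorem word_grp (w : List (ℕ × F)) :
    (w.map fun e => xg g0 e.1 e.2).prod ∈ G2Data.tab.D.group F :=
  Subgroup.list_prod_mem _ fun y hy => by
    obtain ⟨e, -, rfl⟩ := List.mem_map.1 hy
    exact xgG _ _

theorem nWd_grp {L : List ℕ} : nWd g0 F L ∈ G2Data.tab.D.group F := by
  rw [nWd_word g0]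
  exact Subgroup.list_prod_mem _ fun y hy => by
    obtain ⟨e, -, rfl⟩ := List.mem_map.1 hy
    exact xgG _ _

theorem sigma_nWd : sigma m (nWd g0 F (wd 0)) = nWd g0 F (wd 0) := by
  refine (isoσ_nWd gW facts perf _ (wd_wd 0)).trans ?_
  rw [nWd_word g0, nWd_word g0]
  exact word_eq_modP g0 3 braid0

/-- conjugation by the long element is the negation -/
theorem nWd_neg {r : ℕ} (hr : r ∈ [6, 7, 8, 9, 10, 11]) (t : F) :
    nWd g0 F (wd 0) * xg g0 r t * (nWd g0 F (wd 0))⁻¹ = xg g0 (G2Data.tab.neg r) (-t) := by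
  obtain ⟨hw, hneg, hlt⟩ := nNegOK r hr
  obtain ⟨ε, -, h⟩ := nWd_conj (F := F) g0 (wd_wd 0) hlt
  have h1 := word_eq_modP (F := F) g0 3 hw
  rw [cWordVal_append, ← nWd_word g0, show ((G2Data.tab.neg r, (-1 : ℤ)) :: G2Data.tab.nWord (wd 0)) =
    [(G2Data.tab.neg r, -1)] ++ G2Data.tab.nWord (wd 0) from rfl, cWordVal_append, ← nWd_word g0] at h1
  simp only [cWordVal, List.map_cons, List.map_nil, List.prod_cons, List.prod_nil, mul_one,
    Int.cast_one, Int.cast_neg] at h1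
  have h2 := (h 1).1
  rw [h1, mul_inv_cancel_right, hneg, mul_one] at h2
  rw [(h t).1, hneg, ← xg_injective g0 (neg_lt hlt) h2, neg_one_mul]

theorem uV_word (t u v : F) :
    ((reeWordV (3 ^ m) t u v).map fun e => xg g0 e.1 e.2).prod =
      nWd g0 F (wd 0) * ((reeWordU (3 ^ m) t u v).map fun e => xg g0 e.1 e.2).prod *
        (nWd g0 F (wd 0))⁻¹ := by
  have hd : ∀ r ∈ [6, 7, 8, 9, 10, 11], chevG2.negIdx.getD r 0 = G2Data.tab.neg r := by decide +kernel
  simp only [reeWordV, ChevalleyDatum.negWord, reeWordU, g2a, g2b, g2ab, g2aab, g2aaab, g2aaabb,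
    List.map_cons, List.map_nil, List.prod_cons, List.prod_nil, mul_one]
  rw [hd 7 (by simp), hd 6 (by simp), hd 8 (by simp), hd 9 (by simp), hd 10 (by simp),
    hd 11 (by simp)]
  simp only [← nWd_neg (F := F) (r := 7) (by simp), ← nWd_neg (F := F) (r := 6) (by simp),
    ← nWd_neg (F := F) (r := 8) (by simp), ← nWd_neg (F := F) (r := 9) (by simp),
    ← nWd_neg (F := F) (r := 10) (by simp), ← nWd_neg (F := F) (r := 11) (by simp)]
  group

theorem sigma_one : sigma m (1 : GL G2Data.tab.D.Idx F) = 1 := isoσ_one gW facts perf _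

theorem fixed_inv {x : GL G2Data.tab.D.Idx F} (hx : x ∈ G2Data.tab.D.group F)
    (h : sigma m x = x) : sigma m x⁻¹ = x⁻¹ := by
  have := mul_grp (m := m) hx (inv_mem hx)
  rw [mul_inv_cancel, sigma_one, h] at this
  exact (inv_eq_of_mul_eq_one_right this.symm).symm

include hK in
theorem twisted_fixed : ∀ x ∈ tw F (3 ^ m),
    x ∈ G2Data.tab.D.group F ∧ sigma m x = x := by
  intro x hx
  rw [tw, genSubgroup_eq g0] at hx
  induction hx using Subgroup.closure_induction with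
  | mem y hy =>
    obtain ⟨w, hw, rfl⟩ := hy
    refine ⟨word_grp w, ?_⟩
    rcases hw with ⟨t, u, v, rfl | rfl⟩
    · exact uU_fixed hK t u v
    · rw [uV_word, mul_grp (mul_mem nWd_grp (word_grp _)) (inv_mem nWd_grp),
        mul_grp nWd_grp (word_grp _), uU_fixed hK, fixed_inv nWd_grp sigma_nWd, sigma_nWd]
  | one => exact ⟨one_mem _, sigma_one⟩
  | mul a b _ _ ha hb => exact ⟨mul_mem ha.1 hb.1, by rw [mul_grp ha.1 hb.1, ha.2, hb.2]⟩
  | inv a _ ha => exact ⟨inv_mem ha.1, fixed_inv ha.1 ha.2⟩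

/-- constant generators -/
theorem const_mem {t u v : F} {w : List (ℕ × ℤ)}
    (h : reeWordU (3 ^ m) t u v = w.map fun e => (e.1, (e.2 : F))) :
    cWordVal g0 F w ∈ tw F (3 ^ m) ∧ cWordVal g0 F (negW w) ∈ tw F (3 ^ m) := by
  constructor
  · have : cWordVal g0 F w = ((reeWordU (3 ^ m) t u v).map fun e => xg g0 e.1 e.2).prod := by
      rw [h]; simp [cWordVal, List.map_map, Function.comp_def]
    rw [this]
    exact word_mem g0 ⟨t, u, v, Or.inl rfl⟩
  · have hl : ∀ e ∈ reeWordU (3 ^ m) t u v, chevG2.negIdx.getD e.1 0 = G2Data.tab.neg e.1 := by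
      have hd : ∀ r ∈ [6, 7, 8, 9, 10, 11], chevG2.negIdx.getD r 0 = G2Data.tab.neg r := by
        decide +kernel
      intro e he
      exact hd _ (by
        simp [reeWordU, g2a, g2b, g2ab, g2aab, g2aaab, g2aaabb] at he
        rcases he with rfl | rfl | rfl | rfl | rfl | rfl <;> simp)
    have : cWordVal g0 F (negW w) = ((reeWordV (3 ^ m) t u v).map fun e => xg g0 e.1 e.2).prod := by
      rw [reeWordV, h]
      simp only [ChevalleyDatum.negWord, cWordVal, negW, List.map_map]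
      refine congrArg List.prod (List.map_congr_left fun e he => ?_)
      have := hl (e.1, (e.2 : F)) (by rw [h]; exact List.mem_map.2 ⟨e, he, rfl⟩)
      simp only [Function.comp_apply]
      rw [this]
      push_cast
      rfl
    rw [this]
    exact word_mem g0 ⟨t, u, v, Or.inr rfl⟩

theorem wA_mem : cWordVal g0 F wA ∈ tw F (3 ^ m) ∧ cWordVal g0 F (negW wA) ∈ tw F (3 ^ m) :=
  const_mem (t := 0) (u := 0) (v := 1) (by
    simp [reeWordU, wA, g2a, g2b, g2ab, g2aab, g2aaab, g2aaabb])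

theorem wB_mem : cWordVal g0 F wB ∈ tw F (3 ^ m) ∧ cWordVal g0 F (negW wB) ∈ tw F (3 ^ m) :=
  const_mem (t := -1) (u := -1) (v := -1) (by
    simp [reeWordU, wB, g2a, g2b, g2ab, g2aab, g2aaab, g2aaabb, pow_succ, pow_mul, neg_one_theta]
    norm_num)

theorem wC_mem : cWordVal g0 F wC ∈ tw F (3 ^ m) ∧ cWordVal g0 F (negW wC) ∈ tw F (3 ^ m) :=
  const_mem (t := -1) (u := 0) (v := 1) (by
    simp [reeWordU, wC, g2a, g2b, g2ab, g2aab, g2aaab, g2aaabb, pow_succ, pow_mul, neg_one_theta])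

theorem wD_mem : cWordVal g0 F wD ∈ tw F (3 ^ m) ∧ cWordVal g0 F (negW wD) ∈ tw F (3 ^ m) :=
  const_mem (t := 1) (u := 1) (v := 1) (by
    simp [reeWordU, wD, g2a, g2b, g2ab, g2aab, g2aaab, g2aaabb]
    norm_num)

theorem wE_mem : cWordVal g0 F wE ∈ tw F (3 ^ m) ∧ cWordVal g0 F (negW wE) ∈ tw F (3 ^ m) :=
  const_mem (t := -1) (u := 1) (v := -1) (by
    simp [reeWordU, wE, g2a, g2b, g2ab, g2aab, g2aaab, g2aaabb, pow_succ, pow_mul, neg_one_theta]
    norm_num)

theorem n_mem : ∀ b < 1, nWd g0 F (wd b) ∈ tw F (3 ^ m) := by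
  intro b hb
  interval_cases b
  rw [nWd_word g0, ← word_eq_modP g0 3 nWordOK, cWordVal_append, cWordVal_append]
  exact mul_mem (mul_mem wA_mem.1 wB_mem.2) wC_mem.1

theorem neg_torus_mem : hS G2Data.tab F 0 (-1) * hS G2Data.tab F 1 (-1) ∈ tw F (3 ^ m) := by
  rw [← nG_sq g0 (show 0 < G2Data.tab.l by decide), ← nG_sq g0 (show 1 < G2Data.tab.l by decide),
    show nG g0 F 0 * nG g0 F 0 * (nG g0 F 1 * nG g0 F 1) = nWd g0 F [0, 0, 1, 1] by
      simp [nWd, mul_assoc],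
    nWd_word g0, ← word_eq_modP g0 3 hWordOK, cWordVal_append, cWordVal_append, cWordVal_append]
  exact mul_mem (mul_mem (mul_mem wA_mem.1 wA_mem.2) wD_mem.1) wE_mem.2

include hK in
theorem fixed0 {z : GL G2Data.tab.D.Idx F} (hz : z ∈ uMinus g0 F (wd 0)) (h : sigma m z = z) :
    ∃ t u v : F, z = ((reeWordU (3 ^ m) t u v).map fun e => xg g0 e.1 e.2).prod := by
  obtain ⟨a, rfl⟩ := uMinus_coords gA (wd_wd 0)
    (by decide : ([6, 7, 8, 9, 10, 11] : List ℕ).Pairwise (· < ·)) inv0.symm hz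
  rw [sProd_uP, sigma_uP_iff hK] at h
  obtain ⟨hB, hE, hG⟩ := h
  refine ⟨a 6, a 8 ^ (3 * 3 ^ m), a 9 ^ (3 * 3 ^ m), ?_⟩
  rw [sProd_uP, uU_word, theta_sq' hK, theta_sq' hK, hE, hG, hB]
  congr 1 <;> ring

/-- the data of the twisted group -/
@[reducible]
noncomputable def X : Tab.Twist gW.toGoodK F :=
  isoTwist gW facts perf (psi m) twOK (tw F (3 ^ m)) (twisted_fixed hK) n_mem
    (fun b hb u hu h => by
      interval_cases b
      obtain ⟨t, u, v, rfl⟩ := fixed0 hK hu h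
      exact word_mem g0 (W := g2Words F (3 ^ m)) ⟨t, u, v, Or.inl rfl⟩)

theorem blocks : (X hK).Blocks := (X hK).blocks_of_check blkOK

theorem uU_mem (t u v : F) :
    ((reeWordU (3 ^ m) t u v).map fun e => xg g0 e.1 e.2).prod ∈
      uMinus g0 F (wd 0) ⊓ tw F (3 ^ m) := by
  refine Subgroup.mem_inf.2 ⟨?_, word_mem g0 ⟨t, u, v, Or.inl rfl⟩⟩
  rw [uU_word, uP_eq]
  refine sProd_mem g0 ?_ _
  show ∀ r ∈ ([6, 7, 8, 9, 10, 11] : List ℕ), _ ∧ _ ∧ _
  decide +kernel

include hK in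
theorem card_orbit0 :
    Nat.card ↥(uMinus g0 F (wd 0) ⊓ tw F (3 ^ m)) = (3 ^ (2 * m + 1)) ^ 3 := by
  let f : F × F × F → ↥(uMinus g0 F (wd 0) ⊓ tw F (3 ^ m)) := fun p => ⟨_, uU_mem p.1 p.2.1 p.2.2⟩
  have hf : Function.Bijective f := by
    refine ⟨fun a b e => ?_, ?_⟩
    · have e' := congrArg Subtype.val e
      simp only [f] at e'
      rw [uU_word, uU_word] at e'
      obtain ⟨h1, -, h3, h4, -, -⟩ := uP_inj e'
      have hinj := (psi (F := F) m).injective
      exact Prod.ext h1 (Prod.ext (hinj h3) (hinj h4))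
    rintro ⟨z, hz⟩
    obtain ⟨t, u, v, rfl⟩ := fixed0 hK hz.1 (twisted_fixed hK z hz.2).2
    exact ⟨(t, u, v), rfl⟩
  rw [← Nat.card_eq_of_bijective f hf, Nat.card_prod, Nat.card_prod, Nat.card_eq_fintype_card, hK]
  ring

theorem hq : 1 < 3 ^ (2 * m + 1) := Nat.one_lt_pow (by omega) (by norm_num)

theorem hblk : ∀ b < (X hK).nb, ∃ k,
    Nat.card ↥(uMinus gW.toGood F ((X hK).w b) ⊓ (X hK).G1) = (3 ^ (2 * m + 1)) ^ k ∧
      k * 2 = (G2Data.tab.invSet ((X hK).w b)).card := by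
  intro b hb
  change b < 1 at hb
  show ∃ k, Nat.card ↥(uMinus g0 F (wd b) ⊓ tw F (3 ^ m)) = (3 ^ (2 * m + 1)) ^ k ∧
    k * 2 = (G2Data.tab.invSet (wd b)).card
  interval_cases b
  exact ⟨3, card_orbit0 hK, by rw [inv0]; decide⟩

/-! ### the torus -/

theorem A_vals : (List.range 2).map (fun i => (List.range 2).map fun j =>
    G2Data.tab.A j (G2Data.tab.smp i)) = [[2, -1], [-3, 2]] := by decide +kernel

/-- the inverse Cartan matrix -/
def killB : List (List ℤ) := [[2, 1], [3, 2]]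

theorem killOK : G2Data.tab.checkKill killB 1 = true := by decide +kernel

theorem tor_inj {c d : ℕ → Fˣ} (h : tor G2Data.tab F c = tor G2Data.tab F d) :
    ∀ j < 2, c j = d j := fun j hj => by
  have := wt_kill killOK ((tor_eq_iff_wt g0).1 h) j hj
  rwa [pow_one, Pi.div_apply, div_eq_one] at this

/-- parameters of the fixed torus -/
def par (m : ℕ) (t : Fˣ) (j : ℕ) : Fˣ :=
  match j with
  | 0 => t ^ 3 ^ m
  | 1 => t
  | _ => 1

theorem sigma_tor (c : ℕ → Fˣ) : sigma m (tor G2Data.tab F c) =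
    tor G2Data.tab F fun j => (c (G2Data.isog.ρ.getD j 0) ^ 3 ^ m) ^
      G2Data.isog.ν.getD (G2Data.isog.ρ.getD j 0) 0 := by
  have hm : ∀ u : Fˣ, Units.map (psi (F := F) m).toMonoidHom u = u ^ 3 ^ m := fun u =>
    Units.ext (by simp [psi_apply])
  refine (isoσ_tor gW facts perf _ c).trans ?_
  simp only [hm]

include hK in
theorem units_theta (t : Fˣ) : (t ^ 3 ^ m) ^ (3 * 3 ^ m) = t :=
  Units.ext (by simp only [Units.val_pow_eq_pow_val]; exact theta_sq hK _)

include hK in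
theorem par_fixed (t : Fˣ) :
    sigma m (tor G2Data.tab F (par m t)) = tor G2Data.tab F (par m t) := by
  rw [sigma_tor]
  refine tor_congr g0 fun j hj => ?_
  change j < 2 at hj
  interval_cases j <;> simp [par, G2Data.isog]
  all_goals rw [← pow_mul (_ ^ 3 ^ m), mul_comm _ 3, units_theta hK]

theorem S_split : ∀ x ∈ {x | ∃ w ∈ g2Words F (3 ^ m), x = (w.map fun e => xg g0 e.1 e.2).prod},
    x ∈ genS g0 F (Set.Ico G2Data.tab.N G2Data.tab.n) ∨
      x ∈ genS g0 F (Set.Iio G2Data.tab.N) := by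
  have hp : ∀ r ∈ [6, 7, 8, 9, 10, 11], G2Data.tab.N ≤ r ∧ r < G2Data.tab.n ∧
      chevG2.negIdx.getD r 0 < G2Data.tab.N := by decide +kernel
  have hw : ∀ t u v : F, ∀ e ∈ reeWordU (3 ^ m) t u v, e.1 ∈ [6, 7, 8, 9, 10, 11] := by
    intro t u v e he
    simp [reeWordU, g2a, g2b, g2ab, g2aab, g2aaab, g2aaabb] at he
    rcases he with rfl | rfl | rfl | rfl | rfl | rfl <;> simp
  rintro x ⟨w, ⟨t, u, v, rfl | rfl⟩, rfl⟩
  · exact Or.inl (Subgroup.list_prod_mem _ fun y hy => by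
      obtain ⟨e, he, rfl⟩ := List.mem_map.1 hy
      exact xg_mem_genS g0 (S := Set.Ico G2Data.tab.N G2Data.tab.n) (r := e.1)
        ⟨(hp _ (hw t u v e he)).1, (hp _ (hw t u v e he)).2.1⟩ _)
  · exact Or.inr (Subgroup.list_prod_mem _ fun y hy => by
      obtain ⟨e, he, rfl⟩ := List.mem_map.1 hy
      obtain ⟨e', he', rfl⟩ := List.mem_map.1 he
      exact xg_mem_genS g0 (S := Set.Iio G2Data.tab.N) (r := chevG2.negIdx.getD e'.1 0)
        (hp _ (hw t u v e' he')).2.2 _)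

theorem neg0 : G2Data.tab.checkNeg (wd 0) [0, 1] = true := by decide +kernel

include hK in
theorem pm_square (u : Fˣ) : ∃ v : Fˣ, v * v = u ∨ v * v = -u := by
  have h4 : ∀ j, 3 ^ (2 * j + 1) % 4 = 3 := fun j => by
    induction j with
    | zero => rfl
    | succ j ihj => rw [show 2 * (j + 1) + 1 = 2 * j + 1 + 2 by ring, pow_add, Nat.mul_mod, ihj]; rfl
  obtain ⟨k, hk⟩ : ∃ k, 3 ^ (2 * m + 1) = 4 * k + 3 :=
    ⟨3 ^ (2 * m + 1) / 4, by have := h4 m; omega⟩
  classical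
  have hcard : Fintype.card Fˣ = 2 * (2 * k + 1) := by
    rw [Fintype.card_units, hK, hk]; omega
  have h1 : (u ^ (2 * k + 1)) * (u ^ (2 * k + 1)) = 1 := by
    rw [← pow_add, show 2 * k + 1 + (2 * k + 1) = Fintype.card Fˣ by omega, pow_card_eq_one]
  have h2 : u ^ (2 * k + 1) = 1 ∨ u ^ (2 * k + 1) = -1 := by
    have := congrArg Units.val h1
    rw [Units.val_mul, Units.val_one] at this
    rcases mul_self_eq_one_iff.1 this with h | h
    · exact Or.inl (Units.ext h)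
    · exact Or.inr (Units.ext h)
  refine ⟨u ^ (k + 1), ?_⟩
  rw [← pow_add, show k + 1 + (k + 1) = 2 * k + 1 + 1 by omega, pow_succ]
  rcases h2 with h | h <;> rw [h]
  · exact Or.inl (one_mul u)
  · exact Or.inr (by rw [neg_one_mul])

include hK in
theorem par_mem (t : Fˣ) : tor G2Data.tab F (par m t) ∈ tw F (3 ^ m) := by
  have hm1 : (-1 : Fˣ) ^ 3 ^ m = -1 := Units.ext (by simpa using neg_one_theta (F := F) (m := m))
  have hneg : tor G2Data.tab F (par m (-1)) ∈ tw F (3 ^ m) := by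
    have := neg_torus_mem (F := F) (m := m)
    rw [hS_eq_tor, hS_eq_tor, ← map_mul] at this
    convert this using 1
    refine tor_congr g0 fun j hj => ?_
    change j < 2 at hj
    interval_cases j <;> simp [par, hm1]
  have key : ∀ v : Fˣ, tor G2Data.tab F (par m v * par m v) ∈ tw F (3 ^ m) := fun v =>
    (X hK).torus_sq_mem (genSubgroup_eq g0 _) S_split (show 0 < 1 from Nat.one_pos) rfl neg0
      (fun j hj hj' => by
        change j < 2 at hj
        interval_cases j <;> simp at hj')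
      (tor_mem_group g0 _) (par_fixed hK v)
  obtain ⟨v, hv | hv⟩ := pm_square hK t
  · have e : tor G2Data.tab F (par m t) = tor G2Data.tab F (par m v * par m v) := by
      refine tor_congr g0 fun j hj => ?_
      change j < 2 at hj
      interval_cases j <;> simp [par, ← mul_pow, hv]
    rw [e]
    exact key v
  · have e : tor G2Data.tab F (par m t) =
        tor G2Data.tab F (par m v * par m v) * tor G2Data.tab F (par m (-1)) := by
      rw [← map_mul]
      refine tor_congr g0 fun j hj => ?_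
      change j < 2 at hj
      interval_cases j <;> simp [par, ← mul_pow, hv]
    rw [e]
    exact mul_mem (key v) hneg

include hK in
theorem card_torus :
    Nat.card ↥(G2Data.tab.D.diagonalSubgroup F ⊓ tw F (3 ^ m)) = 3 ^ (2 * m + 1) - 1 := by
  let f : Fˣ → ↥(G2Data.tab.D.diagonalSubgroup F ⊓ tw F (3 ^ m)) := fun p =>
    ⟨tor G2Data.tab F (par m p), Subgroup.mem_inf.2
      ⟨by rw [diagonalSubgroup_eq g0]; exact ⟨_, rfl⟩, par_mem hK p⟩⟩
  have hf : Function.Bijective f := by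
    constructor
    · intro p p' e
      simpa [par] using tor_inj (congrArg Subtype.val e) 1 (by norm_num)
    · rintro ⟨x, hx⟩
      obtain ⟨hxd, hx1⟩ := Subgroup.mem_inf.1 hx
      rw [diagonalSubgroup_eq g0] at hxd
      obtain ⟨c, rfl⟩ := hxd
      have hfix := (twisted_fixed hK _ hx1).2
      rw [sigma_tor] at hfix
      have h0 := tor_inj hfix 0 (by norm_num)
      simp [G2Data.isog] at h0
      refine ⟨c 1, Subtype.ext (tor_congr g0 fun j hj => ?_)⟩
      change j < 2 at hj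
      interval_cases j <;> simp [par, h0]
  rw [← Nat.card_eq_of_bijective f hf, TwField.card_units (q := 3 ^ (2 * m + 1)) (k := 1)
    (by rw [hK, pow_one]), pow_one]

/-! ### Poincaré certificate -/

/-- representatives -/
def reps0 : List Tab.Rep :=
  [⟨[0], 3, 1029, [(true, 1)]⟩,
   ⟨[], 0, 1798, [(true, 0)]⟩]

/-- the steps -/
def steps : List (ℕ × List Tab.Rep) :=
  [(0, reps0)]

theorem chainOK : G2Data.tab.checkChainB wd 2 1 [] steps = true := by decide +kernel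

include hK in
theorem card_twisted :
    Nat.card ↥(tw F (3 ^ m)) = (3 ^ (2 * m + 1)) ^ 3 * (3 ^ (2 * m + 1) - 1) *
      ((3 ^ (2 * m + 1)) ^ 3 + 1) := by
  have h := (X hK).card_G1_formula (d := 2) (M := 3) two_pos (hblk hK) rfl
    (steps := steps) chainOK
  have ht : Nat.card ↥(G2Data.tab.D.diagonalSubgroup F ⊓ (X hK).G1) =
      3 ^ (2 * m + 1) - 1 := card_torus hK
  rw [ht] at h
  refine h.trans ?_
  simp only [steps, reps0, List.map_cons, List.map_nil, List.sum_cons, List.sum_nil,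
    List.prod_cons, List.prod_nil, pow_zero, add_zero, mul_one]

include hK in
theorem card_pos :
    Nat.card ↥(G2Data.tab.D.posUnipotent F ⊓ tw F (3 ^ m)) = (3 ^ (2 * m + 1)) ^ 3 :=
  (X hK).card_pos_fixed two_pos (hblk hK) rfl

include hK in
theorem mem_pos_iff (z : GL G2Data.tab.D.Idx F) :
    z ∈ G2Data.tab.D.posUnipotent F ⊓ tw F (3 ^ m) ↔
      ∃ t u v : F, z = ((reeWordU (3 ^ m) t u v).map fun e => xg g0 e.1 e.2).prod := by
  constructor
  · intro hz
    obtain ⟨h1, h2⟩ := (X hK).mem_pos_inf_iff.1 hz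
    have hall : ∀ r < G2Data.tab.n, G2Data.tab.N ≤ r →
        G2Data.tab.rw' (wd 0) r < G2Data.tab.N := by decide +kernel
    exact fixed0 hK (genS_mono g0 (S := Set.Ico G2Data.tab.N G2Data.tab.n)
      (S' := {r | G2Data.tab.N ≤ r ∧ r < G2Data.tab.n ∧ G2Data.tab.rw' (wd 0) r < G2Data.tab.N})
      (fun r hr => ⟨hr.1, hr.2, hall r hr.2 hr.1⟩) h1) h2
  · rintro ⟨t, u, v, rfl⟩
    have h := uU_mem (F := F) (m := m) t u v
    exact (X hK).mem_pos_inf_iff.2
      ⟨uMinus_le_pos g0 _ h.1, (twisted_fixed hK _ h.2).2⟩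

theorem sep : (X hK).Sep := by
  intro b hb j hj c hc
  change b < 1 at hb
  interval_cases b
  refine (X hK).sep_of_witness (R := [6, 7, 8, 9, 10, 11]) (by decide)
    (fun r hr => by rw [show G2Data.tab.invSet _ = _ from inv0]; exact List.mem_toFinset.2 hr)
    ?_ (a := crd 1 1 1 1 (1 * 1 ^ 3 + 1) (1 ^ 2 * 1 ^ 3 + 1)) ?_ ?_ hc
  · change j ∈ [0, 1] at hj
    simp only [List.mem_cons, List.not_mem_nil, or_false] at hj
    rcases hj with rfl | rfl <;> decide +kernel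
  · change j ∈ [0, 1] at hj
    simp only [List.mem_cons, List.not_mem_nil, or_false] at hj
    rcases hj with rfl | rfl
    · rw [show G2Data.tab.smp 0 = 7 by decide +kernel]; simp [crd]
    · rw [show G2Data.tab.smp 1 = 6 by decide +kernel]; simp [crd]
  · rw [← uP_eq]
    have := (uU_mem (F := F) (m := m) 1 1 1).2
    rw [uU_word, one_pow] at this
    exact this

include hK in
theorem derived (hm : 1 ≤ m) : ⁅(X hK).G1, (X hK).G1⁆ = (X hK).G1 := by
  refine (X hK).derived_eq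
    (S := {x | ∃ w ∈ g2Words F (3 ^ m), x = (w.map fun e => xg g0 e.1 e.2).prod})
    (genSubgroup_eq g0 _) S_split ?_
  obtain ⟨u, hu⟩ := IsCyclic.exists_ofOrder_eq_natCard (α := Fˣ)
  have hord : orderOf u = 3 ^ (2 * m + 1) - 1 := by
    rw [hu, TwField.card_units (q := 3 ^ (2 * m + 1)) (k := 1) (by rw [hK, pow_one]), pow_one]
  have hth : 3 ≤ 3 ^ m := by
    calc 3 = 3 ^ 1 := rfl
      _ ≤ 3 ^ m := Nat.pow_le_pow_right (by norm_num) hm
  have hq3 : 3 ^ (2 * m + 1) = 3 * (3 ^ m * 3 ^ m) := by ring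
  have hsq : 3 * 3 ^ m ≤ 3 ^ m * 3 ^ m := Nat.mul_le_mul_right _ hth
  have hne : ∀ z : ℤ, z ≠ 0 → z.natAbs < 3 ^ (2 * m + 1) - 1 → u ^ z ≠ 1 := fun z h0 hz h => by
    have h1 := orderOf_dvd_iff_zpow_eq_one.2 h
    rw [hord, Int.natCast_dvd] at h1
    exact absurd (Nat.le_of_dvd (Int.natAbs_pos.2 h0) h1) (not_le.2 hz)
  have hA : ([6, 7, 8, 9, 10, 11] : List ℕ).map (fun r => (List.range 2).map fun j =>
      G2Data.tab.A j r) = [[-3, 2], [2, -1], [-1, 1], [1, 0], [3, -1], [0, 1]] := by decide +kernel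
  simp only [List.range_succ, List.range_zero, List.nil_append, List.cons_append, List.map_cons,
    List.map_nil, List.cons.injEq, and_true] at hA
  intro b hb z hz hz1
  change b < 1 at hb
  interval_cases b
  refine (X hK).derived_of_torus hb (R := [6, 7, 8, 9, 10, 11]) (by decide) inv0.symm
    (par_mem hK u) (fun r hr => ?_) hz hz1
  have e : ∀ r, wt G2Data.tab F (par m u) r =
      u ^ ((3 ^ m : ℕ) * G2Data.tab.A 0 r + G2Data.tab.A 1 r : ℤ) := fun r => by
    simp only [wt, show G2Data.tab.l = 2 from rfl, Finset.prod_range_succ, par,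
      Finset.prod_range_zero, one_mul, ← zpow_natCast, ← zpow_mul, ← _root_.zpow_add]
  rw [e]
  simp only [List.mem_cons, List.not_mem_nil, or_false] at hr
  rcases hr with rfl | rfl | rfl | rfl | rfl | rfl <;>
    refine hne _ ?_ ?_ <;> simp only [hA] <;> omega

/-- the model of `W¹` -/
noncomputable def iota : Multiplicative (ZMod 2) →* Equiv.Perm (Fin G2Data.tab.n) :=
  MonoidHom.mk' (fun x => pL g0 (wd 0) ^ (Multiplicative.toAdd x).val) fun x y => by
    have hsq : pL g0 (wd 0) * pL g0 (wd 0) = 1 := by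
      rw [← pL_append, ← pL_nil g0, pL_eq_iff g0 (Wd.append_iff.2 ⟨wd_wd 0, wd_wd 0⟩) (by simp [Wd])]
      decide +kernel
    obtain ⟨a, rfl⟩ := Multiplicative.ofAdd.surjective x
    obtain ⟨b, rfl⟩ := Multiplicative.ofAdd.surjective y
    rw [← ofAdd_add, toAdd_ofAdd, toAdd_ofAdd, toAdd_ofAdd]
    fin_cases a <;> fin_cases b
    · exact (mul_one _).symm
    · exact (one_mul _).symm
    · exact (mul_one _).symm
    · show pL g0 (wd 0) ^ 0 = pL g0 (wd 0) ^ 1 * pL g0 (wd 0) ^ 1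
      rw [pow_zero, pow_one, hsq]

include hK in
theorem weyl_hom :
    ∃ φ : ↥(G2Data.tab.D.monomialSubgroup F ⊓ tw F (3 ^ m)) →* Multiplicative (ZMod 2),
      Function.Surjective φ ∧
      φ.ker = (G2Data.tab.D.diagonalSubgroup F ⊓ tw F (3 ^ m)).subgroupOf
        (G2Data.tab.D.monomialSubgroup F ⊓ tw F (3 ^ m)) := by
  refine (X hK).exists_model_hom1 (blocks hK) (hq (m := m)) (hblk hK) iota ?_ ?_ ?_
  · have hne : pL g0 (wd 0) ≠ 1 := by
      rw [← pL_nil g0, Ne, pL_eq_iff g0 (wd_wd 0) (by simp [Wd])]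
      decide +kernel
    rw [injective_iff_map_eq_one]
    intro x hx
    change pL g0 (wd 0) ^ (Multiplicative.toAdd x).val = 1 at hx
    have : (Multiplicative.toAdd x).val < 2 := ZMod.val_lt _
    rcases Nat.lt_or_ge (Multiplicative.toAdd x).val 1 with h | h
    · exact Multiplicative.toAdd.injective ((ZMod.val_eq_zero _).1 (by omega))
    · rw [show (Multiplicative.toAdd x).val = 1 by omega, pow_one] at hx
      exact absurd hx hne
  · intro b hb
    change b < 1 at hb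
    interval_cases b
    exact ⟨Multiplicative.ofAdd 1, pow_one _⟩
  · rintro _ ⟨x, rfl⟩
    have h0 : pL g0 (wd 0) ∈ Subgroup.closure {p | ∃ b < (X hK).nb, p = pL g0 ((X hK).w b)} :=
      Subgroup.subset_closure ⟨0, Nat.one_pos, rfl⟩
    exact pow_mem h0 _

end Cfsg.Agent.Chev.TwG2
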