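import Cfsg.Agent.Lib.Lie.ChevOrder
import Cfsg.Agent.Lib.Lie.TabE7

/-! Certificates for the order in type E7. -/

set_option autoImplicit false
set_option maxRecDepth 20000

namespace Cfsg.Agent.Chev.E7Data

/-- representatives -/
def reps0 : List Tab.Rep :=
  [⟨[], 0, 26263249435639871, [(true, 1)]⟩,
   ⟨[4], 1, 26263249451959103, [(true, 0)]⟩]

/-- representatives -/
def reps1 : List Tab.Rep :=
  [⟨[], 0, 26263249435639871, [(false, 4), (true, 1)]⟩,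
   ⟨[3], 1, 26264353024393279, [(true, 2), (true, 0)]⟩,
   ⟨[3, 4], 2, 26264353191184191, [(true, 1), (false, 4)]⟩]

/-- representatives -/
def reps2 : List Tab.Rep :=
  [⟨[], 0, 26263249435639871, [(false, 4), (false, 3), (true, 1)]⟩,
   ⟨[2], 1, 26544634301923391, [(false, 4), (true, 2), (true, 0)]⟩,
   ⟨[2, 3], 2, 26550204489220159, [(true, 3), (true, 1), (false, 3)]⟩,
   ⟨[2, 3, 4], 3, 26550204739243071, [(true, 2), (false, 4), (false, 3)]⟩]

/-- representatives -/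
def reps3 : List Tab.Rep :=
  [⟨[1], 1, 26229164742950975, [(false, 4), (true, 1), (false, 2), (true, 3)]⟩,
   ⟨[1, 3], 2, 26253396395704383, [(true, 2), (true, 0), (true, 5), (false, 3)]⟩,
   ⟨[1, 3, 4], 3, 26253396728959295, [(true, 1), (false, 4), (true, 6), (false, 3)]⟩,
   ⟨[], 0, 26263249435639871, [(false, 4), (false, 3), (false, 2), (true, 0)]⟩,
   ⟨[1, 3, 2, 4, 3, 1], 6, 27908088766484799, [(false, 2), (false, 3), (false, 4), (true, 7)]⟩,
   ⟨[1, 3, 2], 3, 27942070615294015, [(true, 6), (false, 2), (true, 1), (false, 3)]⟩,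
   ⟨[1, 3, 2, 4], 4, 27942070797553983, [(true, 5), (true, 7), (true, 2), (false, 3)]⟩,
   ⟨[1, 3, 2, 4, 3], 5, 27961964366483775, [(false, 2), (true, 6), (false, 4), (true, 4)]⟩]

/-- representatives -/
def reps4 : List Tab.Rep :=
  [⟨[5, 4, 3, 1], 4, 26225879076389441, [(false, 3), (false, 1), (true, 5), (true, 4), (false, 4)]⟩,
   ⟨[], 0, 26263249435639871, [(false, 4), (false, 3), (false, 2), (false, 1), (true, 2)]⟩,
   ⟨[5], 1, 26263249435704641, [(true, 3), (false, 3), (false, 2), (false, 1), (true, 1)]⟩,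
   ⟨[5, 4], 2, 26263249468670529, [(true, 2), (true, 4), (false, 2), (false, 1), (false, 4)]⟩,
   ⟨[5, 4, 3], 3, 26266560603963969, [(false, 3), (true, 3), (true, 9), (true, 0), (false, 4)]⟩,
   ⟨[5, 4, 3, 1, 2], 5, 27351663136555585, [(false, 3), (true, 6), (true, 0), (true, 9), (false, 4)]⟩,
   ⟨[5, 4, 3, 1, 2, 3], 6, 27383672774083137, [(true, 7), (true, 5), (false, 1), (false, 2), (false, 4)]⟩,
   ⟨[5, 4, 3, 1, 2, 3, 4], 7, 27383673257286209, [(true, 6), (false, 3), (false, 1), (false, 2), (true, 8)]⟩,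
   ⟨[5, 4, 3, 1, 2, 3, 4, 5], 8, 27383673259172700, [(false, 4), (false, 3), (false, 1), (false, 2), (true, 7)]⟩,
   ⟨[5, 4, 3, 2], 4, 27392344865456705, [(false, 3), (false, 2), (true, 4), (true, 5), (false, 4)]⟩]

/-- representatives -/
def reps5 : List Tab.Rep :=
  [⟨[0, 2, 3, 1, 4, 3, 2, 0, 5, 4, 3, 1], 12, 4524963906539106, [(false, 3), (false, 4), (true, 6), (true, 4), (false, 1), (true, 22)]⟩,
   ⟨[0, 2, 3, 1, 4, 3, 2, 0], 8, 4576482090180927, [(false, 1), (false, 3), (false, 2), (false, 4), (true, 2), (true, 23)]⟩,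
   ⟨[0, 2, 3, 1, 4, 3, 2, 0, 5], 9, 4576482091670626, [(true, 3), (false, 3), (false, 2), (false, 4), (true, 1), (true, 24)]⟩,
   ⟨[0, 2, 3, 1, 4, 3, 2, 0, 5, 4], 10, 4576482673839714, [(true, 2), (true, 4), (false, 2), (false, 4), (false, 1), (true, 25)]⟩,
   ⟨[0, 2, 3, 1, 4, 3, 2, 0, 5, 4, 3], 11, 4620620663180898, [(false, 3), (true, 3), (true, 10), (true, 0), (false, 1), (true, 26)]⟩,
   ⟨[0], 1, 9093366050603071, [(false, 4), (false, 3), (true, 17), (false, 1), (false, 5), (true, 21)]⟩,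
   ⟨[0, 2, 3, 1, 4, 3, 2, 0, 5, 4, 3, 1, 2], 13, 18035355538509410, [(false, 3), (true, 7), (true, 0), (true, 10), (false, 1), (false, 5)]⟩,
   ⟨[0, 2, 3, 1, 4, 3, 2, 0, 5, 4, 3, 1, 2, 3], 14, 18094946551811682, [(true, 8), (true, 6), (false, 4), (false, 2), (false, 1), (false, 5)]⟩,
   ⟨[0, 2, 3, 1, 4, 3, 2, 0, 5, 4, 3, 1, 2, 3, 4], 15, 18094947484464994, [(true, 7), (false, 3), (false, 4), (false, 2), (true, 9), (false, 5)]⟩,
   ⟨[0, 2, 3, 1, 4, 3, 2, 0, 5, 4, 3, 1, 2, 3, 4, 5], 16, 18094947488892541, [(false, 1), (false, 3), (false, 4), (false, 2), (true, 8), (false, 5)]⟩,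
   ⟨[0, 2, 3, 1, 4, 3, 2, 0, 5, 4, 3, 2], 12, 18131012395814498, [(false, 3), (false, 2), (true, 4), (true, 6), (false, 1), (false, 5)]⟩,
   ⟨[0, 2, 3, 1], 4, 20576558269874239, [(true, 12), (false, 1), (false, 3), (true, 18), (false, 5), (false, 2)]⟩,
   ⟨[0, 2, 3, 1, 4], 5, 20576558634590527, [(true, 11), (true, 14), (false, 3), (true, 19), (true, 13), (false, 2)]⟩,
   ⟨[0, 2, 3, 1, 4, 5], 6, 20576558636866658, [(false, 5), (true, 15), (false, 3), (true, 20), (true, 12), (false, 2)]⟩,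
   ⟨[0, 2, 3, 1, 4, 3], 6, 20620683873509695, [(false, 1), (true, 12), (true, 23), (false, 4), (true, 15), (false, 2)]⟩,
   ⟨[0, 2, 3, 1, 4, 3, 5], 7, 20620683874999394, [(true, 16), (true, 13), (true, 24), (false, 4), (true, 14), (false, 2)]⟩,
   ⟨[0, 2, 3, 1, 4, 3, 5, 4], 8, 20620684524277346, [(true, 15), (false, 5), (true, 25), (false, 4), (false, 1), (false, 2)]⟩,
   ⟨[0, 2], 2, 20633569949007935, [(false, 4), (true, 18), (true, 5), (false, 1), (false, 5), (false, 2)]⟩,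
   ⟨[0, 2, 3], 3, 20656821813395519, [(true, 19), (true, 17), (false, 3), (true, 11), (false, 5), (false, 2)]⟩,
   ⟨[0, 2, 3, 4], 4, 20656822412992831, [(true, 18), (false, 4), (false, 3), (true, 12), (true, 20), (false, 2)]⟩,
   ⟨[0, 2, 3, 4, 5], 5, 20656822415268962, [(false, 5), (false, 4), (false, 3), (true, 13), (true, 19), (false, 2)]⟩,
   ⟨[], 0, 26263249435639871, [(false, 4), (false, 3), (false, 2), (false, 1), (false, 5), (true, 5)]⟩,
   ⟨[0, 2, 3, 1, 4, 3, 2, 5, 4, 3, 1], 11, 30701939172134498, [(false, 3), (false, 4), (false, 5), (true, 26), (false, 1), (true, 0)]⟩,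
   ⟨[0, 2, 3, 1, 4, 3, 2], 7, 30753435880939839, [(false, 1), (false, 3), (true, 14), (false, 4), (true, 24), (true, 1)]⟩,
   ⟨[0, 2, 3, 1, 4, 3, 2, 5], 8, 30753435882429538, [(true, 25), (false, 3), (true, 15), (false, 4), (true, 23), (true, 2)]⟩,
   ⟨[0, 2, 3, 1, 4, 3, 2, 5, 4], 9, 30753436464598626, [(true, 24), (true, 26), (true, 16), (false, 4), (false, 1), (true, 3)]⟩,
   ⟨[0, 2, 3, 1, 4, 3, 2, 5, 4, 3], 10, 30797595928776290, [(false, 3), (true, 25), (false, 5), (true, 22), (false, 1), (true, 4)]⟩]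

/-- representatives -/
def reps6 : List Tab.Rep :=
  [⟨[6, 5, 4, 3, 1, 2, 0, 3, 2, 4, 3, 1, 5, 4, 3, 2, 0, 6, 5, 4, 3, 1], 22, 1415592267827549, [(false, 3), (false, 4), (true, 12), (true, 5), (false, 2), (true, 50), (false, 0)]⟩,
   ⟨[6, 5, 4, 3, 1, 2, 0, 3, 2, 4, 3, 1, 5, 4, 3, 2, 0], 17, 1480278820871516, [(false, 2), (false, 3), (false, 1), (false, 4), (false, 0), (true, 51), (true, 2)]⟩,
   ⟨[6, 5, 4, 3, 1, 2, 0, 3, 2, 4, 3, 1, 5, 4, 3, 2, 0, 6], 18, 1480278820875297, [(false, 2), (false, 3), (false, 1), (false, 4), (true, 3), (true, 52), (true, 1)]⟩,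
   ⟨[6, 5, 4, 3, 1, 2, 0, 3, 2, 4, 3, 1, 5, 4, 3, 2, 0, 6, 5], 19, 1480278823539037, [(true, 4), (false, 3), (false, 1), (false, 4), (true, 2), (true, 53), (false, 0)]⟩,
   ⟨[6, 5, 4, 3, 1, 2, 0, 3, 2, 4, 3, 1, 5, 4, 3, 2, 0, 6, 5, 4], 20, 1480279622109533, [(true, 3), (true, 5), (false, 1), (false, 4), (false, 2), (true, 54), (false, 0)]⟩,
   ⟨[6, 5, 4, 3, 1, 2, 0, 3, 2, 4, 3, 1, 5, 4, 3, 2, 0, 6, 5, 4, 3], 21, 1537637085432157, [(false, 3), (true, 4), (true, 17), (true, 0), (false, 2), (true, 55), (false, 0)]⟩,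
   ⟨[6, 5, 4, 3, 1, 2, 0], 7, 7647504250520128, [(false, 3), (true, 7), (false, 0), (true, 11), (false, 4), (true, 44), (false, 5)]⟩,
   ⟨[6, 5, 4, 3, 1, 2, 0, 3], 8, 7680527466840640, [(true, 8), (true, 6), (true, 28), (false, 2), (false, 4), (true, 45), (false, 5)]⟩,
   ⟨[6, 5, 4, 3, 1, 2, 0, 3, 4], 9, 7680527966690112, [(true, 7), (false, 3), (true, 29), (false, 2), (true, 9), (true, 46), (false, 5)]⟩,
   ⟨[6, 5, 4, 3, 1, 2, 0, 3, 4, 5], 10, 7680527968641628, [(false, 4), (false, 3), (true, 30), (false, 2), (true, 8), (true, 47), (true, 10)]⟩,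
   ⟨[6, 5, 4, 3, 1, 2, 0, 3, 4, 5, 6], 11, 7680527968649249, [(false, 4), (false, 3), (true, 31), (false, 2), (false, 5), (true, 48), (true, 9)]⟩,
   ⟨[6, 5, 4, 3, 2, 0], 6, 7690384985899584, [(false, 3), (false, 2), (false, 0), (true, 6), (false, 4), (true, 49), (false, 5)]⟩,
   ⟨[6, 5, 4, 3, 1, 2, 0, 3, 2, 4, 3, 1, 5, 4, 3, 2, 0, 6, 5, 4, 3, 1, 2], 23, 18022114322106717, [(false, 3), (true, 13), (true, 0), (true, 17), (false, 2), (false, 5), (false, 0)]⟩,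
   ⟨[6, 5, 4, 3, 1, 2, 0, 3, 2, 4, 3, 1, 5, 4, 3, 2, 0, 6, 5, 4, 3, 1, 2, 3], 24, 18100443942701405, [(true, 14), (true, 12), (false, 4), (false, 1), (false, 2), (false, 5), (false, 0)]⟩,
   ⟨[6, 5, 4, 3, 1, 2, 0, 3, 2, 4, 3, 1, 5, 4, 3, 2, 0, 6, 5, 4, 3, 1, 2, 3, 4], 25, 18100445042080861, [(true, 13), (false, 3), (false, 4), (false, 1), (true, 15), (false, 5), (false, 0)]⟩,
   ⟨[6, 5, 4, 3, 1, 2, 0, 3, 2, 4, 3, 1, 5, 4, 3, 2, 0, 6, 5, 4, 3, 1, 2, 3, 4, 5], 26, 18100445046702461, [(false, 2), (false, 3), (false, 4), (false, 1), (true, 14), (false, 5), (true, 16)]⟩,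
   ⟨[6, 5, 4, 3, 1, 2, 0, 3, 2, 4, 3, 1, 5, 4, 3, 2, 0, 6, 5, 4, 3, 1, 2, 3, 4, 5, 6], 27, 18100445046725888, [(false, 2), (false, 3), (false, 4), (false, 1), (false, 0), (false, 5), (true, 15)]⟩,
   ⟨[6, 5, 4, 3, 1, 2, 0, 3, 2, 4, 3, 1, 5, 4, 3, 2, 0, 6, 5, 4, 3, 2], 22, 18144159374592349, [(false, 3), (false, 1), (true, 5), (true, 12), (false, 2), (false, 5), (false, 0)]⟩,
   ⟨[6, 5, 4, 3, 1, 2, 0, 3, 2, 4, 3, 1], 12, 21970738929818432, [(false, 0), (false, 2), (false, 3), (true, 32), (true, 19), (false, 1), (false, 5)]⟩,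
   ⟨[6, 5, 4, 3, 1, 2, 0, 3, 2, 4, 3, 1, 5], 13, 21970738930721372, [(true, 21), (false, 2), (false, 3), (true, 33), (true, 18), (false, 1), (true, 20)]⟩,
   ⟨[6, 5, 4, 3, 1, 2, 0, 3, 2, 4, 3, 1, 5, 6], 14, 21970738930728993, [(true, 22), (false, 2), (false, 3), (true, 34), (false, 5), (false, 1), (true, 19)]⟩,
   ⟨[6, 5, 4, 3, 1, 2, 0, 3, 2, 4, 3, 1, 5, 4], 14, 21970739595992412, [(true, 19), (true, 24), (false, 3), (true, 35), (false, 0), (false, 1), (true, 22)]⟩,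
   ⟨[6, 5, 4, 3, 1, 2, 0, 3, 2, 4, 3, 1, 5, 4, 6], 15, 21970739595996193, [(true, 20), (true, 25), (false, 3), (true, 36), (true, 23), (false, 1), (true, 21)]⟩,
   ⟨[6, 5, 4, 3, 1, 2, 0, 3, 2, 4, 3, 1, 5, 4, 6, 5], 16, 21970739598987613, [(false, 5), (true, 26), (false, 3), (true, 37), (true, 22), (false, 1), (false, 0)]⟩,
   ⟨[6, 5, 4, 3, 1, 2, 0, 3, 2, 4, 3, 1, 5, 4, 3], 15, 22028114373205340, [(false, 2), (true, 21), (true, 51), (false, 4), (false, 0), (false, 1), (true, 25)]⟩,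
   ⟨[6, 5, 4, 3, 1, 2, 0, 3, 2, 4, 3, 1, 5, 4, 3, 6], 16, 22028114373209121, [(false, 2), (true, 22), (true, 52), (false, 4), (true, 26), (false, 1), (true, 24)]⟩,
   ⟨[6, 5, 4, 3, 1, 2, 0, 3, 2, 4, 3, 1, 5, 4, 3, 6, 5], 17, 22028114375872861, [(true, 27), (true, 23), (true, 53), (false, 4), (true, 25), (false, 1), (false, 0)]⟩,
   ⟨[6, 5, 4, 3, 1, 2, 0, 3, 2, 4, 3, 1, 5, 4, 3, 6, 5, 4], 18, 22028115241552221, [(true, 26), (false, 5), (true, 54), (false, 4), (false, 2), (false, 1), (false, 0)]⟩,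
   ⟨[6, 5, 4, 3, 1, 2, 0, 3, 2], 9, 22035412882637376, [(true, 29), (false, 0), (true, 7), (false, 2), (false, 4), (false, 1), (false, 5)]⟩,
   ⟨[6, 5, 4, 3, 1, 2, 0, 3, 2, 4], 10, 22035413080496960, [(true, 28), (true, 32), (true, 8), (false, 2), (true, 30), (false, 1), (false, 5)]⟩,
   ⟨[6, 5, 4, 3, 1, 2, 0, 3, 2, 4, 5], 11, 22035413082448476, [(false, 4), (true, 33), (true, 9), (false, 2), (true, 29), (false, 1), (true, 31)]⟩,
   ⟨[6, 5, 4, 3, 1, 2, 0, 3, 2, 4, 5, 6], 12, 22035413082456097, [(false, 4), (true, 34), (true, 10), (false, 2), (false, 5), (false, 1), (true, 30)]⟩,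
   ⟨[6, 5, 4, 3, 1, 2, 0, 3, 2, 4, 3], 11, 22077390668520256, [(false, 0), (true, 29), (false, 3), (true, 18), (true, 33), (false, 1), (false, 5)]⟩,
   ⟨[6, 5, 4, 3, 1, 2, 0, 3, 2, 4, 3, 5], 12, 22077390669423196, [(true, 35), (true, 30), (false, 3), (true, 19), (true, 32), (false, 1), (true, 34)]⟩,
   ⟨[6, 5, 4, 3, 1, 2, 0, 3, 2, 4, 3, 5, 6], 13, 22077390669430817, [(true, 36), (true, 31), (false, 3), (true, 20), (false, 5), (false, 1), (true, 33)]⟩,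
   ⟨[6, 5, 4, 3, 1, 2, 0, 3, 2, 4, 3, 5, 4], 13, 22077391435357532, [(true, 33), (false, 4), (false, 3), (true, 21), (false, 0), (false, 1), (true, 36)]⟩,
   ⟨[6, 5, 4, 3, 1, 2, 0, 3, 2, 4, 3, 5, 4, 6], 14, 22077391435361313, [(true, 34), (false, 4), (false, 3), (true, 22), (true, 37), (false, 1), (true, 35)]⟩,
   ⟨[6, 5, 4, 3, 1, 2, 0, 3, 2, 4, 3, 5, 4, 6, 5], 15, 22077391438352733, [(false, 5), (false, 4), (false, 3), (true, 23), (true, 36), (false, 1), (false, 0)]⟩,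
   ⟨[6, 5, 4, 3, 1], 5, 26224783859728960, [(false, 3), (false, 1), (true, 44), (true, 43), (false, 4), (false, 0), (false, 5)]⟩,
   ⟨[], 0, 26263249435639871, [(false, 4), (false, 3), (false, 2), (false, 1), (false, 5), (false, 0), (true, 40)]⟩,
   ⟨[6], 1, 26263249435640126, [(false, 4), (false, 3), (false, 2), (false, 1), (true, 41), (false, 0), (true, 39)]⟩,
   ⟨[6, 5], 2, 26263249435769920, [(true, 42), (false, 3), (false, 2), (false, 1), (true, 40), (false, 0), (false, 5)]⟩,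
   ⟨[6, 5, 4], 3, 26263249485382208, [(true, 41), (true, 43), (false, 2), (false, 1), (false, 4), (false, 0), (false, 5)]⟩,
   ⟨[6, 5, 4, 3], 4, 26267664393781824, [(false, 3), (true, 42), (true, 49), (true, 38), (false, 4), (false, 0), (false, 5)]⟩,
   ⟨[6, 5, 4, 3, 1, 2], 6, 27632034323448384, [(false, 3), (true, 45), (true, 38), (true, 49), (false, 4), (true, 6), (false, 5)]⟩,
   ⟨[6, 5, 4, 3, 1, 2, 3], 7, 27665147734082112, [(true, 46), (true, 44), (false, 1), (false, 2), (false, 4), (true, 7), (false, 5)]⟩,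
   ⟨[6, 5, 4, 3, 1, 2, 3, 4], 8, 27665148233931584, [(true, 45), (false, 3), (false, 1), (false, 2), (true, 47), (true, 8), (false, 5)]⟩,
   ⟨[6, 5, 4, 3, 1, 2, 3, 4, 5], 9, 27665148235883100, [(false, 4), (false, 3), (false, 1), (false, 2), (true, 46), (true, 9), (true, 48)]⟩,
   ⟨[6, 5, 4, 3, 1, 2, 3, 4, 5, 6], 10, 27665148235890721, [(false, 4), (false, 3), (false, 1), (false, 2), (false, 5), (true, 10), (true, 47)]⟩,
   ⟨[6, 5, 4, 3, 2], 5, 27674915058827840, [(false, 3), (false, 2), (true, 43), (true, 44), (false, 4), (true, 11), (false, 5)]⟩,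
   ⟨[6, 5, 4, 3, 1, 2, 0, 3, 2, 4, 3, 1, 5, 4, 3, 2, 6, 5, 4, 3, 1], 21, 33784969776417117, [(false, 3), (false, 4), (false, 5), (true, 55), (false, 2), (true, 0), (false, 0)]⟩,
   ⟨[6, 5, 4, 3, 1, 2, 0, 3, 2, 4, 3, 1, 5, 4, 3, 2], 16, 33849604789853532, [(false, 2), (false, 3), (true, 24), (false, 4), (false, 0), (true, 1), (true, 52)]⟩,
   ⟨[6, 5, 4, 3, 1, 2, 0, 3, 2, 4, 3, 1, 5, 4, 3, 2, 6], 17, 33849604789857313, [(false, 2), (false, 3), (true, 25), (false, 4), (true, 53), (true, 2), (true, 51)]⟩,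
   ⟨[6, 5, 4, 3, 1, 2, 0, 3, 2, 4, 3, 1, 5, 4, 3, 2, 6, 5], 18, 33849604792521053, [(true, 54), (false, 3), (true, 26), (false, 4), (true, 52), (true, 3), (false, 0)]⟩,
   ⟨[6, 5, 4, 3, 1, 2, 0, 3, 2, 4, 3, 1, 5, 4, 3, 2, 6, 5, 4], 19, 33849605591091549, [(true, 53), (true, 55), (true, 27), (false, 4), (false, 2), (true, 4), (false, 0)]⟩,
   ⟨[6, 5, 4, 3, 1, 2, 0, 3, 2, 4, 3, 1, 5, 4, 3, 2, 6, 5, 4, 3], 20, 33907014594021725, [(false, 3), (true, 54), (false, 5), (true, 50), (false, 2), (true, 5), (false, 0)]⟩]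

/-- the steps -/
def steps : List (ℕ × List Tab.Rep) :=
  [(4, reps0), (3, reps1), (2, reps2), (1, reps3), (5, reps4), (0, reps5), (6, reps6)]

/-- torus certificate -/
def cert : Tab.TorCert :=
  ⟨2, 1, fun a b => ([[0, 1, 0, 0, 1, 0, 1]].getD a []).getD b 0, fun a b => ([[0, 1, 0, -1, 1, -1, 1]].getD a []).getD b 0, fun a b => ([[2, 2, 3, 4, 3, 2, 1], [2, 3, 4, 6, 4, 3, 1], [3, 4, 6, 8, 6, 4, 2], [4, 6, 8, 12, 9, 6, 3], [3, 4, 6, 9, 7, 5, 2], [2, 3, 4, 6, 5, 4, 2], [1, 1, 2, 3, 2, 2, 1]].getD a []).getD b 0, fun a b => ([[0, 1, 0, 0, 1, 0, 1]].getD a []).getD b 0⟩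

theorem step0 : tab.checkStep [] [4] reps0 = true := by decide +kernel

theorem step1 : tab.checkStep [4] [4, 3] reps1 = true := by decide +kernel

theorem step2 : tab.checkStep [4, 3] [4, 3, 2] reps2 = true := by decide +kernel

theorem step3 : tab.checkStep [4, 3, 2] [4, 3, 2, 1] reps3 = true := by decide +kernel

theorem step4 : tab.checkStep [4, 3, 2, 1] [4, 3, 2, 1, 5] reps4 = true := by decide +kernel

theorem step5 : tab.checkStep [4, 3, 2, 1, 5] [4, 3, 2, 1, 5, 0] reps5 = true := by decide +kernel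

theorem step6 : tab.checkStep [4, 3, 2, 1, 5, 0] [4, 3, 2, 1, 5, 0, 6] reps6 = true := by decide +kernel

theorem chainOK : tab.checkChain [] steps = true := by
  simp only [steps, Tab.checkChain, List.nil_append, List.cons_append, Bool.and_eq_true]
  exact ⟨step0, step1, step2, step3, step4, step5, step6, by decide +kernel⟩

theorem torOK : tab.checkTor cert = true := by decide +kernel

theorem polyOK : tab.checkPoly steps [2, 6, 8, 10, 12, 14, 18] = true := by decide +kernel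

end Cfsg.Agent.Chev.E7Data
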