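import Cfsg.Agent.Lib.Lie.TwBase

/-!
# Twisted groups: coordinates on the orbit groups, counting fixed points

For a list of roots in increasing order the products `∏ x_r(a_r)` determine the coordinates; the
fixed points of `U_L^-` are counted orbit by orbit.
-/

set_option autoImplicit false

namespace Cfsg.Agent.Chev

open Cfsg.Lie
open Matrix hiding zpow_mul inv_zpow mul_inv_rev zpow_add zpow_neg

namespace Tab

variable {T : Tab} {K : List (List ℕ)} {F : Type*} [Field F]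

/-- product of root elements along a list -/
noncomputable def sProd (g : T.Good) (L : List ℕ) (a : ℕ → F) : GL T.D.Idx F :=
  (L.map fun r => xg g r (a r)).prod

theorem sProd_nil (g : T.Good) (a : ℕ → F) : sProd g [] a = 1 := rfl

theorem sProd_cons (g : T.Good) (r : ℕ) (L : List ℕ) (a : ℕ → F) :
    sProd g (r :: L) a = xg g r (a r) * sProd g L a := by simp [sProd]

theorem sProd_mem (g : T.Good) {L : List ℕ} {S : Set ℕ} (h : ∀ r ∈ L, r ∈ S) (a : ℕ → F) :
    sProd g L a ∈ genS g F S :=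
  Subgroup.list_prod_mem _ fun y hy => by
    obtain ⟨r, hr, rfl⟩ := List.mem_map.1 hy
    exact xg_mem_genS g (h r hr) _

theorem sProd_congr (g : T.Good) {L : List ℕ} {a b : ℕ → F} (h : ∀ r ∈ L, a r = b r) :
    sProd g L a = sProd g L b :=
  congrArg List.prod (List.map_congr_left fun r hr => by rw [h r hr])

theorem sProd_conj (g : T.Good) (c : ℕ → Fˣ) : ∀ {L : List ℕ}, (∀ r ∈ L, r < T.n) → ∀ a : ℕ → F,
    tor T F c * sProd g L a * (tor T F c)⁻¹ = sProd g L fun r => (wt T F c r : F) * a r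
  | [], _, a => by simp [sProd]
  | r :: L, h, a => by
    rw [sProd_cons, sProd_cons, ← sProd_conj g c (fun s hs => h s (List.mem_cons_of_mem _ hs)) a,
      ← tor_xg g c (h r List.mem_cons_self)]
    group

theorem sProd_unique (g : T.Good) : ∀ {L : List ℕ}, L.Pairwise (· < ·) →
    (∀ r ∈ L, T.N ≤ r ∧ r < T.n) → ∀ {a b : ℕ → F}, sProd g L a = sProd g L b →
      ∀ r ∈ L, a r = b r
  | [], _, _, _, _, _ => by simp
  | k :: L, hs, hr, a, b, e => by
    obtain ⟨hk, hs'⟩ := List.pairwise_cons.1 hs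
    have hr' : ∀ r ∈ L, T.N ≤ r ∧ r < T.n := fun r h => hr r (List.mem_cons_of_mem _ h)
    have hmem : ∀ c : ℕ → F, sProd g L c ∈ genS g F (Set.Ico (k + 1) T.n) :=
      sProd_mem g fun r h => ⟨hk r h, (hr' r h).2⟩
    rw [sProd_cons, sProd_cons] at e
    have h' : xg g k (-b k + a k) = sProd g L b * (sProd g L a)⁻¹ := by
      rw [← xg_add, ← xg_inv, eq_mul_inv_iff_mul_eq, mul_assoc, e, inv_mul_cancel_left]
    have h0 := lowest_coeff g (hr k List.mem_cons_self).1 (hr k List.mem_cons_self).2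
      (t := -b k + a k) (h' ▸ mul_mem (hmem b) (inv_mem (hmem a)))
    have hab : a k = b k := by linear_combination h0
    rw [hab] at e
    intro r h
    rcases List.mem_cons.1 h with rfl | h
    · exact hab
    · exact sProd_unique g hs' hr' (mul_left_cancel e) r h

/-- coordinates on `U_L^-` -/
theorem uMinus_coords (g : T.GoodA) [Finite F] {L R : List ℕ} (hL : T.Wd L)
    (hR : R.Pairwise (· < ·)) (hRL : R.toFinset = T.invSet L) {u : GL T.D.Idx F}
    (hu : u ∈ uMinus g.toGood F L) : ∃ a : ℕ → F, u = sProd g.toGood R a := by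
  have hg := g.toGood
  have hmemR : ∀ r ∈ R, T.N ≤ r ∧ r < T.n ∧ T.rw' L r < T.N := fun r hr => by
    have : r ∈ T.invSet L := hRL ▸ List.mem_toFinset.2 hr
    simp only [invSet, Finset.mem_filter, Finset.mem_Ico] at this
    exact ⟨this.1.1, this.1.2, this.2⟩
  let ext : (↥R.toFinset → F) → ℕ → F := fun a r => if h : r ∈ R.toFinset then a ⟨r, h⟩ else 0
  let f : (↥R.toFinset → F) → ↥(uMinus hg F L) := fun a =>
    ⟨sProd hg R (ext a), sProd_mem hg (S := {r | T.N ≤ r ∧ r < T.n ∧ T.rw' L r < T.N}) hmemR _⟩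
  have hinj : Function.Injective f := by
    intro a b e
    funext ⟨r, hr⟩
    have := sProd_unique hg hR (fun r hr => ⟨(hmemR r hr).1, (hmemR r hr).2.1⟩)
      (congrArg Subtype.val e) r (List.mem_toFinset.1 hr)
    simp only [ext, dif_pos hr] at this
    exact this
  have hcard : Nat.card (↥R.toFinset → F) = Nat.card ↥(uMinus hg F L) := by
    rw [(pos_decomp g _ hL le_rfl).2, ← hRL, Nat.card_fun, Nat.card_eq_fintype_card (α := ↥R.toFinset),
      Fintype.card_coe]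
  have hfin : Finite ↥(uMinus hg F L) := by
    have : Finite (GL T.D.Idx F) := inferInstance
    infer_instance
  obtain ⟨a, ha⟩ := (Nat.bijective_iff_injective_and_card f).2 ⟨hinj, hcard⟩ |>.2 ⟨u, hu⟩
  exact ⟨ext a, (congrArg Subtype.val ha).symm⟩

namespace Twist

variable {g : T.GoodK K} (X : Twist g F)

/-- fixed points of `U_L^-` are its intersection with the twisted group -/
theorem mem_uMinus_inf_iff {L : List ℕ} (hL : T.Wd L) (hc : X.Comm L) {u : GL T.D.Idx F} :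
    u ∈ uMinus g.toGood F L ⊓ X.G1 ↔ u ∈ uMinus g.toGood F L ∧ X.σ u = u :=
  ⟨fun h => ⟨h.1, (X.G1_le u h.2).2⟩, fun h => ⟨h.1, X.uMinus_fixed_mem _ hL hc le_rfl u h.1 h.2⟩⟩

theorem mem_peel {L : List ℕ} (hL : T.Wd L) {b : ℕ} (hb : b < X.nb)
    (hall : ∀ s ∈ T.invSet (X.w b), T.rw' L s < T.N) {s : ℕ}
    (hs : s ∈ T.invSet (L ++ (X.w b).reverse)) :
    T.rw' (X.w b).reverse s ∈ T.invSet L ∧ T.rw' (X.w b).reverse s ∉ T.invSet (X.w b) := by
  have hg := g.toGood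
  have hwd := X.w_wd hb
  simp only [invSet, Finset.mem_filter, Finset.mem_Ico, rw'_append] at hs ⊢
  obtain ⟨⟨h1, h2⟩, h3⟩ := hs
  have hu := rw'_lt hg hwd.reverse h2
  have hposu : T.N ≤ T.rw' (X.w b).reverse s := by
    by_contra hh
    have hnu : T.N ≤ T.neg (T.rw' (X.w b).reverse s) := (N_le_neg_iff hu).2 (not_le.1 hh)
    have hmem : T.neg (T.rw' (X.w b).reverse s) ∈ T.invSet (X.w b) := by
      simp only [invSet, Finset.mem_filter, Finset.mem_Ico, rw'_neg hg hwd hu,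
        rw'_rev' hg hwd h2]
      exact ⟨⟨hnu, neg_lt hu⟩, (neg_lt_N_iff h2).2 h1⟩
    have := hall _ hmem
    rw [rw'_neg hg hL hu, neg_lt_N_iff (rw'_lt hg hL hu)] at this
    omega
  refine ⟨⟨⟨hposu, hu⟩, h3⟩, ?_⟩
  rw [rw'_rev' hg hwd h2]
  omega

/-- `n⁻¹` carries `U_{L w⁻¹}^-` into `U_L^-`, outside the orbit -/
theorem conj_peel {L : List ℕ} (hL : T.Wd L) {b : ℕ} (hb : b < X.nb)
    (hall : ∀ s ∈ T.invSet (X.w b), T.rw' L s < T.N) {y : GL T.D.Idx F}
    (hy : y ∈ uMinus g.toGood F (L ++ (X.w b).reverse)) :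
    (X.n b)⁻¹ * y * X.n b ∈ uMinus g.toGood F L ∧
      nWd g.toGood F (X.w b) * ((X.n b)⁻¹ * y * X.n b) * (nWd g.toGood F (X.w b))⁻¹ ∈
        genS g.toGood F (Set.Ico T.N T.n) := by
  have hg := g.toGood
  have hwd := X.w_wd hb
  obtain ⟨c, hc⟩ := X.n_eq b hb
  let S : Set ℕ := {r | (T.N ≤ r ∧ r < T.n ∧ T.rw' L r < T.N) ∧ T.N ≤ T.rw' (X.w b) r}
  have hy' : (tor T F c)⁻¹ * y * tor T F c ∈ genS hg F ((T.rw' (X.w b)) '' S) := by
    have h1 : (tor T F c)⁻¹ * y * tor T F c ∈ uMinus hg F (L ++ (X.w b).reverse) := by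
      have := (Subgroup.mem_normalizer_iff.1 (inv_mem (tor_normalizes (F := F) hg
        (S := {r | T.N ≤ r ∧ r < T.n ∧ T.rw' (L ++ (X.w b).reverse) r < T.N})
        (fun r hr => hr.2.1) c)) y).1 hy
      rwa [inv_inv] at this
    refine genS_mono hg ?_ h1
    rintro s ⟨h1, h2, h3⟩
    obtain ⟨hu, hnu⟩ := X.mem_peel hL hb hall (s := s) (by simp [invSet, h1, h2, h3])
    simp only [invSet, Finset.mem_filter, Finset.mem_Ico] at hu hnu
    refine ⟨T.rw' (X.w b).reverse s, ⟨⟨hu.1.1, hu.1.2, hu.2⟩, ?_⟩, rw'_rev' hg hwd h2⟩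
    rw [rw'_rev' hg hwd h2]
    exact h1
  rw [← genS_map_nWd hg hwd fun r hr => hr.1.2.1] at hy'
  obtain ⟨z, hz, e⟩ := hy'
  have e' : (tor T F c)⁻¹ * y * tor T F c =
      nWd hg F (X.w b) * z * (nWd hg F (X.w b))⁻¹ := e.symm
  have hzz : (X.n b)⁻¹ * y * X.n b = z := by
    calc (X.n b)⁻¹ * y * X.n b =
          (nWd hg F (X.w b))⁻¹ * ((tor T F c)⁻¹ * y * tor T F c) * nWd hg F (X.w b) := by
            rw [hc]; group
      _ = z := by rw [e']; group
  rw [hzz]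
  refine ⟨genS_mono hg (fun r hr => hr.1) hz, ?_⟩
  have h := Subgroup.mem_map_of_mem (MulAut.conj (nWd hg F (X.w b))).toMonoidHom hz
  rw [genS_map_nWd hg hwd fun r hr => hr.1.2.1] at h
  refine genS_mono hg ?_ h
  rintro _ ⟨r, hr, rfl⟩
  exact ⟨hr.2, rw'_lt hg hwd hr.1.2.1⟩

/-- splitting off an orbit, as a bijection -/
theorem card_peel [Finite F] {L : List ℕ} (hL : T.Wd L) (hc : X.Comm L) {b : ℕ} (hb : b < X.nb)
    (hall : ∀ s ∈ T.invSet (X.w b), T.rw' L s < T.N)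
    (hc' : X.Comm (L ++ (X.w b).reverse)) :
    Nat.card ↥(uMinus g.toGood F L ⊓ X.G1) =
      Nat.card ↥(uMinus g.toGood F (L ++ (X.w b).reverse) ⊓ X.G1) *
        Nat.card ↥(uMinus g.toGood F (X.w b) ⊓ X.G1) := by
  have hg := g.toGood
  have hwd := X.w_wd hb
  have hw' : T.Wd (L ++ (X.w b).reverse) := Wd.append_iff.2 ⟨hL, hwd.reverse⟩
  have hn := X.n_mem b hb
  have hzL : uMinus hg F (X.w b) ≤ uMinus hg F L := genS_mono hg fun r hr => by
    obtain ⟨h1, h2, h3⟩ := hr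
    exact ⟨h1, h2, hall r (by simp [invSet, h1, h2, h3])⟩
  let f : ↥(uMinus hg F (L ++ (X.w b).reverse) ⊓ X.G1) × ↥(uMinus hg F (X.w b) ⊓ X.G1) →
      ↥(uMinus hg F L ⊓ X.G1) := fun p =>
    ⟨(X.n b)⁻¹ * p.1 * X.n b * p.2,
      Subgroup.mem_inf.2 ⟨mul_mem (X.conj_peel hL hb hall p.1.2.1).1 (hzL p.2.2.1),
        X.G1.mul_mem (X.G1.mul_mem (X.G1.mul_mem (X.G1.inv_mem hn) p.1.2.2) hn) p.2.2.2⟩⟩
  have hf : Function.Bijective f := by
    constructor
    · rintro ⟨⟨y, hy⟩, ⟨z, hz⟩⟩ ⟨⟨y', hy'⟩, ⟨z', hz'⟩⟩ e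
      obtain ⟨h1, h2⟩ := pos_decomp_unique hg hwd (X.conj_peel hL hb hall hy.1).2
        (X.conj_peel hL hb hall hy'.1).2 hz.1 hz'.1 (congrArg Subtype.val e)
      exact Prod.ext (Subtype.ext (mul_left_cancel (mul_right_cancel h1))) (Subtype.ext h2)
    · rintro ⟨u, hu⟩
      obtain ⟨hu1, hσ⟩ := (X.mem_uMinus_inf_iff hL hc).1 hu
      obtain ⟨y, hy, hσy, z, hz, hσz, e⟩ := X.uMinus_split hL hb hall hu1 hσ
      exact ⟨(⟨y, (X.mem_uMinus_inf_iff hw' hc').2 ⟨hy, hσy⟩⟩,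
        ⟨z, (X.mem_uMinus_inf_iff hwd (X.w_comm hb)).2 ⟨hz, hσz⟩⟩), Subtype.ext e.symm⟩
  rw [← Nat.card_eq_of_bijective f hf, Nat.card_prod]

/-- the number of fixed points of `U_L^-` -/
theorem card_fixed [Finite F] {q d : ℕ}
    (hblk : ∀ b < X.nb, ∃ k, Nat.card ↥(uMinus g.toGood F (X.w b) ⊓ X.G1) = q ^ k ∧
      k * d = (T.invSet (X.w b)).card) :
    ∀ (m : ℕ) {L : List ℕ}, T.Wd L → X.Comm L → (T.invSet L).card ≤ m →
      ∃ k, Nat.card ↥(uMinus g.toGood F L ⊓ X.G1) = q ^ k ∧ k * d = (T.invSet L).card := by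
  intro m
  have base : ∀ {L : List ℕ}, (T.invSet L).card = 0 →
      ∃ k, Nat.card ↥(uMinus g.toGood F L ⊓ X.G1) = q ^ k ∧ k * d = (T.invSet L).card := by
    intro L h0
    have hp := invSet_empty g.toGood h0
    have : uMinus g.toGood F L = ⊥ := le_bot_iff.1 (genS_le g.toGood fun r hr t => by
      have := hp r hr.1 hr.2.1
      have := hr.2.2
      omega)
    exact ⟨0, by rw [this, bot_inf_eq, Subgroup.card_bot, pow_zero], by simp [h0]⟩
  induction m with
  | zero => exact fun _ _ h => base (Nat.le_zero.1 h)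
  | succ m ih =>
    intro L hL hc hle
    rcases Nat.eq_zero_or_eq_sub_one_add_one (n := (T.invSet L).card) with h0 | hs
    · exact base h0
    obtain ⟨b, hb, hall, hw', hc', hcard, hlt⟩ := X.comm_peel hL hc hs
    obtain ⟨k, hk, hk'⟩ := ih hw' hc' (by omega)
    obtain ⟨e, he, he'⟩ := hblk b hb
    refine ⟨k + e, ?_, ?_⟩
    · rw [X.card_peel hL hc hb hall hc', hk, he, pow_add]
    · rw [add_mul, hk', he', hcard]

/-- `|U ∩ G¹|` -/
theorem card_pos_fixed [Finite F] {q d : ℕ} (hd : 0 < d)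
    (hblk : ∀ b < X.nb, ∃ k, Nat.card ↥(uMinus g.toGood F (X.w b) ⊓ X.G1) = q ^ k ∧
      k * d = (T.invSet (X.w b)).card) {M : ℕ} (hM : M * d = T.N) :
    Nat.card ↥(T.D.posUnipotent F ⊓ X.G1) = q ^ M := by
  obtain ⟨L, hL, hc, hneg⟩ := X.exists_longest_comm
  obtain ⟨k, hk, hk'⟩ := X.card_fixed hblk _ hL hc le_rfl
  have e : uMinus g.toGood F L = T.D.posUnipotent F := by
    rw [posUnipotent_eq g.toGood, uMinus]
    congr 1
    ext r
    exact ⟨fun h => ⟨h.1, h.2.1⟩, fun h => ⟨h.1, h.2, hneg r h.1 h.2⟩⟩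
  have e' : (T.invSet L).card = T.N := by
    have : T.invSet L = Finset.Ico T.N T.n := Finset.filter_true_of_mem fun r hr => by
      rw [Finset.mem_Ico] at hr
      exact hneg r hr.1 hr.2
    rw [this, Nat.card_Ico]
    have := n_def (T := T)
    omega
  rw [e] at hk
  rw [hk, show k = M from Nat.eq_of_mul_eq_mul_right hd (by rw [hk', e', hM])]

/-- fixed negative root products lie in the twisted group -/
theorem neg_fixed_mem {u : GL T.D.Idx F} (hu : u ∈ genS g.toGood F (Set.Iio T.N))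
    (hσ : X.σ u = u) {L : List ℕ} (hL : T.Wd L)
    (hneg : ∀ s, T.N ≤ s → s < T.n → T.rw' L s < T.N) {c : ℕ → Fˣ}
    (hn : tor T F c * nWd g.toGood F L ∈ X.G1) : u ∈ X.G1 := by
  have hg := g.toGood
  set n := tor T F c * nWd hg F L with hnd
  have hlt : ∀ r ∈ Set.Iio T.N, r < T.n := fun r hr => by
    have := n_def (T := T); have : r < T.N := hr; omega
  have h1 : (tor T F c)⁻¹ * u * tor T F c ∈ genS hg F ((T.rw' L) '' Set.Ico T.N T.n) := by
    refine genS_mono hg ?_ (S := Set.Iio T.N) (by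
      have := (Subgroup.mem_normalizer_iff.1 (inv_mem (tor_normalizes (F := F) hg hlt c)) u).1 hu
      rwa [inv_inv] at this)
    intro r hr
    have hrn := hlt r hr
    have hv := rw'_lt hg hL.reverse hrn
    refine ⟨T.rw' L.reverse r, ⟨?_, hv⟩, rw'_rev' hg hL hrn⟩
    by_contra hh
    have h := hneg _ ((N_le_neg_iff hv).2 (not_le.1 hh)) (neg_lt hv)
    rw [rw'_neg hg hL hv, rw'_rev' hg hL hrn, neg_lt_N_iff hrn] at h
    have : r < T.N := hr
    omega
  rw [← genS_map_nWd hg hL fun r hr => hr.2] at h1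
  obtain ⟨z, hz, e⟩ := h1
  have hzu : n⁻¹ * u * n = z := by
    have e' : (tor T F c)⁻¹ * u * tor T F c = nWd hg F L * z * (nWd hg F L)⁻¹ := e.symm
    calc n⁻¹ * u * n = (nWd hg F L)⁻¹ * ((tor T F c)⁻¹ * u * tor T F c) * nWd hg F L := by
          rw [hnd]; group
      _ = z := by rw [e']; group
  obtain ⟨hnG, hnσ⟩ := X.G1_le n hn
  have huG : u ∈ T.D.group F := genS_le_group hg hu
  have hσz : X.σ z = z := by
    rw [← hzu, X.σ_mul _ (mul_mem (inv_mem hnG) huG) _ hnG, X.σ_mul _ (inv_mem hnG) _ huG,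
      X.σ_inv hnG, hnσ, hσ]
  have hzG := X.pos_fixed_mem hz hσz
  have : u = n * z * n⁻¹ := by rw [← hzu]; group
  rw [this]
  exact mul_mem (mul_mem hn hzG) (inv_mem hn)

end Twist

end Tab

end Cfsg.Agent.Chev
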