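import Cfsg.Agent.Lib.Lie.ChevParabolic
import Cfsg.Agent.Lib.Lie.ChevPoincare

/-!
# Cosets of the parabolic subgroups of the finite Chevalley groups

Normal forms in `P_J`, its order, uniqueness along minimal representatives, and the size of the
orbits of one parabolic subgroup on the cosets of another.
-/

set_option autoImplicit false

namespace Cfsg.Agent.Chev

open Cfsg.Lie

namespace Tab

variable {T : Tab} {F : Type*} [Field F]

/-- `P_J` for a list of nodes -/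
abbrev parL (T : Tab) (F : Type*) [Field F] (J : List ℕ) : Subgroup (GL T.D.Idx F) :=
  T.D.parabolicSubgroup F {j | j ∈ J}

theorem nG_mem_parL (g : T.Good) {J : List ℕ} {j : ℕ} (hj : j < T.l) (hJ : j ∈ J) :
    nG g F j ∈ parL T F J :=
  Subgroup.mem_sup_right
    (Subgroup.subset_closure ⟨j, hJ, by rw [g.rank_eq]; exact hj, by rw [nG_val g hj, nM]⟩)

theorem borel_le_parL (J : List ℕ) : T.D.borelSubgroup F ≤ parL T F J := le_sup_left

theorem nWd_mem_parL (g : T.Good) {J L : List ℕ} (hL : T.Wd L) (hLJ : ∀ i ∈ L, i ∈ J) :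
    nWd g F L ∈ parL T F J :=
  Subgroup.list_prod_mem _ fun x hx => by
    obtain ⟨i, hi, rfl⟩ := List.mem_map.1 hx
    exact nG_mem_parL g (hL i hi) (hLJ i hi)

theorem parL_le (g : T.Good) {J : List ℕ} {K : Subgroup (GL T.D.Idx F)}
    (hB : T.D.borelSubgroup F ≤ K) (hn : ∀ j < T.l, j ∈ J → nG g F j ∈ K) : parL T F J ≤ K := by
  refine sup_le hB ((Subgroup.closure_le _).2 ?_)
  rintro x ⟨j, hJ, hj, hx⟩
  rw [g.rank_eq] at hj
  rw [show x = nG g F j from Units.ext (by rw [nG_val g hj, hx, nM])]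
  exact hn j hj hJ

theorem parL_le_group (g : T.Good) (J : List ℕ) : parL T F J ≤ T.D.group F :=
  parL_le g (borel_le_group g) fun j _ _ => nG_mem_group g j

theorem nWd_mono (g : T.Good) {L : List ℕ} (hL : T.Wd L) :
    nWd g F L ∈ T.D.monomialSubgroup F :=
  (mem_monomial_iff g).2 ⟨L, hL, 1, by rw [map_one, one_mul]⟩

theorem nWd_borel_right (g : T.GoodA) {L : List ℕ} (hL : T.Wd L) {b : GL T.D.Idx F}
    (hb : b ∈ T.D.borelSubgroup F) :
    ∃ b' ∈ T.D.borelSubgroup F, ∃ u ∈ uMinus g.toGood F L,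
      nWd g.toGood F L * b = b' * nWd g.toGood F L * u := by
  have hg := g.toGood
  obtain ⟨u, hu, c, rfl⟩ := (mem_borel_iff hg).1 hb
  have hu' : (tor T F c)⁻¹ * u * tor T F c ∈ genS hg F (Set.Ico T.N T.n) := by
    have := (Subgroup.mem_normalizer_iff.1 (inv_mem (tor_normalizes (F := F) hg
      (S := Set.Ico T.N T.n) (fun r hr => hr.2) c)) u).1 hu
    rwa [inv_inv] at this
  obtain ⟨v, _, hvw, z, hz, e⟩ := (pos_decomp g _ hL le_rfl).1 _ hu'
  refine ⟨nWd hg F L * tor T F c * (nWd hg F L)⁻¹ * (nWd hg F L * v * (nWd hg F L)⁻¹),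
    mul_mem (mono_torus_borel hg (nWd_mono hg hL) c) (genS_pos_le_borel hg (fun r hr => hr) hvw),
    z, hz, ?_⟩
  calc nWd hg F L * (u * tor T F c)
      = nWd hg F L * tor T F c * ((tor T F c)⁻¹ * u * tor T F c) := by group
    _ = _ := by rw [e]; group

/-- normal form in `P_J` -/
theorem parL_cell (g : T.GoodA) {J : List ℕ} (hJ : ∀ j ∈ J, j < T.l) {x : GL T.D.Idx F}
    (hx : x ∈ parL T F J) :
    ∃ L, T.Wd L ∧ (∀ i ∈ L, i ∈ J) ∧ ∃ b ∈ T.D.borelSubgroup F, ∃ u ∈ uMinus g.toGood F L,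
      x = b * nWd g.toGood F L * u := by
  have hg := g.toGood
  suffices H : ∃ L, T.Wd L ∧ (∀ i ∈ L, i ∈ J) ∧ ∃ b ∈ T.D.borelSubgroup F,
      ∃ b' ∈ T.D.borelSubgroup F, x = b * nWd hg F L * b' by
    obtain ⟨L, hL, hLJ, b, hb, b', hb', rfl⟩ := H
    obtain ⟨b'', hb'', u, hu, e⟩ := nWd_borel_right g hL hb'
    exact ⟨L, hL, hLJ, b * b'', mul_mem hb hb'', u, hu, by
      calc b * nWd hg F L * b' = b * (nWd hg F L * b') := by group
        _ = _ := by rw [e]; group⟩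
  have step : ∀ i ∈ J, ∀ y : GL T.D.Idx F,
      (∃ L, T.Wd L ∧ (∀ i ∈ L, i ∈ J) ∧ ∃ b ∈ T.D.borelSubgroup F,
        ∃ b' ∈ T.D.borelSubgroup F, y = b * nWd hg F L * b') →
      ∃ L, T.Wd L ∧ (∀ i ∈ L, i ∈ J) ∧ ∃ b ∈ T.D.borelSubgroup F,
        ∃ b' ∈ T.D.borelSubgroup F, nG hg F i * y = b * nWd hg F L * b' := by
    rintro i hiJ _ ⟨L, hL, hLJ, b, hb, b', hb', rfl⟩
    obtain ⟨b₁, hb₁, b₂, hb₂, e | e⟩ := nG_borel_mul g (hJ i hiJ) hb (nWd_mono hg hL)
    · refine ⟨i :: L, Wd.cons_iff.2 ⟨hJ i hiJ, hL⟩, ?_, b₁, hb₁, b₂ * b', mul_mem hb₂ hb', ?_⟩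
      · exact List.forall_mem_cons.2 ⟨hiJ, hLJ⟩
      · rw [nWd_cons]
        calc _ = nG hg F i * b * nWd hg F L * b' := by group
          _ = _ := by rw [e]; group
    · refine ⟨L, hL, hLJ, b₁, hb₁, b₂ * b', mul_mem hb₂ hb', ?_⟩
      calc _ = nG hg F i * b * nWd hg F L * b' := by group
        _ = _ := by rw [e]; group
  have left : ∀ z ∈ T.D.borelSubgroup F, ∀ y : GL T.D.Idx F,
      (∃ L, T.Wd L ∧ (∀ i ∈ L, i ∈ J) ∧ ∃ b ∈ T.D.borelSubgroup F,
        ∃ b' ∈ T.D.borelSubgroup F, y = b * nWd hg F L * b') →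
      ∃ L, T.Wd L ∧ (∀ i ∈ L, i ∈ J) ∧ ∃ b ∈ T.D.borelSubgroup F,
        ∃ b' ∈ T.D.borelSubgroup F, z * y = b * nWd hg F L * b' := by
    rintro z hz _ ⟨L, hL, hLJ, b, hb, b', hb', rfl⟩
    exact ⟨L, hL, hLJ, z * b, mul_mem hz hb, b', hb', by group⟩
  have hgen : ∀ z ∈ {x : GL T.D.Idx F | ∃ j ∈ {j | j ∈ J}, j < T.D.rank ∧
      (x : Matrix T.D.Idx T.D.Idx F) = T.D.nMat F (T.D.simple j) 1},
      ∃ i ∈ J, z = nG hg F i := by
    rintro z ⟨j, hjJ, -, hz⟩
    exact ⟨j, hjJ, Units.ext (by rw [nG_val hg (hJ j hjJ), hz, nM])⟩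
  have e : parL T F J = Subgroup.closure ((T.D.borelSubgroup F : Set (GL T.D.Idx F)) ∪
      {x : GL T.D.Idx F | ∃ j ∈ {j | j ∈ J}, j < T.D.rank ∧
        (x : Matrix T.D.Idx T.D.Idx F) = T.D.nMat F (T.D.simple j) 1}) := by
    rw [Subgroup.closure_union, Subgroup.closure_eq]; rfl
  rw [e] at hx
  induction hx using Subgroup.closure_induction_left with
  | one => exact ⟨[], by simp [Wd], by simp, 1, one_mem _, 1, one_mem _, by simp [nWd_nil]⟩
  | mul_left z hz y _ ih =>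
    rcases hz with hz | hz
    · exact left z hz _ ih
    · obtain ⟨i, hi, rfl⟩ := hgen z hz
      exact step i hi _ ih
  | inv_mul_cancel z hz y _ ih =>
    rcases hz with hz | hz
    · exact left _ (inv_mem hz) _ ih
    · obtain ⟨i, hi, rfl⟩ := hgen z hz
      have hii : T.Wd [i, i] := by simp [Wd, hJ i hi]
      obtain ⟨⟨c, hc⟩, -⟩ := nWd_torus_of_pos (F := F) hg _ le_rfl hii fun s h1 h2 => by
        rw [rw'_cons, rw'_cons, rw'_nil, hg.ref_ref (hJ i hi) h2]
        exact h1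
      simp only [nWd_cons, nWd_nil, mul_one] at hc
      have : (nG hg F i)⁻¹ = (tor T F c)⁻¹ * nG hg F i := by
        rw [← hc]; group
      rw [this, mul_assoc]
      exact left _ (inv_mem (torus_le_borel hg c)) _ (step i hi _ ih)

/-- `|P_J| = |B| · Σ_{w ∈ W_J} q ^ inv(w)` -/
theorem card_parL (g : T.GoodA) [Fintype F] {J : List ℕ} (hJ : ∀ j ∈ J, j < T.l) :
    Nat.card (parL T F J) =
      Nat.card (T.D.borelSubgroup F) * poinc g.toGood J (Fintype.card F) := by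
  classical
  have hg := g.toGood
  let Lw : ↥(wJ hg J) → List ℕ := fun w => ((mem_wJ_iff hg).1 w.2).choose
  have hLw : ∀ w : ↥(wJ hg J), T.Wd (Lw w) ∧ (∀ i ∈ Lw w, i ∈ J) ∧ pL hg (Lw w) = w :=
    fun w => ((mem_wJ_iff hg).1 w.2).choose_spec
  let f : (Σ w : ↥(wJ hg J), ↥(T.D.borelSubgroup F) × ↥(uMinus hg F (Lw w))) → ↥(parL T F J) :=
    fun p => ⟨(p.2.1 : GL T.D.Idx F) * nWd hg F (Lw p.1) * p.2.2,
      mul_mem (mul_mem (borel_le_parL J p.2.1.2) (nWd_mem_parL hg (hLw p.1).1 (hLw p.1).2.1))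
        (borel_le_parL J (genS_pos_le_borel hg (fun r hr => hr) (uMinus_le_pos hg _ p.2.2.2)))⟩
  have hf : Function.Bijective f := by
    constructor
    · rintro ⟨w, ⟨b, hb⟩, ⟨u, hu⟩⟩ ⟨w', ⟨b', hb'⟩, ⟨u', hu'⟩⟩ h
      have hn := (mem_monomial_iff (F := F) hg).2 ⟨Lw w, (hLw w).1, 1, rfl⟩
      have hn' := (mem_monomial_iff (F := F) hg).2 ⟨Lw w', (hLw w').1, 1, rfl⟩
      have h' : b * (tor T F 1 * nWd hg F (Lw w)) * u = b' * (tor T F 1 * nWd hg F (Lw w')) * u' := by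
        simpa [f] using congrArg Subtype.val h
      obtain ⟨hd, hsame⟩ := bruhat_unique g hb hb' hn hn' (hLw w).1 rfl hu hu' h'
      rw [diagonalSubgroup_eq hg, map_one, one_mul, one_mul] at hd
      obtain ⟨d, hd⟩ := hd
      obtain ⟨e, he⟩ := torus_pass hg (nWd_mem_wSub (F := F) hg (hLw w).1) d
      obtain rfl : w = w' := Subtype.ext (by
        rw [← (hLw w).2.2, ← (hLw w').2.2, pL_eq_iff hg (hLw w).1 (hLw w').1]
        exact fun s hs => rw'_of_nWd_eq hg (hLw w).1 (hLw w').1 (c := e) (d := 1)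
          (by rw [← he, hd, map_one, one_mul, mul_inv_cancel_left]) hs)
      obtain ⟨rfl, rfl⟩ := hsame rfl rfl
      rfl
    · rintro ⟨x, hx⟩
      obtain ⟨L, hL, hLJ, b, hb, u, hu, rfl⟩ := parL_cell g hJ hx
      let w : ↥(wJ hg J) := ⟨pL hg L, (mem_wJ_iff hg).2 ⟨L, hL, hLJ, rfl⟩⟩
      have hagree := (pL_eq_iff hg (hLw w).1 hL).1 (hLw w).2.2
      obtain ⟨⟨d, hd⟩, -⟩ := nWd_torus_of_pos (F := F) hg _ le_rfl
        (L := L ++ (Lw w).reverse) (Wd.append_iff.2 ⟨hL, (hLw w).1.reverse⟩) (fun s h1 h2 => by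
          have e := rw'_rev' hg (hLw w).1 h2
          rw [hagree _ (rw'_lt hg (hLw w).1.reverse h2)] at e
          rw [rw'_append, e]
          exact h1)
      obtain ⟨e, he⟩ : ∃ e, nWd hg F (Lw w) * nWd hg F (Lw w).reverse = tor T F e := by
        rw [← nWd_append]
        exact (nWd_torus_of_pos (F := F) hg _ le_rfl
          (Wd.append_iff.2 ⟨(hLw w).1, (hLw w).1.reverse⟩) fun s h1 h2 => by
            rw [rw'_append, rw'_rev' hg (hLw w).1 h2]; exact h1).1
      rw [nWd_append] at hd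
      refine ⟨⟨w, ⟨b * (tor T F d * (tor T F e)⁻¹), mul_mem hb (mul_mem
        (torus_le_borel hg _) (inv_mem (torus_le_borel hg _)))⟩,
        ⟨u, by rw [uMinus_congr hg hagree]; exact hu⟩⟩, Subtype.ext ?_⟩
      show b * (tor T F d * (tor T F e)⁻¹) * nWd hg F (Lw w) * u = _
      rw [← hd, ← he]
      group
  rw [← Nat.card_eq_of_bijective f hf, Nat.card_sigma, poinc, Finset.mul_sum,
    ← Finset.sum_coe_sort (wJ hg J)]
  refine Finset.sum_congr rfl fun w _ => ?_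
  rw [Nat.card_prod, (pos_decomp g _ (hLw w).1 le_rfl).2, Nat.card_eq_fintype_card (α := F),
    ← wInv_pL hg (hLw w).1, (hLw w).2.2]

theorem rep_spec {J J' : List ℕ} {D : List Rep} (h : T.checkStep J J' D = true) :
    (∀ i ∈ J', i < T.l) ∧ (∀ i ∈ J, i ∈ J') ∧ (∃ d ∈ D, d.word = []) ∧ (D.map Rep.tag).Nodup ∧
    ∀ d ∈ D, (∀ i ∈ d.word, i ∈ J') ∧ d.tag = keyCode (T.keyL d.word) ∧
      d.len = (T.invSet d.word).card ∧
      (∀ s, T.N ≤ s → s < T.n → T.inPhiB J s = true → T.N ≤ T.rw' d.word.reverse s) ∧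
      d.next.length = J'.length ∧
      ∀ (k i : ℕ) (x : Bool × ℕ), J'[k]? = some i → d.next[k]? = some x →
        if x.1 then ∃ e, D[x.2]? = some e ∧ T.keyL (d.word ++ [i]) = T.keyL e.word
        else x.2 ∈ J ∧ T.keyL (d.word ++ [i]) = T.keyL (x.2 :: d.word) := by
  simp only [checkStep, Bool.and_eq_true, List.all_eq_true, nat_blt, memB_iff, List.any_eq_true]
    at h
  obtain ⟨⟨⟨⟨hl, hsub⟩, ⟨d0, hd0, hd0e⟩⟩, hinc⟩, hrep⟩ := h
  refine ⟨hl, hsub, ⟨d0, hd0, List.isEmpty_iff.1 hd0e⟩, (incB_pairwise hinc).imp fun hab => hab.ne,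
    fun d hd => ?_⟩
  have h := hrep d hd
  simp only [checkRep, Bool.and_eq_true, List.all_eq_true, memB_iff, nat_beq] at h
  obtain ⟨⟨⟨⟨⟨h1, h2⟩, h3⟩, h4⟩, h5⟩, h6⟩ := h
  refine ⟨h1, h2, ?_, fun s a b c => ?_, h5, fun k i x hi hx => ?_⟩
  · rw [h3, List.countP_eq_length_filter,
      ← List.toFinset_card_of_nodup (List.Nodup.filter _ List.nodup_range')]
    congr 1
    ext s
    simp only [List.mem_toFinset, List.mem_filter, List.mem_range'_1, nat_blt, invSet,
      Finset.mem_filter, Finset.mem_Ico]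
    have := n_def (T := T)
    constructor <;> rintro ⟨⟨a, b⟩, c⟩ <;> exact ⟨⟨a, by omega⟩, c⟩
  · have := h4 s (by rw [List.mem_range'_1]; omega)
    simpa [c, nat_ble] using this
  · have hmem : (i, x) ∈ J'.zip d.next :=
      List.mem_of_getElem? (i := k) (List.getElem?_zip_eq_some.2 ⟨hi, hx⟩)
    have := h6 _ hmem
    dsimp only at this
    cases hb : x.1 with
    | true =>
      rw [hb, cond_true] at this
      rcases he : D[x.2]? with _ | e <;> rw [he] at this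
      · exact absurd this Bool.false_ne_true
      · exact (if_pos rfl).mpr ⟨e, rfl, listBeq_iff.1 this⟩
    | false =>
      rw [hb, cond_false, Bool.and_eq_true, memB_iff] at this
      exact (if_neg Bool.false_ne_true).mpr ⟨this.1, listBeq_iff.1 this.2⟩

/-- the nodes of a word agree after a change to one with the same images of the simple roots -/
theorem nWd_of_key (g : T.Good) {A B : List ℕ} (hA : T.Wd A) (hB : T.Wd B)
    (h : T.keyL A = T.keyL B) : ∃ c, nWd g F A = tor T F c * nWd g F B := by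
  have hag := (pL_eq_iff g hA hB).1 (pL_eq_of_simple g hA hB (keyL_eq.1 h))
  obtain ⟨⟨c, hc⟩, -⟩ := nWd_torus_of_pos (F := F) g _ le_rfl
    (L := A ++ B.reverse) (Wd.append_iff.2 ⟨hA, hB.reverse⟩) (fun s h1 h2 => by
      rw [rw'_append, hag _ (rw'_lt g hB.reverse h2), rw'_rev' g hB h2]
      exact h1)
  obtain ⟨⟨e, he⟩, -⟩ := nWd_torus_of_pos (F := F) g _ le_rfl
    (L := B ++ B.reverse) (Wd.append_iff.2 ⟨hB, hB.reverse⟩) (fun s h1 h2 => by
      rw [rw'_append, rw'_rev' g hB h2]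
      exact h1)
  rw [nWd_append] at hc he
  exact ⟨c * e⁻¹, by rw [map_mul, map_inv, ← hc, ← he]; group⟩

theorem parL_rep (g : T.GoodA) {J J' : List ℕ} {D : List Rep} (h : T.checkStep J J' D = true)
    {x : GL T.D.Idx F} (hx : x ∈ parL T F J') :
    ∃ p ∈ parL T F J, ∃ d ∈ D, ∃ u ∈ uMinus g.toGood F d.word,
      x = p * nWd g.toGood F d.word * u := by
  have hg := g.toGood
  obtain ⟨hl, hsub, ⟨d0, hd0, hd0'⟩, -, hD⟩ := rep_spec h
  have hDw : ∀ d ∈ D, T.Wd d.word := fun d hd i hi => hl i ((hD d hd).1 i hi)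
  have hex : ∀ L : List ℕ, (∀ i ∈ L, i ∈ J') →
      ∃ v ∈ parL T F J, ∃ d ∈ D, nWd hg F L = v * nWd hg F d.word := by
    intro L
    induction L using List.reverseRecOn with
    | nil => exact fun _ => ⟨1, one_mem _, d0, hd0, by rw [hd0', one_mul]⟩
    | append_singleton L i ih =>
      intro hL
      obtain ⟨v, hv, d, hd, e⟩ := ih fun y hy => hL y (List.mem_append_left _ hy)
      obtain ⟨-, -, -, -, hlen, hnext⟩ := hD d hd
      obtain ⟨k, hk, hki⟩ := List.getElem_of_mem (hL i (by simp))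
      have hspec := hnext k i (d.next[k]'(hlen ▸ hk)) (by rw [List.getElem?_eq_getElem hk, hki])
        (List.getElem?_eq_getElem _)
      have hwi : T.Wd (d.word ++ [i]) :=
        Wd.append_iff.2 ⟨hDw d hd, by simp [Wd, hl i (hL i (by simp))]⟩
      have e' : nWd hg F (L ++ [i]) = v * nWd hg F (d.word ++ [i]) := by
        rw [nWd_append, nWd_append, e, mul_assoc]
      split at hspec
      · obtain ⟨d', hd', hk'⟩ := hspec
        obtain ⟨c, hc⟩ := nWd_of_key (F := F) hg hwi (hDw d' (List.mem_of_getElem? hd')) hk'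
        exact ⟨v * tor T F c, mul_mem hv (borel_le_parL J (torus_le_borel hg c)), d',
          List.mem_of_getElem? hd', by rw [e', hc, mul_assoc]⟩
      · obtain ⟨hjJ, hk'⟩ := hspec
        have hjl := hl _ (hsub _ hjJ)
        obtain ⟨c, hc⟩ := nWd_of_key (F := F) hg hwi (Wd.cons_iff.2 ⟨hjl, hDw d hd⟩) hk'
        exact ⟨v * (tor T F c * nG hg F _),
          mul_mem hv (mul_mem (borel_le_parL J (torus_le_borel hg c)) (nG_mem_parL hg hjl hjJ)),
          d, hd, by rw [e', hc, nWd_cons]; group⟩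
  obtain ⟨L, -, hLJ, b, hb, u, hu, rfl⟩ := parL_cell g hl hx
  obtain ⟨v, hv, d, hd, e⟩ := hex L hLJ
  obtain ⟨b', hb', z, hz, e2⟩ := nWd_borel_right g (hDw d hd)
    (genS_pos_le_borel hg (fun r hr => hr) (uMinus_le_pos hg _ hu))
  refine ⟨b * v * b', mul_mem (mul_mem (borel_le_parL J hb) hv) (borel_le_parL J hb'), d, hd, z, hz,
    ?_⟩
  calc b * nWd hg F L * u = b * v * (nWd hg F d.word * u) := by rw [e]; group
    _ = _ := by rw [e2]; group

theorem parL_rep_unique (g : T.GoodA) {J J' : List ℕ} {D : List Rep}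
    (h : T.checkStep J J' D = true) {d d' : Rep} (hd : d ∈ D) (hd' : d' ∈ D)
    {p u u' : GL T.D.Idx F} (hp : p ∈ parL T F J) (hu : u ∈ uMinus g.toGood F d.word)
    (hu' : u' ∈ uMinus g.toGood F d'.word)
    (he : nWd g.toGood F d.word * u = p * nWd g.toGood F d'.word * u') : d = d' ∧ u = u' := by
  have hg := g.toGood
  obtain ⟨hl, hsub, -, hnodup, hD⟩ := rep_spec h
  obtain ⟨hd1, hd2, hd3, hd4, -⟩ := hD d hd
  obtain ⟨hd1', hd2', hd3', hd4', -⟩ := hD d' hd'
  have hdw : T.Wd d.word := fun i hi => hl i (hd1 i hi)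
  have hdw' : T.Wd d'.word := fun i hi => hl i (hd1' i hi)
  obtain ⟨w, hw, hwJ, b, hb, z, hz, rfl⟩ := parL_cell g (fun j hj => hl j (hsub j hj)) hp
  have hwd : T.Wd (w ++ d'.word) := Wd.append_iff.2 ⟨hw, hdw'⟩
  have hin : ∀ r, T.N ≤ r → r < T.n → T.rw' w r < T.N → T.N ≤ T.rw' d'.word.reverse r := by
    intro r h1 h2 h3
    refine hd4' r h1 h2 ?_
    by_contra hout
    have := rw'_pos_outside hg hw hwJ h1 h2 (Bool.eq_false_iff.2 hout)
    omega
  obtain ⟨y, hy, hyz⟩ : ∃ y ∈ uMinus hg F (w ++ d'.word),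
      nWd hg F d'.word * y * (nWd hg F d'.word)⁻¹ = z := by
    have : uMinus hg F w ≤
        (uMinus hg F (w ++ d'.word)).map (MulAut.conj (nWd hg F d'.word)).toMonoidHom := by
      rw [uMinus, uMinus, genS_map_nWd hg hdw' fun r hr => hr.2.1]
      refine genS_mono hg fun r hr => ?_
      obtain ⟨h1, h2, h3⟩ := hr
      exact ⟨T.rw' d'.word.reverse r, ⟨hin r h1 h2 h3, rw'_lt hg hdw'.reverse h2, by
        rw [rw'_append, rw'_rev' hg hdw' h2]; exact h3⟩, rw'_rev' hg hdw' h2⟩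
    obtain ⟨y, hy, hyz⟩ := this hz
    exact ⟨y, hy, hyz⟩
  have hsub' : uMinus hg F d'.word ≤ uMinus hg F (w ++ d'.word) := by
    refine genS_mono hg fun s hs => ?_
    obtain ⟨h1, h2, h3⟩ := hs
    refine ⟨h1, h2, ?_⟩
    rw [rw'_append]
    have hq := rw'_lt hg hdw' h2
    have htn := neg_lt hq
    have ht := (N_le_neg_iff hq).2 h3
    have hout : T.inPhiB J (T.neg (T.rw' d'.word s)) = false := by
      refine Bool.eq_false_iff.2 fun hh => ?_
      have := hd4' _ ht htn hh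
      rw [rw'_neg hg hdw'.reverse hq, rw'_rev hg hdw' h2, N_le_neg_iff h2] at this
      omega
    have := rw'_pos_outside hg hw hwJ ht htn hout
    rwa [rw'_neg hg hw hq, N_le_neg_iff (rw'_lt hg hw hq)] at this
  have hmain : (1 : GL T.D.Idx F) * nWd hg F d.word * u =
      b * nWd hg F (w ++ d'.word) * (y * u') := by
    rw [one_mul, he, ← hyz, nWd_append]; group
  obtain ⟨hdiag, -⟩ := bruhat_unique g (one_mem _) hb (nWd_mono hg hdw) (nWd_mono hg hwd) hdw
    (c := 1) (by rw [map_one, one_mul]) hu (mul_mem hy (hsub' hu')) hmain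
  rw [diagonalSubgroup_eq hg] at hdiag
  obtain ⟨c, hc⟩ := hdiag
  obtain ⟨e, hec⟩ := torus_pass hg (nWd_mem_wSub (F := F) hg hdw) c
  have hag : ∀ s < T.n, T.rw' d.word s = T.rw' (w ++ d'.word) s := fun s hs =>
    rw'_of_nWd_eq hg hdw hwd (c := e) (d := 1)
      (by rw [← hec, hc, map_one, one_mul, mul_inv_cancel_left]) hs
  have hinv : ∀ A B : List ℕ, (∀ s < T.n, T.rw' A s = T.rw' B s) →
      T.invSet A = T.invSet B := by
    intro A B hAB
    ext s
    simp only [invSet, Finset.mem_filter, Finset.mem_Ico, and_congr_right_iff]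
    intro hs
    rw [hAB s hs.2]
  have hag' : ∀ s < T.n, T.rw' d'.word s = T.rw' (w.reverse ++ d.word) s := fun s hs => by
    rw [rw'_append, hag s hs, rw'_append, rw'_rev hg hw (rw'_lt hg hdw' hs)]
  have a1 := invSet_add hg hw hdw' hwJ hd4'
  rw [← hinv _ _ hag] at a1
  have a2 := invSet_add hg hw.reverse hdw (fun i hi => hwJ i (List.mem_reverse.1 hi)) hd4
  rw [← hinv _ _ hag'] at a2
  have h0 : (T.invSet w).card = 0 := by omega
  have hpos := invSet_empty hg h0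
  obtain ⟨⟨t, ht⟩, hid⟩ := nWd_torus_of_pos (F := F) hg _ le_rfl hw hpos
  have hid' : ∀ s < T.n, T.rw' w s = s := fun s hs => hid s hs
  have hagd : ∀ i < T.l, T.rw' d.word (T.smp i) = T.rw' d'.word (T.smp i) := fun i hi => by
    rw [hag _ (hg.smp_lt hi), rw'_append, hid' _ (rw'_lt hg hdw' (hg.smp_lt hi))]
  obtain rfl : d = d' := List.inj_on_of_nodup_map hnodup hd hd'
    (by rw [hd2, hd2', keyL_eq.2 hagd])
  have hz1 : z = 1 := by
    have : uMinus hg F w = ⊥ := le_bot_iff.1 (genS_le hg fun r hr _ => by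
      have := hpos r hr.1 hr.2.1
      have := hr.2.2
      omega)
    rwa [this, Subgroup.mem_bot] at hz
  subst hz1
  rw [ht, mul_one] at he
  obtain ⟨-, hsame⟩ := bruhat_unique g (one_mem _) (mul_mem hb (torus_le_borel hg t))
    (nWd_mono hg hdw) (nWd_mono hg hdw) hdw (c := 1) (by rw [map_one, one_mul]) hu hu'
    (by rw [one_mul, he])
  exact ⟨rfl, (hsame rfl rfl).2⟩

open scoped Classical in
/-- An orbit of `P_K` on the cosets of `P_J` is a union of cells, closed under the letters of `K`. -/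
theorem parL_orbit (g : T.GoodA) [Fintype F] {J J' K : List ℕ} {D : List Rep}
    (h : T.checkStep J J' D = true) (hKJ : ∀ i ∈ K, i ∈ J') {x : GL T.D.Idx F}
    (hx : x ∈ parL T F J') :
    ∃ O : Finset (Fin D.length),
      (∀ m ∈ O, ∀ (k i : ℕ) (e : Fin D.length), J'[k]? = some i → i ∈ K →
        (D[(m : ℕ)]).next[k]? = some (true, (e : ℕ)) → e ∈ O) ∧
      Nat.card (MulAction.orbit ↥(parL T F K) (x : GL T.D.Idx F ⧸ parL T F J)) =
        ∑ m ∈ O, Fintype.card F ^ (D[(m : ℕ)]).len := by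
  have hg := g.toGood
  obtain ⟨hl, hsub, -, hnodup, hD⟩ := rep_spec h
  have hDw : ∀ d ∈ D, T.Wd d.word := fun d hd i hi => hl i ((hD d hd).1 i hi)
  have huK : ∀ {L : List ℕ} {u : GL T.D.Idx F}, u ∈ uMinus hg F L → u ∈ parL T F K :=
    fun hu => borel_le_parL K (genS_pos_le_borel hg (fun r hr => hr) (uMinus_le_pos hg _ hu))
  let pt : Fin D.length → GL T.D.Idx F ⧸ parL T F J := fun m => ((nWd hg F (D[(m : ℕ)]).word)⁻¹ : _)
  let S := MulAction.orbit ↥(parL T F K) (x : GL T.D.Idx F ⧸ parL T F J)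
  let O : Finset (Fin D.length) := Finset.univ.filter fun m => pt m ∈ S
  have hSmul : ∀ a ∈ parL T F K, ∀ y : GL T.D.Idx F, (y : GL T.D.Idx F ⧸ parL T F J) ∈ S →
      ((a * y : GL T.D.Idx F) : GL T.D.Idx F ⧸ parL T F J) ∈ S := by
    intro a ha y hy
    have := MulAction.mem_orbit_of_mem_orbit (⟨a, ha⟩ : ↥(parL T F K)) hy
    exact this
  refine ⟨O, ?_, ?_⟩
  · intro m hm k i e hi hiK hnx
    simp only [O, Finset.mem_filter, Finset.mem_univ, true_and] at hm ⊢
    have hd : D[(m : ℕ)] ∈ D := List.getElem_mem _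
    have hspec := (hD _ hd).2.2.2.2.2 k i _ hi hnx
    obtain ⟨d', hd', hk'⟩ := (if_pos rfl).mp hspec
    obtain rfl : D[(e : ℕ)] = d' := by
      rw [List.getElem?_eq_getElem e.isLt] at hd'
      exact Option.some_injective _ hd'
    have hil := hl i (hKJ i hiK)
    obtain ⟨c, hc⟩ := nWd_of_key (F := F) hg
      (Wd.append_iff.2 ⟨hDw _ hd, by simp [Wd, hil]⟩) (hDw _ (List.getElem_mem _)) hk'
    rw [nWd_snoc] at hc
    have h1 := hSmul _ (inv_mem (nG_mem_parL hg hil hiK)) _ hm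
    rw [← mul_inv_rev, hc, mul_inv_rev] at h1
    have e' : (((nWd hg F (D[(e : ℕ)]).word)⁻¹ * (tor T F c)⁻¹ : GL T.D.Idx F) :
        GL T.D.Idx F ⧸ parL T F J) = pt e :=
      QuotientGroup.mk_mul_of_mem _ (inv_mem (borel_le_parL J (torus_le_borel hg c)))
    rwa [e'] at h1
  · let f : (Σ m : ↥O, ↥(uMinus hg F (D[(m.1 : ℕ)]).word)) → ↥S := fun p =>
      ⟨(((p.2 : GL T.D.Idx F)⁻¹ * (nWd hg F (D[(p.1.1 : ℕ)]).word)⁻¹ : GL T.D.Idx F) : _),
        hSmul _ (inv_mem (huK p.2.2)) _ (by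
          have := p.1.2
          simp only [O, Finset.mem_filter, Finset.mem_univ, true_and] at this
          exact this)⟩
    have hf : Function.Bijective f := by
      constructor
      · rintro ⟨⟨m, hm⟩, u, hu⟩ ⟨⟨m', hm'⟩, u', hu'⟩ heq
        have h1 := QuotientGroup.eq.1 (congrArg Subtype.val heq)
        obtain ⟨e1, e2⟩ := parL_rep_unique g h (List.getElem_mem m.isLt) (List.getElem_mem m'.isLt)
          h1 hu hu' (by
            show nWd hg F (D[(m : ℕ)]).word * u = _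
            group)
        obtain rfl : m = m' := Fin.ext <|
          (List.Nodup.getElem_inj_iff (List.Nodup.of_map _ hnodup)).1 e1
        subst e2
        rfl
      · rintro ⟨s, hs⟩
        obtain ⟨⟨a, ha⟩, rfl⟩ := hs
        have ha' : a ∈ parL T F J' := by
          refine parL_le hg (borel_le_parL J') (fun j hj hjK => nG_mem_parL hg hj (hKJ j hjK)) ha
        obtain ⟨p, hp, d, hd, u, hu, e⟩ := parL_rep g h (inv_mem (mul_mem ha' hx))
        obtain ⟨m, hm, rfl⟩ := List.getElem_of_mem hd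
        have e' : a * x = u⁻¹ * (nWd hg F (D[(m : ℕ)]).word)⁻¹ * p⁻¹ := by
          rw [← inv_inv (a * x), e]; group
        have hs' : ((u⁻¹ * (nWd hg F (D[(m : ℕ)]).word)⁻¹ : GL T.D.Idx F) :
            GL T.D.Idx F ⧸ parL T F J) = ((a * x : GL T.D.Idx F) : _) := by
          rw [e', QuotientGroup.mk_mul_of_mem _ (inv_mem hp)]
        have hmO : (⟨m, hm⟩ : Fin D.length) ∈ O := by
          simp only [O, Finset.mem_filter, Finset.mem_univ, true_and]
          have h1 := hSmul _ (huK hu) (u⁻¹ * (nWd hg F (D[(m : ℕ)]).word)⁻¹) (by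
            rw [hs']; exact hSmul a ha x (MulAction.mem_orbit_self _))
          rwa [mul_inv_cancel_left] at h1
        exact ⟨⟨⟨⟨m, hm⟩, hmO⟩, ⟨u, hu⟩⟩, Subtype.ext hs'⟩
    rw [← Nat.card_eq_of_bijective f hf, Nat.card_sigma, ← Finset.sum_coe_sort O]
    refine Finset.sum_congr rfl fun m _ => ?_
    rw [(pos_decomp g _ (hDw _ (List.getElem_mem m.1.isLt)) le_rfl).2,
      Nat.card_eq_fintype_card (α := F)]
    show _ = Fintype.card F ^ (D[m.1.1]).len
    rw [(hD _ (List.getElem_mem m.1.isLt)).2.2.1]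

end Tab

end Cfsg.Agent.Chev
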