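import Cfsg.Agent.Lib.Lie.ChevOrder
import Cfsg.Agent.Lib.Lie.TabD4

/-! Certificates for the order in type D4. -/

set_option autoImplicit false
set_option maxRecDepth 20000

namespace Cfsg.Agent.Chev.D4Data

/-- representatives -/
def reps0 : List Tab.Rep :=
  [⟨[], 0, 302910732, [(true, 1)]⟩,
   ⟨[3], 1, 302976267, [(true, 0)]⟩]

/-- representatives -/
def reps1 : List Tab.Rep :=
  [⟨[], 0, 302910732, [(false, 3), (true, 1)]⟩,
   ⟨[1], 1, 319361039, [(true, 2), (true, 0)]⟩,
   ⟨[1, 3], 2, 319557640, [(true, 1), (false, 3)]⟩]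

/-- representatives -/
def reps2 : List Tab.Rep :=
  [⟨[], 0, 302910732, [(false, 3), (false, 1), (true, 1)]⟩,
   ⟨[2], 1, 303041036, [(false, 3), (true, 2), (true, 0)]⟩,
   ⟨[2, 1], 2, 352783889, [(true, 3), (true, 1), (false, 1)]⟩,
   ⟨[2, 1, 3], 3, 353111558, [(true, 2), (false, 3), (false, 1)]⟩]

/-- representatives -/
def reps3 : List Tab.Rep :=
  [⟨[0, 1, 2, 3, 1, 0], 6, 920589, [(false, 2), (false, 1), (false, 3), (true, 7)]⟩,
   ⟨[0], 1, 85134604, [(false, 3), (true, 2), (false, 2), (true, 6)]⟩,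
   ⟨[0, 1], 2, 235148564, [(true, 3), (true, 1), (true, 4), (false, 1)]⟩,
   ⟨[0, 1, 3], 3, 235672835, [(true, 2), (false, 3), (true, 5), (false, 1)]⟩,
   ⟨[0, 1, 2], 3, 235733524, [(true, 5), (false, 2), (true, 2), (false, 1)]⟩,
   ⟨[0, 1, 2, 3], 4, 236323331, [(true, 4), (true, 7), (true, 3), (false, 1)]⟩,
   ⟨[], 0, 302910732, [(false, 3), (false, 1), (false, 2), (true, 1)]⟩,
   ⟨[0, 1, 2, 3, 1], 5, 385944589, [(false, 2), (true, 5), (false, 3), (true, 0)]⟩]

/-- the steps -/
def steps : List (ℕ × List Tab.Rep) :=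
  [(3, reps0), (1, reps1), (2, reps2), (0, reps3)]

/-- torus certificate -/
def cert : Tab.TorCert :=
  ⟨2, 2, fun a b => ([[0, 0, 1, 1], [1, 0, 0, 1]].getD a []).getD b 0, fun a b => ([[1, -1, 0, 1], [0, -1, 1, 1]].getD a []).getD b 0, fun a b => ([[1, 1, 0, 0], [1, 2, 1, 1], [0, 1, 1, 0], [0, 1, 0, 0]].getD a []).getD b 0, fun a b => ([[1, 0, 0, 1], [0, 0, 1, 1]].getD a []).getD b 0⟩

theorem step0 : tab.checkStep [] [3] reps0 = true := by decide +kernel

theorem step1 : tab.checkStep [3] [3, 1] reps1 = true := by decide +kernel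

theorem step2 : tab.checkStep [3, 1] [3, 1, 2] reps2 = true := by decide +kernel

theorem step3 : tab.checkStep [3, 1, 2] [3, 1, 2, 0] reps3 = true := by decide +kernel

theorem chainOK : tab.checkChain [] steps = true := by
  simp only [steps, Tab.checkChain, List.nil_append, List.cons_append, Bool.and_eq_true]
  exact ⟨step0, step1, step2, step3, by decide +kernel⟩

theorem torOK : tab.checkTor cert = true := by decide +kernel

theorem polyOK : tab.checkPoly steps [2, 4, 4, 6] = true := by decide +kernel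

end Cfsg.Agent.Chev.D4Data
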