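import Cfsg.Agent.Lib.Lie.ChevWeyl
import Cfsg.Prelude.Def_LieExceptional

/-! The Tits system `(B, N)` of a tabulated Chevalley group. -/

set_option autoImplicit false

namespace Cfsg.Agent.Chev

open Cfsg.Lie
open Matrix hiding zpow_mul inv_zpow mul_inv_rev zpow_add zpow_neg

namespace Tab

variable {T : Tab} {F : Type*} [Field F]

theorem torus_le_borel (g : T.Good) (c : ℕ → Fˣ) : tor T F c ∈ T.D.borelSubgroup F :=
  Subgroup.mem_sup_right (by rw [diagonalSubgroup_eq g]; exact ⟨c, rfl⟩)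

theorem pos_le_borel (g : T.Good) {r : ℕ} (hr : T.N ≤ r) (hrn : r < T.n) (t : F) :
    xg g r t ∈ T.D.borelSubgroup F :=
  Subgroup.mem_sup_left (Subgroup.subset_closure ⟨r, t, (g.isPosRoot_iff r).2 ⟨hr, hrn⟩, rfl⟩)

theorem genS_pos_le_borel (g : T.Good) {S : Set ℕ} (hS : ∀ r ∈ S, T.N ≤ r ∧ r < T.n) :
    genS g F S ≤ T.D.borelSubgroup F :=
  genS_le g fun r hr t => pos_le_borel g (hS r hr).1 (hS r hr).2 t

theorem torus_le_monomial (g : T.Good) (c : ℕ → Fˣ) : tor T F c ∈ T.D.monomialSubgroup F :=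
  (mem_monomial_iff g).2 ⟨[], by simp [Wd], c, by simp⟩

theorem nG_mem_monomial (g : T.Good) {i : ℕ} (hi : i < T.l) :
    nG g F i ∈ T.D.monomialSubgroup F :=
  (mem_monomial_iff g).2 ⟨[i], by simp [Wd, hi], 1, by simp [nWd]⟩

theorem borel_le_group (g : T.Good) : T.D.borelSubgroup F ≤ T.D.group F := by
  refine sup_le ((Subgroup.closure_le _).2 ?_) ?_
  · rintro x ⟨r, t, hr, hx⟩
    rw [eq_xg g hx]
    exact xg_mem_group g r t
  · rw [diagonalSubgroup_eq g]
    rintro x ⟨c, rfl⟩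
    exact tor_mem_group g c

theorem monomial_le_group (g : T.Good) : T.D.monomialSubgroup F ≤ T.D.group F := by
  intro x hx
  obtain ⟨L, -, c, rfl⟩ := (mem_monomial_iff g).1 hx
  refine mul_mem (tor_mem_group g c) (Subgroup.list_prod_mem _ fun y hy => ?_)
  obtain ⟨i, -, rfl⟩ := List.mem_map.1 hy
  exact nG_mem_group g i

theorem group_le_of_simple (g : T.Good) {K : Subgroup (GL T.D.Idx F)}
    (hp : ∀ i < T.l, ∀ t : F, xg g (T.smp i) t ∈ K) (hn : ∀ i < T.l, nG g F i ∈ K) :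
    T.D.group F ≤ K := by
  refine (Subgroup.closure_le _).2 ?_
  rintro x ⟨⟨r, hr⟩, t, hx⟩
  have hr' : r < T.n := by rwa [← g.nroots_eq]
  have hx' : x = xg g r t := eq_xg g (by rw [hx, ChevalleyDatum.x, dif_pos hr])
  rw [hx']
  revert t
  suffices h : ∀ r < T.n, ∀ t : F, xg g r t ∈ K from fun t _ _ => h r hr' t
  refine root_induction g hp (fun i hi s hs ih t => ?_)
  have h := mul_mem (mul_mem (hn i hi) (ih ((T.eta i s : F) * t))) (inv_mem (hn i hi))
  rwa [nG_conj g hi hs, ← mul_assoc, eta_sq, one_mul] at h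

theorem group_eq_sup (g : T.Good) :
    T.D.borelSubgroup F ⊔ T.D.monomialSubgroup F = T.D.group F :=
  le_antisymm (sup_le (borel_le_group g) (monomial_le_group g))
    (group_le_of_simple g (fun i hi t => Subgroup.mem_sup_left (pos_le_borel g (g.smp_ge hi) (g.smp_lt hi) t))
      fun i hi => Subgroup.mem_sup_right (nG_mem_monomial g hi))

/-- `u = u' x_p(a)` with `u'` free of `p`. -/
theorem pos_split (g : T.GoodA) {i : ℕ} (hi : i < T.l) {u : GL T.D.Idx F}
    (hu : u ∈ genS g.toGood F (Set.Ico T.N T.n)) :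
    ∃ u' ∈ genS g.toGood F (T.posExc i), ∃ a : F, u = u' * xg g.toGood (T.smp i) a := by
  refine genS_induction g.toGood (p := fun u => ∃ u' ∈ genS g.toGood F (T.posExc i), ∃ a : F,
    u = u' * xg g.toGood (T.smp i) a) ⟨1, one_mem _, 0, by simp⟩ ?_ hu
  rintro r hr t _ ⟨u', hu', a, rfl⟩
  by_cases h : r = T.smp i
  · subst h
    refine ⟨xg g.toGood (T.smp i) t * u' * (xg g.toGood (T.smp i) t)⁻¹, ?_, t + a, ?_⟩
    · exact (Subgroup.mem_normalizer_iff.1
        (posExc_normalized g hi (g.toGood.smp_ge hi) (g.toGood.smp_lt hi) t) u').1 hu'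
    · rw [← xg_add]; group
  · exact ⟨xg g.toGood r t * u',
      mul_mem (xg_mem_genS g.toGood (S := T.posExc i) (r := r) ⟨hr.1, hr.2, h⟩ t) hu', a, by group⟩

/-- The double coset axiom. -/
theorem nG_borel_mul (g : T.GoodA) {i : ℕ} (hi : i < T.l) {b n : GL T.D.Idx F}
    (hb : b ∈ T.D.borelSubgroup F) (hn : n ∈ T.D.monomialSubgroup F) :
    ∃ b₁ ∈ T.D.borelSubgroup F, ∃ b₂ ∈ T.D.borelSubgroup F,
      nG g.toGood F i * b * n = b₁ * (nG g.toGood F i * n) * b₂ ∨
      nG g.toGood F i * b * n = b₁ * n * b₂ := by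
  have hg := g.toGood
  obtain ⟨u, hu, c, rfl⟩ := (mem_borel_iff hg).1 hb
  obtain ⟨u', hu', a, rfl⟩ := pos_split g hi hu
  obtain ⟨L, hL, d, hd⟩ := (mem_monomial_iff hg).1 (inv_mem hn)
  have hH : n⁻¹ * tor T F c * n ∈ T.D.borelSubgroup F := by
    rw [hd, show n = (tor T F d * nWd hg F L)⁻¹ by rw [← hd, inv_inv]]
    obtain ⟨e, he⟩ := wSub_conj_torus hg (nWd_mem_wSub hg hL) c
    rw [show tor T F d * nWd hg F L * tor T F c * (tor T F d * nWd hg F L)⁻¹ =
      tor T F d * (nWd hg F L * tor T F c * (nWd hg F L)⁻¹) * (tor T F d)⁻¹ by group, he]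
    exact mul_mem (mul_mem (torus_le_borel hg _) (torus_le_borel hg _)) (inv_mem (torus_le_borel hg _))
  set P := nG hg F i * u' * (nG hg F i)⁻¹ with hP
  have hPB : P ∈ T.D.borelSubgroup F := by
    refine genS_pos_le_borel hg (S := T.posExc i) (fun r hr => ⟨hr.1, hr.2.1⟩) ?_
    exact (Subgroup.mem_normalizer_iff.1
      (nG_normalizes hg hi (fun r hr => hr.2.1) fun r hr => ref_posExc hg hi hr) u').1 hu'
  have e0 : nG hg F i * (u' * xg hg (T.smp i) a * tor T F c) * n =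
      P * (nG hg F i * xg hg (T.smp i) a * n) * (n⁻¹ * tor T F c * n) := by rw [hP]; group
  have hq := g.smp_lt hi
  obtain ⟨v, hv⟩ := mono_conj (F := F) hg hL d hq
  have hn_ : ∀ t : F, n⁻¹ * xg hg (T.smp i) t * n = xg hg (T.rw' L (T.smp i)) ((v : F) * t) := by
    intro t
    have h := hv t
    rwa [← hd, inv_inv] at h
  by_cases hsign : T.N ≤ T.rw' L (T.smp i) ∨ a = 0
  · refine ⟨P, hPB, xg hg (T.rw' L (T.smp i)) ((v : F) * a) * (n⁻¹ * tor T F c * n), ?_, Or.inl ?_⟩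
    · refine mul_mem ?_ hH
      rcases hsign with h | rfl
      · exact pos_le_borel hg h (rw'_lt hg hL hq) _
      · simp
    · rw [e0, ← hn_ a]; group
  push Not at hsign
  obtain ⟨hneg, ha⟩ := hsign
  obtain ⟨w, hw⟩ : ∃ w : Fˣ, (w : F) = a⁻¹ := ⟨Units.mk0 a⁻¹ (inv_ne_zero ha), rfl⟩
  have hnegroot : T.N ≤ T.neg (T.rw' L (T.smp i)) :=
    (N_le_neg_iff (rw'_lt hg hL hq)).2 hneg
  obtain ⟨v', hv'⟩ := mono_conj (F := F) hg hL d (neg_lt hq)
  have hn' : n⁻¹ * xg hg (T.neg (T.smp i)) (w : F) * n ∈ T.D.borelSubgroup F := by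
    have h := hv' (w : F)
    rw [← hd, inv_inv, rw'_neg hg hL hq] at h
    rw [h]
    exact pos_le_borel hg hnegroot (neg_lt (rw'_lt hg hL hq)) _
  obtain ⟨e, he⟩ := wSub_conj_torus hg (nWd_mem_wSub hg hL) (Pi.mulSingle i (-1 : Fˣ))
  have hh : n⁻¹ * hS T F i (-1) * n ∈ T.D.borelSubgroup F := by
    rw [hd, show n = (tor T F d * nWd hg F L)⁻¹ by rw [← hd, inv_inv], hS_eq_tor,
      show ∀ a b x : GL T.D.Idx F, a * b * x * (a * b)⁻¹ = a * (b * x * b⁻¹) * a⁻¹ from
        fun a b x => by group, he]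
    exact mul_mem (mul_mem (torus_le_borel hg _) (torus_le_borel hg _)) (inv_mem (torus_le_borel hg _))
  have h1 : nG hg F i * xg hg (T.smp i) a = xg hg (T.neg (T.smp i)) (-a) * nG hg F i := by
    rw [← mul_inv_eq_iff_eq_mul, nG_conj hg hi hq, hg.ref_smp hi, hg.eta_smp hi]
    congr 1
    push_cast
    ring
  have h2 : xg hg (T.neg (T.smp i)) (-a) =
      xg hg (T.smp i) (-(w : F)) * (hS T F i w * nG hg F i) * xg hg (T.smp i) (-(w : F)) := by
    rw [← nE_simple hg hi w, hw, inv_inv, ← xg_inv hg (T.smp i)]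
    group
  have h3 : nG hg F i * xg hg (T.smp i) (-(w : F)) * nG hg F i =
      xg hg (T.neg (T.smp i)) (w : F) * hS T F i (-1) := by
    rw [← nG_sq hg hi, ← mul_assoc, mul_inv_eq_iff_eq_mul.1 (nG_conj hg hi hq (-(w : F))),
      hg.ref_smp hi, hg.eta_smp hi]
    congr 3
    push_cast
    ring
  refine ⟨P * (xg hg (T.smp i) (-(w : F)) * hS T F i w),
    mul_mem hPB (mul_mem (pos_le_borel hg (hg.smp_ge hi) hq _) (torus_le_borel hg _)),
    (n⁻¹ * xg hg (T.neg (T.smp i)) (w : F) * n) * (n⁻¹ * hS T F i (-1) * n) * (n⁻¹ * tor T F c * n),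
    mul_mem (mul_mem hn' hh) hH, Or.inr ?_⟩
  rw [e0, h1, h2]
  calc _ = P * (xg hg (T.smp i) (-(w : F)) * hS T F i w) *
        (nG hg F i * xg hg (T.smp i) (-(w : F)) * nG hg F i) * n * (n⁻¹ * tor T F c * n) := by group
    _ = _ := by rw [h3]; group

theorem nG_conj_not_borel (g : T.Good) {i : ℕ} (hi : i < T.l) :
    nG g F i * xg g (T.smp i) (1 : F) * nG g F i ∉ T.D.borelSubgroup F := by
  intro h
  rw [mul_inv_eq_iff_eq_mul.1 (nG_conj g hi (g.smp_lt hi) (1 : F)), mul_assoc, nG_sq g hi,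
    g.ref_smp hi] at h
  have h' := mul_mem h (inv_mem (torus_le_borel g (Pi.mulSingle i (-1 : Fˣ))))
  rw [hS_eq_tor, mul_inv_cancel_right] at h'
  have h1 := borel_inf_neg g h' (xg_mem_genS g (S := Set.Iio T.N)
    ((neg_lt_N_iff (g.smp_lt hi)).2 (g.smp_ge hi)) _)
  rw [← xg_zero g (T.neg (T.smp i))] at h1
  have := xg_injective g (neg_lt (g.smp_lt hi)) h1
  simp [g.eta_smp hi] at this

/-- The representatives of the fundamental reflections. -/
def sSet (g : T.Good) (F : Type*) [Field F] : Set ↥(T.D.group F) :=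
  {n | ∃ i < T.D.rank, ((n : GL T.D.Idx F) : Matrix T.D.Idx T.D.Idx F) = T.D.nMat F (T.D.simple i) 1}

theorem mem_sSet_iff (g : T.Good) {n : ↥(T.D.group F)} :
    n ∈ sSet g F ↔ ∃ i < T.l, (n : GL T.D.Idx F) = nG g F i := by
  constructor
  · rintro ⟨i, hi, h⟩
    rw [g.rank_eq] at hi
    exact ⟨i, hi, Units.ext (by rw [nG_val g hi]; exact h)⟩
  · rintro ⟨i, hi, h⟩
    refine ⟨i, by rw [g.rank_eq]; exact hi, ?_⟩
    rw [h, nG_val g hi, nM]

theorem nG_eq_of_inv_mul_mem (g : T.Good) {i j : ℕ} (hi : i < T.l) (hj : j < T.l)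
    (h : (nG g F i)⁻¹ * nG g F j ∈ T.D.borelSubgroup F) : i = j := by
  have hd := borel_inf_monomial g h (mul_mem (inv_mem (nG_mem_monomial g hi)) (nG_mem_monomial g hj))
  rw [diagonalSubgroup_eq g] at hd
  obtain ⟨c, hc⟩ := hd
  obtain ⟨d, hd'⟩ := torus_pass g (nG_mem_wSub (F := F) g hi) c
  have e : tor T F 1 * nWd g F [j] = tor T F d * nWd g F [i] := by
    simp only [nWd, List.map_cons, List.map_nil, List.prod_cons, List.prod_nil, mul_one, map_one,
      one_mul]
    rw [← hd', hc, mul_inv_cancel_left]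
  have h' := rw'_of_nWd_eq g (L := [j]) (M := [i]) (by simp [Wd, hj]) (by simp [Wd, hi]) e
    (g.smp_lt hi)
  simp only [rw'_cons, rw'_nil, g.ref_smp hi] at h'
  by_contra hne
  have := g.ref_pos hj (g.smp_lt hi) (g.smp_ge hi) fun e => hne (g.smp_inj hi hj e)
  have := (neg_lt_N_iff (g.smp_lt hi)).2 (g.smp_ge hi)
  omega

/-- The Tits system. -/
noncomputable def bnPair (g : T.GoodA) (F : Type*) [Field F] : Cfsg.BNPair ↥(T.D.group F) where
  B := (T.D.borelSubgroup F).subgroupOf (T.D.group F)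
  N := (T.D.monomialSubgroup F).subgroupOf (T.D.group F)
  S := sSet g.toGood F
  sup_eq_top := by
    rw [← Subgroup.subgroupOf_sup (borel_le_group g.toGood) (monomial_le_group g.toGood),
      group_eq_sup g.toGood, Subgroup.subgroupOf_self]
  conj_mem n hn t ht := by
    rw [Subgroup.mem_inf, Subgroup.mem_subgroupOf, Subgroup.mem_subgroupOf] at ht
    rw [Subgroup.mem_subgroupOf] at hn ⊢
    have h := borel_inf_monomial g.toGood ht.1 ht.2
    rw [diagonalSubgroup_eq g.toGood] at h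
    obtain ⟨c, hc⟩ := h
    obtain ⟨L, hL, d, hd⟩ := (mem_monomial_iff g.toGood).1 hn
    obtain ⟨e, he⟩ := wSub_conj_torus g.toGood (nWd_mem_wSub g.toGood hL) c
    simp only [Subgroup.coe_mul, Subgroup.coe_inv]
    rw [← hc, hd, show ∀ a b x : GL T.D.Idx F, a * b * x * (a * b)⁻¹ = a * (b * x * b⁻¹) * a⁻¹ from
      fun a b x => by group, he]
    exact mul_mem (mul_mem (torus_le_borel g.toGood _) (torus_le_borel g.toGood _))
      (inv_mem (torus_le_borel g.toGood _))
  subset := by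
    intro n hn
    obtain ⟨i, hi, h⟩ := (mem_sSet_iff g.toGood).1 hn
    simp only [SetLike.mem_coe, Subgroup.mem_subgroupOf, h]
    exact nG_mem_monomial g.toGood hi
  sq_mem n hn := by
    obtain ⟨i, hi, h⟩ := (mem_sSet_iff g.toGood).1 hn
    rw [Subgroup.mem_subgroupOf, Subgroup.coe_mul, h, nG_sq g.toGood hi]
    exact torus_le_borel g.toGood _
  inj s hs s' hs' h := by
    obtain ⟨i, hi, e⟩ := (mem_sSet_iff g.toGood).1 hs
    obtain ⟨j, hj, e'⟩ := (mem_sSet_iff g.toGood).1 hs'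
    rw [Subgroup.mem_subgroupOf, Subgroup.coe_mul, Subgroup.coe_inv, e, e'] at h
    obtain rfl := nG_eq_of_inv_mul_mem g.toGood hi hj h
    exact Subtype.ext (e.trans e'.symm)
  closure_sup := by
    refine le_antisymm (sup_le ((Subgroup.closure_le _).2 fun n hn => ?_) inf_le_right) fun x hx => ?_
    · obtain ⟨i, hi, h⟩ := (mem_sSet_iff g.toGood).1 hn
      simp only [SetLike.mem_coe, Subgroup.mem_subgroupOf, h]
      exact nG_mem_monomial g.toGood hi
    · rw [Subgroup.mem_subgroupOf] at hx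
      obtain ⟨L, hL, c, hc⟩ := (mem_monomial_iff g.toGood).1 hx
      have hw : ∀ L : List ℕ, T.Wd L → ∃ y ∈ Subgroup.closure (sSet g.toGood F),
          ((y : ↥(T.D.group F)) : GL T.D.Idx F) = nWd g.toGood F L := by
        intro L
        induction L with
        | nil => exact fun _ => ⟨1, one_mem _, by simp⟩
        | cons i L ih =>
          intro hL
          obtain ⟨hi, hL⟩ := Wd.cons_iff.1 hL
          obtain ⟨y, hy, e⟩ := ih hL
          exact ⟨⟨nG g.toGood F i, nG_mem_group g.toGood i⟩ * y,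
            mul_mem (Subgroup.subset_closure ((mem_sSet_iff g.toGood).2 ⟨i, hi, rfl⟩)) hy,
            by rw [Subgroup.coe_mul, e, nWd_cons]⟩
      obtain ⟨y, hy, e⟩ := hw L hL
      have : x = ⟨tor T F c, tor_mem_group g.toGood c⟩ * y := Subtype.ext (by simp [hc, e])
      rw [this]
      refine mul_mem (Subgroup.mem_sup_right ?_) (Subgroup.mem_sup_left hy)
      simp only [Subgroup.mem_inf, Subgroup.mem_subgroupOf]
      exact ⟨torus_le_borel g.toGood c, torus_le_monomial g.toGood c⟩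
  mul_mem_union s hs n hn b hb := by
    obtain ⟨i, hi, e⟩ := (mem_sSet_iff g.toGood).1 hs
    rw [Subgroup.mem_subgroupOf] at hn hb
    obtain ⟨b₁, h1, b₂, h2, h⟩ := nG_borel_mul g hi hb hn
    rcases h with h | h
    · refine Or.inl (DoubleCoset.mem_doubleCoset.2 ⟨⟨b₁, borel_le_group g.toGood h1⟩, ?_,
        ⟨b₂, borel_le_group g.toGood h2⟩, ?_, Subtype.ext ?_⟩)
      · simpa [Subgroup.mem_subgroupOf] using h1
      · simpa [Subgroup.mem_subgroupOf] using h2
      · simpa [e] using h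
    · refine Or.inr (DoubleCoset.mem_doubleCoset.2 ⟨⟨b₁, borel_le_group g.toGood h1⟩, ?_,
        ⟨b₂, borel_le_group g.toGood h2⟩, ?_, Subtype.ext ?_⟩)
      · simpa [Subgroup.mem_subgroupOf] using h1
      · simpa [Subgroup.mem_subgroupOf] using h2
      · simpa [e] using h
  conj_ne s hs h := by
    obtain ⟨i, hi, e⟩ := (mem_sSet_iff g.toGood).1 hs
    have hmem : (⟨xg g.toGood (T.smp i) (1 : F), xg_mem_group g.toGood _ _⟩ : ↥(T.D.group F)) ∈
        (T.D.borelSubgroup F).subgroupOf (T.D.group F) := by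
      rw [Subgroup.mem_subgroupOf]
      exact pos_le_borel g.toGood (g.smp_ge hi) (g.smp_lt hi) _
    have h' : s * ⟨xg g.toGood (T.smp i) (1 : F), xg_mem_group g.toGood _ _⟩ * s ∈
        (((T.D.borelSubgroup F).subgroupOf (T.D.group F) : Subgroup ↥(T.D.group F)) :
          Set ↥(T.D.group F)) := h ▸ ⟨_, hmem, rfl⟩
    rw [SetLike.mem_coe, Subgroup.mem_subgroupOf, Subgroup.coe_mul, Subgroup.coe_mul, e] at h'
    exact nG_conj_not_borel g.toGood hi h'

end Tab

end Cfsg.Agent.Chev
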