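/-
Lifting the root elements of the cover to a group above it: a criterion for a splitting.
-/
import Cfsg.Agent.Lib.Lie.CovMain

set_option autoImplicit false

namespace Cfsg.Agent.Chev

open Cfsg.Lie
open scoped commutatorElement
open Matrix hiding zpow_mul inv_zpow mul_inv_rev zpow_add zpow_neg

namespace Tab

namespace Cov

variable {T : Tab} {K : List (List ℕ)} {W : List (ℕ × ℕ × ℕ)} {F : Type*} [Field F]
variable {E : Type*} [Group E]

/-- the subgroup generated by the lifted root elements of index at least `k` -/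
def lGen (T : Tab) (ψ : ℕ → F → E) (k : ℕ) : Subgroup E :=
  Subgroup.closure {y | ∃ r ∈ Set.Ico k T.n, ∃ t : F, y = ψ r t}

/-- `π` is injective on `lGen k` -/
def InjAt (T : Tab) (π : E →* T.D.SteinbergCover F) (ψ : ℕ → F → E) (k : ℕ) : Prop :=
  ∀ x ∈ lGen T ψ k, π x = 1 → x = 1

/-- Root elements above those of the cover. -/
structure Lifts (T : Tab) (π : E →* T.D.SteinbergCover F) (ψ : ℕ → F → E) : Prop where
  image : ∀ r < T.n, ∀ t, π (ψ r t) = sx T F r t
  add : ∀ r < T.n, ∀ a b, ψ r a * ψ r b = ψ r (a + b)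
  ref : ∀ i < T.l, ∃ e : E, ∀ s < T.n, ∀ t, e * ψ s t * e⁻¹ = ψ (T.ref i s) ((T.eta i s : F) * t)
  step : ∀ k, T.N ≤ k → k < T.n → InjAt T π ψ (k + 1) → ∀ s, k < s → s < T.n → ∀ t u,
    ψ k t * ψ s u * (ψ k t)⁻¹ ∈ lGen T ψ (k + 1)

variable {π : E →* T.D.SteinbergCover F} {ψ : ℕ → F → E}

theorem mem_lGen {k r : ℕ} (hk : k ≤ r) (hr : r < T.n) (t : F) : ψ r t ∈ lGen T ψ k :=
  Subgroup.subset_closure ⟨r, ⟨hk, hr⟩, t, rfl⟩

theorem lGen_mono {k k' : ℕ} (h : k ≤ k') : lGen T ψ k' ≤ lGen T ψ k :=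
  Subgroup.closure_mono fun _ ⟨r, hr, t, e⟩ => ⟨r, ⟨h.trans hr.1, hr.2⟩, t, e⟩

theorem Lifts.zero (L : Lifts T π ψ) {r : ℕ} (hr : r < T.n) : ψ r 0 = 1 := by
  have h := L.add r hr 0 0
  rw [add_zero] at h
  exact mul_eq_left.1 h

theorem Lifts.inv (L : Lifts T π ψ) {r : ℕ} (hr : r < T.n) (t : F) : (ψ r t)⁻¹ = ψ r (-t) :=
  inv_eq_of_mul_eq_one_right (by rw [L.add r hr, add_neg_cancel, L.zero hr])

theorem Lifts.lGen_induction (L : Lifts T π ψ) {k : ℕ} {P : E → Prop} (h1 : P 1)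
    (hs : ∀ r, k ≤ r → r < T.n → ∀ t y, P y → P (ψ r t * y)) {x : E} (hx : x ∈ lGen T ψ k) : P x := by
  induction hx using Subgroup.closure_induction_left with
  | one => exact h1
  | mul_left x hx y _ hy => obtain ⟨r, hr, t, rfl⟩ := hx; exact hs r hr.1 hr.2 t y hy
  | inv_mul_cancel x hx y _ hy =>
    obtain ⟨r, hr, t, rfl⟩ := hx
    rw [L.inv hr.2]
    exact hs r hr.1 hr.2 _ y hy

theorem Lifts.map_mem (L : Lifts T π ψ) {k : ℕ} {x : E} (hx : x ∈ lGen T ψ k) :
    π x ∈ sGen T F (Set.Ico k T.n) :=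
  L.lGen_induction (P := fun x => π x ∈ sGen T F (Set.Ico k T.n)) (by rw [map_one]; exact one_mem _)
    (fun r hr hrn t y hy => by
      rw [map_mul, L.image r hrn]
      exact mul_mem (sx_mem_sGen (S := Set.Ico k T.n) ⟨hr, hrn⟩ t) hy) hx

theorem Lifts.exists_lift (L : Lifts T π ψ) (g : T.Good) {k : ℕ} {x : T.D.SteinbergCover F}
    (hx : x ∈ sGen T F (Set.Ico k T.n)) : ∃ m ∈ lGen T ψ k, π m = x := by
  refine sGen_induction g (p := fun x => ∃ m ∈ lGen T ψ k, π m = x) ⟨1, one_mem _, map_one π⟩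
    (fun r hr t y ⟨m, hm, e⟩ => ⟨ψ r t * m, mul_mem (mem_lGen hr.1 hr.2 t) hm, ?_⟩) hx
  rw [map_mul, L.image r hr.2, e]

theorem Lifts.conj_mem (L : Lifts T π ψ) {k : ℕ} (hk : T.N ≤ k) (hkn : k < T.n)
    (hI : InjAt T π ψ (k + 1)) (t : F) {x : E} (hx : x ∈ lGen T ψ (k + 1)) :
    ψ k t * x * (ψ k t)⁻¹ ∈ lGen T ψ (k + 1) := by
  refine L.lGen_induction (P := fun x => ψ k t * x * (ψ k t)⁻¹ ∈ lGen T ψ (k + 1)) (by simp)
    (fun r hr hrn u y hy => ?_) hx
  rw [show ψ k t * (ψ r u * y) * (ψ k t)⁻¹ = (ψ k t * ψ r u * (ψ k t)⁻¹) * (ψ k t * y * (ψ k t)⁻¹) by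
    group]
  exact mul_mem (L.step k hk hkn hI r hr hrn t u) hy

theorem Lifts.split (L : Lifts T π ψ) {k : ℕ} (hk : T.N ≤ k) (hkn : k < T.n)
    (hI : InjAt T π ψ (k + 1)) {x : E} (hx : x ∈ lGen T ψ k) :
    ∃ t : F, ∃ y ∈ lGen T ψ (k + 1), x = ψ k t * y := by
  refine L.lGen_induction (P := fun x => ∃ t : F, ∃ y ∈ lGen T ψ (k + 1), x = ψ k t * y)
    ⟨0, 1, one_mem _, by rw [L.zero hkn, one_mul]⟩ ?_ hx
  rintro r hr hrn u _ ⟨t, y, hy, rfl⟩
  rcases eq_or_lt_of_le hr with rfl | hlt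
  · exact ⟨u + t, y, hy, by rw [← mul_assoc, L.add _ hkn]⟩
  · refine ⟨t, ψ k (-t) * ψ r u * (ψ k (-t))⁻¹ * y, mul_mem (L.step k hk hkn hI r hlt hrn _ u) hy, ?_⟩
    rw [L.inv hkn, _root_.neg_neg, ← L.inv hkn]
    group

theorem Lifts.inj (L : Lifts T π ψ) (g : T.GoodA) : ∀ m k, T.N ≤ k → T.n ≤ k + m → InjAt T π ψ k
  | 0, k, _, hle => fun x hx _ => L.lGen_induction (P := fun x => x = 1) rfl
      (fun r hr hrn => absurd hrn (by omega)) hx
  | m + 1, k, hk, hle => by
    by_cases hkn : k < T.n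
    swap
    · exact L.inj g m k hk (by omega)
    have hI := L.inj g m (k + 1) (by omega) (by omega)
    intro x hx h1
    obtain ⟨t, y, hy, rfl⟩ := L.split hk hkn hI hx
    have hπy := L.map_mem hy
    have hθy : θ0 g F (π y) ∈ genS g.toGood F (Set.Ico (k + 1) T.n) := by
      refine sGen_induction g.toGood (p := fun y => θ0 g F y ∈ genS g.toGood F (Set.Ico (k + 1) T.n))
        (by rw [map_one]; exact one_mem _) (fun r hr u z hz => ?_) hπy
      rw [map_mul, θ0_sx]
      exact mul_mem (xg_mem_genS g.toGood hr u) hz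
    have h2 := congrArg (θ0 g F) h1
    rw [map_mul, L.image k hkn, map_mul, map_one, θ0_sx] at h2
    have ht : t = 0 := lowest_coeff g.toGood hk hkn (by
      rw [eq_inv_of_mul_eq_one_left h2]; exact inv_mem hθy)
    subst ht
    rw [L.zero hkn, one_mul] at h1 ⊢
    exact hI y hy h1

theorem Lifts.injAt (L : Lifts T π ψ) (g : T.GoodA) {k : ℕ} (hk : T.N ≤ k) : InjAt T π ψ k :=
  L.inj g T.n k hk (by omega)

/-- a word in the lifts -/
def lWord (ψ : ℕ → F → E) (w : List (ℕ × F)) : E := (w.map fun p => ψ p.1 p.2).prod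

/-- the commutator relation for the lifts -/
def Rel (T : Tab) (ψ : ℕ → F → E) (r s : ℕ) : Prop :=
  ∀ t u : F, ψ s u * ψ r t = ψ r t * ψ s u * lWord ψ (cVal T F r s t u)

theorem Lifts.rel_pos (L : Lifts T π ψ) (g : T.GoodA) {r s : ℕ} (hr : T.N ≤ r) (hs : T.N ≤ s)
    (hrn : r < T.n) (hsn : s < T.n) (hne : s ≠ r) (hnn : s ≠ T.neg r) : Rel T ψ r s := by
  have hg := g.toGood
  intro t u
  set k := min r s with hk
  have hI : InjAt T π ψ (k + 1) := L.injAt g (by omega)
  have hterms : ∀ e ∈ cVal T F r s t u, k + 1 ≤ e.1 ∧ e.1 < T.n := by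
    intro e he
    simp only [cVal, List.mem_map] at he
    obtain ⟨c, hc, rfl⟩ := he
    obtain ⟨h1, -, -, -, h5⟩ := cTerms_mem hg hrn hsn hc
    have := h5 hr hs
    exact ⟨by dsimp only; omega, h1⟩
  have hw : lWord ψ (cVal T F r s t u) ∈ lGen T ψ (k + 1) := by
    refine Subgroup.list_prod_mem _ fun y hy => ?_
    obtain ⟨e, he, rfl⟩ := List.mem_map.1 hy
    exact mem_lGen (hterms e he).1 (hterms e he).2 _
  have hπw : π (lWord ψ (cVal T F r s t u)) = sWord T F (cVal T F r s t u) := by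
    rw [lWord, map_list_prod, List.map_map, sWord]
    exact congrArg List.prod (List.map_congr_left fun e he => L.image _ (hterms e he).2 _)
  have hmem : (ψ r t * ψ s u)⁻¹ * (ψ s u * ψ r t) ∈ lGen T ψ (k + 1) := by
    rcases lt_or_gt_of_ne hne with hlt | hgt
    · -- `s` is the lower root
      have hks : k = s := by omega
      rw [hks] at hI ⊢
      have h := L.step s hs hsn hI r hlt hrn (-u) (-t)
      have e : (ψ r t * ψ s u)⁻¹ * (ψ s u * ψ r t) =
          (ψ s (-u) * ψ r (-t) * (ψ s (-u))⁻¹) * ψ r t := by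
        rw [L.inv hsn, ← L.inv hsn, ← L.inv hrn]
        group
      rw [e]
      exact mul_mem h (mem_lGen hlt hrn t)
    · have hkr : k = r := by omega
      rw [hkr] at hI ⊢
      have h := L.step r hr hrn hI s hgt hsn (-t) u
      have e : (ψ r t * ψ s u)⁻¹ * (ψ s u * ψ r t) =
          ψ s (-u) * (ψ r (-t) * ψ s u * (ψ r (-t))⁻¹) := by
        rw [L.inv hrn, ← L.inv hsn, ← L.inv hrn]
        group
      rw [e]
      exact mul_mem (mem_lGen hgt hsn (-u)) h
  have heq : (ψ r t * ψ s u)⁻¹ * (ψ s u * ψ r t) = lWord ψ (cVal T F r s t u) := by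
    refine inv_mul_eq_one.1 (hI _ (mul_mem (inv_mem hmem) hw) ?_)
    rw [map_mul, map_inv, hπw, map_mul, map_inv, map_mul, map_mul, L.image r hrn, L.image s hsn,
      sx_comm hg hrn hsn hne hnn t u, inv_mul_cancel_left, inv_mul_cancel]
  rw [← heq, mul_inv_cancel_left]

theorem Lifts.rel_ref (L : Lifts T π ψ) (g : T.GoodA) {i r s : ℕ} (hi : i < T.l) (hr : r < T.n)
    (hs : s < T.n) (h : Rel T ψ r s) : Rel T ψ (T.ref i r) (T.ref i s) := by
  obtain ⟨e, he⟩ := L.ref i hi
  intro t u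
  have hk : ∀ a : ℕ, kap T F i (1 : Fˣ) a = (T.eta i a : F) := fun a => by simp [kap]
  have hc := cVal_kap (F := F) g hi hr hs 1 ((T.eta i r : F) * t) ((T.eta i s : F) * u)
  simp only [hk, ← mul_assoc, eta_sq, one_mul] at hc
  have hword : ∀ w : List (ℕ × F), (∀ p ∈ w, p.1 < T.n) →
      e * lWord ψ w * e⁻¹ = lWord ψ (w.map fun p => (T.ref i p.1, (T.eta i p.1 : F) * p.2)) := by
    intro w hw
    induction w with
    | nil => simp [lWord]
    | cons p w ih =>
      simp only [lWord, List.map_cons, List.prod_cons]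
      rw [show e * (ψ p.1 p.2 * (w.map fun p => ψ p.1 p.2).prod) * e⁻¹ =
        (e * ψ p.1 p.2 * e⁻¹) * (e * lWord ψ w * e⁻¹) by rw [lWord]; group,
        he _ (hw p List.mem_cons_self), ih fun q hq => hw q (List.mem_cons_of_mem _ hq)]
      rfl
  have hlt : ∀ p ∈ cVal T F r s ((T.eta i r : F) * t) ((T.eta i s : F) * u), p.1 < T.n := by
    intro p hp
    simp only [cVal, List.mem_map] at hp
    obtain ⟨c, hc', rfl⟩ := hp
    exact (cTerms_mem g.toGood hr hs hc').1
  have h' := congrArg (fun z => e * z * e⁻¹) (h ((T.eta i r : F) * t) ((T.eta i s : F) * u))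
  have e1 : ∀ x y : E, e * (x * y) * e⁻¹ = (e * x * e⁻¹) * (e * y * e⁻¹) := fun x y => by group
  have hη : ∀ (a : ℕ) (x : F), (T.eta i a : F) * ((T.eta i a : F) * x) = x := fun a x => by
    rw [← mul_assoc, eta_sq, one_mul]
  rw [e1, e1, e1, he r hr, he s hs, hword _ hlt, hη, hη] at h'
  rw [hc]
  exact h'

/-- a property of pairs of roots, invariant under the simple reflections, holds everywhere as soon as
it holds for positive pairs -/
theorem pair_induction (g : T.GoodA) {P : ℕ → ℕ → Prop}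
    (hpos : ∀ r s, T.N ≤ r → T.N ≤ s → r < T.n → s < T.n → s ≠ r → s ≠ T.neg r → P r s)
    (href : ∀ i < T.l, ∀ r < T.n, ∀ s < T.n, P r s → P (T.ref i r) (T.ref i s))
    (r s : ℕ) (hr : r < T.n) (hs : s < T.n) (hne : s ≠ r) (hnn : s ≠ T.neg r) : P r s := by
  have hg := g.toGood
  have back : ∀ i < T.l, ∀ a < T.n, ∀ b < T.n, P (T.ref i a) (T.ref i b) → P a b := fun i hi a ha b hb h => by
    have := href i hi _ (hg.ref_lt hi ha) _ (hg.ref_lt hi hb) h
    rwa [hg.ref_ref hi ha, hg.ref_ref hi hb] at this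
  have hinv : ∀ i < T.l, ∀ a < T.n, ∀ b < T.n, b ≠ a → b ≠ T.neg a →
      T.ref i b ≠ T.ref i a ∧ T.ref i b ≠ T.neg (T.ref i a) := fun i hi a ha b hb h1 h2 =>
    ⟨fun h => h1 (hg.ref_inj hi hb ha h),
      fun h => h2 (hg.ref_inj hi hb (neg_lt ha) (by rw [h, hg.ref_neg hi ha]))⟩
  -- two negative roots
  have hneg : ∀ a b, a < T.N → b < T.N → a < T.n → b < T.n → b ≠ a → b ≠ T.neg a → P a b := by
    intro a b haN hbN ha hb h1 h2
    obtain ⟨L, hL, hlong, -⟩ := exists_longest hg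
    have hword : ∀ L : List ℕ, T.Wd L → ∀ a < T.n, ∀ b < T.n, P (T.rw' L a) (T.rw' L b) → P a b := by
      intro L
      induction L with
      | nil => exact fun _ a _ b _ h => h
      | cons i L ih =>
        intro hL a ha b hb h
        obtain ⟨hi, hL'⟩ := Wd.cons_iff.1 hL
        exact ih hL' a ha b hb (back i hi _ (rw'_lt hg hL' ha) _ (rw'_lt hg hL' hb) h)
    have hflip : ∀ c, c < T.N → c < T.n → T.N ≤ T.rw' L c := fun c hc hcn => by
      have := hlong _ ((N_le_neg_iff hcn).2 hc) (neg_lt hcn)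
      rwa [rw'_neg hg hL hcn, neg_lt_N_iff (rw'_lt hg hL hcn)] at this
    refine hword L hL a ha b hb (hpos _ _ (hflip a haN ha) (hflip b hbN hb) (rw'_lt hg hL ha)
      (rw'_lt hg hL hb) ?_ ?_)
    · intro h
      have := congrArg (T.rw' L.reverse) h
      rw [rw'_rev hg hL hb, rw'_rev hg hL ha] at this
      exact h1 this
    · intro h
      rw [← rw'_neg hg hL ha] at h
      have := congrArg (T.rw' L.reverse) h
      rw [rw'_rev hg hL hb, rw'_rev hg hL (neg_lt ha)] at this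
      exact h2 this
  -- descent on the negative root
  have hd : ∀ q, T.N ≤ q → q < T.n → ∃ i < T.l, q = T.smp i ∨ (T.ref i q < q ∧ T.N ≤ T.ref i q) := by
    intro q hqN hq
    have h := hg.descent
    simp only [checkDescent, Bool.and_eq_true] at h
    obtain ⟨i, hi, h'⟩ := anyBelow_eq_true.1 (allBelow_eq_true.1 h.1 q hq)
    refine ⟨i, hi, ?_⟩
    simp only [Bool.or_eq_true, nat_beq] at h'
    rcases h' with (h' | h') | h'
    · exact Or.inl h'
    · exfalso
      subst h'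
      have := (N_le_neg_iff (hg.smp_lt hi)).1 hqN
      have := hg.smp_ge hi
      omega
    · rw [nat_ble.2 hqN, cond_true, Bool.and_eq_true, nat_blt, nat_ble] at h'
      exact Or.inr h'
  have mixed : ∀ q, T.N ≤ q → q < T.n → ∀ a, T.N ≤ a → a < T.n → a ≠ q →
      P a (T.neg q) ∧ P (T.neg q) a := by
    intro q
    induction q using Nat.strong_induction_on with
    | _ q ih =>
      intro hqN hq a haN ha haq
      have hnq : T.neg q < T.N := (neg_lt_N_iff hq).2 hqN
      have hne1 : T.neg q ≠ a := by omega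
      have hne2 : T.neg q ≠ T.neg a := fun h => haq (by rw [← neg_neg hq, h, neg_neg ha])
      obtain ⟨h1, h2⟩ : T.neg q ≠ a ∧ a ≠ T.neg q := ⟨hne1, hne1.symm⟩
      have hne3 : a ≠ T.neg (T.neg q) := by rw [neg_neg hq]; exact haq
      obtain ⟨i, hi, h⟩ := hd q hqN hq
      have hu := hg.ref_lt hi hq
      have hra := hg.ref_lt hi ha
      have k1 := hinv i hi a ha _ (neg_lt hq) hne1 hne2
      have k2 := hinv i hi _ (neg_lt hq) a ha h2 hne3
      rcases h with rfl | ⟨hlt, hN'⟩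
      · have hap : T.N ≤ T.ref i a := (ref_posExc hg hi (show a ∈ T.posExc i from ⟨haN, ha, haq⟩)).1
        have hsp : T.ref i (T.neg (T.smp i)) = T.smp i := by
          rw [hg.ref_neg hi hq, hg.ref_smp hi, neg_neg hq]
        rw [hsp] at k1 k2
        constructor
        · refine back i hi a ha _ (neg_lt hq) ?_
          rw [hsp]
          exact hpos _ _ hap hqN hra hq k1.1 k1.2
        · refine back i hi _ (neg_lt hq) a ha ?_
          rw [hsp]
          exact hpos _ _ hqN hap hq hra k2.1 k2.2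
      · rw [hg.ref_neg hi hq] at k1 k2
        have e := hg.ref_neg hi hq
        by_cases hap : T.N ≤ T.ref i a
        · have hne4 : T.ref i a ≠ T.ref i q := fun h => haq (hg.ref_inj hi ha hq h)
          obtain ⟨p1, p2⟩ := ih _ hlt hN' hu _ hap hra hne4
          exact ⟨back i hi a ha _ (neg_lt hq) (by rw [e]; exact p1),
            back i hi _ (neg_lt hq) a ha (by rw [e]; exact p2)⟩
        · have hnu : T.neg (T.ref i q) < T.N := (neg_lt_N_iff hu).2 hN'
          exact ⟨back i hi a ha _ (neg_lt hq) (by rw [e]; exact hneg _ _ (not_le.1 hap) hnu hra (neg_lt hu) k1.1 k1.2),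
            back i hi _ (neg_lt hq) a ha (by rw [e]; exact hneg _ _ hnu (not_le.1 hap) (neg_lt hu) hra k2.1 k2.2)⟩
  by_cases hrN : T.N ≤ r <;> by_cases hsN : T.N ≤ s
  · exact hpos r s hrN hsN hr hs hne hnn
  · have := (mixed (T.neg s) ((N_le_neg_iff hs).2 (not_le.1 hsN)) (neg_lt hs) r hrN hr
      (fun h => hnn (by rw [h, neg_neg hs]))).1
    rwa [neg_neg hs] at this
  · have := (mixed (T.neg r) ((N_le_neg_iff hr).2 (not_le.1 hrN)) (neg_lt hr) s hsN hs hnn).2
    rwa [neg_neg hr] at this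
  · exact hneg r s (not_le.1 hrN) (not_le.1 hsN) hr hs hne hnn

/-- The criterion. -/
theorem Lifts.exists_splitting (L : Lifts T π ψ) (g : T.GoodA) :
    ∃ τ : T.D.SteinbergCover F →* E,
      π.comp τ = MonoidHom.id _ ∧ ∀ r < T.n, ∀ t, τ (sx T F r t) = ψ r t := by
  have hg := g.toGood
  have hX : ∀ r, r < T.n → ∀ t : F, FreeGroup.lift (fun p : Fin T.D.nroots × F => ψ p.1 p.2)
      (T.D.stX r t) = ψ r t := fun r hr t => by
    simp [ChevalleyDatum.stX, hg.nroots_eq, hr]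
  have hrel : ∀ x ∈ T.D.steinbergRelsAB F,
      FreeGroup.lift (fun p : Fin T.D.nroots × F => ψ p.1 p.2) x = 1 := by
    rintro x (⟨r, a, b, hr, rfl⟩ | ⟨r, s, t, u, hr, hs, h1, h2, rfl⟩)
    · rw [hg.nroots_eq] at hr
      simp only [map_mul, map_inv, hX r hr, L.add r hr, mul_inv_cancel]
    · rw [hg.nroots_eq] at hr hs
      rw [hg.neg_eq hr] at h2
      have h := pair_induction g (P := Rel T ψ)
        (fun a b ha hb han hbn hne hnn => L.rel_pos g ha hb han hbn hne hnn)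
        (fun i hi a ha b hb h => L.rel_ref g hi ha hb h) r s hr hs h1 h2 t u
      have hW : FreeGroup.lift (fun p : Fin T.D.nroots × F => ψ p.1 p.2)
          (T.D.stWord (cVal T F r s t u)) = lWord ψ (cVal T F r s t u) := by
        rw [ChevalleyDatum.stWord, map_list_prod, List.map_map, lWord]
        refine congrArg List.prod (List.map_congr_left fun e he => hX _ ?_ _)
        simp only [cVal, List.mem_map] at he
        obtain ⟨c, hc, rfl⟩ := he
        exact (cTerms_mem hg hr hs hc).1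
      simp only [map_mul, map_inv, hX r hr, hX s hs, commWord_eq hg hr hs, hW]
      rw [mul_assoc ((ψ s u)⁻¹ * _), h]
      group
  refine ⟨PresentedGroup.toGroup hrel, PresentedGroup.ext fun p => ?_, fun r hr t => ?_⟩
  · obtain ⟨e, hp⟩ := of_eq_sx hg p
    rw [MonoidHom.comp_apply, MonoidHom.id_apply, PresentedGroup.toGroup.of, L.image _ hp, e]
  · rw [sx, ChevalleyDatum.scGen, ChevalleyDatum.stX, dif_pos (by rw [hg.nroots_eq]; exact hr)]
    exact PresentedGroup.toGroup.of _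

end Cov

end Tab

end Cfsg.Agent.Chev
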