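import Cfsg.Agent.Lib.Lie.ChevComm
import Cfsg.Agent.Lib.Lie.GoodA
import Cfsg.Prelude.Def_SteinbergCover
import Mathlib.GroupTheory.Abelianization.Defs

/-! Perfectness of the group presented by Steinberg's relations (R1), (R2). -/

set_option autoImplicit false
set_option maxRecDepth 8000

namespace Cfsg.Agent.Chev

open Cfsg.Lie

namespace Tab

/-- one term `(a, C, i, j)` of a relation suffices to kill root `a`, given killed roots `known` -/
def critTerm (two : Bool) (known : ℕ → Bool) (a : ℕ) (terms : List (ℕ × ℤ × ℕ × ℕ))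
    (c : ℕ × ℤ × ℕ × ℕ) : Bool :=
  Nat.beq c.1 a && Nat.beq c.2.1.natAbs 1 && (Nat.beq c.2.2.1 1 || Nat.beq c.2.2.2 1) &&
    ((terms.erase c).all (fun d => known d.1) ||
      (two && (Nat.beq c.2.2.1 (c.2.2.2 + 1) || Nat.beq c.2.2.2 (c.2.2.1 + 1)) &&
        (terms.erase c).all (fun d => known d.1 || Nat.beq d.2.2.1 d.2.2.2)))

/-- one round of the elimination in the abelianised group -/
def killRound (T : Tab) (two : Bool) (known : ℕ → Bool) (a : ℕ) : Bool :=
  anyBelow (fun r => (T.rowL r).any fun e =>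
    e.2.toList.any (fun q => Nat.beq q.1 a) &&
    (Nat.blt e.1 T.n && !Nat.beq e.1 r && !Nat.beq e.1 (T.neg r)) &&
    (T.cTerms r e.1).any (critTerm two known a (T.cTerms r e.1))) T.n

/-- three rounds kill every root -/
def checkKill₂ (T : Tab) (two : Bool) : Bool :=
  allBelow (fun a => T.killRound two (T.killRound two (T.killRound two fun _ => false)) a) T.n

variable {T : Tab} {K : Type*} [Field K]

theorem killRound_spec (g : T.Good) {two : Bool} (hK : two = true → ∃ x : K, x ≠ 0 ∧ x ≠ 1)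
    {A : Type*} [CommGroup A] (f : ℕ → K → A)
    (hadd : ∀ r < T.n, ∀ t u : K, f r t * f r u = f r (t + u))
    (hrel : ∀ r < T.n, ∀ s < T.n, s ≠ r → s ≠ T.neg r → ∀ t u : K,
      ((cVal T K r s t u).map fun e => f e.1 e.2).prod = 1)
    {known : ℕ → Bool} (hknown : ∀ a, known a = true → ∀ z, f a z = 1)
    (a : ℕ) (h : T.killRound two known a = true) : ∀ z, f a z = 1 := by
  obtain ⟨r, hr, h⟩ := anyBelow_eq_true.1 h
  simp only [List.any_eq_true, Bool.and_eq_true, Bool.not_eq_true', nat_beq_false, nat_blt] at h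
  obtain ⟨e, -, ⟨-, ⟨hs, hne⟩, hne'⟩, c, hc, hcrit⟩ := h
  simp only [critTerm, Bool.and_eq_true, Bool.or_eq_true, nat_beq, List.all_eq_true] at hcrit
  obtain ⟨⟨⟨rfl, hC⟩, hij⟩, hcase⟩ := hcrit
  obtain ⟨ha, hi1, hj1, -⟩ := cTerms_mem g hr hs hc
  set val : ℕ × ℤ × ℕ × ℕ → K → K → A := fun d t u =>
    f d.1 ((d.2.1 : K) * (-t) ^ d.2.2.1 * u ^ d.2.2.2) with hval
  have key : ∀ t u : K, val c t u * (((T.cTerms r e.1).erase c).map fun d => val d t u).prod = 1 := by
    intro t u
    have h0 := hrel r hr e.1 hs hne hne' t u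
    rw [cVal, List.map_map] at h0
    rw [← List.prod_cons, ← List.map_cons (f := fun d => val d t u),
      ← ((List.perm_cons_erase hc).map fun d => val d t u).prod_eq]
    exact h0
  have hone : ∀ (d : ℕ × ℤ × ℕ × ℕ), known d.1 = true → ∀ t u, val d t u = 1 := fun d hd t u =>
    hknown _ hd _
  have hC0 : (c.2.1 : K) ≠ 0 := by
    rcases Int.natAbs_eq c.2.1 with e | e <;> rw [e, hC] <;> simp
  have hsurj : ∀ z : K, ∃ t u : K, (c.2.1 : K) * (-t) ^ c.2.2.1 * u ^ c.2.2.2 = z := by
    intro z
    rcases hij with h | h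
    · exact ⟨-(z / (c.2.1 : K)), 1, by rw [h, one_pow, _root_.neg_neg, pow_one, mul_one]; field_simp⟩
    · exact ⟨-1, z / (c.2.1 : K), by rw [h, _root_.neg_neg, one_pow, mul_one, pow_one]; field_simp⟩
  intro z
  rcases hcase with hall | ⟨⟨htwo, hdiag⟩, hall⟩
  · obtain ⟨t, u, rfl⟩ := hsurj z
    have h1 := key t u
    rw [List.prod_eq_one (fun x hx => by
      obtain ⟨d, hd, rfl⟩ := List.mem_map.1 hx
      exact hone d (hall d hd) t u), mul_one] at h1
    exact h1
  · obtain ⟨l, hl0, hl1⟩ := hK htwo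
    obtain ⟨μ, hμ1, hμ⟩ : ∃ μ : K, μ ≠ 1 ∧ l ^ c.2.2.1 * (l⁻¹) ^ c.2.2.2 = μ := by
      refine ⟨_, ?_, rfl⟩
      rcases hdiag with h | h
      · rw [h, pow_succ, mul_assoc, mul_comm l, ← mul_assoc, ← mul_pow, mul_inv_cancel₀ hl0,
          one_pow, one_mul]
        exact hl1
      · rw [h, pow_succ, ← mul_assoc, ← mul_pow, mul_inv_cancel₀ hl0, one_pow, one_mul]
        exact inv_ne_one.2 hl1
    obtain ⟨t, u, htu⟩ := hsurj (z / (μ - 1))
    have h1 := key t u
    have h2 := key (l * t) (l⁻¹ * u)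
    have hsame : (((T.cTerms r e.1).erase c).map fun d => val d (l * t) (l⁻¹ * u)) =
        ((T.cTerms r e.1).erase c).map fun d => val d t u := by
      refine List.map_congr_left fun d hd => ?_
      rcases hall d hd with h | h
      · rw [hone d h, hone d h]
      · simp only [hval]
        congr 1
        rw [h, mul_assoc, ← mul_pow, mul_assoc (d.2.1 : K), ← mul_pow]
        congr 2
        field_simp
    rw [hsame] at h2
    have hμz : (c.2.1 : K) * (-(l * t)) ^ c.2.2.1 * (l⁻¹ * u) ^ c.2.2.2 = μ * (z / (μ - 1)) := by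
      rw [← htu, ← hμ, mul_pow, show -(l * t) = l * -t by ring, mul_pow]
      ring
    have h12 := mul_right_cancel (h2.trans h1.symm)
    simp only [hval] at h12
    rw [hμz, htu] at h12
    have hz : μ * (z / (μ - 1)) = z / (μ - 1) + z := by
      have := sub_ne_zero.2 hμ1; field_simp; ring
    rw [hz, ← hadd c.1 ha, mul_eq_left] at h12
    exact h12

theorem commutator_steinbergCover_eq_top (g : T.Good) {two : Bool}
    (hK : two = true → ∃ x : K, x ≠ 0 ∧ x ≠ 1) (hchk : T.checkKill₂ two = true) :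
    commutator (T.D.SteinbergCover K) = ⊤ := by
  set f : ℕ → K → Abelianization (T.D.SteinbergCover K) :=
    fun r t => Abelianization.of (T.D.scGen K r t) with hf
  have hscg : ∀ L : List (ℕ × K), Abelianization.of
      (PresentedGroup.mk (T.D.steinbergRelsAB K) (T.D.stWord L)) =
      (L.map fun e => f e.1 e.2).prod := by
    intro L
    rw [ChevalleyDatum.stWord, map_list_prod, map_list_prod, List.map_map, List.map_map]
    rfl
  have hadd : ∀ r < T.n, ∀ t u : K, f r t * f r u = f r (t + u) := by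
    intro r hr t u
    have h := PresentedGroup.one_of_mem (rels := T.D.steinbergRelsAB K)
      (show T.D.stX r t * T.D.stX r u * (T.D.stX r (t + u))⁻¹ ∈ T.D.steinbergRelsAB K from
        Or.inl ⟨r, t, u, by rw [g.nroots_eq]; exact hr, rfl⟩)
    simp only [map_mul, map_inv, mul_inv_eq_one] at h
    have h' := congrArg Abelianization.of h
    rw [map_mul] at h'
    exact h'
  have hrel : ∀ r < T.n, ∀ s < T.n, s ≠ r → s ≠ T.neg r → ∀ t u : K,
      ((cVal T K r s t u).map fun e => f e.1 e.2).prod = 1 := by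
    intro r hr s hs h1 h2 t u
    have h := PresentedGroup.one_of_mem (rels := T.D.steinbergRelsAB K)
      (show (T.D.stX s u)⁻¹ * (T.D.stX r t)⁻¹ * T.D.stX s u * T.D.stX r t *
          (T.D.stWord (T.D.commWord K r s t u))⁻¹ ∈ T.D.steinbergRelsAB K from
        Or.inr ⟨r, s, t, u, by rw [g.nroots_eq]; exact hr, by rw [g.nroots_eq]; exact hs, h1,
          by rw [g.neg_eq hr]; exact h2, rfl⟩)
    simp only [map_mul, map_inv, mul_inv_eq_one] at h
    have h' := congrArg Abelianization.of h
    rw [hscg, commWord_eq g hr hs, map_mul, map_mul, map_mul, map_inv, map_inv] at h'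
    rw [← h']
    simp [mul_comm, mul_left_comm, mul_assoc]
  have hall : ∀ a < T.n, ∀ z, f a z = 1 := fun a ha =>
    killRound_spec g hK f hadd hrel
      (killRound_spec g hK f hadd hrel (killRound_spec g hK f hadd hrel
        (known := fun _ => false) fun _ h => absurd h Bool.false_ne_true))
      a (allBelow_eq_true.1 hchk a ha)
  rw [← Abelianization.ker_of, eq_top_iff, ← PresentedGroup.closure_range_of, Subgroup.closure_le]
  rintro _ ⟨⟨⟨r, hr⟩, t⟩, rfl⟩
  rw [SetLike.mem_coe, MonoidHom.mem_ker]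
  have := hall r (by rwa [← g.nroots_eq]) t
  rw [hf] at this
  simp only [ChevalleyDatum.scGen, ChevalleyDatum.stX, hr, dite_true] at this
  exact this

end Tab

theorem exists_checkKill {D : ChevalleyDatum}
    (hD : D ∈ [chevG2, chevB2, chevD4, chevF4, chevE6, chevE7, chevE8]) :
    ∃ T : Tab, ∃ two : Bool, T.Good ∧ T.D = D ∧ T.checkKill₂ two = true ∧
      (two = true → D ∈ [chevB2, chevG2]) := by
  simp only [List.mem_cons, List.not_mem_nil, or_false] at hD
  rcases hD with rfl | rfl | rfl | rfl | rfl | rfl | rfl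
  · exact ⟨_, true, G2Data.good, rfl, by decide +kernel, fun _ => by simp⟩
  · exact ⟨_, true, B2Data.good, rfl, by decide +kernel, fun _ => by simp⟩
  · exact ⟨_, false, D4Data.good, rfl, by decide +kernel, fun h => absurd h Bool.false_ne_true⟩
  · exact ⟨_, false, F4Data.good, rfl, by decide +kernel, fun h => absurd h Bool.false_ne_true⟩
  · exact ⟨_, false, E6Data.good, rfl, by decide +kernel, fun h => absurd h Bool.false_ne_true⟩
  · exact ⟨_, false, E7Data.good, rfl, by decide +kernel, fun h => absurd h Bool.false_ne_true⟩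
  · exact ⟨_, false, E8Data.good, rfl, by decide +kernel, fun h => absurd h Bool.false_ne_true⟩

end Cfsg.Agent.Chev
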