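/-
Universality of the cover over a field with more than four elements.
-/
import Cfsg.Agent.Lib.Lie.CovLifts
import Cfsg.Agent.Lib.Lie.SteinbergPerfect

set_option autoImplicit false
set_option maxRecDepth 8000

namespace Cfsg.Agent.Chev

open Cfsg.Lie
open scoped commutatorElement
open Matrix hiding zpow_mul inv_zpow mul_inv_rev zpow_add zpow_neg

namespace Tab

/-- certificate: some torus element fixes `x_{p_i}` and moves `x_s`, with exponent at most three -/
def checkMove (T : Tab) : Bool :=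
  allBelow (fun i => allBelow (fun s =>
    Nat.beq s (T.smp i) || Nat.beq s (T.neg (T.smp i)) ||
      anyBelow (fun j =>
        (T.A j (T.smp i) == 0 && Nat.ble 1 (T.A j s).natAbs && Nat.ble (T.A j s).natAbs 3) ||
        anyBelow (fun j' =>
          let d : ℤ := (Nat.gcd (T.A j (T.smp i)).natAbs (T.A j' (T.smp i)).natAbs : ℕ)
          let a := T.A j' (T.smp i) / d
          let b := T.A j (T.smp i) / d
          let k := (T.A j s * a - T.A j' s * b).natAbs
          T.A j (T.smp i) * a - T.A j' (T.smp i) * b == 0 && Nat.ble 1 k && Nat.ble k 3) T.l) T.l) T.n) T.l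

/-- `x_p` commutes with `x_q` -/
def offRoot (T : Tab) (p q : ℕ) : Bool :=
  !Nat.beq q p && !Nat.beq q (T.neg p) && (T.cTerms p q).isEmpty

/-- certificate: an odd weight, or a commutator formula producing the simple root -/
def checkSelf (T : Tab) : Bool :=
  allBelow (fun i =>
    anyBelow (fun j => Nat.beq (T.A j (T.smp i)).natAbs 1) T.l ||
    anyBelow (fun p => anyBelow (fun q =>
      T.offRoot (T.smp i) p && T.offRoot (T.smp i) q && !Nat.beq q p && !Nat.beq q (T.neg p) &&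
      anyBelow (fun m =>
        match (T.cTerms p q).drop m with
        | (k, C, a, b) :: rest =>
          Nat.beq k (T.smp i) && Nat.beq C.natAbs 1 && (Nat.beq a 1 || Nat.beq b 1) &&
            ((T.cTerms p q).take m ++ rest).all fun d => T.offRoot (T.smp i) d.1
        | [] => false) 4) T.n) T.n) T.l

namespace Cov

variable {T : Tab} {K : List (List ℕ)} {W : List (ℕ × ℕ × ℕ)} {F : Type*} [Field F]

theorem exists_pow_ne_one {s : Finset F} (hs : 4 < s.card) {k : ℕ} (hk1 : 1 ≤ k) (hk3 : k ≤ 3) :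
    ∃ u : Fˣ, (u : F) ^ k ≠ 1 := by
  classical
  by_contra hc
  push Not at hc
  have hsub : s.erase 0 ⊆ (Polynomial.X ^ k - Polynomial.C 1 : Polynomial F).roots.toFinset := by
    intro x hx
    rw [Finset.mem_erase] at hx
    rw [Multiset.mem_toFinset, Polynomial.mem_roots (Polynomial.X_pow_sub_C_ne_zero (by omega) 1)]
    simpa [sub_eq_zero] using hc (Units.mk0 x hx.1)
  have h1 := (Finset.card_le_card hsub).trans (Multiset.toFinset_card_le _)
  have h2 := (Polynomial.card_roots' (Polynomial.X ^ k - Polynomial.C 1 : Polynomial F))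
  rw [Polynomial.natDegree_X_pow_sub_C] at h2
  have h3 := Finset.pred_card_le_card_erase (s := s) (a := (0 : F))
  omega

theorem exists_not_cube_root {s : Finset F} (hs : 4 < s.card) :
    ∃ x : F, x ≠ 0 ∧ x + 1 ≠ 0 ∧ x * x + x + 1 ≠ 0 := by
  classical
  by_contra hc
  push Not at hc
  obtain ⟨P, hP⟩ : ∃ P : Polynomial F,
      P = Polynomial.C 1 * Polynomial.X ^ 2 + Polynomial.C 1 * Polynomial.X + Polynomial.C 1 := ⟨_, rfl⟩
  have hdeg : P.natDegree = 2 := hP ▸ Polynomial.natDegree_quadratic one_ne_zero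
  have hP0 : P ≠ 0 := fun h => by rw [h, Polynomial.natDegree_zero] at hdeg; omega
  have hsub : s ⊆ ({0, -1} : Finset F) ∪ P.roots.toFinset := by
    intro x _
    rw [Finset.mem_union, Finset.mem_insert, Finset.mem_singleton, Multiset.mem_toFinset,
      Polynomial.mem_roots hP0]
    rcases eq_or_ne x 0 with h | h
    · exact Or.inl (Or.inl h)
    rcases eq_or_ne (x + 1) 0 with h' | h'
    · exact Or.inl (Or.inr (eq_neg_of_add_eq_zero_left h'))
    · exact Or.inr (by simpa [hP, sq] using hc x h h')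
  have h1 := (Finset.card_le_card hsub).trans (Finset.card_union_le _ _)
  have h2 := (Multiset.toFinset_card_le P.roots).trans P.card_roots'
  have h3 : ({0, -1} : Finset F).card ≤ 2 := Finset.card_le_two
  omega

theorem sx_injective (g : T.GoodA) {s : ℕ} (hs : s < T.n) {a b : F}
    (h : sx T F s a = sx T F s b) : a = b := by
  have := congrArg (θ0 g F) h
  rw [θ0_sx, θ0_sx] at this
  exact xg_injective g.toGood hs this

/-- `y` scales every root group. -/
def Tor (T : Tab) (F : Type*) [Field F] (y : T.D.SteinbergCover F) : Prop :=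
  ∀ s < T.n, ∃ μ : F, ∀ t, y * sx T F s t * y⁻¹ = sx T F s (μ * t)

/-- `y` scales `x_s` by `μ` -/
def Scales (T : Tab) (F : Type*) [Field F] (y : T.D.SteinbergCover F) (s : ℕ) (μ : F) : Prop :=
  ∀ t, y * sx T F s t * y⁻¹ = sx T F s (μ * t)

theorem Scales.mul {x y : T.D.SteinbergCover F} {s : ℕ} {a b : F} (hx : Scales T F x s a)
    (hy : Scales T F y s b) : Scales T F (x * y) s (a * b) := fun t => by
  rw [show x * y * sx T F s t * (x * y)⁻¹ = x * (y * sx T F s t * y⁻¹) * x⁻¹ by group, hy, hx, mul_assoc]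

theorem scales_h (g : T.GoodW K W) {i : ℕ} (hi : i < T.l) (u : Fˣ) {s : ℕ} (hs : s < T.n) :
    Scales T F (sh T F (T.smp i) (u : F)) s ((u ^ T.A i s : Fˣ) : F) := by
  intro t
  have hg := g.toGood
  have h1 := sn_conj (F := F) g hi hs (-1) t
  rw [Units.val_neg, Units.val_one] at h1
  have h2 := sn_conj (F := F) g hi (hg.ref_lt hi hs) u (kap T F i (-1) s * t)
  rw [hg.ref_ref hi hs] at h2
  have e : sh T F (T.smp i) (u : F) * sx T F s t * (sh T F (T.smp i) (u : F))⁻¹ =
      sx T F s (kap T F i u (T.ref i s) * (kap T F i (-1) s * t)) := by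
    rw [← h2, ← h1, sh]; group
  have e2 := congrArg (θ0 g.toGoodA F) e
  rw [map_mul, map_mul, map_inv, θ0_sh, hE_smp hg hi, θ0_sx, θ0_sx, hS_eq_tor, tor_xg hg _ hs,
    wt_single hg hi] at e2
  rw [e, ← xg_injective hg hs e2]

theorem tor_h (g : T.GoodW K W) {i : ℕ} (hi : i < T.l) (u : Fˣ) :
    Tor T F (sh T F (T.smp i) (u : F)) := fun _ hs => ⟨_, scales_h g hi u hs⟩

theorem Tor.mul {x y : T.D.SteinbergCover F} (hx : Tor T F x) (hy : Tor T F y) : Tor T F (x * y) := by
  intro s hs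
  obtain ⟨a, ha⟩ := hx s hs
  obtain ⟨b, hb⟩ := hy s hs
  exact ⟨a * b, Scales.mul ha hb⟩

theorem Scales.conj (g : T.GoodW K W) {i : ℕ} (hi : i < T.l) {y : T.D.SteinbergCover F} {s : ℕ}
    (hs : s < T.n) {μ : F} (hy : Scales T F y s μ) :
    Scales T F (sn T F (T.smp i) (1 : F) * y * (sn T F (T.smp i) (1 : F))⁻¹) (T.ref i s) μ := by
  intro t
  obtain ⟨n, hn⟩ : ∃ n, sn T F (T.smp i) (1 : F) = n := ⟨_, rfl⟩
  have h := sn_one_conj g hi hs ((T.eta i s : F) * t)
  have h' := sn_one_conj g hi hs (μ * ((T.eta i s : F) * t))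
  rw [← mul_assoc, eta_sq, one_mul] at h
  rw [show (T.eta i s : F) * (μ * ((T.eta i s : F) * t)) = μ * (((T.eta i s : F) * (T.eta i s : F)) * t) by
    ring, eta_sq, one_mul] at h'
  rw [hn] at h h' ⊢
  rw [← h, ← h', ← hy]
  group

theorem Tor.conj (g : T.GoodW K W) {i : ℕ} (hi : i < T.l) {y : T.D.SteinbergCover F} (hy : Tor T F y) :
    Tor T F (sn T F (T.smp i) (1 : F) * y * (sn T F (T.smp i) (1 : F))⁻¹) := by
  intro s hs
  obtain ⟨μ, hμ⟩ := hy _ (g.toGood.ref_lt hi hs)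
  have h := Scales.conj g hi (g.toGood.ref_lt hi hs) hμ
  rw [g.toGood.ref_ref hi hs] at h
  exact ⟨μ, h⟩

theorem Tor.commutator_central (g : T.Good) {x y : T.D.SteinbergCover F} (hx : Tor T F x)
    (hy : Tor T F y) : x * y * x⁻¹ * y⁻¹ ∈ Subgroup.center (T.D.SteinbergCover F) := by
  refine mem_center_of_commute g fun s hs t => ?_
  obtain ⟨a, ha⟩ := hx s hs
  obtain ⟨b, hb⟩ := hy s hs
  have hab := Scales.mul ha hb t
  have hba := Scales.mul hb ha t
  rw [mul_comm b a] at hba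
  have hq : x * y * sx T F s t * (x * y)⁻¹ = y * x * sx T F s t * (y * x)⁻¹ := hab.trans hba.symm
  have key : ∀ u : F, x * y * x⁻¹ * y⁻¹ * (y * x * sx T F s u * (y * x)⁻¹) * (x * y * x⁻¹ * y⁻¹)⁻¹ =
      x * y * sx T F s u * (x * y)⁻¹ := fun u => by group
  rcases eq_or_ne (a * b) 0 with h0 | h0
  · have h1 : sx T F s t = 1 := by
      have h2 : x * y * sx T F s t * (x * y)⁻¹ = 1 := by rw [hab, h0, zero_mul, sx_zero g]
      exact conj_eq_one_iff.1 h2
    simp [h1]
  · have h := key ((a * b)⁻¹ * t)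
    rw [Scales.mul hb ha, Scales.mul ha hb, mul_comm b a, ← mul_assoc, mul_inv_cancel₀ h0, one_mul] at h
    exact h

theorem exists_fix_move (g : T.GoodW K W) (hmv : T.checkMove = true) {s₀ : Finset F} (hs₀ : 4 < s₀.card) :
    ∀ r < T.n, ∀ s < T.n, s ≠ r → s ≠ T.neg r →
      ∃ y, Tor T F y ∧ Scales T F y r 1 ∧ ∃ μ, μ ≠ 1 ∧ Scales T F y s μ := by
  have hg := g.toGood
  refine root_induction hg (fun i hi s hs h1 h2 => ?_) (fun i hi r hr ih s hs h1 h2 => ?_)
  · have h := allBelow_eq_true.1 (allBelow_eq_true.1 hmv i hi) s hs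
    simp only [Bool.or_eq_true, nat_beq] at h
    rcases h with (h | h) | h
    · exact absurd h h1
    · exact absurd h h2
    obtain ⟨j, hj, h⟩ := anyBelow_eq_true.1 h
    simp only [Bool.or_eq_true, Bool.and_eq_true, beq_iff_eq, nat_ble] at h
    -- reduce to an exponent vector
    obtain ⟨y, hyT, hy1, e, he0, he3, hys⟩ : ∃ f : Fˣ → T.D.SteinbergCover F,
        (∀ u, Tor T F (f u)) ∧ (∀ u, Scales T F (f u) (T.smp i) 1) ∧ ∃ e : ℤ, 1 ≤ e.natAbs ∧
          e.natAbs ≤ 3 ∧ ∀ u, Scales T F (f u) s ((u ^ e : Fˣ) : F) := by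
      rcases h with ⟨⟨h0, hk1⟩, hk3⟩ | h
      · refine ⟨fun u => sh T F (T.smp j) (u : F), fun u => tor_h g hj u, fun u => ?_, T.A j s, hk1, hk3,
          fun u => scales_h g hj u hs⟩
        have := scales_h g hj u (hg.smp_lt hi)
        rwa [h0, _root_.zpow_zero, Units.val_one] at this
      · obtain ⟨j', hj', h⟩ := anyBelow_eq_true.1 h
        simp only [Bool.and_eq_true, nat_ble, beq_iff_eq] at h
        obtain ⟨d, hd⟩ : ∃ d : ℤ,
            ((Nat.gcd (T.A j (T.smp i)).natAbs (T.A j' (T.smp i)).natAbs : ℕ) : ℤ) = d := ⟨_, rfl⟩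
        rw [hd] at h
        obtain ⟨a, ha⟩ : ∃ a, T.A j' (T.smp i) / d = a := ⟨_, rfl⟩
        obtain ⟨b, hb⟩ : ∃ b, T.A j (T.smp i) / d = b := ⟨_, rfl⟩
        rw [ha, hb] at h
        refine ⟨fun u => sh T F (T.smp j) ((u ^ a : Fˣ) : F) * sh T F (T.smp j') ((u ^ (-b) : Fˣ) : F),
          fun u => (tor_h g hj _).mul (tor_h g hj' _), fun u => ?_, T.A j s * a - T.A j' s * b, h.1.2, h.2,
          fun u => ?_⟩
        · have := (scales_h g hj (u ^ a) (hg.smp_lt hi)).mul (scales_h g hj' (u ^ (-b)) (hg.smp_lt hi))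
          rw [← Units.val_mul, ← zpow_mul, ← zpow_mul, ← _root_.zpow_add,
            show a * T.A j (T.smp i) + -b * T.A j' (T.smp i) =
              T.A j (T.smp i) * a - T.A j' (T.smp i) * b by ring, h.1.1, _root_.zpow_zero,
            Units.val_one] at this
          exact this
        · have := (scales_h g hj (u ^ a) hs).mul (scales_h g hj' (u ^ (-b)) hs)
          rw [← Units.val_mul, ← zpow_mul, ← zpow_mul, ← _root_.zpow_add,
            show a * T.A j s + -b * T.A j' s = T.A j s * a - T.A j' s * b by ring] at this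
          exact this
    obtain ⟨u, hu⟩ := exists_pow_ne_one hs₀ he0 he3
    refine ⟨y u, hyT u, hy1 u, _, ?_, hys u⟩
    intro he
    apply hu
    have he' : u ^ e = 1 := Units.ext (by rw [he, Units.val_one])
    have : u ^ e.natAbs = 1 := by
      rcases Int.natAbs_eq e with h | h
      · rw [← zpow_natCast, ← h, he']
      · rw [← zpow_natCast, show (e.natAbs : ℤ) = -e by omega, _root_.zpow_neg, he', inv_one]
    rw [← Units.val_pow_eq_pow_val, this, Units.val_one]
  · have hu := hg.ref_lt hi hs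
    obtain ⟨y, hy, hy1, μ, hμ, hys⟩ := ih _ hu
      (fun h => h1 (by rw [← h, hg.ref_ref hi hs]))
      (fun h => h2 (by rw [← hg.ref_neg hi hr, ← h, hg.ref_ref hi hs]))
    refine ⟨_, hy.conj g hi, Scales.conj g hi hr hy1, μ, hμ, ?_⟩
    simpa [hg.ref_ref hi hs] using Scales.conj g hi hu hys

theorem exists_tor_move (g : T.GoodW K W) {s₀ : Finset F} (hs₀ : 4 < s₀.card) :
    ∀ r < T.n, ∃ y, Tor T F y ∧ ∃ μ, μ ≠ 1 ∧ Scales T F y r μ := by
  have hg := g.toGood
  refine root_induction hg (fun i hi => ?_) fun i hi r hr ⟨y, hy, μ, hμ, hs⟩ =>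
    ⟨_, hy.conj g hi, μ, hμ, Scales.conj g hi hr hs⟩
  obtain ⟨u, hu⟩ := exists_pow_ne_one hs₀ (k := 2) (by norm_num) (by norm_num)
  refine ⟨_, tor_h g hi u, _, ?_, scales_h g hi u (hg.smp_lt hi)⟩
  rwa [A_smp_self hg hi, zpow_two, Units.val_mul, ← sq]

theorem scales_sx_eq (g : T.Good) {y : T.D.SteinbergCover F} {s : ℕ} {μ : F} (hy : Scales T F y s μ)
    (t : F) : ⁅y, sx T F s t⁆ = sx T F s ((μ - 1) * t) := by
  rw [commutatorElement_def, hy, sx_inv g, sx_add g, sub_mul, one_mul, sub_eq_add_neg]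

/-! ### a central extension -/

variable {E : Type*} [Group E] {π : E →* T.D.SteinbergCover F}

/-- a lift -/
noncomputable def lft (π : E →* T.D.SteinbergCover F) (hπ : Function.Surjective π)
    (x : T.D.SteinbergCover F) : E := (hπ x).choose

theorem π_lft (hπ : Function.Surjective π) (x : T.D.SteinbergCover F) : π (lft π hπ x) = x :=
  (hπ x).choose_spec

/-- The hypotheses for a central extension of the cover. -/
structure Ext (π : E →* T.D.SteinbergCover F) : Prop where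
  surj : Function.Surjective π
  central : π.ker ≤ Subgroup.center E
  perfect : commutator (T.D.SteinbergCover F) = ⊤

/-- the commutator of lifts -/
noncomputable def cm (X : Ext π) (x y : T.D.SteinbergCover F) : E := ⁅lft π X.surj x, lft π X.surj y⁆

theorem exists_central (X : Ext π) {a b : E} (h : π a = π b) :
    ∃ z ∈ Subgroup.center E, a = z * b :=
  ⟨a * b⁻¹, X.central (by rw [MonoidHom.mem_ker, map_mul, map_inv, h, mul_inv_cancel]), by group⟩

theorem cm_eq (X : Ext π) {a b : E} {x y : T.D.SteinbergCover F} (ha : π a = x) (hb : π b = y) :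
    ⁅a, b⁆ = cm X x y := by
  obtain ⟨z, hz, rfl⟩ := exists_central X (ha.trans (π_lft X.surj x).symm)
  obtain ⟨w, hw, rfl⟩ := exists_central X (hb.trans (π_lft X.surj y).symm)
  exact commutator_central_mul hz hw _ _

theorem π_cm (X : Ext π) (x y : T.D.SteinbergCover F) : π (cm X x y) = ⁅x, y⁆ := by
  rw [cm, map_commutatorElement, π_lft, π_lft]

theorem conj_cm (X : Ext π) (e : E) (x y : T.D.SteinbergCover F) :
    e * cm X x y * e⁻¹ = cm X (π e * x * (π e)⁻¹) (π e * y * (π e)⁻¹) := by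
  rw [cm, show e * ⁅lft π X.surj x, lft π X.surj y⁆ * e⁻¹ =
    ⁅e * lft π X.surj x * e⁻¹, e * lft π X.surj y * e⁻¹⁆ by simp only [commutatorElement_def]; group]
  exact cm_eq X (by simp [π_lft]) (by simp [π_lft])

theorem central_lift (X : Ext π) {e : E} (he : π e ∈ Subgroup.center (T.D.SteinbergCover F)) :
    e ∈ Subgroup.center E := by
  have hmem : ∀ y : E, e * y * e⁻¹ * y⁻¹ ∈ Subgroup.center E := fun y => X.central (by
    rw [MonoidHom.mem_ker, map_mul, map_mul, map_mul, map_inv, map_inv,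
      ← Subgroup.mem_center_iff.1 he (π y), mul_inv_cancel_right, mul_inv_cancel])
  have hle : commutator E ⊔ Subgroup.center E ≤ Subgroup.centralizer {e} := by
    refine sup_le ?_ (fun z hz => Subgroup.mem_centralizer_singleton_iff.2
      (Subgroup.mem_center_iff.1 hz e).symm)
    rw [commutator_def, Subgroup.commutator_le]
    intro a _ b _
    rw [Subgroup.mem_centralizer_singleton_iff]
    have h : e * ⁅a, b⁆ * e⁻¹ = ⁅a, b⁆ := by
      rw [show e * ⁅a, b⁆ * e⁻¹ = ⁅(e * a * e⁻¹ * a⁻¹) * a, (e * b * e⁻¹ * b⁻¹) * b⁆ by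
        simp only [commutatorElement_def]; group]
      exact commutator_central_mul (hmem a) (hmem b) a b
    exact (mul_inv_eq_iff_eq_mul.1 h).symm
  rw [Subgroup.mem_center_iff]
  intro y
  refine Subgroup.mem_centralizer_singleton_iff.1 (hle ?_)
  have h1 : π y ∈ (commutator E).map π := by
    rw [commutator_def, Subgroup.map_commutator, ← MonoidHom.range_eq_map,
      MonoidHom.range_eq_top.2 X.surj, ← commutator_def, X.perfect]
    exact Subgroup.mem_top _
  obtain ⟨c, hc, hcy⟩ := h1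
  obtain ⟨z, hz, rfl⟩ := exists_central X hcy.symm
  exact mul_mem (Subgroup.mem_sup_right hz) (Subgroup.mem_sup_left hc)

theorem cm_center_mul (X : Ext π) {z : T.D.SteinbergCover F}
    (hz : z ∈ Subgroup.center (T.D.SteinbergCover F)) (x y : T.D.SteinbergCover F) :
    cm X (z * x) y = cm X x y := by
  rw [← cm_eq X (a := lft π X.surj z * lft π X.surj x) (b := 1 * lft π X.surj y)
    (by rw [map_mul, π_lft, π_lft]) (by rw [one_mul, π_lft])]
  exact commutator_central_mul (central_lift X (by rw [π_lft]; exact hz)) (one_mem _) _ _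

theorem lft_comm (X : Ext π) (g : T.GoodW K W) (hmv : T.checkMove = true) {s₀ : Finset F}
    (hs₀ : 4 < s₀.card) {r s : ℕ} (hr : r < T.n) (hs : s < T.n) (h1 : s ≠ r) (h2 : s ≠ T.neg r)
    (hC : ∀ t u : F, Commute (sx T F r t) (sx T F s u)) (t u : F) :
    cm X (sx T F r t) (sx T F s u) = 1 := by
  have hg := g.toGood
  obtain ⟨y, -, hy1, μ, hμ, hys⟩ := exists_fix_move g hmv hs₀ r hr s hs h1 h2
  obtain ⟨u', hu'⟩ : ∃ u', u / (μ - 1) = u' := ⟨_, rfl⟩
  have hb : π (cm X y (sx T F s u')) = sx T F s u := by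
    rw [π_cm, scales_sx_eq hg hys, ← hu', mul_div_cancel₀ _ (sub_ne_zero.2 hμ)]
  have ha := π_lft (π := π) X.surj (sx T F r t)
  rw [← cm_eq X ha hb, commutatorElement_eq_one_iff_commute]
  refine mul_inv_eq_iff_eq_mul.1 ?_
  rw [conj_cm, ha]
  congr 1
  · have := hy1 t
    rw [one_mul, mul_inv_eq_iff_eq_mul] at this
    rw [← this, mul_inv_cancel_right]
  · rw [(hC t u').eq, mul_inv_cancel_right]

/-- the lifts of the elements of a root group commute -/
def SelfComm (X : Ext π) (r : ℕ) : Prop := ∀ t u : F, cm X (sx T F r t) (sx T F r u) = 1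

theorem selfComm_odd (X : Ext π) (g : T.GoodW K W) {s₀ : Finset F} (hs₀ : 4 < s₀.card) {r j : ℕ}
    (hr : r < T.n) (hj : j < T.l) (hA : (T.A j r).natAbs = 1) : SelfComm X r := by
  have hg := g.toGood
  obtain ⟨f, hf⟩ : ∃ f : F → F → E, ∀ a b, f a b = cm X (sx T F r a) (sx T F r b) := ⟨_, fun _ _ => rfl⟩
  have hfc : ∀ a b, f a b ∈ Subgroup.center E := fun a b => by
    refine X.central ?_
    rw [MonoidHom.mem_ker, hf, π_cm, commutatorElement_eq_one_iff_commute, Commute, SemiconjBy,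
      sx_add hg, sx_add hg, add_comm]
  have hl : ∀ a a' b, f (a + a') b = f a b * f a' b := fun a a' b => by
    obtain ⟨A, hA'⟩ := X.surj (sx T F r a)
    obtain ⟨A', hA''⟩ := X.surj (sx T F r a')
    obtain ⟨B, hB⟩ := X.surj (sx T F r b)
    rw [hf, hf, hf, ← cm_eq X (a := A * A') (by rw [map_mul, hA', hA'', sx_add hg]) hB, ← cm_eq X hA' hB,
      ← cm_eq X hA'' hB]
    have hcen : ⁅A', B⁆ ∈ Subgroup.center E := by rw [cm_eq X hA'' hB, ← hf]; exact hfc _ _
    rw [show ⁅A * A', B⁆ = (A * ⁅A', B⁆ * A⁻¹) * ⁅A, B⁆ by simp only [commutatorElement_def]; group,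
      Subgroup.mem_center_iff.1 hcen A, mul_inv_cancel_right, Subgroup.mem_center_iff.1 hcen]
  have hrr : ∀ a b b', f a (b + b') = f a b * f a b' := fun a b b' => by
    obtain ⟨A, hA'⟩ := X.surj (sx T F r a)
    obtain ⟨B, hB⟩ := X.surj (sx T F r b)
    obtain ⟨B', hB'⟩ := X.surj (sx T F r b')
    rw [hf, hf, hf, ← cm_eq X (b := B * B') hA' (by rw [map_mul, hB, hB', sx_add hg]), ← cm_eq X hA' hB,
      ← cm_eq X hA' hB']
    have hcen : ⁅A, B'⁆ ∈ Subgroup.center E := by rw [cm_eq X hA' hB', ← hf]; exact hfc _ _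
    rw [show ⁅A, B * B'⁆ = ⁅A, B⁆ * (B * ⁅A, B'⁆ * B⁻¹) by simp only [commutatorElement_def]; group,
      Subgroup.mem_center_iff.1 hcen B, mul_inv_cancel_right]
  have hinv : ∀ v : Fˣ, ∀ a b, f ((v : F) * a) ((v : F) * b) = f a b := fun v a b => by
    obtain ⟨u, hu⟩ : ∃ u : Fˣ, u ^ T.A j r = v := by
      refine ⟨v ^ T.A j r, ?_⟩
      rw [← zpow_mul]
      rcases Int.natAbs_eq (T.A j r) with h | h <;> rw [h, hA] <;> simp
    have h := scales_h g hj u hr
    rw [hu] at h
    obtain ⟨e, he⟩ := X.surj (sh T F (T.smp j) (u : F))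
    calc f ((v : F) * a) ((v : F) * b) = e * f a b * e⁻¹ := by rw [hf, hf, conj_cm, he, h, h]
      _ = f a b := by rw [Subgroup.mem_center_iff.1 (hfc a b) e, mul_inv_cancel_right]
  have hsw : ∀ (v : F), v ≠ 0 → ∀ a b, f (v * a) b = f a (v⁻¹ * b) := fun v hv a b => by
    have := hinv (Units.mk0 v hv) a (v⁻¹ * b)
    rwa [Units.val_mk0, ← mul_assoc, mul_inv_cancel₀ hv, one_mul] at this
  obtain ⟨x, hx0, hx1, hxq⟩ := exists_not_cube_root hs₀
  intro a b
  rw [← hf]
  obtain ⟨c, hc⟩ : ∃ c, b = (x⁻¹ + 1) * c - (x + 1)⁻¹ * c := by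
    refine ⟨b / ((x⁻¹ + 1) - (x + 1)⁻¹), ?_⟩
    rw [← sub_mul, mul_div_cancel₀]
    intro h
    apply hxq
    have := congrArg (fun z => z * (x * (x + 1))) h
    simp only [zero_mul] at this
    field_simp at this
    linear_combination this
  have h1 : f a ((x⁻¹ + 1) * c) = f a ((x + 1)⁻¹ * c) := by
    rw [← hsw _ hx1, add_mul x, hl, one_mul, hsw _ hx0, ← hrr, add_mul, one_mul]
  have h2 := hrr a b ((x + 1)⁻¹ * c)
  rw [show b + (x + 1)⁻¹ * c = (x⁻¹ + 1) * c by rw [hc]; ring, h1] at h2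
  exact mul_eq_right.1 h2.symm

theorem selfComm_wit (X : Ext π) (g : T.GoodW K W) (hmv : T.checkMove = true) {s₀ : Finset F}
    (hs₀ : 4 < s₀.card) {r p q : ℕ} (hr : r < T.n) (hp : p < T.n) (hq : q < T.n)
    (hrp : T.offRoot r p = true) (hrq : T.offRoot r q = true) (hqp : q ≠ p) (hqn : q ≠ T.neg p)
    {A B : List (ℕ × ℤ × ℕ × ℕ)} {c : ℕ × ℤ × ℕ × ℕ} (he : T.cTerms p q = A ++ c :: B) (hcr : c.1 = r)
    (hC : c.2.1.natAbs = 1) (hlin : c.2.2.1 = 1 ∨ c.2.2.2 = 1)
    (hAB : ∀ d ∈ A ++ B, T.offRoot r d.1 = true) : SelfComm X r := by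
  have hg := g.toGood
  intro t v
  obtain ⟨R, hR⟩ := X.surj (sx T F r t)
  let S : Subgroup (T.D.SteinbergCover F) := (Subgroup.centralizer {R}).map π
  have hS : ∀ x, x ∈ S → cm X (sx T F r t) x = 1 := by
    rintro _ ⟨b, hb, rfl⟩
    rw [← cm_eq X hR rfl, commutatorElement_eq_one_iff_commute]
    exact (Subgroup.mem_centralizer_singleton_iff.1 hb).symm
  have hS' : ∀ x, cm X (sx T F r t) x = 1 → x ∈ S := fun x hx => by
    refine ⟨lft π X.surj x, Subgroup.mem_centralizer_singleton_iff.2 ?_, π_lft _ _⟩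
    rw [← cm_eq X hR (π_lft X.surj x), commutatorElement_eq_one_iff_commute] at hx
    exact hx.symm.eq
  have hoff : ∀ w, w < T.n → T.offRoot r w = true → ∀ a, sx T F w a ∈ S := by
    intro w hw h a
    simp only [offRoot, Bool.and_eq_true, Bool.not_eq_true', nat_beq_false, List.isEmpty_iff] at h
    refine hS' _ (lft_comm X g hmv hs₀ hr hw h.1.1 h.1.2 (fun t u => ?_) t a)
    have := sx_comm hg hr hw h.1.1 h.1.2 t u
    rw [cVal, h.2, List.map_nil] at this
    simpa [sWord, Commute, SemiconjBy] using this.symm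
  obtain ⟨x, y, hxy⟩ : ∃ x y : F, (c.2.1 : F) * (-x) ^ c.2.2.1 * y ^ c.2.2.2 = v := by
    have hC2 : (c.2.1 : F) * (c.2.1 : F) = 1 := by
      rcases Int.natAbs_eq c.2.1 with h | h <;> rw [h, hC] <;> simp
    rcases hlin with h | h
    · refine ⟨-((c.2.1 : F) * v), 1, ?_⟩
      rw [h, pow_one, one_pow, _root_.neg_neg]
      linear_combination v * hC2
    · refine ⟨-1, (c.2.1 : F) * v, ?_⟩
      rw [h, pow_one, _root_.neg_neg, one_pow]
      linear_combination v * hC2
  have hW : sWord T F (cVal T F p q x y) ∈ S := by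
    rw [show sWord T F (cVal T F p q x y) = (sx T F p x * sx T F q y)⁻¹ * (sx T F q y * sx T F p x) by
      rw [sx_comm hg hp hq hqp hqn, inv_mul_cancel_left]]
    exact mul_mem (inv_mem (mul_mem (hoff p hp hrp _) (hoff q hq hrq _)))
      (mul_mem (hoff q hq hrq _) (hoff p hp hrp _))
  have hlist : ∀ L : List (ℕ × ℤ × ℕ × ℕ), (∀ d ∈ L, d ∈ A ++ B) →
      sWord T F (L.map fun d => (d.1, (d.2.1 : F) * (-x) ^ d.2.2.1 * y ^ d.2.2.2)) ∈ S := by
    intro L hL
    refine Subgroup.list_prod_mem _ fun z hz => ?_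
    rw [List.map_map, List.mem_map] at hz
    obtain ⟨d, hd, rfl⟩ := hz
    refine hoff _ (cTerms_mem hg hp hq (c := d) ?_).1 (hAB d (hL d hd)) _
    rw [he]
    rcases List.mem_append.1 (hL d hd) with h | h <;> simp [h]
  rw [cVal, he, List.map_append, List.map_cons, hxy, hcr, sWord_append, sWord_cons] at hW
  refine hS _ ?_
  have h1 := mul_mem (inv_mem (hlist A fun d hd => List.mem_append_left _ hd)) hW
  rw [inv_mul_cancel_left] at h1
  have h2 := mul_mem h1 (inv_mem (hlist B fun d hd => List.mem_append_right _ hd))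
  rwa [mul_inv_cancel_right] at h2

theorem selfComm_all (X : Ext π) (g : T.GoodW K W) (hmv : T.checkMove = true)
    (hsf : T.checkSelf = true) {s₀ : Finset F} (hs₀ : 4 < s₀.card) : ∀ r < T.n, SelfComm X r := by
  have hg := g.toGood
  refine root_induction hg (fun i hi => ?_) (fun i hi r hr ih t u => ?_)
  · have h := allBelow_eq_true.1 hsf i hi
    simp only [Bool.or_eq_true] at h
    rcases h with h | h
    · obtain ⟨j, hj, h⟩ := anyBelow_eq_true.1 h
      exact selfComm_odd X g hs₀ (hg.smp_lt hi) hj (by simpa only [nat_beq] using h)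
    · obtain ⟨p, hp, h⟩ := anyBelow_eq_true.1 h
      obtain ⟨q, hq, h⟩ := anyBelow_eq_true.1 h
      simp only [Bool.and_eq_true, Bool.not_eq_true', nat_beq_false] at h
      obtain ⟨⟨⟨⟨h1, h2⟩, h3⟩, h4⟩, h⟩ := h
      obtain ⟨m, -, h⟩ := anyBelow_eq_true.1 h
      split at h
      swap
      · simp at h
      rename_i k C a b rest hdrop
      simp only [Bool.and_eq_true, nat_beq, Bool.or_eq_true, List.all_eq_true] at h
      obtain ⟨⟨⟨hk, hC⟩, hlin⟩, hrest⟩ := h
      have he : T.cTerms p q = (T.cTerms p q).take m ++ (k, C, a, b) :: rest := by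
        rw [← hdrop, List.take_append_drop]
      exact selfComm_wit X g hmv hs₀ (hg.smp_lt hi) hp hq h1 h2 h3 h4 he hk hC hlin hrest
  · have h1 := sn_one_conj g hi hr ((T.eta i r : F) * t)
    have h2 := sn_one_conj g hi hr ((T.eta i r : F) * u)
    rw [← mul_assoc, eta_sq, one_mul] at h1 h2
    obtain ⟨e, he⟩ := X.surj (sn T F (T.smp i) (1 : F))
    rw [← h1, ← h2, ← he, ← conj_cm, ih, mul_one, mul_inv_cancel]

/-- the torus element used at `r` -/
noncomputable def yAt (g : T.GoodW K W) {s₀ : Finset F} (hs₀ : 4 < s₀.card) {r : ℕ} (hr : r < T.n) :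
    T.D.SteinbergCover F := (exists_tor_move g hs₀ r hr).choose

/-- its eigenvalue -/
noncomputable def muAt (g : T.GoodW K W) {s₀ : Finset F} (hs₀ : 4 < s₀.card) {r : ℕ} (hr : r < T.n) :
    F := (exists_tor_move g hs₀ r hr).choose_spec.2.choose

/-- the lifted root elements -/
noncomputable def psi (X : Ext π) (g : T.GoodW K W) {s₀ : Finset F} (hs₀ : 4 < s₀.card) (r : ℕ)
    (t : F) : E :=
  if hr : r < T.n then cm X (yAt g hs₀ hr) (sx T F r (t / (muAt g hs₀ hr - 1))) else 1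

theorem lifts_psi (X : Ext π) (g : T.GoodW K W) (hmv : T.checkMove = true) (hsf : T.checkSelf = true)
    {s₀ : Finset F} (hs₀ : 4 < s₀.card) : Lifts T π (psi X g hs₀) := by
  have hg := g.toGood
  obtain ⟨ψ, hψ⟩ : ∃ ψ, psi X g hs₀ = ψ := ⟨_, rfl⟩
  rw [hψ]
  have spec : ∀ {r : ℕ} (hr : r < T.n), Tor T F (yAt g hs₀ hr) ∧ muAt g hs₀ hr ≠ 1 ∧
      Scales T F (yAt g hs₀ hr) r (muAt g hs₀ hr) := fun {r} hr =>
    ⟨(exists_tor_move g hs₀ r hr).choose_spec.1, (exists_tor_move g hs₀ r hr).choose_spec.2.choose_spec⟩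
  have hdef : ∀ {r : ℕ} (hr : r < T.n) (t : F),
      ψ r t = cm X (yAt g hs₀ hr) (sx T F r (t / (muAt g hs₀ hr - 1))) := fun {r} hr t => by
    rw [← hψ, psi, dif_pos hr]
  have himg : ∀ r < T.n, ∀ t, π (ψ r t) = sx T F r t := fun r hr t => by
    rw [hdef hr, π_cm, scales_sx_eq hg (spec hr).2.2, mul_div_cancel₀ _ (sub_ne_zero.2 (spec hr).2.1)]
  have hsc := selfComm_all X g hmv hsf hs₀
  have hadd : ∀ r < T.n, ∀ a b, ψ r a * ψ r b = ψ r (a + b) := by
    intro r hr a b
    obtain ⟨Y, hY⟩ := X.surj (yAt g hs₀ hr)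
    obtain ⟨A, hA⟩ := X.surj (sx T F r (a / (muAt g hs₀ hr - 1)))
    obtain ⟨B, hB⟩ := X.surj (sx T F r (b / (muAt g hs₀ hr - 1)))
    rw [hdef hr a, hdef hr (a + b), add_div, ← cm_eq X hY hA,
      ← cm_eq X (b := A * B) hY (by rw [map_mul, hA, hB, sx_add hg]),
      show ⁅Y, A * B⁆ = ⁅Y, A⁆ * (A * ⁅Y, B⁆ * A⁻¹) by simp only [commutatorElement_def]; group]
    congr 1
    rw [cm_eq X hY hB, ← hdef hr b]
    have hc : ⁅A, ψ r b⁆ = 1 := by rw [cm_eq X hA (himg r hr b)]; exact hsc r hr _ _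
    rw [commutatorElement_eq_one_iff_commute] at hc
    rw [hc.eq, mul_inv_cancel_right]
  have hzero : ∀ r < T.n, ψ r 0 = 1 := fun r hr => by
    have h := hadd r hr 0 0
    rw [add_zero] at h
    exact mul_eq_left.1 h
  have hneg : ∀ r < T.n, ∀ t, (ψ r t)⁻¹ = ψ r (-t) := fun r hr t =>
    inv_eq_of_mul_eq_one_right (by rw [hadd r hr, add_neg_cancel, hzero r hr])
  -- any element of the torus acts as it should
  have hact : ∀ {y : T.D.SteinbergCover F}, Tor T F y → ∀ {e : E}, π e = y → ∀ {r : ℕ}, r < T.n →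
      ∀ {ν : F}, Scales T F y r ν → ∀ t, e * ψ r t * e⁻¹ = ψ r (ν * t) := by
    intro y hy e he r hr ν hν t
    rw [hdef hr, conj_cm, he, hν, hdef hr, ← mul_div_assoc]
    obtain ⟨Y, hY⟩ : ∃ Y, yAt g hs₀ hr = Y := ⟨_, rfl⟩
    rw [hY, show y * Y * y⁻¹ = (y * Y * y⁻¹ * Y⁻¹) * Y by group,
      cm_center_mul X (Tor.commutator_central hg hy (hY ▸ (spec hr).1))]
  have hindep : ∀ {y : T.D.SteinbergCover F}, Tor T F y → ∀ {r : ℕ}, r < T.n → ∀ {ν : F},
      Scales T F y r ν → ∀ t, cm X y (sx T F r t) = ψ r ((ν - 1) * t) := by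
    intro y hy r hr ν hν t
    obtain ⟨e, he⟩ := X.surj y
    rw [← cm_eq X he (himg r hr t), commutatorElement_def, hact hy he hr hν, hneg r hr, hadd r hr,
      sub_mul, one_mul, sub_eq_add_neg]
  refine ⟨himg, hadd, fun i hi => ?_, fun k hk hkn hI s hks hsn t u => ?_⟩
  · obtain ⟨e, he⟩ := X.surj (sn T F (T.smp i) (1 : F))
    refine ⟨e, fun s hs t => ?_⟩
    rw [hdef hs, conj_cm, he, sn_one_conj g hi hs,
      hindep ((spec hs).1.conj g hi) (hg.ref_lt hi hs) (Scales.conj g hi hs (spec hs).2.2)]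
    have hμ : muAt g hs₀ hs - 1 ≠ 0 := sub_ne_zero.2 (spec hs).2.1
    generalize muAt g hs₀ hs - 1 = m at hμ ⊢
    congr 1
    field_simp
  · obtain ⟨y, hy, hy1, μ, hμ, hys⟩ := exists_fix_move g hmv hs₀ k hkn s hsn (by omega)
      (by have := (neg_lt_N_iff hkn).2 hk; omega)
    have hu : ψ s u = cm X y (sx T F s (u / (μ - 1))) := by
      rw [hindep hy hsn hys, mul_div_cancel₀ _ (sub_ne_zero.2 hμ)]
    have hyk : sx T F k t * y * (sx T F k t)⁻¹ = y := by
      have := hy1 t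
      rw [one_mul, mul_inv_eq_iff_eq_mul] at this
      rw [← this, mul_inv_cancel_right]
    rw [hu, conj_cm, himg k hkn, hyk]
    have hmem : sx T F k t * sx T F s (u / (μ - 1)) * (sx T F k t)⁻¹ ∈ sGen T F (Set.Ico (k + 1) T.n) :=
      (Subgroup.mem_normalizer_iff.1 (sx_normalizes_Ico (F := F) hg (k := k + 1) (r := k) (by omega) hkn hk t) _).1
        (sx_mem_sGen (S := Set.Ico (k + 1) T.n) ⟨hks, hsn⟩ _)
    obtain ⟨m, hm, hπm⟩ : ∃ m ∈ lGen T ψ (k + 1),
        π m = sx T F k t * sx T F s (u / (μ - 1)) * (sx T F k t)⁻¹ := by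
      refine sGen_induction hg (p := fun x => ∃ m ∈ lGen T ψ (k + 1), π m = x) ⟨1, one_mem _, map_one π⟩
        (fun r hr a x ⟨m, hm, e⟩ => ⟨ψ r a * m, mul_mem (mem_lGen hr.1 hr.2 a) hm, ?_⟩) hmem
      rw [map_mul, himg r hr.2, e]
    obtain ⟨e, he⟩ := X.surj y
    rw [← cm_eq X he hπm, commutatorElement_def]
    refine mul_mem ?_ (inv_mem hm)
    clear hπm
    induction hm using Subgroup.closure_induction with
    | mem x hx =>
      obtain ⟨r, hr, a, rfl⟩ := hx
      obtain ⟨ν, hν⟩ := hy r hr.2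
      rw [hact hy he hr.2 hν]
      exact mem_lGen hr.1 hr.2 _
    | one => simp
    | mul a b _ _ ha hb =>
      rw [show e * (a * b) * e⁻¹ = (e * a * e⁻¹) * (e * b * e⁻¹) by group]; exact mul_mem ha hb
    | inv a _ ha => rw [show e * a⁻¹ * e⁻¹ = (e * a * e⁻¹)⁻¹ by group]; exact inv_mem ha

end Cov

end Tab

end Cfsg.Agent.Chev
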