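/-
Central extensions of the cover split uniquely (fields with more than four elements).
-/
import Cfsg.Agent.Lib.Lie.CovUniversal
import Cfsg.Agent.Lib.Lie.GoodW

set_option autoImplicit false
set_option maxRecDepth 8000

namespace Cfsg.Agent.Chev

open Cfsg.Lie
open scoped commutatorElement

theorem exists_checks {D : ChevalleyDatum}
    (hD : D ∈ [chevG2, chevB2, chevD4, chevF4, chevE6, chevE7, chevE8]) :
    ∃ T : Tab, ∃ K W, T.GoodW K W ∧ T.D = D ∧ T.checkMove = true ∧ T.checkSelf = true := by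
  simp only [List.mem_cons, List.not_mem_nil, or_false] at hD
  rcases hD with rfl | rfl | rfl | rfl | rfl | rfl | rfl
  · exact ⟨G2Data.tab, [[2, 3], [1, 2]],
      [(0, 9, 1), (0, 8, 2)],
      ⟨⟨⟨G2Data.good, by decide +kernel⟩, by decide +kernel⟩, by decide +kernel⟩, rfl,
      by decide +kernel, by decide +kernel⟩
  · exact ⟨B2Data.tab, [[2, 2], [1, 2]],
      [(1, 7, 0), (0, 6, 1)],
      ⟨⟨⟨B2Data.good, by decide +kernel⟩, by decide +kernel⟩, by decide +kernel⟩, rfl,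
      by decide +kernel, by decide +kernel⟩
  · exact ⟨D4Data.tab, [[4, 4, 2, 2], [4, 8, 4, 4], [2, 4, 4, 2], [2, 4, 2, 4]],
      [(6, 22, 0), (1, 23, 0), (3, 22, 0), (2, 22, 0)],
      ⟨⟨⟨D4Data.good, by decide +kernel⟩, by decide +kernel⟩, by decide +kernel⟩, rfl,
      by decide +kernel, by decide +kernel⟩
  · exact ⟨F4Data.tab, [[2, 3, 4, 2], [3, 6, 8, 4], [2, 4, 6, 3], [1, 2, 3, 2]],
      [(7, 44, 0), (3, 45, 0), (0, 39, 1), (1, 47, 0)],
      ⟨⟨⟨F4Data.good, by decide +kernel⟩, by decide +kernel⟩, by decide +kernel⟩, rfl,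
      by decide +kernel, by decide +kernel⟩
  · exact ⟨E6Data.tab, [[4, 3, 5, 6, 4, 2], [3, 6, 6, 9, 6, 3], [5, 6, 10, 12, 8, 4], [6, 9, 12, 18, 12, 6], [4, 6, 8, 12, 10, 5], [2, 3, 4, 6, 5, 4]],
      [(16, 66, 0), (1, 71, 0), (5, 69, 0), (2, 70, 0), (3, 69, 0), (4, 68, 0)],
      ⟨⟨⟨E6Data.good, by decide +kernel⟩, by decide +kernel⟩, by decide +kernel⟩, rfl,
      by decide +kernel, by decide +kernel⟩
  · exact ⟨E7Data.tab, [[4, 4, 6, 8, 6, 4, 2], [4, 7, 8, 12, 9, 6, 3], [6, 8, 12, 16, 12, 8, 4], [8, 12, 16, 24, 18, 12, 6], [6, 9, 12, 18, 15, 10, 5], [4, 6, 8, 12, 10, 8, 4], [2, 3, 4, 6, 5, 4, 3]],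
      [(1, 125, 0), (7, 122, 0), (2, 124, 0), (3, 123, 0), (4, 122, 0), (5, 121, 0), (6, 120, 0)],
      ⟨⟨⟨E7Data.good, by decide +kernel⟩, by decide +kernel⟩, by decide +kernel⟩, rfl,
      by decide +kernel, by decide +kernel⟩
  · exact ⟨E8Data.tab, [[4, 5, 7, 10, 8, 6, 4, 2], [5, 8, 10, 15, 12, 9, 6, 3], [7, 10, 14, 20, 16, 12, 8, 4], [10, 15, 20, 30, 24, 18, 12, 6], [8, 12, 16, 24, 20, 15, 10, 5], [6, 9, 12, 18, 15, 12, 8, 4], [4, 6, 8, 12, 10, 8, 6, 3], [2, 3, 4, 6, 5, 4, 3, 2]],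
      [(14, 233, 0), (7, 234, 0), (6, 234, 0), (5, 235, 0), (4, 236, 0), (3, 237, 0), (2, 238, 0), (1, 239, 0)],
      ⟨⟨⟨E8Data.good, by decide +kernel⟩, by decide +kernel⟩, by decide +kernel⟩, rfl,
      by decide +kernel, by decide +kernel⟩

/-- the cover is perfect away from the two small exceptions -/
theorem cover_perfect {F : Type*} [Field F] {D : ChevalleyDatum}
    (hD : D ∈ [chevG2, chevB2, chevD4, chevF4, chevE6, chevE7, chevE8])
    (hK : D ∈ [chevB2, chevG2] → ∃ x : F, x ≠ 0 ∧ x ≠ 1) :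
    commutator (D.SteinbergCover F) = ⊤ := by
  obtain ⟨T, two, g, rfl, hchk, h2⟩ := exists_checkKill hD
  exact Tab.commutator_steinbergCover_eq_top g (fun h => hK (h2 h)) hchk

theorem exists_ne_zero_one {F : Type*} [Field F] {s : Finset F} (hs : 4 < s.card) :
    ∃ x : F, x ≠ 0 ∧ x ≠ 1 := by
  classical
  by_contra hc
  push Not at hc
  have : s ⊆ ({0, 1} : Finset F) := fun x _ => by
    rw [Finset.mem_insert, Finset.mem_singleton]
    exact (eq_or_ne x 0).imp_right (hc x)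
  have := (Finset.card_le_card this).trans Finset.card_le_two
  omega

/-- homomorphisms from a perfect group lift at most once along a central extension -/
theorem eq_of_central {X E G₁ : Type*} [Group X] [Group E] [Group G₁] (hX : commutator X = ⊤)
    {π₁ : E →* G₁} (hc : π₁.ker ≤ Subgroup.center E) {τ τ' : X →* E}
    (h : π₁.comp τ = π₁.comp τ') : τ = τ' := by
  refine MonoidHom.eq_of_eqOn_top fun x _ => ?_
  have hle : commutator X ≤ MonoidHom.eqLocus τ τ' := by
    rw [commutator_def, Subgroup.commutator_le]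
    intro a _ b _
    show τ ⁅a, b⁆ = τ' ⁅a, b⁆
    have hz : ∀ y, τ y * (τ' y)⁻¹ ∈ Subgroup.center E := fun y => hc (by
      rw [MonoidHom.mem_ker, map_mul, map_inv, ← MonoidHom.comp_apply, h, MonoidHom.comp_apply,
        mul_inv_cancel])
    rw [map_commutatorElement, map_commutatorElement,
      show τ a = τ a * (τ' a)⁻¹ * τ' a by group, show τ b = τ b * (τ' b)⁻¹ * τ' b by group]
    exact Tab.Cov.commutator_central_mul (hz a) (hz b) _ _
  exact hle (hX ▸ Subgroup.mem_top x)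

/-- universality -/
theorem exists_cover_lift {F : Type*} [Field F] {s : Finset F} (hs : 4 < s.card) {D : ChevalleyDatum}
    (hD : D ∈ [chevG2, chevB2, chevD4, chevF4, chevE6, chevE7, chevE8]) {G₁ E : Type*} [Group G₁]
    [Group E] (π₁ : E →* G₁) (hπ : Function.Surjective π₁) (hc : π₁.ker ≤ Subgroup.center E)
    (σ : D.SteinbergCover F →* G₁) : ∃ τ : D.SteinbergCover F →* E, π₁.comp τ = σ := by
  have hperf := cover_perfect hD (fun _ => exists_ne_zero_one hs)
  obtain ⟨T, K, W, g, rfl, hmv, hsf⟩ := exists_checks hD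
  let P : Subgroup (E × T.D.SteinbergCover F) :=
    MonoidHom.eqLocus (π₁.comp (MonoidHom.fst E _)) (σ.comp (MonoidHom.snd E _))
  let π : P →* T.D.SteinbergCover F := (MonoidHom.snd E _).comp P.subtype
  have hX : Tab.Cov.Ext π := by
    refine ⟨fun x => ?_, fun p hp => ?_, hperf⟩
    · obtain ⟨e, he⟩ := hπ (σ x)
      exact ⟨⟨(e, x), he⟩, rfl⟩
    · have h2 : (p : E × T.D.SteinbergCover F).2 = 1 := hp
      have h1 : π₁ (p : E × T.D.SteinbergCover F).1 = σ (p : E × T.D.SteinbergCover F).2 := p.2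
      rw [h2, map_one] at h1
      rw [Subgroup.mem_center_iff]
      intro q
      refine Subtype.ext (Prod.ext ?_ ?_)
      · exact Subgroup.mem_center_iff.1 (hc h1) _
      · show (q : E × T.D.SteinbergCover F).2 * (p : E × T.D.SteinbergCover F).2 = _
        simp [h2]
  obtain ⟨τ, hτ, -⟩ := (Tab.Cov.lifts_psi hX g hmv hsf hs).exists_splitting g.toGoodA
  refine ⟨(MonoidHom.fst E _).comp (P.subtype.comp τ), MonoidHom.ext fun x => ?_⟩
  have h1 : π₁ (τ x : E × T.D.SteinbergCover F).1 = σ (τ x : E × T.D.SteinbergCover F).2 := (τ x).2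
  have h2 : (τ x : E × T.D.SteinbergCover F).2 = x := DFunLike.congr_fun hτ x
  rw [h2] at h1
  exact h1

end Cfsg.Agent.Chev
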