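/-
Trivial Schur multiplier from liftings out of the cover.
-/
import Cfsg.Agent.Lib.Lie.CovExtension
import Cfsg.Agent.Lib.Lie.StMain
import Cfsg.Agent.Lib.Schur.Basic

set_option autoImplicit false
set_option maxRecDepth 8000

namespace Cfsg.Agent.Chev

open Cfsg.Lie
open scoped commutatorElement

universe u

/-- If an isomorphism from `C` lifts through every central extension, the multiplier is trivial. -/
theorem mult_one_of_lift {C Q : Type u} [Group C] [Group Q] [Finite Q] (e : C ≃* Q)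
    (h : ∀ (X : Type u) [Group X] (ξ : X →* Q), Function.Surjective ξ →
      ξ.ker ≤ Subgroup.center X → ∃ τ : C →* X, ξ.comp τ = e.toMonoidHom) :
    Cfsg.HasCyclicSchurMultiplier Q 1 := by
  refine Schur.hasCyclicSchurMultiplier_one_of fun X _ ξ hs hc => ?_
  obtain ⟨τ, hτ⟩ := h X ξ hs hc
  have happ : ∀ c, ξ (τ c) = e c := DFunLike.congr_fun hτ
  have hz : ∀ a : X, a * (τ (e.symm (ξ a)))⁻¹ ∈ Subgroup.center X := fun a => hc (by
    rw [MonoidHom.mem_ker, map_mul, map_inv, happ, MulEquiv.apply_symm_apply, mul_inv_cancel])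
  have hle : commutator X ≤ τ.range := by
    rw [commutator_def, Subgroup.commutator_le]
    intro a _ b _
    have ha : a = a * (τ (e.symm (ξ a)))⁻¹ * τ (e.symm (ξ a)) := by group
    have hb : b = b * (τ (e.symm (ξ b)))⁻¹ * τ (e.symm (ξ b)) := by group
    rw [ha, hb, Tab.Cov.commutator_central_mul (hz a) (hz b), ← map_commutatorElement]
    exact ⟨_, rfl⟩
  rw [eq_bot_iff]
  rintro x ⟨hx, hxc⟩
  obtain ⟨c, rfl⟩ := hle hxc
  have : e c = 1 := by rw [← happ]; exact hx
  rw [Subgroup.mem_bot, e.map_eq_one_iff.1 this, map_one]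

/-- Types with trivial centre: the cover is the group. -/
theorem exists_cover_equiv_group {F : Type*} [Field F] [Finite F] {D : ChevalleyDatum}
    (hD : D ∈ [chevG2, chevF4, chevE8]) :
    Nonempty (D.SteinbergCover F ≃* ↥(D.group F)) := by
  obtain ⟨T, K, W, g, ⟨C, hk, hC⟩, rfl⟩ := exists_goodW_one hD
  have hinj : Function.Injective (Tab.θG g.toGoodA F) := by
    rw [← MonoidHom.ker_eq_bot_iff, Tab.θG_ker, Tab.ker_eq_center g, Tab.center_eq_bot g hC hk]
  exact ⟨(MulEquiv.ofBijective (Tab.Cov.proj T F) (Tab.Cov.proj_bijective g)).trans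
    (MulEquiv.ofBijective (Tab.θG g.toGoodA F) ⟨hinj, Tab.θG_surjective g.toGoodA⟩)⟩

/-- The multiplier of `G₂(q)`, `F₄(q)`, `E₈(q)` for `q ≥ 5`. -/
theorem mult_group_of_five {F : Type*} [Field F] [Finite F] {s : Finset F} (hs : 4 < s.card)
    {D : ChevalleyDatum} (hD : D ∈ [chevG2, chevF4, chevE8]) :
    Cfsg.HasCyclicSchurMultiplier ↥(D.group F) 1 := by
  obtain ⟨e⟩ := exists_cover_equiv_group (F := F) hD
  have hD' : D ∈ [chevG2, chevB2, chevD4, chevF4, chevE6, chevE7, chevE8] := by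
    simp only [List.mem_cons, List.not_mem_nil, or_false] at hD ⊢
    tauto
  exact mult_one_of_lift e fun X _ ξ hξ hc => exists_cover_lift hs hD' ξ hξ hc e.toMonoidHom

end Cfsg.Agent.Chev
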