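/-
The centre of the universal groups of types E6 and E7, through their root embeddings into type E8.
-/
import Cfsg.Agent.Lib.Lie.CovMult
import Cfsg.Agent.Lib.Lie.OrderE6
import Cfsg.Agent.Lib.Lie.OrderE7

set_option autoImplicit false
set_option maxRecDepth 8000

namespace Cfsg.Agent.Chev

open Cfsg.Lie

namespace Tab

/-- root of an embedding table -/
def embRoot (P r : ℕ) : ℕ := Nat.shiftRight (field P 9 r) 1

/-- sign of an embedding table -/
def embSign (P r : ℕ) : ℤ := bif Nat.beq (Nat.land (field P 9 r) 1) 0 then 1 else -1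

/-- image of a commutator term -/
def embTerm (P r s : ℕ) (c : ℕ × ℤ × ℕ × ℕ) : ℕ × ℤ × ℕ × ℕ :=
  (embRoot P c.1, c.2.1 * embSign P r ^ c.2.2.1 * embSign P s ^ c.2.2.2 * embSign P c.1, c.2.2)

/-- `P` embeds the roots of `S` into those of `U` -/
def checkEmb (S U : Tab) (P : ℕ) : Bool :=
  Nat.blt S.l U.l &&
  allBelow (fun r => Nat.blt (embRoot P r) U.n && allBelow (fun s =>
    Nat.beq s r || Nat.beq s (S.neg r) ||
      (!Nat.beq (embRoot P s) (embRoot P r) && !Nat.beq (embRoot P s) (U.neg (embRoot P r)) &&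
        decide (U.cTerms (embRoot P r) (embRoot P s) = (S.cTerms r s).map (embTerm P r s)))) S.n) S.n &&
  allBelow (fun i => Nat.beq (embRoot P (S.smp i)) (U.smp i) && (embSign P (S.smp i) == 1) &&
    Nat.beq (embRoot P (S.neg (S.smp i))) (U.neg (U.smp i)) &&
    (embSign P (S.neg (S.smp i)) == 1)) S.l

theorem embSign_sq {F : Type*} [Field F] (P r : ℕ) : (embSign P r : F) * (embSign P r : F) = 1 := by
  unfold embSign
  cases Nat.beq (Nat.land (field P 9 r) 1) 0 <;> simp

namespace Cov

variable {S U : Tab} {P : ℕ} {F : Type*} [Field F]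

theorem exists_emb (gS : S.GoodA) (gU : U.GoodA) (h : checkEmb S U P = true) :
    ∃ Ψ : S.D.SteinbergCover F →* GL U.D.Idx F, ∀ i < S.l, ∀ u : Fˣ,
      Ψ (sh S F (S.smp i) (u : F)) = tor U F (Pi.mulSingle i u) := by
  have hS := gS.toGood
  have hU := gU.toGood
  simp only [checkEmb, Bool.and_eq_true, allBelow_eq_true, nat_blt, Bool.or_eq_true, nat_beq,
    Bool.not_eq_true', nat_beq_false, decide_eq_true_eq, beq_iff_eq] at h
  obtain ⟨⟨hl, hroot⟩, hsmp⟩ := h
  set f := fun p : Fin S.D.nroots × F => xg hU (embRoot P p.1) ((embSign P p.1 : F) * p.2) with hf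
  have hX : ∀ r, r < S.n → ∀ t : F,
      FreeGroup.lift f (S.D.stX r t) = xg hU (embRoot P r) ((embSign P r : F) * t) := fun r hr t => by
    simp [ChevalleyDatum.stX, hS.nroots_eq, hr, f]
  have hrel : ∀ x ∈ S.D.steinbergRelsAB F, FreeGroup.lift f x = 1 := by
    rintro x (⟨r, a, b, hr, rfl⟩ | ⟨r, s, t, u, hr, hs, h1, h2, rfl⟩)
    · rw [hS.nroots_eq] at hr
      simp only [map_mul, map_inv, hX r hr, xg_add, ← mul_add, mul_inv_cancel]
    · rw [hS.nroots_eq] at hr hs
      rw [hS.neg_eq hr] at h2
      obtain ⟨hlt, hrow⟩ := hroot r hr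
      rcases hrow s hs with (h | h) | ⟨⟨n1, n2⟩, hterms⟩
      · exact absurd h h1
      · exact absurd h h2
      have hW : FreeGroup.lift f (S.D.stWord (cVal S F r s t u)) =
          ((cVal U F (embRoot P r) (embRoot P s) ((embSign P r : F) * t)
            ((embSign P s : F) * u)).map fun e => xg hU e.1 e.2).prod := by
        rw [ChevalleyDatum.stWord, map_list_prod, cVal, cVal, hterms]
        simp only [List.map_map]
        refine congrArg List.prod (List.map_congr_left fun c hc => ?_)
        simp only [Function.comp_apply, embTerm, hX _ (cTerms_mem hS hr hs hc).1]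
        congr 1
        have key : ∀ a k : ℕ, (embSign P a : F) ^ k * (embSign P a : F) ^ k = 1 := fun a k => by
          rw [← mul_pow, embSign_sq, one_pow]
        simp only [mul_pow, neg_mul_eq_mul_neg]
        push_cast
        linear_combination (-((embSign P c.1 : F) * (c.2.1 : F) * (-t) ^ c.2.2.1 * u ^ c.2.2.2)) *
            ((embSign P s : F) ^ c.2.2.2 * (embSign P s : F) ^ c.2.2.2) * key r c.2.2.1 +
          (-((embSign P c.1 : F) * (c.2.1 : F) * (-t) ^ c.2.2.1 * u ^ c.2.2.2)) * key s c.2.2.2
      simp only [map_mul, map_inv, hX r hr, hX s hs, commWord_eq hS hr hs, hW]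
      rw [mul_assoc ((xg hU (embRoot P s) _)⁻¹ * _),
        xg_comm gU hlt (hroot s hs).1 n1 n2]
      group
  refine ⟨PresentedGroup.toGroup hrel, fun i hi u => ?_⟩
  obtain ⟨⟨⟨e1, e2⟩, e3⟩, e4⟩ := hsmp i hi
  have hx : ∀ r, r < S.n → ∀ t : F, PresentedGroup.toGroup hrel (sx S F r t) =
      xg hU (embRoot P r) ((embSign P r : F) * t) := fun r hr t => by
    rw [sx, ChevalleyDatum.scGen, ChevalleyDatum.stX, dif_pos (by rw [hS.nroots_eq]; exact hr)]
    exact PresentedGroup.toGroup.of _
  have hsn : ∀ t : F, PresentedGroup.toGroup hrel (sn S F (S.smp i) t) = nE hU (U.smp i) t := fun t => by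
    simp [sn, nE, hx _ (hS.smp_lt hi), hx _ (neg_lt (hS.smp_lt hi)), e1, e2, e3, e4]
  have hh : PresentedGroup.toGroup hrel (sh S F (S.smp i) (u : F)) = hE hU (U.smp i) (u : F) := by
    rw [sh, map_mul, hsn, hsn, hE]
  rw [hh, hE_smp hU (hi.trans hl), hS_eq_tor]

end Cov

variable {T : Tab} {K : List (List ℕ)} {W : List (ℕ × ℕ × ℕ)} {F : Type*} [Field F]

/-- The data for a centre isomorphic to `μ_d`. -/
structure CenterData (T U : Tab) (C : TorCert) (P : ℕ) : Prop where
  big : U.GoodA
  tor : T.checkTor C = true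
  one : C.k = 1
  emb : checkEmb T U P = true
  sep : (sumBelow (fun j => C.v 0 j * U.A j (U.smp T.l)) T.l).natAbs.Coprime C.d

/-- the central elements -/
noncomputable def muHom (g : T.GoodW K W) (F : Type*) [Field F] (C : TorCert) :
    Fˣ →* T.D.SteinbergGroup F :=
  (hT g F).comp
    { toFun := fun u j => u ^ C.v 0 j
      map_one' := by funext j; simp
      map_mul' := fun u v => by funext j; exact mul_zpow u v _ }

theorem center_eq_map {U : Tab} {C : TorCert} {P : ℕ} (g : T.GoodW K W) (h : CenterData T U C P) :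
    Subgroup.center (T.D.SteinbergGroup F) =
      (MonoidHom.ker (powMonoidHom C.d : Fˣ →* Fˣ)).map (muHom g F C) := by
  classical
  have hg := g.toGood
  have hC := h.tor
  simp only [checkTor, Bool.and_eq_true, allBelow_eq_true, beq_iff_eq, decide_eq_true_eq,
    sumBelow_eq_sum, h.one] at hC
  obtain ⟨⟨⟨⟨-, h1⟩, h2⟩, h3⟩, -⟩ := hC
  rw [← ker_eq_center g]
  refine le_antisymm (fun x hx => ?_) ?_
  · obtain ⟨c, rfl, hc⟩ := ker_mem g (MonoidHom.mem_ker.1 hx)
    have hwt : ∀ i < T.l, wt T F c (T.smp i) = 1 := by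
      intro i hi
      refine Units.ext ?_
      have := tor_xg hg c (hg.smp_lt hi) (1 : F)
      rw [hc, one_mul, inv_one, mul_one, mul_one] at this
      exact (xg_mono_inj hg (hg.smp_lt hi) this).symm.trans (by simp)
    obtain ⟨u, hu⟩ : ∃ u, u = ∏ j ∈ Finset.range T.l, c j ^ C.P 0 j := ⟨_, rfl⟩
    refine ⟨u, MonoidHom.mem_ker.2 ?_, ?_⟩
    · show u ^ C.d = 1
      calc u ^ C.d = ∏ j ∈ Finset.range T.l, ∏ i ∈ Finset.range T.l,
            (c j ^ T.A j (T.smp i)) ^ C.R 0 i := by
            rw [hu, ← Finset.prod_pow]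
            refine Finset.prod_congr rfl fun j hj => ?_
            simp only [← zpow_mul]
            rw [prod_zpow_sum, ← zpow_natCast, ← zpow_mul]
            congr 1
            rw [mul_comm, ← h2 0 zero_lt_one j (Finset.mem_range.1 hj)]
            exact Finset.sum_congr rfl fun i _ => mul_comm _ _
        _ = ∏ i ∈ Finset.range T.l, (wt T F c (T.smp i)) ^ C.R 0 i := by
            rw [Finset.prod_comm]
            exact Finset.prod_congr rfl fun i _ => by rw [Finset.prod_zpow]; rfl
        _ = 1 := Finset.prod_eq_one fun i hi => by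
            rw [hwt i (Finset.mem_range.1 hi), _root_.one_zpow]
    · have hcj : ∀ j < T.l, c j = u ^ C.v 0 j := by
        intro j hj
        have hsplit : ∀ j' ∈ Finset.range T.l, c j' ^ (if j = j' then (1 : ℤ) else 0) =
            (c j' ^ C.P 0 j') ^ C.v 0 j *
              ∏ i ∈ Finset.range T.l, (c j' ^ T.A j' (T.smp i)) ^ C.M j i := by
          intro j' hj'
          simp only [← zpow_mul]
          rw [prod_zpow_sum, ← _root_.zpow_add]
          congr 1
          have := h1 j hj j' (Finset.mem_range.1 hj')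
          rw [Finset.sum_range_one] at this
          rw [← this, mul_comm (C.v 0 j)]
          congr 1
          exact Finset.sum_congr rfl fun i _ => mul_comm _ _
        calc c j = ∏ j' ∈ Finset.range T.l, c j' ^ (if j = j' then (1 : ℤ) else 0) := by
              rw [Finset.prod_eq_single j (fun b _ hb => by rw [if_neg (Ne.symm hb), zpow_zero])
                (fun hn => absurd (Finset.mem_range.2 hj) hn), if_pos rfl, zpow_one]
          _ = u ^ C.v 0 j * ∏ i ∈ Finset.range T.l, (wt T F c (T.smp i)) ^ C.M j i := by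
              rw [Finset.prod_congr rfl hsplit, Finset.prod_mul_distrib, Finset.prod_zpow, ← hu,
                Finset.prod_comm]
              congr 1
              exact Finset.prod_congr rfl fun i _ => by rw [Finset.prod_zpow]; rfl
          _ = u ^ C.v 0 j := by
              rw [Finset.prod_eq_one (fun i hi => by
                rw [hwt i (Finset.mem_range.1 hi), _root_.one_zpow]), mul_one]
      show (List.map (fun i => hb T F i (u ^ C.v 0 i)) (List.range T.l)).prod =
        (List.map (fun i => hb T F i (c i)) (List.range T.l)).prod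
      exact congrArg List.prod (List.map_congr_left fun i hi => by rw [hcj i (List.mem_range.1 hi)])
  · rintro _ ⟨u, hu, rfl⟩
    rw [MonoidHom.mem_ker, muHom, MonoidHom.comp_apply, θ0_hT, tor_apply, ← map_one (dg T F)]
    refine dg_congr hg fun s hs => ?_
    simp only [wt, MonoidHom.coe_mk, OneHom.coe_mk, Pi.one_apply, ← zpow_mul]
    rw [prod_zpow_sum]
    obtain ⟨t, ht⟩ := Int.dvd_of_emod_eq_zero (h3 0 zero_lt_one s hs)
    rw [ht, zpow_mul, zpow_natCast, show u ^ C.d = 1 from hu, _root_.one_zpow]

theorem muHom_injOn [Finite F] {U : Tab} {C : TorCert} {P : ℕ} (g : T.GoodW K W)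
    (h : CenterData T U C P) {u : Fˣ} (hu : u ^ C.d = 1) (h1 : muHom g F C u = 1) : u = 1 := by
  classical
  have hg := g.toGood
  have hU := h.big.toGood
  have hl : T.l < U.l := by
    have := h.emb
    simp only [checkEmb, Bool.and_eq_true, nat_blt] at this
    exact this.1.1
  obtain ⟨Ψ, hΨ⟩ := Cov.exists_emb (F := F) g.toGoodA h.big h.emb
  obtain ⟨z, hz⟩ : ∃ z, z = ((List.range T.l).map fun i => Cov.sh T F (T.smp i) ((u ^ C.v 0 i : Fˣ) : F)).prod :=
    ⟨_, rfl⟩
  have hproj : Cov.proj T F z = 1 := by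
    rw [hz, map_list_prod, List.map_map, ← h1]
    refine congrArg List.prod (List.map_congr_left fun i _ => ?_)
    show Cov.proj T F (Cov.sh T F (T.smp i) _) = hb T F i (u ^ C.v 0 i)
    simp [Cov.sh, Cov.sn, hb, sh, sn, Cov.proj_sx hg]
  rw [← map_one (Cov.proj T F)] at hproj
  have hz1 := (Cov.proj_bijective g).1 hproj
  have h2 := congrArg Ψ hz1
  rw [hz, map_one, map_list_prod, List.map_map, Function.comp_def,
    List.map_congr_left (g := fun i => tor U F (Pi.mulSingle i (u ^ C.v 0 i)))
      (fun i hi => hΨ i (List.mem_range.1 hi) _)] at h2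
  have hs := hU.smp_lt hl
  have h3 : wt U F (((List.range T.l).map fun i => Pi.mulSingle i (u ^ C.v 0 i)).prod) (U.smp T.l) = 1 := by
    refine Units.ext ?_
    have e : tor U F (((List.range T.l).map fun i => Pi.mulSingle i (u ^ C.v 0 i)).prod) = 1 := by
      rw [map_list_prod, List.map_map]; exact h2
    have := tor_xg hU (((List.range T.l).map fun i => Pi.mulSingle i (u ^ C.v 0 i)).prod) hs (1 : F)
    rw [e, one_mul, inv_one, mul_one, mul_one] at this
    exact (xg_mono_inj hU hs this).symm.trans (by simp)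
  have h4 : ∀ n ≤ T.l, wt U F (((List.range n).map fun i => Pi.mulSingle i (u ^ C.v 0 i)).prod) (U.smp T.l) =
      u ^ ∑ j ∈ Finset.range n, C.v 0 j * U.A j (U.smp T.l) := by
    intro n hn
    induction n with
    | zero => simp [wt]
    | succ n ih =>
      rw [List.range_succ, List.map_append, List.prod_append, List.map_singleton, List.prod_singleton,
        wt_mul, ih (by omega), wt_single hU (by omega), Finset.sum_range_succ, _root_.zpow_add, zpow_mul]
  rw [h4 _ le_rfl, ← sumBelow_eq_sum] at h3
  have h5 : u ^ (sumBelow (fun j => C.v 0 j * U.A j (U.smp T.l)) T.l).natAbs = 1 := pow_natAbs_eq_one.2 h3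
  exact orderOf_eq_one_iff.1 (Nat.eq_one_of_dvd_coprimes h.sep (orderOf_dvd_of_pow_eq_one h5)
    (orderOf_dvd_of_pow_eq_one hu))

/-- The centre is cyclic of order `gcd (q - 1) d`. -/
theorem center_cyclic [Fintype F] {U : Tab} {C : TorCert} {P : ℕ} (g : T.GoodW K W)
    (h : CenterData T U C P) :
    IsCyclic (Subgroup.center (T.D.SteinbergGroup F)) ∧
      Nat.card (Subgroup.center (T.D.SteinbergGroup F)) = Nat.gcd (Fintype.card F - 1) C.d := by
  classical
  let M : Subgroup Fˣ := MonoidHom.ker (powMonoidHom C.d : Fˣ →* Fˣ)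
  let φ : M →* T.D.SteinbergGroup F := (muHom g F C).comp M.subtype
  have hinj : Function.Injective φ := (injective_iff_map_eq_one φ).2 fun x hx =>
    Subtype.ext (muHom_injOn g h x.2 hx)
  have hr : φ.range = Subgroup.center (T.D.SteinbergGroup F) := by
    rw [center_eq_map g h, MonoidHom.range_comp, Subgroup.range_subtype]
  have e : M ≃* Subgroup.center (T.D.SteinbergGroup F) :=
    (MonoidHom.ofInjective hinj).trans (MulEquiv.subgroupCongr hr)
  refine ⟨e.isCyclic.1 inferInstance, ?_⟩
  rw [← Nat.card_congr e.toEquiv, IsCyclic.card_powMonoidHom_ker, Nat.card_eq_fintype_card,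
    Fintype.card_units]

theorem finite_steinbergGroup [Finite F] {U : Tab} {C : TorCert} {P : ℕ} (g : T.GoodW K W)
    (h : CenterData T U C P) : Finite (T.D.SteinbergGroup F) := by
  let θ := θG g.toGoodA F
  have : Finite θ.ker := by
    rw [θG_ker, ker_eq_center g, center_eq_map g h]
    exact Set.Finite.to_subtype ((Set.toFinite _).image _)
  have : Finite (T.D.SteinbergGroup F ⧸ θ.ker) :=
    Finite.of_equiv _ (QuotientGroup.quotientKerEquivOfSurjective θ (θG_surjective _)).symm.toEquiv
  exact Finite.of_subgroup_quotient θ.ker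

end Tab

/-- embedding of the roots of E6 into those of E8 -/
def embE6 : ℕ := 932469901575104609910333204112589095803064218410471188280216820608443584768785138663281793221338527599429996479892747096377869306864380933907134016499467675963110069799433214411985547148257702982

/-- embedding of the roots of E7 into those of E8 -/
def embE7 : ℕ := 206398391042409891749816069793879449804411414705737172203583156892890649220703426500660974410854543907150785513899452164372582700913987565981177667655285540304577307567179088049246954743203609124990210143629272981390590142989126605167353041961766665463903214627273927051016383748997133868629456294805869745281758329800270615757593443614347290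

theorem e6_data : Tab.CenterData E6Data.tab E8Data.tab E6Data.cert embE6 :=
  ⟨⟨E8Data.good, by decide +kernel⟩, E6Data.torOK, rfl, by decide +kernel, by decide +kernel⟩

theorem e7_data : Tab.CenterData E7Data.tab E8Data.tab E7Data.cert embE7 :=
  ⟨⟨E8Data.good, by decide +kernel⟩, E7Data.torOK, rfl, by decide +kernel, by decide +kernel⟩

theorem exists_center_data {p : ChevalleyDatum × ℕ} (hp : p ∈ [(chevE6, 3), (chevE7, 2)]) :
    ∃ T : Tab, ∃ K W, T.GoodW K W ∧ T.D = p.1 ∧ ∃ (U : Tab) (C : Tab.TorCert) (P : ℕ),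
      C.d = p.2 ∧ Tab.CenterData T U C P := by
  simp only [List.mem_cons, List.not_mem_nil, or_false] at hp
  rcases hp with rfl | rfl
  · exact ⟨E6Data.tab, [[4, 3, 5, 6, 4, 2], [3, 6, 6, 9, 6, 3], [5, 6, 10, 12, 8, 4], [6, 9, 12, 18, 12, 6], [4, 6, 8, 12, 10, 5], [2, 3, 4, 6, 5, 4]],
      [(16, 66, 0), (1, 71, 0), (5, 69, 0), (2, 70, 0), (3, 69, 0), (4, 68, 0)],
      ⟨⟨⟨E6Data.good, by decide +kernel⟩, by decide +kernel⟩, by decide +kernel⟩, rfl,
      _, _, _, rfl, e6_data⟩
  · exact ⟨E7Data.tab, [[4, 4, 6, 8, 6, 4, 2], [4, 7, 8, 12, 9, 6, 3], [6, 8, 12, 16, 12, 8, 4], [8, 12, 16, 24, 18, 12, 6], [6, 9, 12, 18, 15, 10, 5], [4, 6, 8, 12, 10, 8, 4], [2, 3, 4, 6, 5, 4, 3]],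
      [(1, 125, 0), (7, 122, 0), (2, 124, 0), (3, 123, 0), (4, 122, 0), (5, 121, 0), (6, 120, 0)],
      ⟨⟨⟨E7Data.good, by decide +kernel⟩, by decide +kernel⟩, by decide +kernel⟩, rfl,
      _, _, _, rfl, e7_data⟩

end Cfsg.Agent.Chev
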