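/-
The natural orthogonal representation of a Chevalley datum from a table of frame roots: the root `r`
acts as the Siegel transformation `x ↦ T(v_u, ε t v_w)`.
-/
import Cfsg.Agent.Lib.Lie.StMain
import Cfsg.Agent.Lib.Lie.CovMain
import Cfsg.Agent.Lib.Lie.ChevSimple
import Cfsg.Agent.Lib.Lie.SteinbergPerfect
import Cfsg.Agent.Lib.Orthogonal.FrameGen

set_option autoImplicit false
set_option maxRecDepth 8000

namespace Cfsg.Agent.Chev

open Cfsg.Lie QuadraticMap
open Cfsg.Agent.Orth (Frame Adm rootEls oGroup IsSiegel par)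
open scoped commutatorElement

namespace Tab

/-- the frame roots -/
structure NatData where
  /-- number of planes -/
  m : ℕ
  /-- there is a one-dimensional core -/
  core : Bool
  /-- singular label -/
  u : ℕ → ℕ
  /-- second label -/
  w : ℕ → ℕ
  /-- sign -/
  ε : ℕ → ℤ

namespace NatData

variable (R : NatData)

/-- the partner label, computable in the kernel -/
def bpar (a : ℕ) : ℕ := bif Nat.beq (a % 2) 0 then a + 1 else a - 1

/-- polar values of the frame -/
def pz (j b : ℕ) : ℤ :=
  bif Nat.blt j (2 * R.m) && Nat.beq b (bpar j) then 1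
  else bif R.core && Nat.beq j (2 * R.m) && Nat.beq b (2 * R.m) then 2 else 0

/-- values of the form on the frame -/
def qz (b : ℕ) : ℤ := bif R.core && Nat.beq b (2 * R.m) then 1 else 0

/-- the column `j` of the root element `r` -/
def col (r j : ℕ) : List (ℕ × ℤ × ℕ) :=
  [(j, 1, 0), (R.w r, R.ε r * R.pz j (R.u r), 1), (R.u r, -(R.ε r * R.pz j (R.w r)), 1),
    (R.u r, -(R.qz (R.w r) * R.pz j (R.u r)), 2)]

/-- apply a root element -/
def app (r : ℕ) (p : List Mono) (x : SVec) : SVec :=
  x.flatMap fun e => (R.col r e.1).flatMap fun q =>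
    (ppow p q.2.2).map fun m => (q.1, mmul (q.2.1, 0, 0) (mmul e.2 m))

/-- apply a word -/
def wapp (w : List (ℕ × List Mono)) (x : SVec) : SVec :=
  w.foldr (fun e acc => simplify (R.app e.1 e.2 acc)) x

/-- shape of the table -/
def checkShape (T : Tab) : Bool :=
  Nat.ble 2 R.m &&
  allBelow (fun r => Nat.blt (R.u r) (2 * R.m) && Nat.ble (R.w r) (2 * R.m) && !Nat.beq (R.w r) (R.u r) &&
    !Nat.beq (R.w r) (bpar (R.u r)) && (R.ε r * R.ε r == 1)) T.n

/-- the commutator relations -/
def checkRel (T : Tab) : Bool :=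
  allBelow (fun r => allBelow (fun s => Nat.beq s r || Nat.beq s (T.neg r) ||
    allBelow (fun j => vecEq (R.wapp [(s, [(1, 0, 1)]), (r, [(1, 1, 0)])] [(j, (1, 0, 0))])
      (R.wapp ((r, [(1, 1, 0)]) :: (s, [(1, 0, 1)]) :: T.cWord r s) [(j, (1, 0, 0))])) (2 * R.m + 1)) T.n) T.n

/-- exponent of `h_r(t)` at the label `j` -/
def hexp (r j : ℕ) : ℤ :=
  (bif Nat.beq (R.w r) (2 * R.m) then 2 else 1) *
    ((bif Nat.beq j (R.u r) then 1 else 0) - (bif Nat.beq j (bpar (R.u r)) then 1 else 0)) +
  (bif Nat.beq (R.w r) (2 * R.m) then 0 else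
    ((bif Nat.beq j (R.w r) then 1 else 0) - (bif Nat.beq j (bpar (R.w r)) then 1 else 0)))

/-- `h_r(t)` is diagonal -/
def checkDiag (T : Tab) : Bool :=
  allBelow (fun r => allBelow (fun j =>
    vecEq (R.wapp (T.nW r 1 1 ++ T.nW r (-1) 0) [(j, (1, 0, 0))]) [(j, (1, R.hexp r j, 0))])
    (2 * R.m + 1)) T.n

/-- every frame root occurs -/
def checkCover (T : Tab) : Bool :=
  allBelow (fun a => allBelow (fun b =>
    Nat.beq b a || Nat.beq b (bpar a) || (!R.core && Nat.beq b (2 * R.m)) ||
    anyBelow (fun r => (Nat.beq (R.u r) a && Nat.beq (R.w r) b) ||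
      (Nat.blt b (2 * R.m) && Nat.beq (R.u r) b && Nat.beq (R.w r) a)) T.n) (2 * R.m + 1)) (2 * R.m)

end NatData

variable {F V : Type*} [Field F] [AddCommGroup V] [Module F V]

/-- value of a sparse vector -/
def nsem (v : ℕ → V) (τ υ : Fˣ) (x : SVec) : V := (x.map fun e => monVal τ υ e.2 • v e.1).sum

section sem

variable {v : ℕ → V} {τ υ : Fˣ}

theorem nsem_cons (e : ℕ × Mono) (x : SVec) :
    nsem v τ υ (e :: x) = monVal τ υ e.2 • v e.1 + nsem v τ υ x := by simp [nsem]

theorem nsem_append (x y : SVec) : nsem v τ υ (x ++ y) = nsem v τ υ x + nsem v τ υ y := by simp [nsem]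

theorem nsem_one (j : ℕ) : nsem v τ υ [(j, (1, 0, 0))] = v j := by simp [nsem, monVal_one]

theorem nsem_vneg (x : SVec) : nsem v τ υ (vneg x) = -nsem v τ υ x := by
  induction x with
  | nil => simp [vneg, nsem]
  | cons e x ih =>
    show nsem v τ υ ((e.1, (-e.2.1, e.2.2)) :: vneg x) = _
    simp [nsem_cons, ih, monVal, add_comm]

theorem nsem_insEntry (e : ℕ × Mono) :
    ∀ x : SVec, nsem v τ υ (insEntry e x) = monVal τ υ e.2 • v e.1 + nsem v τ υ x
  | [] => by simp [insEntry, nsem]
  | y :: x => by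
    rw [insEntry]
    cases h : keyEq e y with
    | true =>
      simp only [keyEq, Bool.and_eq_true, beq_iff_eq, nat_beq] at h
      obtain ⟨⟨h1, h2⟩, h3⟩ := h
      simp only [cond_true, nsem_cons, h1]
      rw [← add_assoc, ← add_smul]
      congr 2
      simp only [monVal, Int.cast_add, add_mul, h2, h3]
    | false =>
      simp only [cond_false, nsem_cons, nsem_insEntry e x]
      abel

theorem nsem_collect (x : SVec) : nsem v τ υ (collect x) = nsem v τ υ x := by
  induction x with
  | nil => rfl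
  | cons e x ih =>
    show nsem v τ υ (insEntry e (collect x)) = _
    rw [nsem_insEntry, ih, nsem_cons]

theorem nsem_simplify (x : SVec) : nsem v τ υ (simplify x) = nsem v τ υ x := by
  rw [simplify, ← nsem_collect x]
  induction collect x with
  | nil => rfl
  | cons e w ih =>
    by_cases h : e.2.1 = 0
    · simp [List.filter_cons, h, nsem_cons, ih, monVal]
    · simp [List.filter_cons, h, nsem_cons, ih]

theorem nsem_eq_of_vecEq {x y : SVec} (h : vecEq x y = true) : nsem v τ υ x = nsem v τ υ y := by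
  rw [vecEq, isZero, List.all_eq_true] at h
  rw [← sub_eq_zero, sub_eq_add_neg, ← nsem_vneg, ← nsem_append, ← nsem_collect]
  apply List.sum_eq_zero
  intro z hz
  obtain ⟨e, he, rfl⟩ := List.mem_map.1 hz
  simp [monVal, beq_iff_eq.1 (h e he)]

end sem

variable {Q : QuadraticForm F V} {v : ℕ → V}

/-- the situation -/
structure NatSys (T : Tab) (R : NatData) (Q : QuadraticForm F V) (v : ℕ → V) : Prop where
  good : T.Good
  frame : Frame Q R.m v
  qcore : Q (v (2 * R.m)) = (R.qz (2 * R.m) : F)
  core0 : R.core = false → v (2 * R.m) = 0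
  shape : R.checkShape T = true
  rel : R.checkRel T = true
  diag : R.checkDiag T = true
  cover : R.checkCover T = true

open Classical in
/-- the image of a root element -/
noncomputable def natEl (T : Tab) (R : NatData) (Q : QuadraticForm F V) (v : ℕ → V) (r : ℕ) (t : F) :
    oGroup Q :=
  if h : r < T.n ∧ ∃ g : oGroup Q, IsSiegel g.1 Q (v (R.u r)) (((R.ε r : F) * t) • v (R.w r)) then
    Classical.choose h.2 else 1

theorem bpar_eq (a : ℕ) : NatData.bpar a = par a := by
  unfold NatData.bpar par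
  by_cases h : a % 2 = 0
  · simp [h]
  · simp [h, nat_beq_false.2 h]

variable {T : Tab} {R : NatData} (S : NatSys T R Q v)

include S

theorem shape_facts {r : ℕ} (hr : r < T.n) :
    Adm R.m (R.u r) (R.w r) ∧ ((R.ε r : F) * (R.ε r : F) = 1) := by
  have h := S.shape
  simp only [NatData.checkShape, Bool.and_eq_true, allBelow_eq_true] at h
  have h := h.2 r hr
  simp only [Bool.and_eq_true, nat_blt, nat_ble, Bool.not_eq_true', nat_beq_false, beq_iff_eq] at h
  refine ⟨⟨h.1.1.1.1, h.1.1.1.2, h.1.1.2, by rw [← bpar_eq]; exact h.1.2⟩, ?_⟩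
  rw [← Int.cast_mul, h.2, Int.cast_one]

theorem natEl_siegel {r : ℕ} (hr : r < T.n) (t : F) :
    IsSiegel (natEl T R Q v r t).1 Q (v (R.u r)) (((R.ε r : F) * t) • v (R.w r)) := by
  obtain ⟨⟨h1, h2, -, h4⟩, -⟩ := shape_facts S hr
  have hy : polar Q (v (R.u r)) (((R.ε r : F) * t) • v (R.w r)) = 0 := by
    rw [Orth.b_smul_right, S.frame.pol _ h1 _ h2, if_neg h4, mul_zero]
  obtain ⟨g, hg, hs⟩ := Orth.exists_siegel (S.frame.sing _ h1) hy
  have hex : r < T.n ∧ ∃ g : oGroup Q, IsSiegel g.1 Q (v (R.u r)) (((R.ε r : F) * t) • v (R.w r)) :=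
    ⟨hr, ⟨g, hg⟩, hs⟩
  rw [natEl, dif_pos hex]
  exact Classical.choose_spec hex.2

theorem natEl_out {r : ℕ} (hr : ¬ r < T.n) (t : F) : natEl T R Q v r t = 1 := by
  rw [natEl, dif_neg fun h => hr h.1]

theorem pz_spec {j b : ℕ} (hj : j ≤ 2 * R.m) (hb : b ≤ 2 * R.m) : polar Q (v j) (v b) = (R.pz j b : F) := by
  unfold NatData.pz
  rw [bpar_eq]
  rcases lt_or_eq_of_le hj with hlt | rfl
  · rw [S.frame.pol j hlt b hb, nat_blt.2 hlt, Bool.true_and]
    by_cases h : b = par j
    · simp [h]
    · simp [nat_beq_false.2 h, nat_beq_false.2 hlt.ne, h]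
  · rw [nat_blt_false.2 le_rfl, Bool.false_and, cond_false]
    rcases lt_or_eq_of_le hb with hlt | rfl
    · rw [S.frame.pol' le_rfl hlt, if_neg (Orth.par_lt hlt).ne', nat_beq_false.2 hlt.ne]
      simp
    · rw [Orth.b_self, S.qcore, NatData.qz]
      cases R.core <;> simp

theorem qz_spec {b : ℕ} (hb : b ≤ 2 * R.m) : Q (v b) = (R.qz b : F) := by
  rcases lt_or_eq_of_le hb with hlt | rfl
  · rw [S.frame.sing b hlt, NatData.qz, nat_beq_false.2 hlt.ne, Bool.and_false, cond_false, Int.cast_zero]
  · exact S.qcore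

theorem natEl_apply {r j : ℕ} (hr : r < T.n) (hj : j ≤ 2 * R.m) (t : F) :
    (natEl T R Q v r t).1 (v j) = ((R.col r j).map fun q => ((q.2.1 : F) * t ^ q.2.2) • v q.1).sum := by
  obtain ⟨⟨h1, h2, -, -⟩, hε⟩ := shape_facts S hr
  rw [natEl_siegel S hr, Orth.b_smul_right, Orth.q_smul, pz_spec S hj h1.le, pz_spec S hj h2, qz_spec S h2]
  simp only [NatData.col, List.map_cons, List.map_nil, List.sum_cons, List.sum_nil, add_zero, Int.cast_mul,
    Int.cast_neg, Int.cast_one, pow_zero, pow_one, mul_one, one_smul]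
  match_scalars
  · ring
  · ring
  · linear_combination (-((R.qz (R.w r) : F) * (R.pz j (R.u r) : F) * t ^ 2)) * hε

theorem nsem_app {r : ℕ} (hr : r < T.n) (p : List Mono) (τ υ : Fˣ) :
    ∀ x : SVec, (∀ e ∈ x, e.1 ≤ 2 * R.m) →
      nsem v τ υ (R.app r p x) = (natEl T R Q v r (pval τ υ p)).1 (nsem v τ υ x)
  | [], _ => by simp [NatData.app, nsem]
  | e :: x, h => by
    have ih := nsem_app hr p τ υ x fun e' he' => h e' (List.mem_cons_of_mem _ he')
    rw [NatData.app, List.flatMap_cons, nsem_append, nsem_cons, map_add, map_smul,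
      natEl_apply S hr (h e List.mem_cons_self)]
    rw [NatData.app] at ih
    rw [ih]
    congr 1
    induction R.col r e.1 with
    | nil => simp [nsem]
    | cons q L ih2 =>
      simp only [List.flatMap_cons, nsem_append, ih2, List.map_cons, List.sum_cons, smul_add, add_left_inj,
        smul_smul]
      rw [← pval_ppow, pval]
      induction ppow p q.2.2 with
      | nil => simp [nsem]
      | cons m P ih3 =>
        simp only [List.map_cons, List.sum_cons, nsem_cons, ih3, ← add_smul, monVal_mmul, monVal_const]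
        congr 1
        ring

theorem app_lt {r : ℕ} (hr : r < T.n) (p : List Mono) {x : SVec} (h : ∀ e ∈ x, e.1 ≤ 2 * R.m) :
    ∀ e ∈ R.app r p x, e.1 ≤ 2 * R.m := by
  intro e he
  obtain ⟨⟨h1, h2, -, -⟩, -⟩ := shape_facts S hr
  simp only [NatData.app, List.mem_flatMap, List.mem_map] at he
  obtain ⟨a, ha, q, hq, m, -, rfl⟩ := he
  simp only [NatData.col, List.mem_cons, List.not_mem_nil, or_false] at hq
  rcases hq with rfl | rfl | rfl | rfl
  · exact h a ha
  · exact h2
  · exact h1.le
  · exact h1.le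

omit S in
theorem simplify_keys {x : SVec} {B : ℕ} (h : ∀ e ∈ x, e.1 ≤ B) : ∀ e ∈ simplify x, e.1 ≤ B := by
  intro e he
  rw [simplify] at he
  have he := (List.mem_filter.1 he).1
  have key : ∀ x : SVec, (∀ e ∈ x, e.1 ≤ B) → ∀ e ∈ collect x, e.1 ≤ B := by
    intro x
    induction x with
    | nil => exact fun _ e he => absurd he List.not_mem_nil
    | cons a x ih =>
      intro h
      have ins : ∀ y : SVec, (∀ e ∈ y, e.1 ≤ B) → ∀ e ∈ insEntry a y, e.1 ≤ B := by
        intro y
        induction y with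
        | nil =>
          intro _ e he
          rw [insEntry] at he
          obtain rfl := List.mem_singleton.1 he
          exact h _ List.mem_cons_self
        | cons b y ihy =>
          intro hy e he
          rw [insEntry] at he
          cases hk : keyEq a b <;> rw [hk] at he
          · rcases List.mem_cons.1 he with rfl | he
            · exact hy _ List.mem_cons_self
            · exact ihy (fun e' he' => hy e' (List.mem_cons_of_mem _ he')) e he
          · rcases List.mem_cons.1 he with rfl | he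
            · exact hy b List.mem_cons_self
            · exact hy e (List.mem_cons_of_mem _ he)
      exact fun e he => ins _ (ih fun e' he' => h e' (List.mem_cons_of_mem _ he')) e he
  exact key x h e he

theorem wapp_spec (τ υ : Fˣ) : ∀ (w : List (ℕ × List Mono)) (j : ℕ), j ≤ 2 * R.m → (∀ e ∈ w, e.1 < T.n) →
    (∀ e ∈ R.wapp w [(j, (1, 0, 0))], e.1 ≤ 2 * R.m) ∧
    nsem v τ υ (R.wapp w [(j, (1, 0, 0))]) =
      ((w.map fun e => natEl T R Q v e.1 (pval τ υ e.2)).prod).1 (v j)
  | [], j, hj, _ => by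
    refine ⟨fun e he => ?_, by simp [NatData.wapp, nsem_one]⟩
    simp only [NatData.wapp, List.foldr_nil, List.mem_singleton] at he
    rw [he]; exact hj
  | e :: w, j, hj, h => by
    obtain ⟨h1, h2⟩ := wapp_spec τ υ w j hj fun x hx => h x (List.mem_cons_of_mem _ hx)
    refine ⟨simplify_keys (app_lt S (h e List.mem_cons_self) e.2 h1), ?_⟩
    show nsem v τ υ (simplify (R.app e.1 e.2 (R.wapp w [(j, (1, 0, 0))]))) = _
    rw [nsem_simplify, nsem_app S (h e List.mem_cons_self) e.2 τ υ _ h1, h2, List.map_cons, List.prod_cons]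
    rfl

theorem natEl_add {r : ℕ} (hr : r < T.n) (a b : F) :
    natEl T R Q v r a * natEl T R Q v r b = natEl T R Q v r (a + b) := by
  obtain ⟨⟨h1, h2, -, h4⟩, -⟩ := shape_facts S hr
  have hy : ∀ t : F, polar Q (v (R.u r)) (((R.ε r : F) * t) • v (R.w r)) = 0 := fun t => by
    rw [Orth.b_smul_right, S.frame.pol _ h1 _ h2, if_neg h4, mul_zero]
  have h := (natEl_siegel S hr a).mul (S.frame.sing _ h1) (hy a) (hy b) (natEl_siegel S hr b)
  rw [← add_smul, ← mul_add] at h
  exact Subtype.ext (h.eq (natEl_siegel S hr (a + b)))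

theorem natEl_zero {r : ℕ} (hr : r < T.n) : natEl T R Q v r (0 : F) = 1 :=
  mul_eq_left.1 (by rw [natEl_add S hr, add_zero] : natEl T R Q v r (0 : F) * natEl T R Q v r 0 = natEl T R Q v r 0)

theorem natEl_comm {r s : ℕ} (hr : r < T.n) (hs : s < T.n) (h1 : s ≠ r) (h2 : s ≠ T.neg r) (t u : F) :
    natEl T R Q v s u * natEl T R Q v r t = natEl T R Q v r t * natEl T R Q v s u *
      ((cVal T F r s t u).map fun e => natEl T R Q v e.1 e.2).prod := by
  have hcl : ∀ c ∈ T.cTerms r s, c.1 < T.n ∧ 1 ≤ c.2.2.1 ∧ 1 ≤ c.2.2.2 := fun c hc => by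
    obtain ⟨a, b, d, -, -⟩ := cTerms_mem S.good hr hs hc
    exact ⟨a, b, d⟩
  by_cases ht : t = 0
  · subst ht
    rw [natEl_zero S hr, mul_one, one_mul]
    refine (mul_eq_left.2 (List.prod_eq_one fun x hx => ?_)).symm
    simp only [cVal, List.map_map, List.mem_map, Function.comp_apply] at hx
    obtain ⟨c, hc, rfl⟩ := hx
    rw [_root_.neg_zero, zero_pow (by have := (hcl c hc).2.1; omega), mul_zero, zero_mul,
      natEl_zero S (hcl c hc).1]
  by_cases hu : u = 0
  · subst hu
    rw [natEl_zero S hs, mul_one, one_mul]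
    refine (mul_eq_left.2 (List.prod_eq_one fun x hx => ?_)).symm
    simp only [cVal, List.map_map, List.mem_map, Function.comp_apply] at hx
    obtain ⟨c, hc, rfl⟩ := hx
    rw [zero_pow (by have := (hcl c hc).2.2; omega), mul_zero, natEl_zero S (hcl c hc).1]
  refine S.frame.ext fun j hj => ?_
  have h := allBelow_eq_true.1 (allBelow_eq_true.1 S.rel r hr) s hs
  simp only [Bool.or_eq_true, nat_beq, h1, h2, false_or, allBelow_eq_true] at h
  have h := nsem_eq_of_vecEq (v := v) (τ := Units.mk0 t ht) (υ := Units.mk0 u hu) (h j (by omega))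
  have hw : ∀ e ∈ (r, [(1, 1, 0)]) :: (s, [(1, 0, 1)]) :: T.cWord r s, e.1 < T.n := by
    intro e he
    rcases List.mem_cons.1 he with rfl | he
    · exact hr
    rcases List.mem_cons.1 he with rfl | he
    · exact hs
    simp only [cWord, List.mem_map] at he
    obtain ⟨c, hc, rfl⟩ := he
    exact (hcl c hc).1
  rw [(wapp_spec S _ _ _ j hj (by simp [hr, hs])).2, (wapp_spec S _ _ _ j hj hw).2] at h
  simp only [List.map_cons, List.map_nil, List.prod_cons, List.prod_nil, mul_one] at h
  have e1 : pval (Units.mk0 t ht) (Units.mk0 u hu) [(1, 1, 0)] = t := by simp [pval, monVal]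
  have e2 : pval (Units.mk0 t ht) (Units.mk0 u hu) [(1, 0, 1)] = u := by simp [pval, monVal]
  rw [e1, e2, ← mul_assoc] at h
  have e3 : ((T.cWord r s).map fun e => natEl T R Q v e.1 (pval (Units.mk0 t ht) (Units.mk0 u hu) e.2)) =
      (cVal T F r s t u).map fun e => natEl T R Q v e.1 e.2 := by
    simp only [cWord, cVal, List.map_map]
    refine List.map_congr_left fun c _ => ?_
    simp only [Function.comp_apply]
    congr 1
    simp only [pval, List.map_cons, List.map_nil, List.sum_cons, List.sum_nil, add_zero, monVal,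
      Units.val_mul, Units.val_zpow_eq_zpow_val, Units.val_pow_eq_pow_val, Units.val_mk0, zpow_natCast]
    rw [neg_pow]
    rcases Nat.even_or_odd c.2.2.1 with he | ho
    · rw [if_pos (Nat.even_iff.1 he), he.neg_one_pow]; ring
    · rw [if_neg (by rw [Nat.odd_iff.1 ho]; simp), ho.neg_one_pow]; push_cast; ring
  rw [e3] at h
  exact h

/-- the representation -/
theorem exists_natHom :
    ∃ ρ : T.D.SteinbergGroup F →* oGroup Q, ∀ r < T.n, ∀ t : F, ρ (T.D.stGen F r t) = natEl T R Q v r t := by
  have hg := S.good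
  set f := fun p : Fin T.D.nroots × F => natEl T R Q v p.1 p.2 with hf
  have hX : ∀ r, r < T.n → ∀ t : F, FreeGroup.lift f (T.D.stX r t) = natEl T R Q v r t := by
    intro r hr t
    simp [ChevalleyDatum.stX, hg.nroots_eq, hr, f]
  have hrel : ∀ x ∈ T.D.steinbergRels F, FreeGroup.lift f x = 1 := by
    rintro x ((⟨r, a, b, hr, rfl⟩ | ⟨r, s, t, u, hr, hs, h1, h2, rfl⟩) | ⟨r, a, b, hr, ha, hb, rfl⟩)
    · rw [hg.nroots_eq] at hr
      simp only [map_mul, map_inv, hX r hr, natEl_add S hr, mul_inv_cancel]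
    · rw [hg.nroots_eq] at hr hs
      rw [hg.neg_eq hr] at h2
      have hW : FreeGroup.lift f (T.D.stWord (cVal T F r s t u)) =
          ((cVal T F r s t u).map fun e => natEl T R Q v e.1 e.2).prod := by
        rw [ChevalleyDatum.stWord, map_list_prod, List.map_map]
        refine congrArg List.prod (List.map_congr_left fun e he => ?_)
        obtain ⟨c, hc, rfl⟩ := List.mem_map.1 he
        exact hX _ (cTerms_mem hg hr hs hc).1 _
      simp only [map_mul, map_inv, hX r hr, hX s hs, commWord_eq hg hr hs, hW]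
      rw [mul_assoc ((natEl T R Q v s _)⁻¹ * _), natEl_comm S hr hs h1 h2 t u]
      group
    · rw [hg.nroots_eq] at hr
      have hn := neg_lt hr
      have hH : ∀ c : F, c ≠ 0 → ∀ j ≤ 2 * R.m,
          (FreeGroup.lift f (T.D.stH r c)).1 (v j) = c ^ R.hexp r j • v j := by
        intro c hc j hj
        have h := nsem_eq_of_vecEq (v := v) (τ := Units.mk0 c hc) (υ := (1 : Fˣ))
          (allBelow_eq_true.1 (allBelow_eq_true.1 S.diag r hr) j (by omega))
        rw [(wapp_spec S _ _ _ j hj (by simp [nW, hr, hn])).2] at h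
        have e : FreeGroup.lift f (T.D.stH r c) =
            ((T.nW r 1 1 ++ T.nW r (-1) 0).map fun e =>
              natEl T R Q v e.1 (pval (Units.mk0 c hc) (1 : Fˣ) e.2)).prod := by
          simp [ChevalleyDatum.stH, ChevalleyDatum.stWord, ChevalleyDatum.hWord, ChevalleyDatum.nWord,
            hg.neg_eq hr, nW, hX r hr, hX _ hn, pval, monVal, mul_assoc]
        rw [e, h]
        simp [nsem, monVal]
      rw [map_mul, map_mul, map_inv, mul_inv_eq_one]
      refine S.frame.ext fun j hj => ?_
      show (FreeGroup.lift f (T.D.stH r a)).1 ((FreeGroup.lift f (T.D.stH r b)).1 (v j)) = _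
      rw [hH b hb j hj, map_smul, hH a ha j hj, hH _ (mul_ne_zero ha hb) j hj, smul_smul, mul_zpow, mul_comm]
  refine ⟨PresentedGroup.toGroup hrel, fun r hr t => ?_⟩
  rw [ChevalleyDatum.stGen, ChevalleyDatum.stX, dif_pos (by rw [hg.nroots_eq]; exact hr)]
  exact PresentedGroup.toGroup.of _

theorem rootEls_le (H : Subgroup (oGroup Q)) (h : ∀ r < T.n, ∀ t : F, natEl T R Q v r t ∈ H) :
    Subgroup.closure (rootEls Q R.m v) ≤ H := by
  rw [Subgroup.closure_le]
  rintro g ⟨a, b, t, ⟨ha, hb, hba, hbp⟩, hg⟩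
  by_cases hz : R.core = false ∧ b = 2 * R.m
  · rw [hz.2, S.core0 hz.1, smul_zero] at hg
    rw [show g = 1 from Subtype.ext (hg.eq (Orth.isSiegel_one (map_zero Q) (Or.inr (Submodule.zero_mem _))))]
    exact one_mem _
  have hc := allBelow_eq_true.1 (allBelow_eq_true.1 S.cover a ha) b (by omega)
  simp only [Bool.or_eq_true, Bool.and_eq_true, Bool.not_eq_true', nat_beq, bpar_eq, hba, hbp,
    false_or, anyBelow_eq_true, nat_blt] at hc
  rcases hc with ⟨hcore, hb'⟩ | ⟨r, hr, ⟨hu, hw⟩ | ⟨⟨hb', hu⟩, hw⟩⟩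
  · exact absurd ⟨hcore, hb'⟩ hz
  · obtain ⟨-, hε⟩ := shape_facts S hr
    have h' := natEl_siegel S hr ((R.ε r : F) * t)
    rw [hu, hw, ← mul_assoc, hε, one_mul] at h'
    rw [show g = natEl T R Q v r ((R.ε r : F) * t) from Subtype.ext (hg.eq h')]
    exact h r hr _
  · obtain ⟨-, hε⟩ := shape_facts S hr
    have h' := natEl_siegel S hr (-((R.ε r : F) * t))
    rw [hu, hw, mul_neg, ← mul_assoc, hε, one_mul] at h'
    have hflip : IsSiegel (natEl T R Q v r (-((R.ε r : F) * t))).1 Q (v a) (t • v b) := fun x => by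
      rw [h' x, Orth.b_smul_right, Orth.b_smul_right, Orth.q_smul, Orth.q_smul, S.frame.sing a ha,
        S.frame.sing b hb']
      module
    rw [show g = natEl T R Q v r (-((R.ε r : F) * t)) from Subtype.ext (hg.eq hflip)]
    exact h r hr _

omit S in
/-- a perfect group with simple central quotient: a nontrivial image has isomorphic central quotient -/
theorem center_quot_equiv {G H M : Type*} [Group G] [Group H] [Group M] (θ : G →* M) (hθ : Function.Surjective θ)
    (hker : θ.ker = Subgroup.center G) [IsSimpleGroup M] (hperf : commutator G = ⊤) (ρ : G →* H)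
    (hρ : Function.Surjective ρ) (hne : ρ.ker ≠ ⊤) : Nonempty (M ≃* H ⧸ Subgroup.center H) := by
  have hle : ρ.ker ≤ Subgroup.center G := by
    haveI : (ρ.ker.map θ).Normal := Subgroup.Normal.map inferInstance θ hθ
    rcases Subgroup.Normal.eq_bot_or_eq_top (H := ρ.ker.map θ) inferInstance with e | e
    · rw [← hker]
      intro x hx
      exact (Subgroup.eq_bot_iff_forall _).1 e _ ⟨x, hx, rfl⟩
    · refine absurd ?_ hne
      have hsup : ρ.ker ⊔ Subgroup.center G = ⊤ := by
        rw [← hker, ← Subgroup.comap_map_eq, e, Subgroup.comap_top]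
      rw [← top_le_iff, ← hperf, commutator_def, Subgroup.commutator_le]
      intro a _ b _
      obtain ⟨p, hp, z, hz, rfl⟩ := Subgroup.mem_sup_of_normal_right.1 (hsup ▸ Subgroup.mem_top a)
      rw [MonoidHom.mem_ker, map_commutatorElement, map_mul, MonoidHom.mem_ker.1 hp, one_mul,
        commutatorElement_eq_one_iff_mul_comm, ← map_mul, ← map_mul, Subgroup.mem_center_iff.1 hz b]
  let σ : G →* H ⧸ Subgroup.center H := (QuotientGroup.mk' _).comp ρ
  have hσ : σ.ker = θ.ker := by
    ext x
    rw [hker]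
    constructor
    · intro hx
      have hx' : ρ x ∈ Subgroup.center H := (QuotientGroup.eq_one_iff _).1 hx
      have hc : ∀ y, ⁅x, y⁆ ∈ Subgroup.center G := fun y => hle (by
        rw [MonoidHom.mem_ker, map_commutatorElement, commutatorElement_eq_one_iff_mul_comm]
        exact (Subgroup.mem_center_iff.1 hx' (ρ y)).symm)
      -- Grün: `y ↦ ⁅x, y⁆` is a homomorphism to an abelian group
      let f : G →* Subgroup.center G :=
        { toFun := fun y => ⟨⁅x, y⁆, hc y⟩
          map_one' := Subtype.ext (commutatorElement_one_right x)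
          map_mul' := fun a b => Subtype.ext (by
            show ⁅x, a * b⁆ = ⁅x, a⁆ * ⁅x, b⁆
            have := Subgroup.mem_center_iff.1 (hc b) a
            rw [show ⁅x, a * b⁆ = ⁅x, a⁆ * (a * ⁅x, b⁆ * a⁻¹) by simp only [commutatorElement_def]; group,
              this, mul_inv_cancel_right]) }
      have hf : commutator G ≤ f.ker := by
        rw [commutator_def, Subgroup.commutator_le]
        intro a _ b _
        rw [MonoidHom.mem_ker, map_commutatorElement, commutatorElement_eq_one_iff_mul_comm]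
        exact Subtype.ext (Subgroup.mem_center_iff.1 (f b).2 (f a).1)
      rw [Subgroup.mem_center_iff]
      intro y
      have := congrArg Subtype.val (MonoidHom.mem_ker.1 (hf (hperf ▸ Subgroup.mem_top y)))
      exact (commutatorElement_eq_one_iff_mul_comm.1 this).symm
    · intro hx
      refine (QuotientGroup.eq_one_iff _).2 (Subgroup.mem_center_iff.2 fun y => ?_)
      obtain ⟨z, rfl⟩ := hρ y
      rw [← map_mul, ← map_mul, Subgroup.mem_center_iff.1 hx z]
  exact ⟨(QuotientGroup.quotientKerEquivOfSurjective θ hθ).symm.trans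
    ((QuotientGroup.quotientMulEquivOfEq hσ.symm).trans
      (QuotientGroup.quotientKerEquivOfSurjective σ ((QuotientGroup.mk'_surjective _).comp hρ)))⟩

/-- the Chevalley group is the central quotient of the commutator subgroup of the isometry group -/
theorem natRep_equiv {K : List (List ℕ)} {W : List (ℕ × ℕ × ℕ)} (gW : T.GoodW K W) (gS : T.GoodS)
    {two : Bool} (hkill : T.checkKill₂ two = true) (htwo : two = true → ∃ a : F, a ≠ 0 ∧ a ≠ 1)
    (hperf : T.checkPerf1 = true ∨ ∃ a : F, a ≠ 0 ∧ a ≠ 1) (hne : ∃ r < T.n, natEl T R Q v r (1 : F) ≠ 1) :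
    Nonempty (↥(T.D.group F) ≃* ↥(commutator (oGroup Q)) ⧸ Subgroup.center ↥(commutator (oGroup Q))) := by
  obtain ⟨ρ, hρ⟩ := exists_natHom S
  have hp : commutator (T.D.SteinbergGroup F) = ⊤ := by
    have h := commutator_steinbergCover_eq_top (K := F) gW.toGood htwo hkill
    have := congrArg (Subgroup.map (Cov.proj T F)) h
    rwa [commutator_def, Subgroup.map_commutator, Subgroup.map_top_of_surjective _ Cov.proj_surjective,
      ← commutator_def] at this
  have hrange : ρ.range = commutator (oGroup Q) := by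
    apply le_antisymm
    · rw [MonoidHom.range_eq_map, ← hp, commutator_def, commutator_def, Subgroup.map_commutator]
      exact Subgroup.commutator_mono le_top le_top
    · exact S.frame.commutator_le.trans (rootEls_le S _ fun r hr t => ⟨_, hρ r hr t⟩)
  haveI := (group_simple gS hperf).1
  let ρ' : T.D.SteinbergGroup F →* ↥(commutator (oGroup Q)) :=
    ρ.codRestrict _ fun x => by rw [← hrange]; exact ⟨x, rfl⟩
  refine center_quot_equiv (θG gW.toGoodA F) (θG_surjective gW.toGoodA)
    ((θG_ker gW.toGoodA).trans (ker_eq_center gW)) hp ρ' (fun y => ?_) ?_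
  · obtain ⟨x, hx⟩ : y.1 ∈ ρ.range := by rw [hrange]; exact y.2
    exact ⟨x, Subtype.ext hx⟩
  · obtain ⟨r, hr, h1⟩ := hne
    intro htop
    have : ρ' (T.D.stGen F r 1) = 1 := MonoidHom.mem_ker.1 (by rw [htop]; exact Subgroup.mem_top _)
    exact h1 ((hρ r hr 1).symm.trans (congrArg Subtype.val this))

end Tab

end Cfsg.Agent.Chev

namespace Cfsg.Agent.Chev.Tab

open Cfsg.Agent.Orth (oGroup isoEquiv par)

variable {F V : Type*} [Field F] [AddCommGroup V] [Module F V] {Q : QuadraticForm F V} {v : ℕ → V}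
  {T : Tab} {R : NatData}

theorem natEl_ne_one (S : NatSys T R Q v) {r : ℕ} (hr : r < T.n) (hw : R.w r < 2 * R.m) :
    natEl T R Q v r (1 : F) ≠ 1 := by
  obtain ⟨⟨h1, -, h3, -⟩, hε⟩ := shape_facts S hr
  intro h
  have e := natEl_siegel S hr (1 : F) (v (par (R.u r)))
  rw [h, show ((1 : oGroup Q).1) (v (par (R.u r))) = v (par (R.u r)) from rfl, mul_one, Orth.q_smul,
    S.frame.sing _ hw, Orth.b_smul_right, S.frame.pol' (Orth.par_lt h1).le h1, if_pos rfl,
    S.frame.pol' (Orth.par_lt h1).le hw, if_neg, mul_zero, mul_zero, zero_mul, add_zero, zero_smul, sub_zero,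
    one_smul, left_eq_add] at e
  · have h0 : v (R.w r) = 0 := by
      have e' := congrArg (fun x => (R.ε r : F) • x) e
      rwa [smul_smul, hε, one_smul, smul_zero] at e'
    have := S.frame.pol _ hw _ (Orth.par_lt hw).le
    rw [h0, Orth.b_zero_left, if_pos rfl] at this
    exact zero_ne_one this
  · intro he
    exact h3 (by rw [← Orth.par_par (R.w r), ← he, Orth.par_par])

/-- from linear isometries to the matrix group -/
theorem pomega_equiv {ι : Type} [Fintype ι] [DecidableEq ι] (Q : QuadraticForm F (ι → F)) {M : Type*} [Group M]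
    (h : Nonempty (M ≃* ↥(commutator (oGroup Q)) ⧸ Subgroup.center ↥(commutator (oGroup Q)))) :
    Nonempty (M ≃* Cfsg.POmega F (⇑Q)) := by
  obtain ⟨e⟩ := h
  have hmap : (Cfsg.Omega F (⇑Q)).map (isoEquiv Q).toMonoidHom = commutator (oGroup Q) := by
    show (commutator _).map _ = commutator _
    rw [commutator_def, commutator_def, Subgroup.map_commutator,
      Subgroup.map_top_of_surjective _ (isoEquiv Q).surjective]
  let f : ↥(Cfsg.Omega F (⇑Q)) ≃* ↥(commutator (oGroup Q)) :=
    ((isoEquiv Q).subgroupMap (Cfsg.Omega F (⇑Q))).trans (MulEquiv.subgroupCongr hmap)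
  have hc : (Subgroup.center ↥(Cfsg.Omega F (⇑Q))).map f.toMonoidHom =
      Subgroup.center ↥(commutator (oGroup Q)) := by
    ext x
    simp only [Subgroup.mem_map, Subgroup.mem_center_iff]
    refine ⟨?_, fun h => ⟨f.symm x, fun g => f.injective (by simpa using h _), by simp⟩⟩
    rintro ⟨y, hy, rfl⟩ g
    simpa using congrArg f (hy (f.symm g))
  exact ⟨e.trans (QuotientGroup.congr _ _ f hc).symm⟩

end Cfsg.Agent.Chev.Tab
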