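/-
The Chevalley group of type B2 as a projective orthogonal group.
-/
import Cfsg.Agent.Lib.Lie.NatRep
import Cfsg.Agent.Lib.Lie.TabB2
import Cfsg.Agent.Lib.Orthogonal.OddInvolutions

set_option autoImplicit false
set_option maxRecDepth 8000

namespace Cfsg.Agent.Chev.B2Data

open Cfsg.Lie QuadraticMap
open Cfsg.Agent.Orth (qOdd)

/-- frame roots -/
def nat : Tab.NatData where
  m := 2
  core := true
  u r := [1, 1, 3, 1, 0, 2, 0, 0].getD r 0
  w r := [3, 4, 4, 2, 3, 4, 4, 2].getD r 0
  ε r := [-1, 1, -1, -1, 1, 1, -1, 1].getD r 1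

variable (F : Type*) [Field F]

/-- the frame `e₀, f₀, e₁, f₁, x₀` -/
def frame5 (a : ℕ) : Unit ⊕ (Fin 2 ⊕ Fin 2) → F :=
  match a with
  | 0 => Pi.single (.inr (.inl 0)) 1
  | 1 => Pi.single (.inr (.inr 0)) 1
  | 2 => Pi.single (.inr (.inl 1)) 1
  | 3 => Pi.single (.inr (.inr 1)) 1
  | _ => Pi.single (.inl ()) 1

theorem isFrame : Orth.Frame (qOdd F 2) 2 (frame5 F) where
  two := le_rfl
  sing a ha := by
    interval_cases a <;> simp [Orth.coe_qOdd, Cfsg.quadFormOdd, frame5, Fin.sum_univ_two]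
  pol a ha b hb := by
    interval_cases a <;> interval_cases b <;>
      simp [QuadraticMap.polar, Orth.coe_qOdd, Cfsg.quadFormOdd, frame5, Fin.sum_univ_two, Orth.par,
        Pi.single_apply] <;> ring
  core x hx := by
    refine ⟨x (.inl ()), ?_⟩
    have hl : ∀ a, a < 2 * 2 → polar (qOdd F 2) x (frame5 F a) = 0 := hx
    funext s
    rcases s with u | i | i
    · simp [frame5]
    · fin_cases i
      · simpa [OrthInvol.polar_qOdd, frame5, Fin.sum_univ_two] using hl 1 (by norm_num)
      · simpa [OrthInvol.polar_qOdd, frame5, Fin.sum_univ_two] using hl 3 (by norm_num)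
    · fin_cases i
      · simpa [OrthInvol.polar_qOdd, frame5, Fin.sum_univ_two] using hl 0 (by norm_num)
      · simpa [OrthInvol.polar_qOdd, frame5, Fin.sum_univ_two] using hl 2 (by norm_num)
  aniso c hc := by
    have : c = 0 := by simpa [Orth.coe_qOdd, Cfsg.quadFormOdd, frame5, Fin.sum_univ_two] using hc
    rw [this, zero_smul]

theorem natSys : Tab.NatSys tab nat (qOdd F 2) (frame5 F) where
  good := good
  frame := isFrame F
  qcore := by
    show qOdd F 2 (frame5 F 4) = _
    simp [Tab.NatData.qz, nat, Orth.coe_qOdd, Cfsg.quadFormOdd, frame5, Fin.sum_univ_two]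
  core0 h := absurd h (by decide)
  shape := by decide +kernel
  rel := by decide +kernel
  diag := by decide +kernel
  cover := by decide +kernel

/-- `B₂(F) ≅ PΩ₅(F)` -/
theorem equiv_pomega (hF : ∃ a : F, a ≠ 0 ∧ a ≠ 1) :
    Nonempty (↥(chevB2.group F) ≃* Cfsg.POmega F (Cfsg.quadFormOdd 2 F)) := by
  have gW : tab.GoodW [[2, 2], [1, 2]] [(1, 7, 0), (0, 6, 1)] :=
    ⟨⟨⟨good, by decide +kernel⟩, by decide +kernel⟩, by decide +kernel⟩
  have gS : tab.GoodS := ⟨⟨good, by decide +kernel⟩, by decide +kernel, by decide +kernel⟩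
  have h := Tab.natRep_equiv (natSys F) gW gS (two := true) (by decide +kernel)
    (fun _ => hF) (Or.inr hF)
    ⟨0, by decide +kernel, Tab.natEl_ne_one (natSys F) (by decide +kernel) (by decide +kernel)⟩
  have h' := Tab.pomega_equiv (qOdd F 2) h
  rw [Orth.coe_qOdd] at h'
  exact h'

end Cfsg.Agent.Chev.B2Data
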