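import Cfsg.Agent.Lib.Lie.ChevOrder
import Cfsg.Agent.Lib.Lie.TabB2

/-! Certificates for the order in type B2. -/

set_option autoImplicit false
set_option maxRecDepth 20000

namespace Cfsg.Agent.Chev.B2Data

/-- representatives -/
def reps0 : List Tab.Rep :=
  [⟨[], 0, 1284, [(true, 1)]⟩,
   ⟨[1], 1, 1539, [(true, 0)]⟩]

/-- representatives -/
def reps1 : List Tab.Rep :=
  [⟨[0, 1, 0], 3, 260, [(false, 1), (true, 3)]⟩,
   ⟨[0], 1, 519, [(true, 3), (true, 2)]⟩,
   ⟨[], 0, 1284, [(false, 1), (true, 1)]⟩,
   ⟨[0, 1], 2, 1536, [(true, 1), (true, 0)]⟩]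

/-- the steps -/
def steps : List (ℕ × List Tab.Rep) :=
  [(1, reps0), (0, reps1)]

/-- torus certificate -/
def cert : Tab.TorCert :=
  ⟨2, 1, fun a b => ([[1, 0]].getD a []).getD b 0, fun a b => ([[-1, 1]].getD a []).getD b 0, fun a b => ([[1, 0], [1, 1]].getD a []).getD b 0, fun a b => ([[0, 1]].getD a []).getD b 0⟩

theorem step0 : tab.checkStep [] [1] reps0 = true := by decide +kernel

theorem step1 : tab.checkStep [1] [1, 0] reps1 = true := by decide +kernel

theorem chainOK : tab.checkChain [] steps = true := by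
  simp only [steps, Tab.checkChain, List.nil_append, List.cons_append, Bool.and_eq_true]
  exact ⟨step0, step1, by decide +kernel⟩

theorem torOK : tab.checkTor cert = true := by decide +kernel

theorem polyOK : tab.checkPoly steps [2, 4] = true := by decide +kernel

end Cfsg.Agent.Chev.B2Data
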