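import Cfsg.Agent.Lib.Lie.ChevTab
import Cfsg.Prelude.Def_ChevD4

/-! Packed tables for type D4 (generated from the tables of the datum). -/

set_option autoImplicit false
set_option maxRecDepth 20000

namespace Cfsg.Agent.Chev.D4Data

open Cfsg.Lie

/-- rows of the chain table -/
def row (r : ℕ) : Array (ℕ × Array (ℕ × ℤ)) :=
  (bif Nat.blt r 12 then (bif Nat.blt r 6 then (bif Nat.blt r 3 then (bif Nat.blt r 1 then chevD4Chain0 else (bif Nat.blt r 2 then chevD4Chain1 else chevD4Chain2)) else (bif Nat.blt r 4 then chevD4Chain3 else (bif Nat.blt r 5 then chevD4Chain4 else chevD4Chain5))) else (bif Nat.blt r 9 then (bif Nat.blt r 7 then chevD4Chain6 else (bif Nat.blt r 8 then chevD4Chain7 else chevD4Chain8)) else (bif Nat.blt r 10 then chevD4Chain9 else (bif Nat.blt r 11 then chevD4Chain10 else chevD4Chain11)))) else (bif Nat.blt r 18 then (bif Nat.blt r 15 then (bif Nat.blt r 13 then chevD4Chain12 else (bif Nat.blt r 14 then chevD4Chain13 else chevD4Chain14)) else (bif Nat.blt r 16 then chevD4Chain15 else (bif Nat.blt r 17 then chevD4Chain16 else chevD4Chain17))) else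 (bif Nat.blt r 21 then (bif Nat.blt r 19 then chevD4Chain18 else (bif Nat.blt r 20 then chevD4Chain19 else chevD4Chain20)) else (bif Nat.blt r 22 then chevD4Chain21 else (bif Nat.blt r 23 then chevD4Chain22 else chevD4Chain23)))))

/-- packed chains -/
def pk0 : ℕ := 0x12c2283d0660001281b02603400000000000000000000000000000000000000
/-- packed chains -/
def pk1 : ℕ := 0xe60002d8530000cc168000000000e815000000028000000000000000000000000
/-- packed chains -/
def pk2 : ℕ := 0xfa18c000000a60ec0002d0000001280001a000000030000000000000000000000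
/-- packed chains -/
def pk3 : ℕ := 0x10a1ac000000b610c0000005a00000025000034000000060000000000000000000
/-- packed chains -/
def pk4 : ℕ := 0x1160003586300012c000000000b40000003a054000000000140000000000000000
/-- packed chains -/
def pk5 : ℕ := 0x22c4187b0e600000000000000000000000001281d02a0340000000000000000
/-- packed chains -/
def pk6 : ℕ := 0x13a254000000000000005b0a60002283d000000000000000000580300000000000
/-- packed chains -/
def pk7 : ℕ := 0x1460004a8000000003180000014c2680006a000000000000000980000a00000000
/-- packed chains -/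
def pk8 : ℕ := 0x156000000950000003580000016c0004d0000d4000000000000d80000001400000
/-- packed chains -/
def pk9 : ℕ := 0x16a0000000012a0000006b0c60000000008a0f4000000000001180000000001800
/-- packed chains -/
def pk10 : ℕ := 0x2944e8000000003e875000000000000000001d8330000000001301600000000
/-- packed chains -/
def pk11 : ℕ := 0x2b40009d000000428000ea00000000000000218000660000001b00002c00000
/-- packed chains -/
def pk12 : ℕ := 0x5a80014a0000008d0001f4000000000000004b0000ec0000004600009800
/-- packed chains -/
def pk13 : ℕ := 0xb515a0000000011a214000000000000000009610c0000000008c0d800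
/-- packed chains -/
def pk14 : ℕ := 0x2f400000000274000000000004187b0000000005d0aa0000002b0000000000b
/-- packed chains -/
def pk15 : ℕ := 0x5d80000029400000000000458000e6000328000001540000005600000015
/-- packed chains -/
def pk16 : ℕ := 0xbb0002b4000000000000008b0001cc36800000174000000000ac0001d
/-- packed chains -/
def pk17 : ℕ := 0x17a2d400000000000000001061ec0006d0ca0000000000000015823
/-- packed chains -/
def pk18 : ℕ := 0x598ab14626c00000000000000000000000004d08a0f41a800
/-- packed chains -/
def pk19 : ℕ := 0x5d800000000558a3000000498000000003a8000ba15400035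
/-- packed chains -/
def pk20 : ℕ := 0xbd00000059800136000000930000003e8650000002a83b
/-- packed chains -/
def pk21 : ℕ := 0x17a000000b300026c000001260004286d0000002e843
/-- packed chains -/
def pk22 : ℕ := 0x2ec0000015628c0000000024c468000da1940004d
/-- packed chains -/
def pk23 : ℕ := 0x598ad14a26c0008d1061ec3a800

/-- packed chains -/
def chPk (r : ℕ) : ℕ :=
  (bif Nat.blt r 12 then (bif Nat.blt r 6 then (bif Nat.blt r 3 then (bif Nat.blt r 1 then pk0 else (bif Nat.blt r 2 then pk1 else pk2)) else (bif Nat.blt r 4 then pk3 else (bif Nat.blt r 5 then pk4 else pk5))) else (bif Nat.blt r 9 then (bif Nat.blt r 7 then pk6 else (bif Nat.blt r 8 then pk7 else pk8)) else (bif Nat.blt r 10 then pk9 else (bif Nat.blt r 11 then pk10 else pk11)))) else (bif Nat.blt r 18 then (bif Nat.blt r 15 then (bif Nat.blt r 13 then pk12 else (bif Nat.blt r 14 then pk13 else pk14)) else (bif Nat.blt r 16 then pk15 else (bif Nat.blt r 17 then pk16 else pk17))) else (bif Nat.blt r 21 then (bif Nat.blt r 19 then pk18 else (bif Nat.blt r 20 then pk19 else pk20)) else (bif Nat.blt r 22 then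 pk21 else (bif Nat.blt r 23 then pk22 else pk23)))))

/-- packed Cartan integers -/
def cartanPk (r : ℕ) : ℕ :=
  (bif Nat.blt r 2 then (bif Nat.blt r 1 then 0x89999a777788889999677778 else 0x978897899a77996778978897) else (bif Nat.blt r 3 then 0x8997789977a8869977899778 else 0x89797897978a689797897978))

/-- packed coroots -/
def corootPk (r : ℕ) : ℕ :=
  (bif Nat.blt r 12 then (bif Nat.blt r 6 then (bif Nat.blt r 3 then (bif Nat.blt r 1 then 0x7767 else (bif Nat.blt r 2 then 0x7777 else 0x8777)) else (bif Nat.blt r 4 then 0x7877 else (bif Nat.blt r 5 then 0x8877 else 0x8887))) else (bif Nat.blt r 9 then (bif Nat.blt r 7 then 0x7778 else (bif Nat.blt r 8 then 0x8778 else 0x7878)) else (bif Nat.blt r 10 then 0x8878 else (bif Nat.blt r 11 then 0x8788 else 0x7888)))) else (bif Nat.blt r 18 then (bif Nat.blt r 15 then (bif Nat.blt r 13 then 0x9888 else (bif Nat.blt r 14 then 0x8988 else 0x8898)) else (bif Nat.blt r 16 then 0x9898 else (bif Nat.blt r 17 then 0x8998 else 0x9998))) else (bif Nat.blt r 21 then (bif Nat.blt r 19 then 0x8889 else (bif Nat.blt r 20 then 0x8899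 else 0x9899)) else (bif Nat.blt r 22 then 0x8999 else (bif Nat.blt r 23 then 0x9999 else 0x99a9)))))

/-- packed reflections -/
def refPk (r : ℕ) : ℕ :=
  (bif Nat.blt r 2 then (bif Nat.blt r 1 then 0x17088401e0e02c5a2b1489c34180b05012070280c4a12080381800 else 0x168b8542812898441a0c04c421f0883c3a160a030100b030100003) else (bif Nat.blt r 3 then 0x170a44e2c150903e1d110802a180b06c1c0c098441404010240e00 else 0x170ac58271409042220e87834170c85020130603c1406048080a00))

/-- The packed tables of type D4. -/
def tab : Tab where
  D := chevD4
  l := 4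
  N := 12
  w := 11
  rowA := row
  chPk := chPk
  cartanPk := cartanPk
  corootPk := corootPk
  refPk := refPk
  smpPk := 0xc0d0e12
  reps := [(23, 1), (23, 5), (23, 10), (23, 11), (23, 14)]

end Cfsg.Agent.Chev.D4Data
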