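import Cfsg.Agent.Lib.Lie.BorelTits
import Cfsg.Agent.Lib.Lie.TwClosure
import Mathlib.Algebra.CharP.Two
import Mathlib.Data.Nat.Bitwise
import Mathlib.FieldTheory.Finite.Basic

/-!
# Involutions of a tabulated Chevalley group in characteristic two

An involution in a maximal Bruhat cell among its conjugates is conjugate to a Weyl group element `n_w`
with `w² = 1` sending each fundamental root to itself or to a negative root.
-/

set_option autoImplicit false

namespace Cfsg.Agent.Chev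

open Cfsg.Lie
open Matrix hiding zpow_mul inv_zpow mul_inv_rev zpow_add zpow_neg

namespace Tab

namespace InvC

open BTi

variable {T : Tab} {K : List (List ℕ)} {F : Type*} [Field F]

/-! ### Characteristic two -/

section CharTwo

variable [CharP F 2]

theorem eta_one (i s : ℕ) : ((T.eta i s : ℤ) : F) = 1 := by
  rcases eta_cases T i s with h | h <;> simp [h, CharTwo.neg_eq]

theorem unit_one {ε : Fˣ} (h : ε * ε = 1) : ε = 1 := by
  have h' : (ε : F) * ε = 1 := by rw [← Units.val_mul, h, Units.val_one]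
  refine Units.ext ?_
  have h2 : (ε : F) * ε + 1 = 0 := by rw [h', CharTwo.add_self_eq_zero]
  have h3 : ((ε : F) + 1) * ((ε : F) + 1) = 0 := by
    rw [← h2]
    have := CharTwo.two_eq_zero (R := F)
    linear_combination (ε : F) * this
  have h4 : (ε : F) + 1 = 0 := mul_self_eq_zero.1 h3
  rw [Units.val_one]
  exact CharTwo.add_eq_zero.1 h4

theorem nWd_col_one (g : T.Good) : ∀ {L : List ℕ}, T.Wd L → ∀ {s : ℕ}, s < T.n →
    (nWd g F L : Matrix T.D.Idx T.D.Idx F) *ᵥ bas T F (T.l + s) = bas T F (T.l + T.rw' L s)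
  | [], _, s, _ => by simp
  | i :: L, h, s, hs => by
    obtain ⟨hi, hL⟩ := Wd.cons_iff.1 h
    rw [nWd_cons, Units.val_mul, ← mulVec_mulVec, nWd_col_one g hL hs,
      nG_col_root g hi (rw'_lt g hL hs), eta_one, one_smul, rw'_cons]

theorem nWd_conj_two (g : T.Good) {L : List ℕ} (hL : T.Wd L) {s : ℕ} (hs : s < T.n) (t : F) :
    nWd g F L * xg g s t * (nWd g F L)⁻¹ = xg g (T.rw' L s) t := by
  obtain ⟨ε, hε, h⟩ := nWd_conj (F := F) g hL hs
  rw [(h t).1, unit_one hε, Units.val_one, one_mul]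

theorem nWd_eq_one (g : T.Good) {L : List ℕ} (hL : T.Wd L)
    (h : ∀ s, T.N ≤ s → s < T.n → T.N ≤ T.rw' L s) : nWd g F L = 1 := by
  obtain ⟨⟨c, hc⟩, hfix⟩ := nWd_torus_of_pos (F := F) g L.length le_rfl hL h
  have hw : ∀ s < T.n, wt T F c s = 1 := by
    intro s hs
    have e := nWd_col_one (F := F) g hL hs
    rw [hfix s hs, hc, tor_apply, dg_col_root g] at e
    obtain ⟨a, ha⟩ := exists_code g (show T.l + s < T.l + T.n by omega)
    have := congrFun e a
    simp only [Pi.smul_apply, bas, ha, if_true, smul_eq_mul, mul_one] at this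
    exact Units.ext (by rw [this, Units.val_one])
  rw [hc, tor_apply, dg_congr g (ψ := 1) fun s hs => hw s hs, map_one]

theorem nWd_rev (g : T.Good) {L : List ℕ} (hL : T.Wd L) :
    (nWd g F L)⁻¹ = nWd g F L.reverse := by
  refine inv_eq_of_mul_eq_one_left ?_
  rw [← nWd_append]
  refine nWd_eq_one g (Wd.append_iff.2 ⟨hL.reverse, hL⟩) fun s h1 h2 => ?_
  rw [rw'_append, rw'_rev g hL h2]
  exact h1

theorem nWd_congr (g : T.Good) {L M : List ℕ} (hL : T.Wd L) (hM : T.Wd M)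
    (h : ∀ s < T.n, T.rw' L s = T.rw' M s) : nWd g F L = nWd g F M := by
  have e : nWd g F (M.reverse ++ L) = 1 := by
    refine nWd_eq_one g (Wd.append_iff.2 ⟨hM.reverse, hL⟩) fun s h1 h2 => ?_
    rw [rw'_append, h s h2, rw'_rev g hM h2]
    exact h1
  rw [nWd_append, ← nWd_rev g hM] at e
  exact (inv_mul_eq_one.1 e).symm

theorem nWd_single (g : T.Good) (i : ℕ) : nWd g F [i] = nG g F i := by simp [nWd]

theorem nG_inv (g : T.Good) {i : ℕ} (hi : i < T.l) : (nG g F i)⁻¹ = nG g F i := by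
  rw [← nWd_single, nWd_rev g (by simp [Wd, hi])]
  rfl

theorem nG_conj_two (g : T.Good) {i s : ℕ} (hi : i < T.l) (hs : s < T.n) (t : F) :
    nG g F i * xg g s t * (nG g F i)⁻¹ = xg g (T.ref i s) t := by
  rw [nG_conj g hi hs, eta_one, one_mul]

end CharTwo

/-- a word fixing the fundamental root `p_j` commutes with `n_j` -/
theorem fix_commute (g : T.Good) {L : List ℕ} (hL : T.Wd L) {j : ℕ} (hj : j < T.l)
    (h : T.rw' L (T.smp j) = T.smp j) {s : ℕ} (hs : s < T.n) :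
    T.rw' (L ++ [j]) s = T.rw' (j :: L) s := by
  have hA : T.Wd (L ++ [j]) := Wd.append_iff.2 ⟨hL, by simp [Wd, hj]⟩
  have hB : T.Wd (j :: L) := Wd.cons_iff.2 ⟨hj, hL⟩
  refine rw'_of_nWd_eq (F := ZMod 2) g hA hB (c := 1) (d := 1) ?_ hs
  rw [map_one, one_mul, one_mul, nWd_snoc, nWd_cons, ← mul_inv_eq_iff_eq_mul]
  have e : ∀ ω x y z : GL T.D.Idx (ZMod 2), ω * (x * y * z) * ω⁻¹ =
      (ω * x * ω⁻¹) * (ω * y * ω⁻¹) * (ω * z * ω⁻¹) := fun ω x y z => by group
  have hn : nG g (ZMod 2) j = xg g (T.smp j) 1 * xg g (T.neg (T.smp j)) (-1) * xg g (T.smp j) 1 := rfl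
  rw [hn, e, nWd_conj_two g hL (g.smp_lt hj), nWd_conj_two g hL (neg_lt (g.smp_lt hj)),
    rw'_neg g hL (g.smp_lt hj), h]


/-! ### Bruhat cells -/

/-- `x` lies in the cell of the word `L` -/
def InCell (g : T.Good) (F : Type*) [Field F] (x : GL T.D.Idx F) (L : List ℕ) : Prop :=
  ∃ b ∈ T.D.borelSubgroup F, ∃ b' ∈ T.D.borelSubgroup F, x = b * nWd g F L * b'

theorem incell_exists (g : T.GoodA) {x : GL T.D.Idx F} (hx : x ∈ T.D.group F) :
    ∃ L, T.Wd L ∧ InCell g.toGood F x L := by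
  obtain ⟨b, hb, n, -, L, hL, ⟨c, rfl⟩, u, hu, rfl⟩ := bruhat_exists g hx
  refine ⟨L, hL, b * tor T F c, mul_mem hb (torus_le_borel g.toGood c), u, ?_, by group⟩
  exact genS_pos_le_borel g.toGood (fun r hr => hr) (uMinus_le_pos g.toGood L hu)

theorem incell_unique (g : T.GoodA) {x : GL T.D.Idx F} {L L' : List ℕ} (hL : T.Wd L)
    (hL' : T.Wd L') (h : InCell g.toGood F x L) (h' : InCell g.toGood F x L') {s : ℕ} (hs : s < T.n) :
    T.rw' L s = T.rw' L' s := by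
  have hg := g.toGood
  obtain ⟨b₁, hb₁, b₂, hb₂, rfl⟩ := h
  obtain ⟨c₁, hc₁, c₂, hc₂, e⟩ := h'
  let P := bnPair g F
  let G := T.D.group F
  have hle := borel_le_group (F := F) hg
  have hleN := monomial_le_group (F := F) hg
  have hn : ∀ {L : List ℕ}, T.Wd L → nWd hg F L ∈ T.D.monomialSubgroup F := fun {L} hL =>
    (mem_monomial_iff hg).2 ⟨L, hL, 1, by simp⟩
  let a : G := ⟨nWd hg F L, hleN (hn hL)⟩
  let a' : G := ⟨nWd hg F L', hleN (hn hL')⟩
  let y : G := ⟨b₁ * nWd hg F L * b₂, mul_mem (mul_mem (hle hb₁) (hleN (hn hL))) (hle hb₂)⟩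
  have ha : a ∈ P.N := hn hL
  have ha' : a' ∈ P.N := hn hL'
  have h1 : y ∈ BN.cell P (BN.wmk P a ha) := by
    rw [BN.cell_mk, DoubleCoset.mem_doubleCoset]
    exact ⟨⟨b₁, hle hb₁⟩, hb₁, ⟨b₂, hle hb₂⟩, hb₂, rfl⟩
  have h2 : y ∈ BN.cell P (BN.wmk P a' ha') := by
    rw [BN.cell_mk, DoubleCoset.mem_doubleCoset]
    exact ⟨⟨c₁, hle hc₁⟩, hc₁, ⟨c₂, hle hc₂⟩, hc₂, Subtype.ext e⟩
  have hB : (nWd hg F L)⁻¹ * nWd hg F L' ∈ T.D.borelSubgroup F :=
    (BN.wmk_eq_iff P ha ha').1 (BN.eq_of_mem_cell P h1 h2)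
  have hD := borel_inf_monomial hg hB (mul_mem (inv_mem (hn hL)) (hn hL'))
  rw [diagonalSubgroup_eq hg] at hD
  obtain ⟨d, hd⟩ := hD
  obtain ⟨d', hd'⟩ := torus_pass hg (nWd_mem_wSub (F := F) hg hL) d
  refine (rw'_of_nWd_eq hg hL' hL (c := 1) (d := d') ?_ hs).symm
  rw [map_one, one_mul, ← hd', hd]
  group

/-- `w² = 1` for the cell of an involution -/
theorem incell_invol [CharP F 2] (g : T.GoodA) {x : GL T.D.Idx F} {L : List ℕ} (hL : T.Wd L)
    (hx : x * x = 1) (h : InCell g.toGood F x L) {s : ℕ} (hs : s < T.n) :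
    T.rw' L.reverse s = T.rw' L s := by
  refine incell_unique g hL.reverse hL ?_ h hs
  obtain ⟨b, hb, b', hb', e⟩ := h
  refine ⟨b'⁻¹, inv_mem hb', b⁻¹, inv_mem hb, ?_⟩
  rw [← nWd_rev g.toGood hL, ← inv_eq_of_mul_eq_one_left hx, e]
  group

/-! ### Growing the inversion set -/

theorem invSet_grow_left (g : T.Good) {M : List ℕ} (hM : T.Wd M) {i : ℕ} (hi : i < T.l)
    (h : T.N ≤ T.rw' M.reverse (T.smp i)) :
    (T.invSet M).card < (T.invSet (i :: M)).card := by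
  have hq := rw'_lt g hM.reverse (g.smp_lt hi)
  have e : T.rw' M (T.rw' M.reverse (T.smp i)) = T.smp i := rw'_rev' g hM (g.smp_lt hi)
  refine Finset.card_lt_card ?_
  rw [Finset.ssubset_iff_of_subset]
  · refine ⟨T.rw' M.reverse (T.smp i), ?_, ?_⟩
    · simp only [invSet, Finset.mem_filter, Finset.mem_Ico]
      rw [rw'_cons, e, g.ref_smp hi]
      exact ⟨⟨h, hq⟩, (neg_lt_N_iff (g.smp_lt hi)).2 (g.smp_ge hi)⟩
    · simp only [invSet, Finset.mem_filter, Finset.mem_Ico, e, not_and, not_lt]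
      exact fun _ => g.smp_ge hi
  · intro s hs
    simp only [invSet, Finset.mem_filter, Finset.mem_Ico] at hs ⊢
    rw [rw'_cons]
    obtain ⟨⟨h1, h2⟩, h3⟩ := hs
    refine ⟨⟨h1, h2⟩, ?_⟩
    have hv := rw'_lt g hM h2
    have h4 : T.rw' M (T.neg s) = T.neg (T.rw' M s) := rw'_neg g hM h2
    have h5 : T.neg (T.rw' M s) ≠ T.smp i := by
      intro he
      rw [he] at h4
      have h6 : T.rw' M.reverse (T.rw' M (T.neg s)) = T.rw' M.reverse (T.smp i) := by rw [h4]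
      rw [rw'_rev g hM (neg_lt h2)] at h6
      have := (neg_lt_N_iff h2).2 h1
      omega
    have h7 := g.ref_pos hi (neg_lt hv) ((N_le_neg_iff hv).2 h3) h5
    rw [g.ref_neg hi hv] at h7
    exact (N_le_neg_iff (g.ref_lt hi hv)).1 h7

theorem invSet_card_le (T : Tab) (L : List ℕ) : (T.invSet L).card ≤ T.n :=
  (Finset.card_filter_le _ _).trans (by simp)

/-! ### Linear forms -/

theorem lev_isLin (T : Tab) (K : List (List ℕ)) (J : Set ℕ) :
    IsLin T fun r => (T.lev K J r : ℝ) := by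
  classical
  refine ⟨fun j => ∑ k ∈ (Finset.range T.l).filter (fun k => k ∉ J),
    (((K.getD k []).getD j 0 : ℕ) : ℝ), fun r _ => ?_⟩
  simp only [lev, lin, phi_eq, Finset.sum_mul]
  push_cast
  rw [Finset.sum_comm]

/-- a correction making a form dominant -/
theorem exists_bound (g : T.Good) {φ ψ : ℕ → ℝ} (hφ : IsLin T φ) (hψ : IsLin T ψ)
    (h : ∀ i < T.l, 0 < ψ (T.smp i) ∨ (0 ≤ φ (T.smp i) ∧ ψ (T.smp i) = 0)) :
    ∃ M : ℝ, ∀ r, T.N ≤ r → r < T.n → 0 ≤ φ r + M * ψ r := by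
  refine ⟨∑ i ∈ Finset.range T.l, |φ (T.smp i)| / |ψ (T.smp i)|,
    dom_of_simple g (hφ.add (hψ.smul _)) fun i hi => ?_⟩
  rcases h i hi with hp | ⟨h1, h2⟩
  · have hle : |φ (T.smp i)| / |ψ (T.smp i)| ≤
        ∑ j ∈ Finset.range T.l, |φ (T.smp j)| / |ψ (T.smp j)| :=
      Finset.single_le_sum (f := fun j => |φ (T.smp j)| / |ψ (T.smp j)|)
        (fun j _ => by positivity) (Finset.mem_range.2 hi)
    have h2 := mul_le_mul_of_nonneg_right hle hp.le
    rw [abs_of_pos hp, div_mul_cancel₀ _ hp.ne'] at h2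
    have := neg_abs_le (φ (T.smp i))
    linarith
  · show 0 ≤ φ (T.smp i) + _ * ψ (T.smp i)
    rw [h2, mul_zero, add_zero]
    exact h1

theorem lev_nonneg (g : T.GoodK K) (J : Set ℕ) {r : ℕ} (h : T.N ≤ r) (hn : r < T.n) :
    0 ≤ T.lev K J r := by
  rcases outJ_or_inJ (J := J) h hn with h' | h'
  · exact (lev_outJ g h').le
  · exact (lev_inJ g h').ge

/-- the positive roots of `Φ_J` -/
def inP (T : Tab) (J : Set ℕ) : Set ℕ := {r | T.N ≤ r ∧ r ∈ T.inJ J}

theorem cl_inP (g : T.GoodK K) (J : Set ℕ) : Cl T (inP T J) := by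
  have h := cl_cond g.toGood (lev_isLin T K J) (fun a => a = 0) (fun a b i j _ _ ha hb => by
    rw [ha, hb, mul_zero, mul_zero, add_zero])
  convert h using 1
  ext r
  simp only [inP, Set.mem_setOf_eq]
  constructor
  · rintro ⟨h1, h2⟩
    exact ⟨⟨h1, h2.1⟩, by rw [lev_inJ g h2]; norm_num⟩
  · rintro ⟨⟨h1, h2⟩, h3⟩
    refine ⟨h1, (outJ_or_inJ h1 h2).resolve_left fun h4 => ?_⟩
    have := lev_outJ g h4
    have h5 : T.lev K J r = 0 := by exact_mod_cast h3
    omega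

theorem cl_posExc (g : T.GoodA) {i : ℕ} (hi : i < T.l) : Cl T (T.posExc i) :=
  ⟨fun _ h => ⟨h.1, h.2.1⟩, fun _ hr _ hs _ hc => cTerms_posExc g hi hr.1 hr.2.1 hs hc⟩

theorem wd_inP (g : T.GoodK K) {J : Set ℕ} {A : List ℕ} (hA : ∀ i ∈ A, i < T.l ∧ i ∈ J)
    {r : ℕ} (hr : r ∈ T.inJ J) : T.rw' A r ∈ T.inJ J := by
  induction A with
  | nil => exact hr
  | cons i A ih =>
    obtain ⟨hi, hiJ⟩ := hA i List.mem_cons_self
    exact ref_inJ g.toGood hi hiJ (ih fun j hj => hA j (List.mem_cons_of_mem _ hj))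

theorem wd_outJ (g : T.GoodK K) {J : Set ℕ} {A : List ℕ} (hA : ∀ i ∈ A, i < T.l ∧ i ∈ J)
    {r : ℕ} (hr : r ∈ T.outJ J) : T.rw' A r ∈ T.outJ J := by
  induction A with
  | nil => exact hr
  | cons i A ih =>
    obtain ⟨hi, hiJ⟩ := hA i List.mem_cons_self
    exact ref_outJ g.toGood hi hiJ (ih fun j hj => hA j (List.mem_cons_of_mem _ hj))

/-- a word in `J` inverting the fundamental roots of `J` inverts the positive roots of `Φ_J` -/
theorem inP_neg (g : T.GoodK K) {J : Set ℕ} {A : List ℕ} (hA : ∀ i ∈ A, i < T.l ∧ i ∈ J)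
    (hinv : ∀ i < T.l, i ∈ J → T.rw' A (T.smp i) < T.N) {r : ℕ} (hr : r ∈ inP T J) :
    T.rw' A r < T.N := by
  have hg := g.toGood
  have hW : T.Wd A := fun i hi => (hA i hi).1
  have hφ : IsLin T fun s => (-1 : ℝ) * phi0 T K (T.rw' A s) :=
    ((phi0_lin T K).comp_rw' hg hW).smul (-1)
  obtain ⟨M, hM⟩ := exists_bound hg hφ (lev_isLin T K J) (fun i hi => by
    by_cases hiJ : i ∈ J
    · refine Or.inr ⟨?_, ?_⟩
      · have := phi0_neg g (hinv i hi hiJ)
        linarith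
      · rw [lev_inJ g (smp_mem_inJ hg hi hiJ)]; norm_num
    · refine Or.inl ?_
      have h := lev_outJ g (J := J) (r := T.smp i) ⟨hg.smp_ge hi, hg.smp_lt hi, i, hi, hiJ,
        by rw [c_smp hg hi hi, if_pos rfl]; exact one_ne_zero⟩
      exact_mod_cast h)
  have h1 := hM r hr.1 hr.2.1
  rw [lev_inJ g hr.2] at h1
  push_cast at h1
  by_contra hc
  have := phi0_pos g (not_lt.1 hc) (rw'_lt hg hW hr.2.1)
  linarith

/-- there is a word in `J` inverting the fundamental roots of `J` -/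
theorem exists_inv_word (g : T.Good) (J : Set ℕ) :
    ∃ A : List ℕ, (∀ i ∈ A, i < T.l ∧ i ∈ J) ∧ ∀ i < T.l, i ∈ J → T.rw' A (T.smp i) < T.N := by
  have key : ∀ k (A : List ℕ), (∀ i ∈ A, i < T.l ∧ i ∈ J) → T.n - (T.invSet A).card ≤ k →
      ∃ A : List ℕ, (∀ i ∈ A, i < T.l ∧ i ∈ J) ∧ ∀ i < T.l, i ∈ J → T.rw' A (T.smp i) < T.N := by
    intro k
    induction k with
    | zero =>
      intro A hA hk
      refine ⟨A, hA, fun i hi hiJ => ?_⟩
      by_contra h
      have h1 := invSet_grow g (fun j hj => (hA j hj).1) hi (not_lt.1 h)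
      have h2 := invSet_card_le T (A ++ [i])
      omega
    | succ k ih =>
      intro A hA hk
      by_cases h : ∀ i < T.l, i ∈ J → T.rw' A (T.smp i) < T.N
      · exact ⟨A, hA, h⟩
      push Not at h
      obtain ⟨i, hi, hiJ, h⟩ := h
      have h1 := invSet_grow g (fun j hj => (hA j hj).1) hi h
      refine ih (A ++ [i]) (fun j hj => ?_) (by omega)
      rcases List.mem_append.1 hj with hj | hj
      · exact hA j hj
      · rw [List.mem_singleton.1 hj]; exact ⟨hi, hiJ⟩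
  exact key T.n [] (by simp) (Nat.sub_le _ _)

/-! ### The action of a word which is the identity or negative on each fundamental root -/

/-- fundamental roots fixed by the word -/
def fixS (T : Tab) (L : List ℕ) : Set ℕ := {i | i < T.l ∧ T.rw' L (T.smp i) = T.smp i}

/-- each fundamental root is fixed or made negative -/
def Bal (T : Tab) (L : List ℕ) : Prop :=
  ∀ i < T.l, T.rw' L (T.smp i) = T.smp i ∨ T.rw' L (T.smp i) < T.N

theorem fix_inJ (g : T.Good) {L : List ℕ} (hL : T.Wd L) :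
    ∀ r, r ∈ T.inJ (fixS T L) → T.rw' L r = r := by
  have pos : ∀ r, T.N ≤ r → r ∈ T.inJ (fixS T L) → T.rw' L r = r := by
    intro r
    induction r using Nat.strong_induction_on with
    | _ r ih =>
      intro hN hr
      rcases descent_inJ g hN hr with ⟨j, hj, hJ, rfl⟩ | ⟨j, hj, hJ, h1, h2⟩
      · exact hJ.2
      · have hu := ih _ h2 h1 (ref_inJ g hj hJ hr)
        have e := fix_commute g hL hj hJ.2 (g.ref_lt hj hr.1)
        rw [rw'_append, rw'_cons, rw'_cons, rw'_nil, hu, g.ref_ref hj hr.1] at e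
        exact e
  intro r hr
  by_cases hN : T.N ≤ r
  · exact pos r hN hr
  · have h := pos _ ((N_le_neg_iff hr.1).2 (not_le.1 hN)) (inJ_neg g hr)
    rw [rw'_neg g hL hr.1] at h
    have h2 := congrArg T.neg h
    rwa [Tab.neg_neg (rw'_lt g hL hr.1), Tab.neg_neg hr.1] at h2

theorem out_neg (g : T.GoodK K) {L : List ℕ} (hL : T.Wd L)
    (hinv : ∀ s < T.n, T.rw' L.reverse s = T.rw' L s) (hb : Bal T L) {s : ℕ}
    (hs : s ∈ T.outJ (fixS T L)) : T.rw' L s < T.N := by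
  have hg := g.toGood
  set J := fixS T L with hJ
  set ψ : ℕ → ℝ := fun r => (T.lev K J r : ℝ) with hψ
  have hφ : IsLin T fun r => (-1 : ℝ) * ψ r := (lev_isLin T K J).smul _
  have hψ' : IsLin T fun r => (-1 : ℝ) * ψ (T.rw' L r) :=
    ((lev_isLin T K J).comp_rw' hg hL).smul _
  obtain ⟨M, hM⟩ := exists_bound hg hφ hψ' (fun i hi => by
    by_cases hiJ : i ∈ J
    · have e : ψ (T.smp i) = 0 := by
        rw [hψ]; simp only [lev_inJ g (smp_mem_inJ hg hi hiJ), Int.cast_zero]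
      exact Or.inr ⟨by rw [e, mul_zero], by rw [hiJ.2, e, mul_zero]⟩
    · refine Or.inl ?_
      have hlt : T.rw' L (T.smp i) < T.N := (hb i hi).resolve_left fun e => hiJ ⟨hi, e⟩
      have hp := rw'_lt hg hL (hg.smp_lt hi)
      rcases outJ_or_inJ (J := J) ((N_le_neg_iff hp).2 hlt) (neg_lt hp) with h | h
      · have h1 := lev_outJ g h
        have h2 := (lev_isLin T K J).neg hg hp
        have : (0 : ℝ) < ψ (T.neg (T.rw' L (T.smp i))) := by simp only [hψ]; exact_mod_cast h1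
        simp only [hψ] at this ⊢
        rw [h2] at this
        linarith
      · exfalso
        have h1 := inJ_neg hg h
        rw [Tab.neg_neg hp] at h1
        have h2 := fix_inJ hg hL _ h1
        have h3 := rw'_rev hg hL (hg.smp_lt hi)
        rw [hinv _ hp, h2] at h3
        have := hg.smp_ge hi
        omega)
  have h1 := hM s hs.1 hs.2.1
  have h2 : (0 : ℝ) < ψ s := by simp only [hψ]; exact_mod_cast lev_outJ g hs
  by_contra hc
  have h3 : (0 : ℝ) ≤ ψ (T.rw' L s) := by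
    simp only [hψ]; exact_mod_cast lev_nonneg g J (not_lt.1 hc) (rw'_lt hg hL hs.2.1)
  by_cases hM0 : 0 ≤ M
  · nlinarith
  · -- then already the condition on `ψ` alone fails
    have h4 : ∀ i < T.l, 0 ≤ (-1 : ℝ) * ψ (T.rw' L (T.smp i)) := by
      intro i hi
      rcases hb i hi with e | e
      · have hi' : i ∈ J := ⟨hi, e⟩
        rw [e, hψ]
        simp [lev_inJ g (smp_mem_inJ hg hi hi')]
      · have hp := rw'_lt hg hL (hg.smp_lt hi)
        have h5 := lev_nonneg g J ((N_le_neg_iff hp).2 e) (neg_lt hp)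
        have h6 := (lev_isLin T K J).neg hg hp
        have : (0 : ℝ) ≤ ψ (T.neg (T.rw' L (T.smp i))) := by simp only [hψ]; exact_mod_cast h5
        simp only [hψ] at this ⊢
        rw [h6] at this
        linarith
    have h7 : (0 : ℝ) ≤ (-1 : ℝ) * ψ (T.rw' L s) := dom_of_simple hg hψ' h4 s hs.1 hs.2.1
    nlinarith

/-! ### The theorem -/

section Main

variable [Fintype F] [CharP F 2]

theorem conj_trans {G : Type*} [Group G] (H : Subgroup G) {x y z : G}
    (h₁ : ∃ h ∈ H, h * x * h⁻¹ = y) (h₂ : ∃ h ∈ H, h * y * h⁻¹ = z) :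
    ∃ h ∈ H, h * x * h⁻¹ = z := by
  obtain ⟨a, ha, rfl⟩ := h₁
  obtain ⟨b, hb, rfl⟩ := h₂
  exact ⟨b * a, mul_mem hb ha, by group⟩

theorem nWd_mem_group (g : T.Good) {L : List ℕ} (hL : T.Wd L) : nWd g F L ∈ T.D.group F :=
  monomial_le_group g ((mem_monomial_iff g).2 ⟨L, hL, 1, by simp⟩)

omit [Fintype F] in
/-- the conjugate of `b n_w b'` by `b⁻¹` -/
theorem incell_norm (g : T.Good) {y : GL T.D.Idx F} {L : List ℕ} (h : InCell g F y L) :
    ∃ h' ∈ T.D.group F, ∃ β ∈ T.D.borelSubgroup F, h' * y * h'⁻¹ = nWd g F L * β := by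
  obtain ⟨b, hb, b', hb', rfl⟩ := h
  exact ⟨b⁻¹, inv_mem (borel_le_group g hb), b' * b, mul_mem hb' hb, by group⟩

omit [Fintype F] in
/-- if `w(p_i)` is positive and not `p_i` then some conjugate lies in a larger cell -/
theorem step_up (g : T.GoodK K) {L : List ℕ} (hL : T.Wd L)
    (hinv : ∀ s < T.n, T.rw' L.reverse s = T.rw' L s) {i : ℕ} (hi : i < T.l)
    (hpos : T.N ≤ T.rw' L (T.smp i)) (hne : T.rw' L (T.smp i) ≠ T.smp i)
    {β : GL T.D.Idx F} (hβ : β ∈ T.D.borelSubgroup F) :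
    InCell g.toGood F (nG g.toGood F i * (nWd g.toGood F L * β) * (nG g.toGood F i)⁻¹)
        (i :: L ++ [i]) ∧
      (T.invSet L).card < (T.invSet (i :: L ++ [i])).card := by
  have hg := g.toGood
  have hW : T.Wd (L ++ [i]) := Wd.append_iff.2 ⟨hL, by simp [Wd, hi]⟩
  constructor
  · obtain ⟨u, hu, c, rfl⟩ := (mem_borel_iff hg).1 hβ
    obtain ⟨u', hu', a, rfl⟩ := pos_split g.toGoodA hi hu
    set n := nWd hg F L with hn
    set m := nG hg F i with hm
    set p := T.smp i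
    have hu'' : (xg hg p a)⁻¹ * u' * xg hg p a ∈ genS hg F (T.posExc i) := by
      have := (Subgroup.mem_normalizer_iff.1 (inv_mem
        (posExc_normalized g.toGoodA hi (hg.smp_ge hi) (hg.smp_lt hi) a)) u').1 hu'
      rwa [inv_inv] at this
    have hw := rw'_lt hg hL (hg.smp_lt hi)
    refine ⟨m * (n * xg hg p a * n⁻¹) * m⁻¹, ?_,
      (m * ((xg hg p a)⁻¹ * u' * xg hg p a) * m⁻¹) * (m * tor T F c * m⁻¹), ?_, ?_⟩
    · rw [hn, nWd_conj_two hg hL (hg.smp_lt hi), hm, nG_conj_two hg hi hw]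
      exact pos_le_borel hg (hg.ref_pos hi hw hpos hne) (hg.ref_lt hi hw) _
    · refine mul_mem (genS_pos_le_borel hg (S := T.posExc i) (fun r hr => ⟨hr.1, hr.2.1⟩) ?_)
        (mono_torus_borel hg (nG_mem_monomial hg hi) c)
      exact (Subgroup.mem_normalizer_iff.1
        (nG_normalizes hg hi (fun r hr => hr.2.1) fun r hr => ref_posExc hg hi hr) _).1 hu''
    · rw [nWd_append, nWd_cons, nWd_single, ← hn, ← hm]
      nth_rewrite 6 [show m = m⁻¹ from (nG_inv hg hi).symm]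
      group
  · refine lt_trans (invSet_grow hg hL hi hpos) (invSet_grow_left hg hW hi ?_)
    rw [List.reverse_append, List.reverse_singleton, List.singleton_append, rw'_cons,
      hinv _ (hg.smp_lt hi)]
    exact hg.ref_pos hi (rw'_lt hg hL (hg.smp_lt hi)) hpos hne

omit [Fintype F] in
/-- the Borel part can be taken in the root subgroup of the fixed fundamental roots -/
theorem fixed_part (g : T.GoodK K) {L : List ℕ} (hL : T.Wd L)
    (hinv : ∀ s < T.n, T.rw' L.reverse s = T.rw' L s) (hb : Bal T L) {v : GL T.D.Idx F}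
    {c : ℕ → Fˣ} (hv : v ∈ genS g.toGood F (Set.Ico T.N T.n))
    (hsq : v * (tor T F c * nWd g.toGood F L) * (v * (tor T F c * nWd g.toGood F L)) = 1) :
    v ∈ genS g.toGood F (inP T (fixS T L)) ∧
      (tor T F c * nWd g.toGood F L) * (tor T F c * nWd g.toGood F L) = 1 := by
  have hg := g.toGood
  set J := fixS T L with hJ
  set n := tor T F c * nWd hg F L with hn
  have hv' : v ∈ genS hg F (Set.Ico T.N T.n ∩ Set.Ico T.N T.n) := by rwa [Set.inter_self]
  obtain ⟨v₁, h₁, v₂, h₂, rfl⟩ := split_two g.toGoodA (S := Set.Ico T.N T.n) (A := inP T J)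
    (B := T.outJ J) (cl_pos hg) (fun r hr => (outJ_or_inJ (J := J) hr.1 hr.2).symm.imp
      (fun h => ⟨hr.1, h⟩) id) T.n T.N (by omega) v hv'
  have hconj : ∀ {S S' : Set ℕ}, (∀ r ∈ S, r < T.n) → (∀ r ∈ S, T.rw' L r ∈ S') →
      ∀ x ∈ genS hg F S, n * x * n⁻¹ ∈ genS hg F S' := by
    intro S S' hS hSS x hx
    refine genS_induction hg (p := fun x => n * x * n⁻¹ ∈ genS hg F S') (by simp) ?_ hx
    intro r hr t y hy
    obtain ⟨w, hw⟩ := mono_conj (F := F) hg hL c (hS r hr)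
    rw [show n * (xg hg r t * y) * n⁻¹ = (n * xg hg r t * n⁻¹) * (n * y * n⁻¹) by group]
    exact mul_mem (hn ▸ (hw t).symm ▸ xg_mem_genS hg (hSS r hr) _) hy
  have h1' : n * v₁ * n⁻¹ ∈ genS hg F (inP T J) := hconj (fun r hr => hr.2.1)
    (fun r hr => by rw [fix_inJ hg hL r hr.2]; exact hr) v₁ h₁
  have h2' : n * v₂ * n⁻¹ ∈ genS hg F (Set.Iio T.N) := hconj (fun r hr => hr.2.1)
    (fun r hr => out_neg g hL hinv hb hr) v₂ h₂
  obtain ⟨d, hd⟩ : ∃ d, n * n = tor T F d := by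
    obtain ⟨e, he⟩ := wSub_conj_torus hg (nWd_mem_wSub (F := F) hg hL) c
    refine ⟨c * e, ?_⟩
    have h0 : nWd hg F L * nWd hg F L = 1 := by
      nth_rewrite 1 [nWd_congr hg hL hL.reverse fun s hs => (hinv s hs).symm]
      rw [← nWd_rev hg hL, inv_mul_cancel]
    calc n * n = tor T F c * (nWd hg F L * tor T F c * (nWd hg F L)⁻¹) *
          (nWd hg F L * nWd hg F L) := by rw [hn]; group
      _ = _ := by rw [he, h0, mul_one, map_mul]
  have hpos : ∀ {S : Set ℕ}, S ⊆ Set.Ico T.N T.n → ∀ {x : GL T.D.Idx F}, x ∈ genS hg F S →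
      x ∈ T.D.borelSubgroup F := fun hS _ hx => genS_pos_le_borel hg (fun r hr => hS hr) hx
  have hiP : inP T J ⊆ Set.Ico T.N T.n := fun r hr => ⟨hr.1, hr.2.1⟩
  have e : n * v₂ * n⁻¹ = (n * v₁ * n⁻¹)⁻¹ * (v₁ * v₂)⁻¹ * (n * n)⁻¹ := by
    calc n * v₂ * n⁻¹ = (n * v₁ * n⁻¹)⁻¹ * (v₁ * v₂)⁻¹ * ((v₁ * v₂) * n * ((v₁ * v₂) * n)) *
        (n * n)⁻¹ := by group
      _ = _ := by rw [hsq, mul_one]
  have hB : n * v₂ * n⁻¹ ∈ T.D.borelSubgroup F := by
    rw [e, hd]
    exact mul_mem (mul_mem (inv_mem (hpos hiP h1')) (inv_mem (genS_pos_le_borel hg (fun r hr => hr) hv)))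
      (inv_mem (torus_le_borel hg d))
  have hv2 : v₂ = 1 := conj_eq_one_iff.1 (borel_inf_neg hg hB h2')
  subst hv2
  rw [mul_one] at hsq ⊢
  refine ⟨h₁, ?_⟩
  have hd1 : n * n = (n * v₁ * n⁻¹)⁻¹ * v₁⁻¹ := by
    calc n * n = (n * v₁ * n⁻¹)⁻¹ * v₁⁻¹ * (v₁ * n * (v₁ * n)) := by group
      _ = _ := by rw [hsq, mul_one]
  refine pos_inf_torus hg ?_ (by rw [hd, diagonalSubgroup_eq hg]; exact ⟨d, rfl⟩)
  rw [hd1]
  exact genS_mono hg hiP (mul_mem (inv_mem h1') (inv_mem h₁))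

omit [Fintype F] in
/-- the monomial part centralises the root subgroups of the fixed roots -/
theorem mono_centralises (g : T.GoodK K) {L : List ℕ} (hL : T.Wd L) {c : ℕ → Fˣ}
    (hsq : (tor T F c * nWd g.toGood F L) * (tor T F c * nWd g.toGood F L) = 1) {r : ℕ}
    (hr : r ∈ T.inJ (fixS T L)) (t : F) :
    Commute (tor T F c * nWd g.toGood F L) (xg g.toGood r t) := by
  have hg := g.toGood
  set n := tor T F c * nWd hg F L with hn
  obtain ⟨w, hw⟩ := mono_conj (F := F) hg hL c hr.1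
  simp only [fix_inJ hg hL r hr, ← hn] at hw
  have h1 : w = 1 := by
    apply unit_one
    refine Units.ext (xg_injective hg hr.1 ?_)
    calc xg hg r ((w * w : Fˣ) : F) = n * (n * xg hg r 1 * n⁻¹) * n⁻¹ := by
          rw [hw, hw, mul_one, Units.val_mul]
      _ = (n * n) * xg hg r 1 * (n * n)⁻¹ := by group
      _ = _ := by rw [hsq, one_mul, inv_one, mul_one, Units.val_one]
  have := hw t
  rw [h1, Units.val_one, one_mul, mul_inv_eq_iff_eq_mul] at this
  exact this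

omit [Fintype F] in
/-- walking along a word in the fixed fundamental roots -/
theorem walk (g : T.GoodK K) {J : Set ℕ} {v : GL T.D.Idx F}
    (hv : v ∈ genS g.toGood F (inP T J)) : ∀ A : List ℕ, (∀ i ∈ A, i < T.l ∧ i ∈ J) →
      nWd g.toGood F A * v * (nWd g.toGood F A)⁻¹ ∈ genS g.toGood F (inP T J) ∨
      ∃ i < T.l, i ∈ J ∧ ∃ B : List ℕ, (∀ j ∈ B, j < T.l ∧ j ∈ J) ∧
        ∃ u' ∈ genS g.toGood F (T.posExc i), ∃ a : F, a ≠ 0 ∧
          nWd g.toGood F B * v * (nWd g.toGood F B)⁻¹ = u' * xg g.toGood (T.smp i) a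
  | [], _ => Or.inl (by simpa using hv)
  | i :: A, hA => by
    have hg := g.toGood
    obtain ⟨hi, hiJ⟩ := hA i List.mem_cons_self
    rcases walk g hv A (fun j hj => hA j (List.mem_cons_of_mem _ hj)) with h | h
    swap
    · exact Or.inr h
    obtain ⟨u', hu', a, e⟩ := pos_split g.toGoodA hi
      (genS_mono hg (S' := Set.Ico T.N T.n) (fun r hr => ⟨hr.1, hr.2.1⟩) h)
    by_cases ha : a = 0
    · left
      rw [ha, xg_zero, mul_one] at e
      have h2 := genS_inter g.toGoodA (cl_inP g J) (cl_posExc g.toGoodA hi) h (e ▸ hu')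
      have h3 := genS_conj_ref hg hi (S := inP T J ∩ T.posExc i) (fun r hr => hr.1.2.1) h2
      rw [nWd_cons, show ∀ m x y : GL T.D.Idx F, m * x * y * (m * x)⁻¹ = m * (x * y * x⁻¹) * m⁻¹
        from fun m x y => by group]
      refine genS_mono hg ?_ h3
      rintro _ ⟨r, ⟨h4, h5⟩, rfl⟩
      exact ⟨(ref_posExc hg hi h5).1, ref_inJ hg hi hiJ h4.2⟩
    · exact Or.inr ⟨i, hi, hiJ, A, fun j hj => hA j (List.mem_cons_of_mem _ hj), u', hu', a, ha, e⟩

/-- the torus part can be removed -/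
theorem remove_torus (g : T.Good) {L : List ℕ} (hL : T.Wd L) (hn2 : nWd g F L * nWd g F L = 1)
    {c : ℕ → Fˣ} (hsq : (tor T F c * nWd g F L) * (tor T F c * nWd g F L) = 1) :
    ∃ h ∈ T.D.group F, h * (tor T F c * nWd g F L) * h⁻¹ = nWd g F L := by
  obtain ⟨k, hk⟩ : ∃ k, Fintype.card F = k + k := by
    obtain ⟨⟨m, hm⟩, -, hc⟩ := FiniteField.card F 2
    refine ⟨2 ^ (m - 1), ?_⟩
    rw [hc, ← two_mul, ← pow_succ', PNat.mk_coe]
    congr 1
    omega
  have hc : tor T F c = tor T F (c ^ k) * tor T F (c ^ k) := by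
    rw [← map_mul, ← pow_add, ← hk]
    congr 1
    funext j
    rw [Pi.pow_apply]
    exact Units.ext (by rw [Units.val_pow_eq_pow_val, FiniteField.pow_card])
  set n := nWd g F L with hn
  set h := tor T F c with hh
  have hni : n⁻¹ = n := inv_eq_of_mul_eq_one_left hn2
  have e : n * h * n⁻¹ = h⁻¹ := by
    calc n * h * n⁻¹ = h⁻¹ * (h * n * (h * n)) * (n * n)⁻¹ := by group
      _ = _ := by rw [hsq, hn2]; group
  have e2 : n * tor T F (c ^ k) * n⁻¹ = (tor T F (c ^ k))⁻¹ := by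
    rw [map_pow, ← hh, ← conj_pow, e, inv_pow]
  refine ⟨(tor T F (c ^ k))⁻¹, inv_mem (tor_mem_group g _), ?_⟩
  rw [hc, inv_inv]
  set s := tor T F (c ^ k)
  calc s⁻¹ * (s * s * n) * s = s * (n * s * n⁻¹) * n := by group
    _ = n := by rw [e2]; group

/-- the improvement step -/
theorem improve (g : T.GoodK K) {y : GL T.D.Idx F} (hy : y * y = 1) {L : List ℕ} (hL : T.Wd L)
    (hc : InCell g.toGood F y L) :
    ((∀ s < T.n, T.rw' L.reverse s = T.rw' L s) ∧ Bal T L ∧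
        ∃ h ∈ T.D.group F, h * y * h⁻¹ = nWd g.toGood F L) ∨
      ∃ L', T.Wd L' ∧ (T.invSet L).card < (T.invSet L').card ∧
        ∃ h ∈ T.D.group F, InCell g.toGood F (h * y * h⁻¹) L' := by
  have hg := g.toGood
  have hinv := fun s (hs : s < T.n) => incell_invol g.toGoodA hL hy hc hs
  obtain ⟨h₀, hh₀, β, hβ, e₀⟩ := incell_norm hg hc
  by_cases hb : Bal T L
  swap
  · right
    simp only [Bal, not_forall, not_or, not_lt] at hb
    obtain ⟨i, hi, hne, hpos⟩ := hb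
    obtain ⟨h1, h2⟩ := step_up g hL hinv hi hpos hne hβ
    refine ⟨i :: L ++ [i], Wd.append_iff.2 ⟨Wd.cons_iff.2 ⟨hi, hL⟩, by simp [Wd, hi]⟩, h2,
      nG hg F i * h₀, mul_mem (nG_mem_group hg i) hh₀, ?_⟩
    rw [← e₀] at h1
    convert h1 using 1
    group
  obtain ⟨u, hu, c, rfl⟩ := (mem_borel_iff hg).1 hβ
  set n₀ := nWd hg F L with hn₀
  have hn2 : n₀ * n₀ = 1 := by
    nth_rewrite 1 [hn₀, nWd_congr hg hL hL.reverse fun s hs => (hinv s hs).symm]
    rw [← nWd_rev hg hL, hn₀, inv_mul_cancel]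
  set n := tor T F c * n₀ with hn
  have hN : n₀ ∈ T.D.group F := nWd_mem_group hg hL
  have hy1 : ∃ h ∈ T.D.group F, h * y * h⁻¹ = u * n := by
    refine ⟨n₀⁻¹ * h₀, mul_mem (inv_mem hN) hh₀, ?_⟩
    calc n₀⁻¹ * h₀ * y * (n₀⁻¹ * h₀)⁻¹ = n₀⁻¹ * (h₀ * y * h₀⁻¹) * n₀ := by group
      _ = _ := by rw [e₀, hn]; group
  have hsq : u * n * (u * n) = 1 := by
    obtain ⟨h, -, e⟩ := hy1
    calc u * n * (u * n) = h * (y * y) * h⁻¹ := by rw [← e]; group
      _ = 1 := by rw [hy]; group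
  obtain ⟨hu1, hn1⟩ := fixed_part g hL hinv hb hu hsq
  set J := fixS T L with hJ
  have hcomm : ∀ {r : ℕ}, r ∈ T.inJ J → ∀ t : F, Commute n (xg hg r t) := fun hr t =>
    mono_centralises g hL hn1 hr t
  have hnG : ∀ j < T.l, j ∈ J → Commute n (nG hg F j) := fun j hj hjJ => by
    have hp := smp_mem_inJ hg hj hjJ
    exact ((hcomm hp 1).mul_right (hcomm (inJ_neg hg hp) (-1))).mul_right (hcomm hp 1)
  obtain ⟨A, hA, hAinv⟩ := exists_inv_word hg J
  rcases walk g hu1 A hA with h | ⟨i, hi, hiJ, B, hB, u', hu', a, ha, e⟩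
  · left
    refine ⟨hinv, hb, ?_⟩
    have h2 : nWd hg F A * u * (nWd hg F A)⁻¹ ∈ genS hg F (Set.Iio T.N) := by
      refine genS_induction hg (p := fun x => nWd hg F A * x * (nWd hg F A)⁻¹ ∈
        genS hg F (Set.Iio T.N)) (by simp) ?_ hu1
      intro r hr t x hx
      rw [show nWd hg F A * (xg hg r t * x) * (nWd hg F A)⁻¹ =
        (nWd hg F A * xg hg r t * (nWd hg F A)⁻¹) * (nWd hg F A * x * (nWd hg F A)⁻¹) by group,
        nWd_conj_two hg (fun j hj => (hA j hj).1) hr.2.1]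
      exact mul_mem (xg_mem_genS hg (S := Set.Iio T.N) (inP_neg g hA hAinv hr) t) hx
    have h3 : u = 1 := conj_eq_one_iff.1
      (borel_inf_neg hg (genS_pos_le_borel hg (fun r hr => ⟨hr.1, hr.2.1⟩) h) h2)
    rw [h3, one_mul] at hy1
    exact conj_trans _ hy1 (remove_torus hg hL hn2 hn1)
  · right
    have hBc : Commute n (nWd hg F B) := Commute.list_prod_right _ _ fun x hx => by
      obtain ⟨j, hj, rfl⟩ := List.mem_map.1 hx
      exact hnG j (hB j hj).1 (hB j hj).2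
    have hB' : T.Wd B := fun j hj => (hB j hj).1
    obtain ⟨h, hh, eh⟩ := hy1
    refine ⟨i :: L, Wd.cons_iff.2 ⟨hi, hL⟩, invSet_grow_left hg hL hi ?_,
      nG hg F i * (nWd hg F B * h),
      mul_mem (nG_mem_group hg i) (mul_mem (nWd_mem_group hg hB') hh), ?_⟩
    · rw [hinv _ (hg.smp_lt hi), hiJ.2]; exact hg.smp_ge hi
    have hz : nG hg F i * (nWd hg F B * h) * y * (nG hg F i * (nWd hg F B * h))⁻¹ =
        nG hg F i * (u' * xg hg (T.smp i) a) * (nG hg F i)⁻¹ * n := by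
      have e1 : nWd hg F B * n * (nWd hg F B)⁻¹ = n := by rw [← hBc.eq]; group
      have e2 : nG hg F i * n * (nG hg F i)⁻¹ = n := by rw [← (hnG i hi hiJ).eq]; group
      calc _ = nG hg F i * ((nWd hg F B * (h * y * h⁻¹) * (nWd hg F B)⁻¹)) * (nG hg F i)⁻¹ := by
            group
        _ = nG hg F i * ((nWd hg F B * u * (nWd hg F B)⁻¹) * (nWd hg F B * n * (nWd hg F B)⁻¹)) *
            (nG hg F i)⁻¹ := by rw [eh]; group
        _ = nG hg F i * (u' * xg hg (T.smp i) a) * (nG hg F i)⁻¹ *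
            (nG hg F i * n * (nG hg F i)⁻¹) := by rw [e, e1]; group
        _ = _ := by rw [e2]
    set m := nG hg F i with hm
    set x := xg hg (T.smp i) (-a⁻¹) with hx
    have hrk := rk1_node (F := F) hg hi ha
    obtain ⟨d, hd⟩ := torus_pass hg (nG_mem_wSub (F := F) hg hi) c
    have hP : m * u' * m⁻¹ ∈ T.D.borelSubgroup F :=
      genS_pos_le_borel hg (S := T.posExc i) (fun r hr => ⟨hr.1, hr.2.1⟩)
        ((Subgroup.mem_normalizer_iff.1
          (nG_normalizes hg hi (fun r hr => hr.2.1) fun r hr => ref_posExc hg hi hr) _).1 hu')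
    have hxB : x ∈ T.D.borelSubgroup F := pos_le_borel hg (hg.smp_ge hi) (hg.smp_lt hi) _
    refine ⟨(m * u' * m⁻¹) * x * hS T F i (Units.mk0 a ha)⁻¹ * tor T F d,
      mul_mem (mul_mem (mul_mem hP hxB) (by rw [hS_eq_tor]; exact torus_le_borel hg _))
        (torus_le_borel hg d), x, hxB, ?_⟩
    have e3 : Commute n x := hcomm (smp_mem_inJ hg hi hiJ) _
    calc m * (nWd hg F B * h) * y * (m * (nWd hg F B * h))⁻¹
        = m * (u' * xg hg (T.smp i) a) * m⁻¹ * n := hz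
      _ = m * u' * m⁻¹ * (m * xg hg (T.smp i) a * m⁻¹) * n := by group
      _ = m * u' * m⁻¹ * x * hS T F i (Units.mk0 a ha)⁻¹ * m * (x * n) := by rw [hrk, ← hx, ← hm]; group
      _ = m * u' * m⁻¹ * x * hS T F i (Units.mk0 a ha)⁻¹ * (m * tor T F c) * n₀ * x := by
        rw [← e3.eq, hn]; group
      _ = _ := by rw [hd, nWd_cons, ← hm, ← hn₀]; group

/-- Each involution is conjugate to `n_w` with `w` fixing or inverting each fundamental root. -/
theorem exists_conj_nWd (g : T.GoodK K) {x : GL T.D.Idx F} (hx : x ∈ T.D.group F) (hx2 : x * x = 1) :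
    ∃ L, T.Wd L ∧ (∀ s < T.n, T.rw' L.reverse s = T.rw' L s) ∧ Bal T L ∧
      ∃ h ∈ T.D.group F, h * x * h⁻¹ = nWd g.toGood F L := by
  have key : ∀ k, ∀ y : GL T.D.Idx F, y * y = 1 → (∃ h ∈ T.D.group F, h * x * h⁻¹ = y) →
      ∀ L, T.Wd L → InCell g.toGood F y L → T.n - (T.invSet L).card ≤ k →
      ∃ L, T.Wd L ∧ (∀ s < T.n, T.rw' L.reverse s = T.rw' L s) ∧ Bal T L ∧
        ∃ h ∈ T.D.group F, h * x * h⁻¹ = nWd g.toGood F L := by
    intro k
    induction k with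
    | zero =>
      intro y hy hxy L hL hc hk
      rcases improve g hy hL hc with ⟨h1, h2, h3⟩ | ⟨L', -, h, -⟩
      · exact ⟨L, hL, h1, h2, conj_trans _ hxy h3⟩
      · have := invSet_card_le T L'
        omega
    | succ k ih =>
      intro y hy hxy L hL hc hk
      rcases improve g hy hL hc with ⟨h1, h2, h3⟩ | ⟨L', hL', h, b, hb, hcell⟩
      · exact ⟨L, hL, h1, h2, conj_trans _ hxy h3⟩
      · refine ih (b * y * b⁻¹) ?_ (conj_trans _ hxy ⟨b, hb, rfl⟩) L' hL' hcell (by omega)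
        rw [show b * y * b⁻¹ * (b * y * b⁻¹) = b * (y * y) * b⁻¹ by group, hy]
        group
  obtain ⟨L, hL, hc⟩ := incell_exists g.toGoodA hx
  exact key T.n x hx2 ⟨1, one_mem _, by simp⟩ L hL hc (Nat.sub_le _ _)

/-- The normal forms indexed by the set of fixed fundamental roots. -/
theorem exists_conj_mask (g : T.GoodK K) {w₀ : List ℕ} (hw : T.Wd w₀)
    (hw₀ : ∀ i < T.l, T.rw' w₀.reverse (T.smp i) < T.N) (WI : ℕ → List ℕ)
    (hWI : ∀ m < 2 ^ T.l, (∀ i ∈ WI m, i < T.l ∧ m.testBit i = true) ∧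
      ∀ i < T.l, m.testBit i = true → T.rw' (WI m) (T.smp i) < T.N)
    {x : GL T.D.Idx F} (hx : x ∈ T.D.group F) (hx2 : x * x = 1) :
    ∃ m < 2 ^ T.l, (∀ i < T.l, m.testBit i = true →
        T.rw' (w₀ ++ (WI m).reverse) (T.smp i) = T.smp i) ∧
      ∃ h ∈ T.D.group F, h * x * h⁻¹ = nWd g.toGood F (w₀ ++ (WI m).reverse) := by
  classical
  have hg := g.toGood
  obtain ⟨L, hL, hinv, hb, hconj⟩ := exists_conj_nWd g hx hx2
  set f : Fin T.l → Bool := fun i => decide (T.rw' L (T.smp i) = T.smp i) with hf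
  set m := Nat.ofBits f with hm
  have hm2 : m < 2 ^ T.l := Nat.ofBits_lt_two_pow f
  have hbit : ∀ i (hi : i < T.l), m.testBit i = true ↔ i ∈ fixS T L := fun i hi => by
    rw [hm, Nat.testBit_ofBits_lt f i hi, hf, decide_eq_true_eq]
    exact ⟨fun h => ⟨hi, h⟩, fun h => h.2⟩
  obtain ⟨hA, hAinv⟩ := hWI m hm2
  set A := WI m
  have hA' : ∀ i ∈ A, i < T.l ∧ i ∈ fixS T L := fun i hi =>
    ⟨(hA i hi).1, (hbit i (hA i hi).1).1 (hA i hi).2⟩
  have hAW : T.Wd A := fun i hi => (hA i hi).1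
  have hM : T.Wd (w₀.reverse ++ (L ++ A)) :=
    Wd.append_iff.2 ⟨hw.reverse, Wd.append_iff.2 ⟨hL, hAW⟩⟩
  have hneg : ∀ s, T.N ≤ s → s < T.n → T.rw' L (T.rw' A s) < T.N := by
    intro s h1 h2
    rcases outJ_or_inJ (J := fixS T L) h1 h2 with h | h
    · exact out_neg g hL hinv hb (wd_outJ g hA' h)
    · rw [fix_inJ hg hL _ (wd_inP g hA' h)]
      exact inP_neg g hA' (fun i hi hiJ => hAinv i hi ((hbit i hi).2 hiJ)) ⟨h1, h⟩
  have hpos : ∀ s, T.N ≤ s → s < T.n → T.N ≤ T.rw' (w₀.reverse ++ (L ++ A)) s := by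
    intro s h1 h2
    have hq := rw'_lt hg hL (rw'_lt hg hAW h2)
    have h3 := inverts_all hg hw.reverse hw₀ _ ((N_le_neg_iff hq).2 (hneg s h1 h2)) (neg_lt hq)
    rw [rw'_neg hg hw.reverse hq, neg_lt_N_iff (rw'_lt hg hw.reverse hq)] at h3
    rwa [rw'_append, rw'_append]
  have e : ∀ s < T.n, T.rw' (w₀ ++ A.reverse) s = T.rw' L s := by
    intro s hs
    have hs' := rw'_lt hg hAW.reverse hs
    have h := (nWd_torus_of_pos (F := F) hg _ le_rfl hM hpos).2 _ hs'
    rw [rw'_append, rw'_append, rw'_rev' hg hAW hs] at h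
    have h2 := congrArg (T.rw' w₀) h
    rw [rw'_rev' hg hw (rw'_lt hg hL hs)] at h2
    rw [rw'_append, h2]
  refine ⟨m, hm2, fun i hi hbi => ?_, ?_⟩
  · rw [e _ (hg.smp_lt hi)]
    exact ((hbit i hi).1 hbi).2
  · rwa [nWd_congr hg (Wd.append_iff.2 ⟨hw, hAW.reverse⟩) hL e]

end Main

end InvC

end Tab

end Cfsg.Agent.Chev
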