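import Cfsg.Agent.Lib.Lie.ChevIsog
import Cfsg.Agent.Lib.Lie.TwGraph
import Cfsg.Agent.Lib.Lie.TwCox

/-!
# Twisted groups from an isogeny: `σ x_r(t) = x_{π r}(ψ(ζ_r t^{e_r}))`
-/

set_option autoImplicit false

namespace Cfsg.Agent.Chev

open Cfsg.Lie
open Matrix hiding zpow_mul inv_zpow mul_inv_rev zpow_add zpow_neg

namespace Tab

variable {T : Tab} {F : Type*} [Field F] {K : List (List ℕ)} {W : List (ℕ × ℕ × ℕ)}

/-! ### identities between constant words in characteristic `p` -/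

/-- two constant words agree modulo `p` -/
def checkWordP (T : Tab) (p : ℕ) (w w' : List (ℕ × ℤ)) : Bool :=
  w.all (fun e => Nat.blt e.1 T.n) && w'.all (fun e => Nat.blt e.1 T.n) &&
  allBelow (fun j =>
    (collect (T.wapply (w.map fun e => (e.1, [(e.2, 0, 0)])) [(j, (1, 0, 0))] ++
      vneg (T.wapply (w'.map fun e => (e.1, [(e.2, 0, 0)])) [(j, (1, 0, 0))]))).all
      fun x => x.2.1 % (p : ℤ) == 0) (Nat.add T.l T.n)

/-- the value of a constant word -/
noncomputable def cWordVal (g : T.Good) (F : Type*) [Field F] (w : List (ℕ × ℤ)) : GL T.D.Idx F :=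
  (w.map fun e => xg g e.1 (e.2 : F)).prod

theorem cWordVal_append (g : T.Good) (w w' : List (ℕ × ℤ)) :
    cWordVal g F (w ++ w') = cWordVal g F w * cWordVal g F w' := by
  simp [cWordVal]

theorem word_eq_modP (g : T.Good) (p : ℕ) [CharP F p] {w w' : List (ℕ × ℤ)}
    (h : T.checkWordP p w w' = true) : cWordVal g F w = cWordVal g F w' := by
  simp only [checkWordP, Bool.and_eq_true, List.all_eq_true, nat_blt, allBelow_eq_true,
    beq_iff_eq] at h
  obtain ⟨⟨hw, hw'⟩, hcols⟩ := h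
  have e : ∀ w : List (ℕ × ℤ), cWordVal g F w = ((w.map fun e => (e.1, (e.2 : F))).map
      fun e => xg g e.1 e.2).prod := fun w => by simp [cWordVal, List.map_map, Function.comp_def]
  refine Units.ext ?_
  rw [e, e, word_val, word_val]
  refine ext_col g fun j hj => ?_
  have key : ∀ w : List (ℕ × ℤ), (∀ x ∈ w, x.1 < T.n) →
      T.D.wordMat F (w.map fun e => (e.1, (e.2 : F))) *ᵥ bas T F j =
        sem T (1 : Fˣ) 1 (T.wapply (w.map fun e => (e.1, [(e.2, 0, 0)])) [(j, (1, 0, 0))]) := by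
    intro w hw
    rw [sem_wapply 1 1 g _ _ (by
      intro x hx; obtain ⟨a, ha, rfl⟩ := List.mem_map.1 hx; exact hw a ha), sem_one, List.map_map]
    congr 3
    funext a
    simp [pval, monVal_const]
  rw [key w hw, key w' hw', ← sub_eq_zero, sub_eq_add_neg, ← sem_vneg, ← sem_append,
    ← sem_collect]
  refine List.sum_eq_zero fun x hx => ?_
  obtain ⟨q, hq, rfl⟩ := List.mem_map.1 hx
  have hz : (q.2.1 : F) = 0 := by rw [← cast_emod p q.2.1, hcols j hj q hq, Int.cast_zero]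
  simp [monVal, hz]

/-- the word of a lift -/
def nWord (T : Tab) (L : List ℕ) : List (ℕ × ℤ) :=
  L.flatMap fun i => [(T.smp i, 1), (T.neg (T.smp i), -1), (T.smp i, 1)]

theorem nWd_word (g : T.Good) : ∀ L : List ℕ, nWd g F L = cWordVal g F (T.nWord L)
  | [] => rfl
  | i :: L => by
    rw [nWd_cons, nWd_word g L, show T.nWord (i :: L) =
      [(T.smp i, 1), (T.neg (T.smp i), -1), (T.smp i, 1)] ++ T.nWord L from rfl, cWordVal_append]
    simp [cWordVal, nG, mul_assoc]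

/-! ### conjugation of torus elements -/

theorem nWd_dg (g : T.Good) : ∀ {L : List ℕ}, T.Wd L → ∀ χ : ℕ → Fˣ,
    nWd g F L * dg T F χ * (nWd g F L)⁻¹ = dg T F fun s => χ (T.rw' L.reverse s)
  | [], _, χ => by simp
  | i :: L, h, χ => by
    obtain ⟨hi, hL⟩ := Wd.cons_iff.1 h
    rw [nWd_cons, show nG g F i * nWd g F L * dg T F χ * (nG g F i * nWd g F L)⁻¹ =
      nG g F i * (nWd g F L * dg T F χ * (nWd g F L)⁻¹) * (nG g F i)⁻¹ by group,
      nWd_dg g hL, nG_dg g hi]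
    refine dg_congr g fun s _ => ?_
    rw [List.reverse_cons, rw'_append, rw'_cons, rw'_nil]

/-- `L` acts as `-1` on the coroots of `Js` -/
def checkNeg (T : Tab) (L Js : List ℕ) : Bool :=
  Js.all fun j => allBelow (fun s => T.A j (T.rw' L.reverse s) == -(T.A j s)) T.n

theorem torus_sq_commutator (g : T.Good) {L Js : List ℕ} (hL : T.Wd L)
    (h : T.checkNeg L Js = true) {c : ℕ → Fˣ} (hc : ∀ j < T.l, j ∉ Js → c j = 1) :
    tor T F c * nWd g F L * (tor T F c)⁻¹ * (nWd g F L)⁻¹ = tor T F (c * c) := by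
  simp only [checkNeg, List.all_eq_true, allBelow_eq_true, beq_iff_eq] at h
  have e : nWd g F L * tor T F c * (nWd g F L)⁻¹ = (tor T F c)⁻¹ := by
    rw [tor_apply, nWd_dg g hL, ← map_inv]
    refine dg_congr g fun s hs => ?_
    rw [Pi.inv_apply]
    simp only [wt, ← Finset.prod_inv_distrib, ← _root_.zpow_neg]
    refine Finset.prod_congr rfl fun j hj => ?_
    by_cases hjs : j ∈ Js
    · rw [h j hjs s hs]
    · simp [hc j (Finset.mem_range.1 hj) hjs]
  calc tor T F c * nWd g F L * (tor T F c)⁻¹ * (nWd g F L)⁻¹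
      = tor T F c * (nWd g F L * tor T F c * (nWd g F L)⁻¹)⁻¹ := by group
    _ = _ := by rw [e, inv_inv, map_mul]

/-! ### the endomorphism -/

theorem exists_liftIso (g : T.GoodW K W) {S : Isog} (hS : IsogFacts T S) [CharP F S.p]
    [ExpChar F S.p] (hperf : ∀ x : F, ∃ y : F, y ^ S.p = x) :
    ∃ α : ↥(T.D.group F) →* GL T.D.Idx F, (∀ x, α x ∈ T.D.group F) ∧
      ∀ r, r < T.n → ∀ t : F, α ⟨xg g.toGood r t, xg_mem_group g.toGood r t⟩ =
        xg g.toGood (S.π.getD r 0) (isoMap S r t) := by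
  have hg := g.toGood
  let Φ := isoHom g.toGoodA hS (F := F)
  have hker : (θG g.toGoodA F).ker ≤ Φ.ker := by
    intro z hz
    rw [θG_ker, ker_eq_center g] at hz
    refine MonoidHom.mem_ker.2 ?_
    refine ChevAut.eq_one_of_commute g.toGoodA
      (by rw [← isoHom_range g.toGoodA hS hperf]; exact ⟨z, rfl⟩) fun s hs => ?_
    have hm : xg hg s (1 : F) ∈ Φ.range := by
      rw [show Φ.range = T.D.group F from isoHom_range g.toGoodA hS hperf]
      exact xg_mem_group hg _ _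
    obtain ⟨w, hw⟩ := hm
    show _ = _
    rw [← hw, ← map_mul, ← map_mul, Subgroup.mem_center_iff.1 hz w]
  let α : ↥(T.D.group F) →* GL T.D.Idx F :=
    MonoidHom.liftOfSurjective (θG g.toGoodA F) (θG_surjective g.toGoodA) ⟨Φ, hker⟩
  have hα : ∀ x, α (θG g.toGoodA F x) = Φ x := fun x =>
    MonoidHom.liftOfRightInverse_comp_apply _ _ _ _ x
  refine ⟨α, fun y => ?_, fun r hr t => ?_⟩
  · obtain ⟨x, rfl⟩ := θG_surjective g.toGoodA y
    rw [hα, ← isoHom_range g.toGoodA hS hperf]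
    exact ⟨x, rfl⟩
  · have e : (⟨xg hg r t, xg_mem_group hg r t⟩ : ↥(T.D.group F)) = θG g.toGoodA F (sx T F r t) :=
      Subtype.ext (θ0_sx g.toGoodA r t).symm
    rw [e, hα]
    exact isoHom_sx g.toGoodA hS hr t

/-- the parameter map -/
noncomputable def isoφ (S : Isog) [ExpChar F S.p] (ψ : F →+* F) (r : ℕ) (t : F) : F :=
  ψ (isoMap S r t)

theorem isoφ_eq {S : Isog} (hS : IsogFacts T S) [ExpChar F S.p] (ψ : F →+* F) {r : ℕ} (hr : r < T.n)
    (t : F) : isoφ S ψ r t = (S.ζ.getD r 1 : F) * ψ t ^ S.e.getD r 1 := by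
  obtain ⟨-, -, -, -, -, -, he⟩ := hS.root r hr
  rw [isoφ, isoMap, map_mul, map_intCast, pw_apply he, map_pow]

theorem isoφ_neg {S : Isog} (hS : IsogFacts T S) [ExpChar F S.p] (ψ : F →+* F) {r : ℕ} (hr : r < T.n)
    (t : F) : isoφ S ψ (T.neg r) (-t⁻¹) = -(isoφ S ψ r t)⁻¹ := by
  obtain ⟨-, -, -, hζn, hζ, hen, -⟩ := hS.root r hr
  have hz : (S.ζ.getD r 1 : F) * (S.ζ.getD r 1 : F) = 1 := by
    rw [← Int.cast_mul, hζ, Int.cast_one]
  rw [isoφ, isoφ, ← map_inv₀ ψ, ← map_neg ψ, isoMap, isoMap, hen, hζn, map_neg, map_inv₀, mul_inv,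
    inv_eq_of_mul_eq_one_left hz, mul_neg]

theorem isoφ_ne {S : Isog} (hS : IsogFacts T S) [ExpChar F S.p] (ψ : F →+* F) {r : ℕ} (hr : r < T.n)
    {t : F} (ht : t ≠ 0) : isoφ S ψ r t ≠ 0 := by
  obtain ⟨-, -, -, -, hζ, -, -⟩ := hS.root r hr
  refine (map_ne_zero ψ).2 (mul_ne_zero (fun h0 => ?_) ((map_ne_zero _).2 ht))
  have := congrArg (Int.cast (R := F)) hζ
  rw [Int.cast_mul, h0, zero_mul, Int.cast_one] at this
  exact zero_ne_one this

section Sigma

variable (g : T.GoodW K W) {S : Isog} (hS : IsogFacts T S) [CharP F S.p] [ExpChar F S.p]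
  (hperf : ∀ x : F, ∃ y : F, y ^ S.p = x) (ψ : F →+* F)

open scoped Classical in
/-- the endomorphism (the identity off the group) -/
noncomputable def isoσ (x : GL T.D.Idx F) : GL T.D.Idx F :=
  if h : x ∈ T.D.group F then
    ChevAut.entryHom T ψ ((exists_liftIso g hS hperf).choose ⟨x, h⟩) else x

theorem isoσ_mem {x : GL T.D.Idx F} (hx : x ∈ T.D.group F) : isoσ g hS hperf ψ x ∈ T.D.group F := by
  rw [isoσ, dif_pos hx]
  exact ChevAut.entryHom_group g.toGood ψ ((exists_liftIso g hS hperf).choose_spec.1 _)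

theorem isoσ_mul {x y : GL T.D.Idx F} (hx : x ∈ T.D.group F) (hy : y ∈ T.D.group F) :
    isoσ g hS hperf ψ (x * y) = isoσ g hS hperf ψ x * isoσ g hS hperf ψ y := by
  rw [isoσ, isoσ, isoσ, dif_pos hx, dif_pos hy, dif_pos (mul_mem hx hy), ← map_mul, ← map_mul]
  rfl

theorem isoσ_one : isoσ g hS hperf ψ 1 = 1 := by
  have h := isoσ_mul g hS hperf ψ (one_mem (T.D.group F)) (one_mem _)
  rw [mul_one] at h
  exact mul_eq_left.1 h.symm

theorem isoσ_xg {r : ℕ} (hr : r < T.n) (t : F) :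
    isoσ g hS hperf ψ (xg g.toGood r t) = xg g.toGood (S.π.getD r 0) (isoφ S ψ r t) := by
  rw [isoσ, dif_pos (xg_mem_group g.toGood r t), (exists_liftIso g hS hperf).choose_spec.2 r hr,
    ChevAut.entryHom_xg]
  rfl

theorem isoσ_prod : ∀ {L : List (GL T.D.Idx F)}, (∀ x ∈ L, x ∈ T.D.group F) →
    isoσ g hS hperf ψ L.prod = (L.map (isoσ g hS hperf ψ)).prod
  | [], _ => by simp [isoσ_one]
  | x :: L, h => by
    rw [List.prod_cons, isoσ_mul g hS hperf ψ (h x List.mem_cons_self)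
      (Subgroup.list_prod_mem _ fun y hy => h y (List.mem_cons_of_mem _ hy)), List.map_cons,
      List.prod_cons, isoσ_prod fun y hy => h y (List.mem_cons_of_mem _ hy)]

theorem isoσ_nE {r : ℕ} (hr : r < T.n) (t : F) :
    isoσ g hS hperf ψ (nE g.toGood r t) = nE g.toGood (S.π.getD r 0) (isoφ S ψ r t) := by
  obtain ⟨-, -, hπn, -⟩ := hS.root r hr
  have h1 := xg_mem_group (F := F) g.toGood r t
  have h2 := xg_mem_group (F := F) g.toGood (T.neg r) (-t⁻¹)
  rw [nE, nE, isoσ_mul g hS hperf ψ (mul_mem h1 h2) h1, isoσ_mul g hS hperf ψ h1 h2,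
    isoσ_xg g hS hperf ψ hr, isoσ_xg g hS hperf ψ (neg_lt hr), hπn, isoφ_neg hS ψ hr]

theorem isoσ_nWd {L : List ℕ} (hL : T.Wd L) :
    isoσ g hS hperf ψ (nWd g.toGood F L) = nWd g.toGood F (L.map fun i => S.ρ.getD i 0) := by
  have hG : ∀ i, nG g.toGood F i ∈ T.D.group F := fun i => nG_mem_group g.toGood i
  rw [nWd, nWd, isoσ_prod g hS hperf ψ (fun x hx => by
    obtain ⟨i, -, rfl⟩ := List.mem_map.1 hx; exact hG i), List.map_map, List.map_map]
  refine congrArg List.prod (List.map_congr_left fun i hi => ?_)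
  obtain ⟨-, -, hπ, hz, -, -⟩ := hS.node i (hL i hi)
  have e : ∀ i, nG g.toGood F i = nE g.toGood (T.smp i) (1 : F) := fun i => by simp [nG, nE]
  have hr := g.toGood.smp_lt (i := i) (hL i hi)
  simp only [Function.comp_apply, e]
  rw [isoσ_nE g hS hperf ψ hr, hπ, isoφ_eq hS ψ hr, hz]
  simp

include hS in
theorem neg_one_pow_e {r : ℕ} (hr : r < T.n) : (-1 : F) ^ S.e.getD r 1 = -1 := by
  obtain ⟨-, -, -, -, -, -, he⟩ := hS.root r hr
  rcases he with h | h
  · rw [h, pow_one]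
  · rw [h, ← frobenius_def, map_neg, map_one]

theorem isoσ_hS {i : ℕ} (hi : i < T.l) (u : Fˣ) :
    isoσ g hS hperf ψ (_root_.Cfsg.Agent.Chev.Tab.hS T F i u) =
      _root_.Cfsg.Agent.Chev.Tab.hS T F (S.ρ.getD i 0) (Units.map ψ.toMonoidHom u ^ S.ν.getD i 0) := by
  have hg := g.toGood
  obtain ⟨hρ, -, hπ, hz, he, -⟩ := hS.node i hi
  have hr := hg.smp_lt (i := i) hi
  have hn : ∀ t : F, nE hg (T.smp i) t ∈ T.D.group F := fun t =>
    mul_mem (mul_mem (xg_mem_group hg _ _) (xg_mem_group hg _ _)) (xg_mem_group hg _ _)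
  have hm : ψ (-1) ^ S.ν.getD i 0 = -1 := by
    rw [map_neg, map_one, ← he, neg_one_pow_e hS hr]
  rw [← hE_smp hg hi, ← hE_smp hg hρ, hE, hE, isoσ_mul g hS hperf ψ (hn _) (hn _),
    isoσ_nE g hS hperf ψ hr, isoσ_nE g hS hperf ψ hr, hπ, isoφ_eq hS ψ hr, isoφ_eq hS ψ hr, hz, he,
    hm, Int.cast_one, one_mul, one_mul]
  simp

theorem isoσ_tor (c : ℕ → Fˣ) :
    isoσ g hS hperf ψ (tor T F c) = tor T F fun j =>
      Units.map ψ.toMonoidHom (c (S.ρ.getD j 0)) ^ S.ν.getD (S.ρ.getD j 0) 0 := by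
  have hg := g.toGood
  rw [tor_eq_prod hg c, isoσ_prod g hS hperf ψ (fun x hx => by
    obtain ⟨i, hi, rfl⟩ := List.mem_map.1 hx
    rw [← hE_smp hg (List.mem_range.1 hi)]
    exact mul_mem (mul_mem (mul_mem (xg_mem_group hg _ _) (xg_mem_group hg _ _)) (xg_mem_group hg _ _))
      (mul_mem (mul_mem (xg_mem_group hg _ _) (xg_mem_group hg _ _)) (xg_mem_group hg _ _))),
    List.map_map]
  have e : (List.range T.l).map (isoσ g hS hperf ψ ∘ fun i => _root_.Cfsg.Agent.Chev.Tab.hS T F i (c i)) =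
      ((List.range T.l).map fun i => Pi.mulSingle (M := fun _ : ℕ => Fˣ) (S.ρ.getD i 0)
        (Units.map ψ.toMonoidHom (c i) ^ S.ν.getD i 0)).map (tor T F) := by
    rw [List.map_map]
    exact List.map_congr_left fun i hi => isoσ_hS g hS hperf ψ (List.mem_range.1 hi) (c i)
  rw [e, ← map_list_prod]
  refine tor_congr hg fun j hj => ?_
  obtain ⟨hρ, hρρ, -⟩ := hS.node j hj
  rw [← List.prod_toFinset _ List.nodup_range, List.toFinset_range, Finset.prod_apply,
    Finset.prod_eq_single (S.ρ.getD j 0)]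
  · rw [hρρ, Pi.mulSingle_eq_same]
  · intro i hi hne
    refine Pi.mulSingle_eq_of_ne (fun e => hne ?_) _
    rw [e, (hS.node i (Finset.mem_range.1 hi)).2.1]
  · exact fun hn => absurd (Finset.mem_range.2 hρ) hn

end Sigma

/-- the isogeny read as a symmetry -/
def _root_.Cfsg.Agent.Chev.Isog.toSym (S : Isog) : Sym := ⟨S.ρ, S.ρ, S.π, S.π, S.ζ⟩

/-- The twisted data of an isogeny. -/
@[reducible]
noncomputable def isoTwist (g : T.GoodW K W) {S : Isog} (hS : IsogFacts T S) [CharP F S.p]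
    [ExpChar F S.p] (hperf : ∀ x : F, ∃ y : F, y ^ S.p = x) (ψ : F →+* F) {J w : ℕ → List ℕ} {nb : ℕ}
    (hT : T.checkTw S.toSym J w nb = true) (G1 : Subgroup (GL T.D.Idx F))
    (hG1 : ∀ x ∈ G1, x ∈ T.D.group F ∧ isoσ g hS hperf ψ x = x)
    (hn : ∀ b < nb, nWd g.toGood F (w b) ∈ G1)
    (hU : ∀ b < nb, ∀ u ∈ uMinus g.toGood F (w b), isoσ g hS hperf ψ u = u → u ∈ G1) :
    Twist g.toGoodK F where
  σ := isoσ g hS hperf ψ
  π r := S.π.getD r 0
  φ := isoφ S ψ
  G1 := G1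
  nb := nb
  J := J
  w := w
  n b := nWd g.toGood F (w b)
  σ_mem _ hx := isoσ_mem g hS hperf ψ hx
  σ_mul _ hx _ hy := isoσ_mul g hS hperf ψ hx hy
  π_lt r hr := (hS.root r hr).1
  π_pos := (tw_facts hT).pos
  π_inj := (tw_facts hT).inj
  π_neg := (tw_facts hT).neg
  φ_ne _ hr _ ht := isoφ_ne hS ψ hr ht
  φ_neg _ hr t := isoφ_neg hS ψ hr t
  σ_xg _ hr t := isoσ_xg g hS hperf ψ hr t
  G1_le := hG1
  J_lt := (tw_facts hT).J_lt
  J_cover := (tw_facts hT).J_cover
  J_orbit := (tw_facts hT).J_orbit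
  w_mem := (tw_facts hT).w_mem
  w_neg := (tw_facts hT).w_neg
  n_mem := hn
  n_eq b _ := ⟨1, by rw [map_one, one_mul]⟩
  U_mem := hU

namespace Twist

variable {g : T.GoodK K} (X : Twist g F)

/-- fixed torus elements normalise the twisted group -/
theorem torus_normalizes {S : Set (GL T.D.Idx F)} (hS : X.G1 = Subgroup.closure S)
    (hsplit : ∀ x ∈ S, x ∈ genS g.toGood F (Set.Ico T.N T.n) ∨ x ∈ genS g.toGood F (Set.Iio T.N))
    {c : ℕ → Fˣ} (hmem : tor T F c ∈ T.D.group F) (hfix : X.σ (tor T F c) = tor T F c) :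
    ∀ x ∈ X.G1, tor T F c * x * (tor T F c)⁻¹ ∈ X.G1 := by
  have hle : X.G1 ≤ X.G1.comap (MulAut.conj (tor T F c)).toMonoidHom := by
    conv_lhs => rw [hS]
    refine (Subgroup.closure_le _).2 fun x hx => ?_
    have hx1 : x ∈ X.G1 := hS ▸ Subgroup.subset_closure hx
    obtain ⟨hxG, hxσ⟩ := X.G1_le x hx1
    show tor T F c * x * (tor T F c)⁻¹ ∈ X.G1
    have hσ : X.σ (tor T F c * x * (tor T F c)⁻¹) = tor T F c * x * (tor T F c)⁻¹ := by
      rw [X.σ_conj hmem hxG, hfix, hxσ]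
    rcases hsplit x hx with h | h
    · exact X.pos_fixed_mem ((Subgroup.mem_normalizer_iff.1
        (tor_normalizes g.toGood (fun r hr => hr.2) c) _).1 h) hσ
    · obtain ⟨L, hL, hc, hneg⟩ := X.exists_longest_comm
      obtain ⟨d, hn⟩ := X.exists_lift hL hc
      refine X.neg_fixed_mem ((Subgroup.mem_normalizer_iff.1
        (tor_normalizes g.toGood (fun r hr => by
          have := n_def (T := T); have : r < T.N := hr; omega) c) _).1 h) hσ hL hneg hn
  exact fun x hx => hle hx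

/-- squares of fixed torus elements of a block lie in the twisted group -/
theorem torus_sq_mem {S : Set (GL T.D.Idx F)} (hS : X.G1 = Subgroup.closure S)
    (hsplit : ∀ x ∈ S, x ∈ genS g.toGood F (Set.Ico T.N T.n) ∨ x ∈ genS g.toGood F (Set.Iio T.N))
    {b : ℕ} (hb : b < X.nb) (hn : X.n b = nWd g.toGood F (X.w b))
    {Js : List ℕ} (hneg : T.checkNeg (X.w b) Js = true) {c : ℕ → Fˣ}
    (hc : ∀ j < T.l, j ∉ Js → c j = 1) (hmem : tor T F c ∈ T.D.group F)
    (hfix : X.σ (tor T F c) = tor T F c) : tor T F (c * c) ∈ X.G1 := by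
  rw [← torus_sq_commutator g.toGood (X.w_wd hb) hneg hc, ← hn]
  exact X.G1.mul_mem (X.torus_normalizes hS hsplit hmem hfix _ (X.n_mem b hb))
    (X.G1.inv_mem (X.n_mem b hb))

variable (hB : X.Blocks) {q d : ℕ} (hq : 1 < q) [Finite F]
  (hblk : ∀ b < X.nb, ∃ k, Nat.card ↥(uMinus g.toGood F (X.w b) ⊓ X.G1) = q ^ k ∧
      k * d = (T.invSet (X.w b)).card)

include hB hq hblk in
/-- `N¹/H¹` from a faithful model of the group spelled by the blocks -/
theorem exists_model_hom1 {G : Type*} [Group G] (ι : G →* Equiv.Perm (Fin T.n))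
    (hι : Function.Injective ι) (hgen : ∀ b < X.nb, pL g.toGood (X.w b) ∈ ι.range)
    (hrange : ι.range ≤ Subgroup.closure {p | ∃ b < X.nb, p = pL g.toGood (X.w b)}) :
    ∃ φ : ↥(T.D.monomialSubgroup F ⊓ X.G1) →* G, Function.Surjective φ ∧
      φ.ker = (T.D.diagonalSubgroup F ⊓ X.G1).subgroupOf (T.D.monomialSubgroup F ⊓ X.G1) := by
  obtain ⟨φ, hφ, hker, hb⟩ := X.exists_perm_hom1 hB hq hblk
  have hle : φ.range ≤ ι.range := by
    intro p hp
    have hp' : p ∈ (X.w1 : Set (Equiv.Perm (Fin T.n))) := hφ ▸ hp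
    obtain ⟨L, hL, hc, rfl⟩ := X.mem_w1_iff.1 (Finset.mem_coe.1 hp')
    obtain ⟨Ls, hLs, e⟩ := X.exists_flat _ hL hc le_rfl
    rw [e]
    clear e hp hp'
    induction Ls with
    | nil => rw [flatW_nil, pL_nil]; exact one_mem _
    | cons b Ls ih =>
      rw [flatW_cons, pL_append]
      exact mul_mem (hgen b (hLs b List.mem_cons_self)) (ih fun x hx => hLs x (List.mem_cons_of_mem _ hx))
  have hge : ι.range ≤ φ.range := hrange.trans ((Subgroup.closure_le _).2 (by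
    rintro p ⟨b, hb', rfl⟩
    exact hb b hb'))
  let e : G ≃* ↥ι.range := MonoidHom.ofInjective hι
  let ψ : ↥(T.D.monomialSubgroup F ⊓ X.G1) →* ↥ι.range := φ.codRestrict _ fun x => hle ⟨x, rfl⟩
  refine ⟨e.symm.toMonoidHom.comp ψ, fun y => ?_, ?_⟩
  · obtain ⟨x, hx⟩ := hge (e y).2
    exact ⟨x, e.symm_apply_eq.2 (Subtype.ext hx)⟩
  · rw [← hker]
    ext x
    simp [MonoidHom.mem_ker, ψ, Subtype.ext_iff]

end Twist

end Tab

end Cfsg.Agent.Chev
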