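import Cfsg.Agent.Lib.Lie.TabG2
import Cfsg.Agent.Lib.Lie.TabB2
import Cfsg.Agent.Lib.Lie.TabD4
import Cfsg.Agent.Lib.Lie.TabF4
import Cfsg.Agent.Lib.Lie.TabE6
import Cfsg.Agent.Lib.Lie.TabE7
import Cfsg.Agent.Lib.Lie.TabE8

/-! Each of the seven tabulated data has checked packed tables. -/

set_option autoImplicit false

namespace Cfsg.Agent.Chev

open Cfsg.Lie

theorem exists_good {D : ChevalleyDatum}
    (hD : D ∈ [chevG2, chevB2, chevD4, chevF4, chevE6, chevE7, chevE8]) :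
    ∃ T : Tab, T.Good ∧ T.D = D := by
  simp only [List.mem_cons, List.not_mem_nil, or_false] at hD
  rcases hD with rfl | rfl | rfl | rfl | rfl | rfl | rfl
  exacts [⟨_, G2Data.good, rfl⟩, ⟨_, B2Data.good, rfl⟩, ⟨_, D4Data.good, rfl⟩, ⟨_, F4Data.good, rfl⟩,
    ⟨_, E6Data.good, rfl⟩, ⟨_, E7Data.good, rfl⟩, ⟨_, E8Data.good, rfl⟩]

end Cfsg.Agent.Chev
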