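import Cfsg.Agent.Lib.Lie.StMain
import Cfsg.Agent.Lib.ChevAut.FixedPoints
import Cfsg.Agent.Lib.Lie.TabB2
import Mathlib.Algebra.CharP.Frobenius

/-!
# Graph automorphisms in characteristic two and three

The map `x̄_r(t) ↦ x_{π r}(ζ_r t^{e_r})` respects Steinberg's relations in characteristic `p`; it kills the
centre, so it induces an endomorphism of the group whose square is the Frobenius endomorphism.
-/

set_option autoImplicit false
set_option maxRecDepth 20000

namespace Cfsg.Agent.Chev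

open Cfsg.Lie
open Matrix hiding zpow_mul inv_zpow mul_inv_rev zpow_add zpow_neg

/-- Data of a graph automorphism in characteristic `p`. -/
structure Isog where
  /-- the characteristic -/
  p : ℕ
  /-- the permutation of the nodes -/
  ρ : List ℕ
  /-- the exponents at the nodes -/
  ν : List ℕ
  /-- the permutation of the roots -/
  π : List ℕ
  /-- the signs -/
  ζ : List ℤ
  /-- the exponents at the roots -/
  e : List ℕ

namespace Tab

/-- a term reduced modulo `p`, zero terms dropped -/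
def redTerms (p : ℕ) (L : List (ℕ × ℤ × ℕ × ℕ)) : List (ℕ × ℤ × ℕ × ℕ) :=
  (L.map fun c => (c.1, c.2.1 % (p : ℤ), c.2.2)).filter fun c => !(c.2.1 == 0)

/-- image of the terms of `(r, s)` -/
def imgTerms (T : Tab) (S : Isog) (r s : ℕ) : List (ℕ × ℤ × ℕ × ℕ) :=
  (T.cTerms r s).map fun c =>
    (S.π.getD c.1 0, c.2.1 * S.ζ.getD c.1 1 * (-1) ^ (c.2.2.1 * S.e.getD c.1 1),
      c.2.2.1 * S.e.getD c.1 1, c.2.2.2 * S.e.getD c.1 1)

/-- the terms of the image pair -/
def tgtTerms (T : Tab) (S : Isog) (r s : ℕ) : List (ℕ × ℤ × ℕ × ℕ) :=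
  (T.cTerms (S.π.getD r 0) (S.π.getD s 0)).map fun c =>
    (c.1, c.2.1 * (-(S.ζ.getD r 1)) ^ c.2.2.1 * S.ζ.getD s 1 ^ c.2.2.2,
      c.2.2.1 * S.e.getD r 1, c.2.2.2 * S.e.getD s 1)

/-- two roots whose root elements commute in characteristic `p` -/
def commOK (T : Tab) (p k k' : ℕ) : Bool :=
  Nat.beq k k' || (!Nat.beq k' (T.neg k) && (T.cTerms k k').all fun d => d.2.1 % (p : ℤ) == 0)

/-- the checks -/
def checkIsog (T : Tab) (S : Isog) : Bool :=
  allBelow (fun i =>
    Nat.blt (S.ρ.getD i 0) T.l && Nat.beq (S.ρ.getD (S.ρ.getD i 0) 0) i &&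
    Nat.beq (S.π.getD (T.smp i) 0) (T.smp (S.ρ.getD i 0)) &&
    S.ζ.getD (T.smp i) 1 == 1 && Nat.beq (S.e.getD (T.smp i) 1) (S.ν.getD i 0) &&
    Nat.beq (S.ν.getD i 0 * S.ν.getD (S.ρ.getD i 0) 0) S.p) T.l &&
  allBelow (fun r =>
    Nat.blt (S.π.getD r 0) T.n && Nat.beq (S.π.getD (S.π.getD r 0) 0) r &&
    Nat.beq (S.π.getD (T.neg r) 0) (T.neg (S.π.getD r 0)) &&
    S.ζ.getD (T.neg r) 1 == S.ζ.getD r 1 && S.ζ.getD r 1 * S.ζ.getD r 1 == 1 &&
    Nat.beq (S.e.getD (T.neg r) 1) (S.e.getD r 1) &&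
    (Nat.beq (S.e.getD r 1) 1 || Nat.beq (S.e.getD r 1) S.p) &&
    allBelow (fun s => Nat.beq s r || Nat.beq s (T.neg r) ||
      ((redTerms S.p (T.imgTerms S r s)).isPerm (redTerms S.p (T.tgtTerms S r s)) &&
        (redTerms S.p (T.imgTerms S r s)).all fun x =>
          (redTerms S.p (T.imgTerms S r s)).all fun y =>
            Nat.blt x.1 T.n && T.commOK S.p x.1 y.1)) T.n) T.n

/-- the facts given by the checks -/
structure IsogFacts (T : Tab) (S : Isog) : Prop where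
  node : ∀ i < T.l, S.ρ.getD i 0 < T.l ∧ S.ρ.getD (S.ρ.getD i 0) 0 = i ∧
    S.π.getD (T.smp i) 0 = T.smp (S.ρ.getD i 0) ∧ S.ζ.getD (T.smp i) 1 = 1 ∧
    S.e.getD (T.smp i) 1 = S.ν.getD i 0 ∧ S.ν.getD i 0 * S.ν.getD (S.ρ.getD i 0) 0 = S.p
  root : ∀ r < T.n, S.π.getD r 0 < T.n ∧ S.π.getD (S.π.getD r 0) 0 = r ∧
    S.π.getD (T.neg r) 0 = T.neg (S.π.getD r 0) ∧ S.ζ.getD (T.neg r) 1 = S.ζ.getD r 1 ∧
    S.ζ.getD r 1 * S.ζ.getD r 1 = 1 ∧ S.e.getD (T.neg r) 1 = S.e.getD r 1 ∧
    (S.e.getD r 1 = 1 ∨ S.e.getD r 1 = S.p)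
  pair : ∀ r < T.n, ∀ s < T.n, s ≠ r → s ≠ T.neg r →
    (redTerms S.p (T.imgTerms S r s)).Perm (redTerms S.p (T.tgtTerms S r s)) ∧
      ∀ x ∈ redTerms S.p (T.imgTerms S r s), ∀ y ∈ redTerms S.p (T.imgTerms S r s),
        x.1 < T.n ∧ T.commOK S.p x.1 y.1 = true

theorem isog_facts (T : Tab) (S : Isog) (h : T.checkIsog S = true) : IsogFacts T S := by
  simp only [checkIsog, Bool.and_eq_true, Bool.or_eq_true, allBelow_eq_true, List.all_eq_true,
    nat_blt, nat_beq, beq_iff_eq, List.isPerm_iff] at h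
  obtain ⟨h1, h2⟩ := h
  refine ⟨fun i hi => ?_, fun r hr => ?_, fun r hr s hs hne hne' => ?_⟩
  · obtain ⟨⟨⟨⟨⟨a, b⟩, c⟩, d⟩, e⟩, f⟩ := h1 i hi
    exact ⟨a, b, c, d, e, f⟩
  · obtain ⟨⟨⟨⟨⟨⟨⟨a, b⟩, c⟩, d⟩, e⟩, f⟩, g⟩, -⟩ := h2 r hr
    exact ⟨a, b, c, d, e, f, g⟩
  · rcases (h2 r hr).2 s hs with (h | h) | h
    · exact absurd h hne
    · exact absurd h hne'
    · exact h

variable {T : Tab} {F : Type*} [Field F]

/-- the value of a term -/
noncomputable def tVal (g : T.Good) (t u : F) (c : ℕ × ℤ × ℕ × ℕ) : GL T.D.Idx F :=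
  xg g c.1 ((c.2.1 : F) * t ^ c.2.2.1 * u ^ c.2.2.2)

theorem cast_emod (p : ℕ) [CharP F p] (z : ℤ) : ((z % (p : ℤ) : ℤ) : F) = (z : F) := by
  conv_rhs => rw [← Int.emod_add_mul_ediv z (p : ℤ)]
  simp [CharP.cast_eq_zero]

theorem tVal_red (g : T.Good) (p : ℕ) [CharP F p] (t u : F) (L : List (ℕ × ℤ × ℕ × ℕ)) :
    ((redTerms p L).map (tVal g t u)).prod = (L.map (tVal g t u)).prod := by
  induction L with
  | nil => rfl
  | cons c L ih =>
    simp only [redTerms, List.map_cons] at ih ⊢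
    by_cases h : c.2.1 % (p : ℤ) = 0
    · rw [List.filter_cons_of_neg (by simp [h]), ih, List.prod_cons]
      have : tVal g t u c = 1 := by
        rw [tVal, ← cast_emod p c.2.1, h]
        simp
      rw [this, one_mul]
    · rw [List.filter_cons_of_pos (by simp [h]), List.map_cons, List.prod_cons, ih, List.prod_cons]
      simp only [tVal, cast_emod]

theorem commute_of_commOK (g : T.GoodA) (p : ℕ) [CharP F p] {k k' : ℕ} (hk : k < T.n) (hk' : k' < T.n)
    (h : T.commOK p k k' = true) (a b : F) : Commute (xg g.toGood k a) (xg g.toGood k' b) := by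
  simp only [commOK, Bool.or_eq_true, nat_beq, Bool.and_eq_true, Bool.not_eq_true', nat_beq_false,
    List.all_eq_true, beq_iff_eq] at h
  by_cases hkk : k = k'
  · subst hkk
    show _ = _
    rw [xg_add, xg_add, add_comm]
  obtain ⟨hne, hall⟩ := h.resolve_left hkk
  show _ = _
  rw [xg_comm g hk hk' (Ne.symm hkk) hne a b]
  rw [List.prod_eq_one, mul_one]
  intro y hy
  simp only [cVal, List.map_map, List.mem_map, Function.comp_apply] at hy
  obtain ⟨d, hd, rfl⟩ := hy
  rw [← cast_emod p d.2.1, hall d hd]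
  simp

theorem prod_img_eq_tgt (g : T.GoodA) {S : Isog} (hS : IsogFacts T S) [CharP F S.p] {r s : ℕ}
    (hr : r < T.n) (hs : s < T.n) (h1 : s ≠ r) (h2 : s ≠ T.neg r) (t u : F) :
    ((T.imgTerms S r s).map (tVal g.toGood t u)).prod =
      ((T.tgtTerms S r s).map (tVal g.toGood t u)).prod := by
  obtain ⟨hperm, hcomm⟩ := hS.pair r hr s hs h1 h2
  rw [← tVal_red g.toGood S.p, ← tVal_red g.toGood S.p t u (T.tgtTerms S r s)]
  refine (hperm.map (tVal g.toGood t u)).prod_eq' ?_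
  refine List.pairwise_map.2 (List.pairwise_of_forall_mem_list fun x hx y hy => ?_)
  exact commute_of_commOK g S.p (hcomm x hx y hy).1 (hcomm y hy x hx).1 (hcomm x hx y hy).2 _ _

/-- `t ↦ t^e` as a ring homomorphism -/
noncomputable def pw (F : Type*) [Field F] (p : ℕ) [ExpChar F p] (e : ℕ) : F →+* F :=
  if e = 1 then RingHom.id F else frobenius F p

theorem pw_apply {p : ℕ} [ExpChar F p] {e : ℕ} (h : e = 1 ∨ e = p) (x : F) : pw F p e x = x ^ e := by
  unfold pw
  split_ifs with h1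
  · simp [h1]
  · rw [h.resolve_left h1]; rfl

/-- the parameter map at a root -/
noncomputable def isoMap (S : Isog) [ExpChar F S.p] (r : ℕ) (t : F) : F :=
  (S.ζ.getD r 1 : F) * pw F S.p (S.e.getD r 1) t

/-- the endomorphism from the Steinberg group -/
noncomputable def isoHom (g : T.GoodA) {S : Isog} (hS : IsogFacts T S) [CharP F S.p] [ExpChar F S.p] :
    T.D.SteinbergGroup F →* GL T.D.Idx F :=
  PresentedGroup.toGroup (rels := T.D.steinbergRels F)
    (f := fun q : Fin T.D.nroots × F => xg g.toGood (S.π.getD q.1 0) (isoMap S q.1 q.2)) <| by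
    have hg := g.toGood
    set f := fun q : Fin T.D.nroots × F => xg g.toGood (S.π.getD q.1 0) (isoMap S q.1 q.2) with hf
    have hX : ∀ r, r < T.n → ∀ t : F, FreeGroup.lift f (T.D.stX r t) =
        xg hg (S.π.getD r 0) (isoMap S r t) := by
      intro r hr t
      simp [ChevalleyDatum.stX, hg.nroots_eq, hr, f]
    have hW : ∀ w : List (ℕ × F), (∀ e ∈ w, e.1 < T.n) → FreeGroup.lift f (T.D.stWord w) =
        (w.map fun e => xg hg (S.π.getD e.1 0) (isoMap S e.1 e.2)).prod := by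
      intro w hw
      rw [ChevalleyDatum.stWord, map_list_prod, List.map_map]
      exact congrArg List.prod (List.map_congr_left fun e he => hX _ (hw e he) _)
    rintro x ((⟨r, a, b, hr, rfl⟩ | ⟨r, s, t, u, hr, hs, h1, h2, rfl⟩) | ⟨r, a, b, hr, ha, hb, rfl⟩)
    · rw [hg.nroots_eq] at hr
      simp only [map_mul, map_inv, hX _ hr, xg_add, isoMap, map_add, mul_add, mul_inv_cancel]
    · rw [hg.nroots_eq] at hr hs
      rw [hg.neg_eq hr] at h2
      obtain ⟨hπr, hππr, hπn, -, -, -, her⟩ := hS.root r hr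
      obtain ⟨hπs, hππs, -, -, -, -, hes⟩ := hS.root s hs
      have hlt : ∀ e ∈ cVal T F r s t u, e.1 < T.n := by
        intro e he
        obtain ⟨c, hc, rfl⟩ := List.mem_map.1 he
        exact (cTerms_mem hg hr hs hc).1
      have e1 : (cVal T F r s t u).map (fun e => xg hg (S.π.getD e.1 0) (isoMap S e.1 e.2)) =
          (T.imgTerms S r s).map (tVal hg t u) := by
        simp only [cVal, imgTerms, List.map_map]
        refine List.map_congr_left fun c hc => ?_
        obtain ⟨-, -, -, -, -, -, hec⟩ := hS.root c.1 (cTerms_mem hg hr hs hc).1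
        simp only [Function.comp_apply, tVal, isoMap]
        congr 1
        rw [map_mul, map_mul, map_intCast, map_pow, map_pow, map_neg, pw_apply hec, pw_apply hec,
          pow_mul', pow_mul', neg_pow (t ^ S.e.getD c.1 1)]
        push_cast
        rcases hec with h | h
        · rw [h]; ring
        · rw [h]
          have hneg : ((-1 : F) ^ S.p) = -1 := by
            have h' := map_neg (frobenius F S.p) (1 : F)
            rwa [map_one, frobenius_def] at h'
          rw [hneg]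
          ring
      have e2 : (cVal T F (S.π.getD r 0) (S.π.getD s 0) (isoMap S r t) (isoMap S s u)).map
          (fun e => xg hg e.1 e.2) = (T.tgtTerms S r s).map (tVal hg t u) := by
        simp only [cVal, tgtTerms, List.map_map]
        refine List.map_congr_left fun c hc => ?_
        simp only [Function.comp_apply, tVal, isoMap, pw_apply her, pw_apply hes]
        congr 1
        push_cast
        rw [pow_mul', pow_mul']
        ring
      have hne1 : S.π.getD s 0 ≠ S.π.getD r 0 := fun h => h1 (by rw [← hππs, ← hππr, h])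
      have hne2 : S.π.getD s 0 ≠ T.neg (S.π.getD r 0) := fun h => by
        rw [← hπn] at h
        obtain ⟨-, hππn, -⟩ := hS.root _ (neg_lt hr)
        exact h2 (by rw [← hππs, ← hππn, h])
      simp only [map_mul, map_inv, hX _ hr, hX _ hs, commWord_eq hg hr hs, hW _ hlt, e1]
      rw [mul_assoc ((xg hg (S.π.getD s 0) _)⁻¹ * _), xg_comm g hπr hπs hne1 hne2, e2,
        ← prod_img_eq_tgt g hS hr hs h1 h2]
      group
    · rw [hg.nroots_eq] at hr
      obtain ⟨hπr, -, hπn, hζn, hζ, hen, her⟩ := hS.root r hr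
      have hN : ∀ c : F, FreeGroup.lift f (T.D.stH r c) =
          nE hg (S.π.getD r 0) (isoMap S r c) * nE hg (S.π.getD r 0) (isoMap S r (-1)) := by
        intro c
        have hlt : ∀ e ∈ T.D.hWord r c, e.1 < T.n := by
          intro e he
          have := neg_lt hr
          simp [ChevalleyDatum.hWord, ChevalleyDatum.nWord, hg.neg_eq hr] at he
          rcases he with rfl | rfl | rfl | rfl | rfl | rfl <;> assumption
        have hneg : ∀ c : F, isoMap S (T.neg r) (-c⁻¹) = -(isoMap S r c)⁻¹ := by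
          intro c
          have hz : (S.ζ.getD r 1 : F) * (S.ζ.getD r 1 : F) = 1 := by
            rw [← Int.cast_mul, hζ, Int.cast_one]
          rw [isoMap, isoMap, hen, hζn, map_neg, map_inv₀, mul_inv,
            inv_eq_of_mul_eq_one_left hz, mul_neg]
        rw [ChevalleyDatum.stH, hW _ hlt]
        simp [-List.getD_eq_getElem?_getD, ChevalleyDatum.hWord, ChevalleyDatum.nWord, hg.neg_eq hr, hπn,
          nE, mul_assoc]
        simp only [← hneg, inv_neg, inv_one, _root_.neg_neg]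
      have hne : ∀ c : F, c ≠ 0 → isoMap S r c ≠ 0 := fun c hc =>
        mul_ne_zero (fun h0 => by
          have := congrArg (Int.cast (R := F)) hζ
          rw [Int.cast_mul, h0, zero_mul, Int.cast_one] at this
          exact zero_ne_one this) ((map_ne_zero _).2 hc)
      have hH : ∀ c : F, c ≠ 0 →
          FreeGroup.lift f (T.D.stH r c) = hE hg (S.π.getD r 0) (pw F S.p (S.e.getD r 1) c) := by
        intro c hc
        rw [hN]
        have h := nE_mul_nE_eq_hE hg hπr (Units.mk0 _ (hne c hc))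
          (Units.mk0 _ (hne (-1) (neg_ne_zero.2 one_ne_zero)))
        simp only [Units.val_mk0] at h
        rw [h]
        congr 1
        have hz : (S.ζ.getD r 1 : F) ≠ 0 := left_ne_zero_of_mul (hne c hc)
        simp only [isoMap, map_neg, map_one]
        field_simp
      simp only [map_mul, map_inv, hH a ha, hH b hb, hH (a * b) (mul_ne_zero ha hb)]
      obtain ⟨v, hv⟩ : ∃ v : Fˣ, (v : F) = pw F S.p (S.e.getD r 1) a :=
        ⟨Units.mk0 _ ((map_ne_zero _).2 ha), rfl⟩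
      obtain ⟨w, hw⟩ : ∃ w : Fˣ, (w : F) = pw F S.p (S.e.getD r 1) b :=
        ⟨Units.mk0 _ ((map_ne_zero _).2 hb), rfl⟩
      rw [← hv, ← hw, hE_mul hg hπr, mul_inv_cancel]

theorem isoHom_sx (g : T.GoodA) {S : Isog} (hS : IsogFacts T S) [CharP F S.p] [ExpChar F S.p]
    {r : ℕ} (hr : r < T.n) (t : F) :
    isoHom g hS (sx T F r t) = xg g.toGood (S.π.getD r 0) (isoMap S r t) := by
  rw [sx, ChevalleyDatum.stGen, ChevalleyDatum.stX, dif_pos (by rw [g.toGood.nroots_eq]; exact hr)]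
  exact PresentedGroup.toGroup.of _

theorem group_le_of_roots (g : T.Good) {H : Subgroup (GL T.D.Idx F)}
    (h : ∀ r < T.n, ∀ t : F, xg g r t ∈ H) : T.D.group F ≤ H := by
  refine (Subgroup.closure_le _).2 ?_
  rintro x ⟨⟨r, hr⟩, t, hx⟩
  have hr' : r < T.n := by rwa [g.nroots_eq] at hr
  have e : x = xg g r t := Units.ext (by rw [hx, xg_val, ChevalleyDatum.x, dif_pos hr])
  rw [e]
  exact h r hr' t

theorem isoHom_range (g : T.GoodA) {S : Isog} (hS : IsogFacts T S) [CharP F S.p] [ExpChar F S.p]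
    (hperf : ∀ x : F, ∃ y : F, y ^ S.p = x) : (isoHom g hS (F := F)).range = T.D.group F := by
  have hg := g.toGood
  refine le_antisymm ?_ (group_le_of_roots hg fun r hr t => ?_)
  · rintro y ⟨x, rfl⟩
    refine PresentedGroup.generated_by (T.D.steinbergRels F) ((T.D.group F).comap (isoHom g hS)) ?_ x
    rintro ⟨r, t⟩
    show isoHom g hS (PresentedGroup.of (r, t)) ∈ T.D.group F
    rw [isoHom, PresentedGroup.toGroup.of]
    exact xg_mem_group hg _ _
  · obtain ⟨hπr, hππr, -⟩ := hS.root r hr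
    obtain ⟨-, -, -, -, hζ, -, he⟩ := hS.root _ hπr
    obtain ⟨y, hy⟩ : ∃ y : F, pw F S.p (S.e.getD (S.π.getD r 0) 1) y =
        (S.ζ.getD (S.π.getD r 0) 1 : F) * t := by
      rcases he with h | h
      · exact ⟨(S.ζ.getD (S.π.getD r 0) 1 : F) * t, by rw [pw, if_pos h]; rfl⟩
      · obtain ⟨y, hy⟩ := hperf ((S.ζ.getD (S.π.getD r 0) 1 : F) * t)
        exact ⟨y, by rw [pw_apply (Or.inr h), h, hy]⟩
    refine ⟨sx T F (S.π.getD r 0) y, ?_⟩
    rw [isoHom_sx g hS hπr, hππr, isoMap, hy, ← mul_assoc, ← Int.cast_mul, hζ, Int.cast_one, one_mul]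

/-- The automorphism of the group in characteristic `p`. -/
theorem exists_isog {K : List (List ℕ)} {W : List (ℕ × ℕ × ℕ)} (g : T.GoodW K W) {S : Isog}
    (h : T.checkIsog S = true) [CharP F S.p] [ExpChar F S.p] (hperf : ∀ x : F, ∃ y : F, y ^ S.p = x) :
    ∃ α : ↥(T.D.group F) ≃* ↥(T.D.group F), ∀ (x : ↥(T.D.group F)) (i : ℕ) (t : F), i < T.D.rank →
      (((x : GL T.D.Idx F) : Matrix T.D.Idx T.D.Idx F) = T.D.x F (T.D.simple i) t →
        ((α x : GL T.D.Idx F) : Matrix T.D.Idx T.D.Idx F) =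
          T.D.x F (T.D.simple (S.ρ.getD i 0)) (t ^ S.ν.getD i 0)) ∧
      (((x : GL T.D.Idx F) : Matrix T.D.Idx T.D.Idx F) = T.D.x F (T.D.neg (T.D.simple i)) t →
        ((α x : GL T.D.Idx F) : Matrix T.D.Idx T.D.Idx F) =
          T.D.x F (T.D.neg (T.D.simple (S.ρ.getD i 0))) (t ^ S.ν.getD i 0)) := by
  have hS := isog_facts T S h
  have hg := g.toGood
  let Φ : T.D.SteinbergGroup F →* ↥(T.D.group F) :=
    (isoHom g.toGoodA hS).codRestrict _ fun x => by
      rw [← isoHom_range g.toGoodA hS hperf]; exact ⟨x, rfl⟩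
  have hker : (θG g.toGoodA F).ker ≤ Φ.ker := by
    intro z hz
    rw [θG_ker, ker_eq_center g] at hz
    refine MonoidHom.mem_ker.2 (Subtype.ext ?_)
    show isoHom g.toGoodA hS z = 1
    refine ChevAut.eq_one_of_commute g.toGoodA
      (by rw [← isoHom_range g.toGoodA hS hperf]; exact ⟨z, rfl⟩) fun s hs => ?_
    have hm : xg hg s (1 : F) ∈ (isoHom g.toGoodA hS).range := by
      rw [isoHom_range g.toGoodA hS hperf]; exact xg_mem_group hg _ _
    obtain ⟨w, hw⟩ := hm
    show _ = _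
    rw [← hw, ← map_mul, ← map_mul, Subgroup.mem_center_iff.1 hz w]
  let α₀ : ↥(T.D.group F) →* ↥(T.D.group F) :=
    MonoidHom.liftOfSurjective (θG g.toGoodA F) (θG_surjective g.toGoodA) ⟨Φ, hker⟩
  have hα₀ : ∀ x, α₀ (θG g.toGoodA F x) = Φ x := fun x =>
    MonoidHom.liftOfRightInverse_comp_apply _ _ _ _ x
  have hgen : ∀ r, r < T.n → ∀ (x : ↥(T.D.group F)) (t : F), (x : GL T.D.Idx F) = xg hg r t →
      (α₀ x : GL T.D.Idx F) = xg hg (S.π.getD r 0) (isoMap S r t) := by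
    intro r hr x t hx
    have e : x = θG g.toGoodA F (sx T F r t) :=
      Subtype.ext (hx.trans (θ0_sx g.toGoodA r t).symm)
    rw [e, hα₀]
    exact isoHom_sx g.toGoodA hS hr t
  have hsimple : ∀ i < T.l, ∀ t : F, isoMap S (T.smp i) t = t ^ S.ν.getD i 0 ∧
      isoMap S (T.neg (T.smp i)) t = t ^ S.ν.getD i 0 := by
    intro i hi t
    obtain ⟨-, -, -, hz, he, -⟩ := hS.node i hi
    obtain ⟨-, -, -, hzn, -, hen, hee⟩ := hS.root _ (hg.smp_lt hi)
    constructor
    · rw [isoMap, hz, Int.cast_one, one_mul, pw_apply hee, he]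
    · rw [isoMap, hzn, hen, hz, Int.cast_one, one_mul, pw_apply hee, he]
  have hsq : ∀ x : ↥(T.D.group F),
      (α₀ (α₀ x) : GL T.D.Idx F) = ChevAut.entryHom T (frobenius F S.p) (x : GL T.D.Idx F) := by
    let E : Subgroup ↥(T.D.group F) :=
      ((T.D.group F).subtype.comp (α₀.comp α₀)).eqLocus
        ((ChevAut.entryHom T (frobenius F S.p)).comp (T.D.group F).subtype)
    have hle : T.D.group F ≤ E.map (T.D.group F).subtype := by
      have hx : ∀ r, r < T.n → ∀ i, i < T.l → (r = T.smp i ∨ r = T.neg (T.smp i)) → ∀ t : F,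
          xg hg r t ∈ E.map (T.D.group F).subtype := by
        intro r hr i hi hri t
        refine ⟨⟨xg hg r t, xg_mem_group hg r t⟩, ?_, rfl⟩
        show ((α₀ (α₀ _) : ↥(T.D.group F)) : GL T.D.Idx F) = ChevAut.entryHom T _ (xg hg r t)
        obtain ⟨hρ, hρρ, hπ, -, -, hν⟩ := hS.node i hi
        obtain ⟨-, -, hπρ, -, -, -⟩ := hS.node _ hρ
        obtain ⟨-, -, hπn, -⟩ := hS.root _ (hg.smp_lt hi)
        obtain ⟨-, -, hπρn, -⟩ := hS.root _ (hg.smp_lt hρ)
        have h1 := hgen r hr ⟨xg hg r t, xg_mem_group hg r t⟩ t rfl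
        rw [ChevAut.entryHom_xg, frobenius_def]
        rcases hri with rfl | rfl
        · rw [hπ, (hsimple i hi t).1] at h1
          rw [hgen _ (hg.smp_lt hρ) _ _ h1, hπρ, hρρ, (hsimple _ hρ _).1, ← pow_mul, hν]
        · rw [hπn, hπ, (hsimple i hi t).2] at h1
          rw [hgen _ (neg_lt (hg.smp_lt hρ)) _ _ h1, hπρn, hπρ, hρρ, (hsimple _ hρ _).2,
            ← pow_mul, hν]
      refine group_le_of_simple hg (fun i hi t => hx _ (hg.smp_lt hi) i hi (Or.inl rfl) t)
        fun i hi => ?_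
      exact mul_mem (mul_mem (hx _ (hg.smp_lt hi) i hi (Or.inl rfl) _)
        (hx _ (neg_lt (hg.smp_lt hi)) i hi (Or.inr rfl) _)) (hx _ (hg.smp_lt hi) i hi (Or.inl rfl) _)
    intro x
    obtain ⟨y, hy, hyx⟩ := hle x.2
    obtain rfl : y = x := Subtype.ext hyx
    exact hy
  have hinj : Function.Injective α₀ := by
    rw [← MonoidHom.ker_eq_bot_iff, eq_bot_iff]
    intro x hx
    have h1 := hsq x
    rw [MonoidHom.mem_ker.1 hx, map_one] at h1
    refine Subgroup.mem_bot.2 (Subtype.ext (Units.ext (Matrix.ext fun a b => ?_)))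
    have h2 : frobenius F S.p (((x : GL T.D.Idx F) : Matrix T.D.Idx T.D.Idx F) a b) =
        frobenius F S.p ((1 : Matrix T.D.Idx T.D.Idx F) a b) := by
      rw [← ChevAut.entryHom_apply, ← h1]
      simp [Matrix.one_apply, apply_ite (frobenius F S.p)]
    exact (frobenius F S.p).injective h2
  have hsurj : Function.Surjective α₀ := by
    intro y
    obtain ⟨z, hz⟩ : (y : GL T.D.Idx F) ∈ (isoHom g.toGoodA hS).range := by
      rw [isoHom_range g.toGoodA hS hperf]; exact y.2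
    exact ⟨θG g.toGoodA F z, (hα₀ z).trans (Subtype.ext hz)⟩
  refine ⟨MulEquiv.ofBijective α₀ ⟨hinj, hsurj⟩, fun x i t hi => ?_⟩
  rw [hg.rank_eq] at hi
  obtain ⟨hρ, -, hπ, -, -, -⟩ := hS.node i hi
  obtain ⟨-, -, hπn, -⟩ := hS.root _ (hg.smp_lt hi)
  rw [hg.simple_eq hi, hg.simple_eq hρ, hg.neg_eq (hg.smp_lt hi), hg.neg_eq (hg.smp_lt hρ)]
  constructor
  · intro hx
    have := hgen _ (hg.smp_lt hi) x t (eq_xg hg hx)
    rw [hπ, (hsimple i hi t).1] at this
    show ((α₀ x : GL T.D.Idx F) : Matrix T.D.Idx T.D.Idx F) = _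
    rw [this, xg_val]
  · intro hx
    have := hgen _ (neg_lt (hg.smp_lt hi)) x t (eq_xg hg hx)
    rw [hπn, hπ, (hsimple i hi t).2] at this
    show ((α₀ x : GL T.D.Idx F) : Matrix T.D.Idx T.D.Idx F) = _
    rw [this, xg_val]

end Tab

namespace B2Data

/-- the graph automorphism data -/
def isog : Isog :=
  ⟨2, [1, 0], [2, 1],
    [1, 0, 3, 2, 5, 4, 7, 6],
    [-1, -1, 1, 1, 1, 1, -1, -1],
    [1, 2, 2, 1, 1, 2, 2, 1]⟩

theorem isog_ok : tab.checkIsog isog = true := by decide +kernel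

end B2Data

namespace F4Data

/-- the graph automorphism data -/
def isog : Isog :=
  ⟨2, [3, 2, 1, 0], [2, 2, 1, 1],
    [3, 7, 8, 0, 9, 11, 18, 1, 2, 4, 15, 5, 16, 21, 23, 10, 12, 19, 6, 17, 22, 13, 20, 14,
      33, 27, 34, 25, 30, 41, 28, 35, 37, 24, 26, 31, 42, 32, 43, 45, 46, 29, 36, 38, 47, 39,
      40, 44],
    [-1, -1, -1, -1, -1, -1, 1, -1, -1, -1, 1, -1, 1, -1, 1, 1, 1, -1, 1, -1, 1, -1, 1, 1, 1,
      1, -1, 1, -1, 1, -1, 1, 1, 1, -1, 1, -1, 1, -1, -1, -1, 1, -1, -1, -1, -1, -1, -1],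
    [1, 1, 1, 2, 1, 1, 1, 2, 2, 2, 2, 2, 2, 2, 2, 1, 1, 1, 2, 2, 2, 1, 1, 1, 1, 1, 1, 2, 2,
      2, 1, 1, 1, 2, 2, 2, 2, 2, 2, 2, 2, 1, 1, 1, 2, 1, 1, 1]⟩

theorem isog_ok : tab.checkIsog isog = true := by decide +kernel

end F4Data

namespace G2Data

/-- the graph automorphism data -/
def isog : Isog :=
  ⟨3, [1, 0], [3, 1],
    [2, 3, 0, 1, 5, 4, 7, 6, 10, 11, 8, 9],
    [1, 1, 1, 1, 1, 1, 1, 1, 1, 1, 1, 1],
    [1, 1, 3, 3, 3, 1, 1, 3, 3, 3, 1, 1]⟩

theorem isog_ok : tab.checkIsog isog = true := by decide +kernel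

end G2Data

end Cfsg.Agent.Chev
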