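import Cfsg.Agent.Lib.Lie.ChevParabolic
import Cfsg.Agent.Lib.Lie.ChevPoincare

/-!
# Twisted groups: fixed points of a Steinberg endomorphism, the fixed normal form

`σ` carries `x_r(t)` to `x_{π r}(φ_r t)`, `π` preserving the positive roots.  A fixed element is
`v m u` with all three factors fixed and the Weyl group element of `m` commuting with `π`; these
Weyl group elements are products of the longest elements of the orbits of nodes, and the fixed
points of `U` lie in any fixed subgroup containing those of the orbit groups and lifts of those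
elements.
-/

set_option autoImplicit false

namespace Cfsg.Agent.Chev

open Cfsg.Lie
open Matrix hiding zpow_mul inv_zpow mul_inv_rev zpow_add zpow_neg

namespace Tab

variable {T : Tab} {K : List (List ℕ)} {F : Type*} [Field F]

/-- root elements of distinct roots are distinct -/
theorem xg_root_eq (g : T.Good) {r r' : ℕ} (hr : r < T.n) (hr' : r' < T.n) {a b : F} (ha : a ≠ 0)
    (h : xg g r a = xg g r' b) : r = r' := by
  by_contra hne
  obtain ⟨j, hj, hc⟩ := g.exists_c_ne_zero hr F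
  obtain ⟨i, hi⟩ := exists_code g (show j < T.l + T.n by omega)
  have h' := congrFun (congrArg (fun x : GL T.D.Idx F =>
    (x : Matrix T.D.Idx T.D.Idx F) *ᵥ bas T F (T.l + T.neg r)) h) i
  simp only [xg_val, col_neg g hr] at h'
  simp only [Pi.add_apply, Pi.sub_apply, Pi.smul_apply, Finset.sum_apply, bas, smul_eq_mul, hi,
    show j ≠ T.l + T.neg r by omega, show j ≠ T.l + r by omega, if_false, mul_ite, mul_one, mul_zero,
    Finset.sum_ite_eq, Finset.mem_range.2 hj, if_true, sub_zero, zero_add] at h'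
  by_cases hn : T.neg r = r'
  · subst hn
    rw [col_self g (neg_lt hr)] at h'
    simp only [bas, hi, show j ≠ T.l + T.neg r by omega, if_false] at h'
    exact mul_ne_zero ha hc h'
  · have hne2 : T.neg r ≠ T.neg r' := fun e => hne (by
      have := congrArg T.neg e; rwa [neg_neg hr, neg_neg hr'] at this)
    rw [col_other g hr' (neg_lt hr) hn hne2, Pi.add_apply, list_sum_apply] at h'
    have h0 : ((T.ch r' (T.neg r)).zipIdx.map fun q =>
        (((q.1.2 : F) * b ^ (q.2 + 1)) • bas T F (T.l + q.1.1)) i).sum = 0 := by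
      refine List.sum_eq_zero fun x hx => ?_
      obtain ⟨q, -, rfl⟩ := List.mem_map.1 hx
      simp [bas, hi, show j ≠ T.l + q.1.1 by omega]
    rw [h0] at h'
    simp only [bas, hi, show j ≠ T.l + T.neg r by omega, if_false, add_zero] at h'
    exact mul_ne_zero ha hc h'

theorem genS_le_group (g : T.Good) {S : Set ℕ} : genS g F S ≤ T.D.group F :=
  genS_le g fun r _ t => xg_mem_group g r t

theorem mem_neg_pos_eq_one (g : T.Good) {x : GL T.D.Idx F} (hx : x ∈ genS g F (Set.Ico T.N T.n))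
    (hx' : x ∈ genS g F (Set.Iio T.N)) : x = 1 :=
  borel_inf_neg g (genS_pos_le_borel g (fun r hr => hr) hx) hx'

/-- the product `U_J^{-} ` decomposition is unique -/
theorem pos_decomp_unique (g : T.Good) {L : List ℕ} (hL : T.Wd L) {v v' w w' : GL T.D.Idx F}
    (hv : nWd g F L * v * (nWd g F L)⁻¹ ∈ genS g F (Set.Ico T.N T.n))
    (hv' : nWd g F L * v' * (nWd g F L)⁻¹ ∈ genS g F (Set.Ico T.N T.n))
    (hw : w ∈ uMinus g F L) (hw' : w' ∈ uMinus g F L) (h : v * w = v' * w') : v = v' ∧ w = w' := by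
  have h1 := mul_mem (inv_mem hv') hv
  have h2 := uMinus_conj_neg g hL (mul_mem hw' (inv_mem hw))
  have e : (nWd g F L * v' * (nWd g F L)⁻¹)⁻¹ * (nWd g F L * v * (nWd g F L)⁻¹) =
      nWd g F L * (w' * w⁻¹) * (nWd g F L)⁻¹ := by
    calc _ = nWd g F L * (v'⁻¹ * (v * w) * w⁻¹) * (nWd g F L)⁻¹ := by group
      _ = _ := by rw [h]; group
  have h3 := mem_neg_pos_eq_one g (e ▸ h1) h2
  have hww : w' = w := mul_inv_eq_one.1 (conj_eq_one_iff.1 h3)
  subst hww
  exact ⟨mul_right_cancel h, rfl⟩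

theorem nE_mem_group (g : T.Good) (r : ℕ) (t : F) : nE g r t ∈ T.D.group F :=
  mul_mem (mul_mem (xg_mem_group _ _ _) (xg_mem_group _ _ _)) (xg_mem_group _ _ _)

theorem hE_mem_diagonal (g : T.Good) {r : ℕ} (hr : r < T.n) {t : F} (ht : t ≠ 0) :
    hE g r t ∈ T.D.diagonalSubgroup F :=
  Subgroup.subset_closure ⟨r, t, by rw [g.nroots_eq]; exact hr, ht, hE_val g hr t⟩

theorem nE_mem_monomial (g : T.Good) {r : ℕ} (hr : r < T.n) {t : F} (ht : t ≠ 0) :
    nE g r t ∈ T.D.monomialSubgroup F := by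
  have hg := g
  have h1 : nE hg r (1 : F) ∈ T.D.monomialSubgroup F :=
    Subgroup.mem_sup_right (Subgroup.subset_closure
      ⟨r, by rw [hg.nroots_eq]; exact hr, nE_val hg hr 1⟩)
  have e : hE hg r t * nE hg r 1 = nE hg r t := by
    have h2 : nE hg r (-1 : F) * nE hg r 1 = 1 := by
      simp [nE, ← xg_inv, mul_assoc]
    rw [hE, mul_assoc, h2, mul_one]
  rw [← e]
  exact mul_mem (Subgroup.mem_sup_left (hE_mem_diagonal hg hr ht)) h1

/-- A Steinberg endomorphism with a group between its elementary and full fixed point groups. -/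
structure Twist (g : T.GoodK K) (F : Type*) [Field F] where
  /-- the endomorphism -/
  σ : GL T.D.Idx F → GL T.D.Idx F
  /-- the permutation of the roots -/
  π : ℕ → ℕ
  /-- the maps on parameters -/
  φ : ℕ → F → F
  /-- the twisted group -/
  G1 : Subgroup (GL T.D.Idx F)
  /-- number of orbits of nodes -/
  nb : ℕ
  /-- the orbits -/
  J : ℕ → List ℕ
  /-- words of their longest elements -/
  w : ℕ → List ℕ
  /-- lifts of these -/
  n : ℕ → GL T.D.Idx F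
  σ_mem : ∀ x ∈ T.D.group F, σ x ∈ T.D.group F
  σ_mul : ∀ x ∈ T.D.group F, ∀ y ∈ T.D.group F, σ (x * y) = σ x * σ y
  π_lt : ∀ r < T.n, π r < T.n
  π_pos : ∀ r < T.n, (T.N ≤ π r ↔ T.N ≤ r)
  π_inj : ∀ r < T.n, ∀ r' < T.n, π r = π r' → r = r'
  π_neg : ∀ r < T.n, π (T.neg r) = T.neg (π r)
  φ_ne : ∀ r < T.n, ∀ t : F, t ≠ 0 → φ r t ≠ 0
  φ_neg : ∀ r < T.n, ∀ t : F, φ (T.neg r) (-t⁻¹) = -(φ r t)⁻¹
  σ_xg : ∀ r < T.n, ∀ t : F, σ (xg g.toGood r t) = xg g.toGood (π r) (φ r t)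
  G1_le : ∀ x ∈ G1, x ∈ T.D.group F ∧ σ x = x
  J_lt : ∀ b < nb, ∀ j ∈ J b, j < T.l
  J_cover : ∀ i < T.l, ∃ b < nb, i ∈ J b
  J_orbit : ∀ b < nb, ∀ j ∈ J b, ∀ j' ∈ J b, ∃ k : ℕ, π^[k] (T.smp j) = T.smp j'
  w_mem : ∀ b < nb, ∀ i ∈ w b, i ∈ J b
  w_neg : ∀ b < nb, ∀ s, T.N ≤ s → s < T.n → s ∈ T.inJ {i | i ∈ J b} → T.rw' (w b) s < T.N
  n_mem : ∀ b < nb, n b ∈ G1
  n_eq : ∀ b < nb, ∃ c, n b = tor T F c * nWd g.toGood F (w b)
  U_mem : ∀ b < nb, ∀ u ∈ uMinus g.toGood F (w b), σ u = u → u ∈ G1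

namespace Twist

variable {g : T.GoodK K} (X : Twist g F)

/-- the Weyl group element commutes with `π` -/
def Comm (L : List ℕ) : Prop := ∀ s < T.n, T.rw' L (X.π s) = X.π (T.rw' L s)

theorem σ_one : X.σ 1 = 1 := by
  have h := X.σ_mul 1 (one_mem _) 1 (one_mem _)
  rw [one_mul] at h
  exact mul_eq_left.1 h.symm

theorem σ_inv {x : GL T.D.Idx F} (hx : x ∈ T.D.group F) : X.σ x⁻¹ = (X.σ x)⁻¹ := by
  refine eq_inv_of_mul_eq_one_left ?_
  rw [← X.σ_mul _ (inv_mem hx) _ hx, inv_mul_cancel, X.σ_one]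

theorem σ_conj {a x : GL T.D.Idx F} (ha : a ∈ T.D.group F) (hx : x ∈ T.D.group F) :
    X.σ (a * x * a⁻¹) = X.σ a * X.σ x * (X.σ a)⁻¹ := by
  rw [X.σ_mul _ (mul_mem ha hx) _ (inv_mem ha), X.σ_mul _ ha _ hx, X.σ_inv ha]

theorem G1_le_group : X.G1 ≤ T.D.group F := fun x hx => (X.G1_le x hx).1

theorem σ_genS {S : Set ℕ} (hS : ∀ r ∈ S, r < T.n) {x : GL T.D.Idx F}
    (hx : x ∈ genS g.toGood F S) : X.σ x ∈ genS g.toGood F (X.π '' S) := by
  have h : x ∈ T.D.group F ∧ X.σ x ∈ genS g.toGood F (X.π '' S) := by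
    refine genS_induction g.toGood
      (p := fun x => x ∈ T.D.group F ∧ X.σ x ∈ genS g.toGood F (X.π '' S))
      ⟨one_mem _, by rw [X.σ_one]; exact one_mem _⟩ ?_ hx
    rintro r hr t y ⟨hy, hy'⟩
    refine ⟨mul_mem (xg_mem_group _ r t) hy, ?_⟩
    rw [X.σ_mul _ (xg_mem_group _ r t) _ hy, X.σ_xg r (hS r hr)]
    exact mul_mem (xg_mem_genS g.toGood (show X.π r ∈ X.π '' S from ⟨r, hr, rfl⟩) _) hy'
  exact h.2

theorem σ_pos {x : GL T.D.Idx F} (hx : x ∈ genS g.toGood F (Set.Ico T.N T.n)) :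
    X.σ x ∈ genS g.toGood F (Set.Ico T.N T.n) := by
  refine genS_mono g.toGood ?_ (X.σ_genS (fun r hr => hr.2) hx)
  rintro _ ⟨r, hr, rfl⟩
  exact ⟨(X.π_pos r hr.2).2 hr.1, X.π_lt r hr.2⟩

theorem σ_uMinus {L : List ℕ} (hL : T.Wd L) (hc : X.Comm L) {x : GL T.D.Idx F}
    (hx : x ∈ uMinus g.toGood F L) : X.σ x ∈ uMinus g.toGood F L := by
  refine genS_mono g.toGood ?_ (X.σ_genS (fun r hr => hr.2.1) hx)
  rintro _ ⟨r, ⟨h1, h2, h3⟩, rfl⟩
  refine ⟨(X.π_pos r h2).2 h1, X.π_lt r h2, ?_⟩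
  rw [hc r h2]
  by_contra h
  have := (X.π_pos _ (rw'_lt g.toGood hL h2)).1 (not_lt.1 h)
  omega

theorem σ_nE {r : ℕ} (hr : r < T.n) (t : F) :
    X.σ (nE g.toGood r t) = nE g.toGood (X.π r) (X.φ r t) := by
  rw [nE, X.σ_mul _ (mul_mem (xg_mem_group _ _ _) (xg_mem_group _ _ _)) _ (xg_mem_group _ _ _),
    X.σ_mul _ (xg_mem_group _ _ _) _ (xg_mem_group _ _ _), X.σ_xg r hr, X.σ_xg _ (neg_lt hr),
    X.π_neg r hr, X.φ_neg r hr, nE]

theorem σ_torus {x : GL T.D.Idx F} (hx : x ∈ T.D.diagonalSubgroup F) :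
    X.σ x ∈ T.D.diagonalSubgroup F := by
  have hg := g.toGood
  suffices h : x ∈ T.D.group F ∧ X.σ x ∈ T.D.diagonalSubgroup F from h.2
  refine Subgroup.closure_induction
    (p := fun x _ => x ∈ T.D.group F ∧ X.σ x ∈ T.D.diagonalSubgroup F) ?_
    ⟨one_mem _, by rw [X.σ_one]; exact one_mem _⟩
    (fun a b _ _ ha hb => ⟨mul_mem ha.1 hb.1, by rw [X.σ_mul _ ha.1 _ hb.1]; exact mul_mem ha.2 hb.2⟩)
    (fun a _ ha => ⟨inv_mem ha.1, by rw [X.σ_inv ha.1]; exact inv_mem ha.2⟩) hx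
  rintro y ⟨r, t, hr, ht, hy⟩
  rw [hg.nroots_eq] at hr
  obtain rfl : y = hE hg r t := Units.ext (hy.trans (hE_val hg hr t).symm)
  refine ⟨mul_mem (nE_mem_group hg r _) (nE_mem_group hg r _), ?_⟩
  have h1 := X.φ_ne r hr t ht
  have h2 := X.φ_ne r hr (-1) (neg_ne_zero.2 one_ne_zero)
  have e := nE_mul_nE_eq_hE hg (X.π_lt r hr) (Units.mk0 _ h1) (Units.mk0 _ h2)
  simp only [Units.val_mk0] at e
  rw [hE, X.σ_mul _ (nE_mem_group hg r _) _ (nE_mem_group hg r _), X.σ_nE hr, X.σ_nE hr, e]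
  exact hE_mem_diagonal hg (X.π_lt r hr) (neg_ne_zero.2 (mul_ne_zero h1 (inv_ne_zero h2)))

theorem σ_mono {x : GL T.D.Idx F} (hx : x ∈ T.D.monomialSubgroup F) :
    X.σ x ∈ T.D.monomialSubgroup F := by
  have hg := g.toGood
  obtain ⟨L, hL, c, rfl⟩ := (mem_monomial_iff hg).1 hx
  have hw : nWd hg F L ∈ T.D.group F ∧ X.σ (nWd hg F L) ∈ T.D.monomialSubgroup F := by
    clear hx
    induction L with
    | nil => exact ⟨by simp, by rw [nWd_nil, X.σ_one]; exact one_mem _⟩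
    | cons i L ih =>
      obtain ⟨hi, hL'⟩ := Wd.cons_iff.1 hL
      obtain ⟨h1, h2⟩ := ih hL'
      refine ⟨by rw [nWd_cons]; exact mul_mem (nG_mem_group hg i) h1, ?_⟩
      have e : nG hg F i = nE hg (T.smp i) (1 : F) := by simp [nG, nE]
      rw [nWd_cons, X.σ_mul _ (nG_mem_group hg i) _ h1, e, X.σ_nE (hg.smp_lt hi)]
      exact mul_mem (nE_mem_monomial hg (X.π_lt _ (hg.smp_lt hi))
        (X.φ_ne _ (hg.smp_lt hi) 1 one_ne_zero)) h2
  rw [X.σ_mul _ (tor_mem_group hg c) _ hw.1]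
  exact mul_mem (Subgroup.mem_sup_left (X.σ_torus (by rw [diagonalSubgroup_eq hg]; exact ⟨c, rfl⟩)))
    hw.2

theorem conj_root {L L' : List ℕ} (hL : T.Wd L) (hL' : T.Wd L') {c c' : ℕ → Fˣ}
    (h : X.σ (tor T F c * nWd g.toGood F L) = tor T F c' * nWd g.toGood F L') {s : ℕ} (hs : s < T.n) :
    T.rw' L' (X.π s) = X.π (T.rw' L s) := by
  have hg := g.toGood
  obtain ⟨v, hv⟩ := mono_conj (F := F) hg hL c hs
  obtain ⟨v', hv'⟩ := mono_conj (F := F) hg hL' c' (X.π_lt s hs)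
  have hmem : tor T F c * nWd hg F L ∈ T.D.group F :=
    monomial_le_group hg ((mem_monomial_iff hg).2 ⟨L, hL, c, rfl⟩)
  have h1 := congrArg X.σ (hv 1)
  rw [X.σ_conj hmem (xg_mem_group hg _ _), h, X.σ_xg s hs, hv', X.σ_xg _ (rw'_lt hg hL hs)] at h1
  exact xg_root_eq hg (rw'_lt hg hL' (X.π_lt s hs)) (X.π_lt _ (rw'_lt hg hL hs))
    (mul_ne_zero v'.ne_zero (X.φ_ne s hs 1 one_ne_zero)) h1

theorem comm_of_fixed {L : List ℕ} (hL : T.Wd L) {c : ℕ → Fˣ}
    (h : X.σ (tor T F c * nWd g.toGood F L) = tor T F c * nWd g.toGood F L) : X.Comm L :=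
  fun _ hs => X.conj_root hL hL h hs

theorem w_wd {b : ℕ} (hb : b < X.nb) : T.Wd (X.w b) :=
  fun i hi => X.J_lt b hb i (X.w_mem b hb i hi)

theorem w_comm {b : ℕ} (hb : b < X.nb) : X.Comm (X.w b) := by
  obtain ⟨c, hc⟩ := X.n_eq b hb
  exact X.comm_of_fixed (X.w_wd hb) (c := c) (by rw [← hc]; exact (X.G1_le _ (X.n_mem b hb)).2)

/-- The fixed normal form. -/
theorem fix_decomp {x : GL T.D.Idx F} (hx : x ∈ T.D.group F) (h : X.σ x = x) :
    ∃ v ∈ genS g.toGood F (Set.Ico T.N T.n), X.σ v = v ∧ ∃ L, T.Wd L ∧ X.Comm L ∧ ∃ c,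
      X.σ (tor T F c * nWd g.toGood F L) = tor T F c * nWd g.toGood F L ∧
      ∃ u ∈ uMinus g.toGood F L, X.σ u = u ∧ x = v * (tor T F c * nWd g.toGood F L) * u := by
  have hg := g.toGood
  obtain ⟨b, hb, n, hn, L, hL, ⟨c, rfl⟩, u, hu, rfl⟩ := bruhat_exists g.toGoodA hx
  set m := tor T F c * nWd hg F L with hm
  have hbG := borel_le_group hg hb
  have hmG := monomial_le_group hg hn
  have huG : u ∈ T.D.group F := genS_le_group hg hu
  obtain ⟨L', hL', c', hm'⟩ := (mem_monomial_iff hg).1 (X.σ_mono hn)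
  have hrel : ∀ s < T.n, T.rw' L' (X.π s) = X.π (T.rw' L s) := fun s hs => X.conj_root hL hL' hm' hs
  have hσu : X.σ u ∈ uMinus hg F L' := by
    refine genS_mono hg ?_ (X.σ_genS (fun r hr => hr.2.1) hu)
    rintro _ ⟨r, ⟨h1, h2, h3⟩, rfl⟩
    refine ⟨(X.π_pos r h2).2 h1, X.π_lt r h2, ?_⟩
    rw [hrel r h2]
    by_contra hh
    have := (X.π_pos _ (rw'_lt hg hL h2)).1 (not_lt.1 hh)
    omega
  have hσb : X.σ b ∈ T.D.borelSubgroup F := by
    obtain ⟨v, hv, d, rfl⟩ := (mem_borel_iff hg).1 hb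
    rw [X.σ_mul _ (genS_le_group hg hv) _ (tor_mem_group hg d)]
    exact mul_mem (genS_pos_le_borel hg (fun r hr => hr) (X.σ_pos hv))
      (Subgroup.mem_sup_right (X.σ_torus (by rw [diagonalSubgroup_eq hg]; exact ⟨d, rfl⟩)))
  rw [X.σ_mul _ (mul_mem hbG hmG) _ huG, X.σ_mul _ hbG _ hmG] at h
  obtain ⟨hd, -⟩ := bruhat_unique g.toGoodA hb hσb hn (X.σ_mono hn) hL rfl hu hσu h.symm
  rw [diagonalSubgroup_eq hg] at hd
  obtain ⟨d, hd⟩ := hd
  obtain ⟨e, he⟩ := torus_pass hg (nWd_mem_wSub (F := F) hg hL) d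
  have hσm : X.σ m = tor T F (c * e) * nWd hg F L := by
    rw [map_mul, mul_assoc, ← he, ← mul_assoc, ← hm, hd, mul_inv_cancel_left]
  have hLL : ∀ s < T.n, T.rw' L' s = T.rw' L s := fun s hs =>
    rw'_of_nWd_eq hg hL' hL (c := c') (d := c * e) (hm'.symm.trans hσm) hs
  have hcomm : X.Comm L := fun s hs => by rw [← hLL _ (X.π_lt s hs)]; exact hrel s hs
  have hσu' : X.σ u ∈ uMinus hg F L := by rwa [uMinus_congr hg hLL] at hσu
  have h' : b * m * u = X.σ b * (X.σ m * m⁻¹) * m * X.σ u := by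
    rw [← h]; group
  have hb' : X.σ b * (X.σ m * m⁻¹) ∈ T.D.borelSubgroup F := by
    refine mul_mem hσb ?_
    have e' : X.σ m * m⁻¹ = tor T F (c * e) * (tor T F c)⁻¹ := by rw [hσm, hm]; group
    rw [e', ← map_inv, ← map_mul]
    exact torus_le_borel hg _
  obtain ⟨hbb, huu⟩ := (bruhat_unique g.toGoodA hb hb' hn hn hL rfl hu hσu' h').2 rfl rfl
  obtain ⟨v, hv, d', rfl⟩ := (mem_borel_iff hg).1 hb
  have hfix : X.σ (v * (tor T F d' * m)) = v * (tor T F d' * m) := by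
    rw [← mul_assoc, X.σ_mul _ hbG _ hmG]
    conv_rhs => rw [hbb]
    group
  have hnG : tor T F d' * m ∈ T.D.monomialSubgroup F :=
    mul_mem (torus_le_monomial hg d') hn
  rw [X.σ_mul _ (genS_le_group hg hv) _ (monomial_le_group hg hnG)] at hfix
  have e1 : v⁻¹ * X.σ v = tor T F d' * m * (X.σ (tor T F d' * m))⁻¹ := by
    rw [inv_mul_eq_iff_eq_mul, ← mul_assoc, eq_mul_inv_iff_mul_eq]
    exact hfix
  have hv1 : v⁻¹ * X.σ v = 1 := pos_inf_monomial hg (mul_mem (inv_mem hv) (X.σ_pos hv))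
    (by rw [e1]; exact mul_mem hnG (inv_mem (X.σ_mono hnG)))
  have hσv : X.σ v = v := (inv_mul_eq_one.1 hv1).symm
  refine ⟨v, hv, hσv, L, hL, hcomm, d' * c, ?_, u, hu, huu.symm, ?_⟩
  · rw [hσv] at hfix
    rw [map_mul, mul_assoc, ← hm]
    exact mul_left_cancel hfix
  · rw [map_mul]
    simp only [hm, mul_assoc]

/-! ### Weyl group elements commuting with `π` -/

theorem neg_iterate {L : List ℕ} (hL : T.Wd L) (hc : X.Comm L) {s : ℕ} (hs : s < T.n) :
    ∀ k : ℕ, X.π^[k] s < T.n ∧ (T.rw' L (X.π^[k] s) < T.N ↔ T.rw' L s < T.N)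
  | 0 => ⟨hs, Iff.rfl⟩
  | k + 1 => by
    obtain ⟨h1, h2⟩ := neg_iterate hL hc hs k
    rw [Function.iterate_succ_apply']
    refine ⟨X.π_lt _ h1, ?_⟩
    rw [hc _ h1, ← h2]
    have := X.π_pos _ (rw'_lt g.toGood hL h1)
    omega

/-- induction on the positive roots of a parabolic subsystem along strings of fundamental roots -/
theorem inJ_induction (g : T.GoodK K) {J : List ℕ} (P : ℕ → Prop)
    (base : ∀ i < T.l, i ∈ J → P (T.smp i))
    (step : ∀ i < T.l, i ∈ J → ∀ u < T.n, ∀ s, ∀ m, 1 ≤ m → T.chRoot (T.smp i) u m = some s →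
      P (T.smp i) → P u → P s) :
    ∀ s, T.N ≤ s → s < T.n → s ∈ T.inJ {i | i ∈ J} → P s := by
  have hg := g.toGood
  intro s
  induction s using Nat.strong_induction_on with
  | _ s ih =>
    intro hN hs hin
    rcases exists_descent hg hs hN with ⟨i, hi, rfl⟩ | ⟨i, hi, h2, h1, m, hm, hk⟩
    · by_cases hiJ : i ∈ J
      · exact base i hi hiJ
      · have := hin.2 i hi (by simpa using hiJ)
        rw [c_smp hg hi hi, if_pos rfl] at this
        exact absurd this one_ne_zero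
    · have hu := hg.ref_lt hi hs
      have hiJ : i ∈ J := by
        by_contra hiJ
        obtain ⟨-, q2, -⟩ := chRoot_spec hg (hg.smp_lt hi) hu hm hk
        have hz := hin.2 i hi (by simpa using hiJ)
        have hu0 := ((hg.sign' hu).1 i hi).1 h2
        have hphs : T.phi K i s = 0 := by
          obtain ⟨a, b⟩ := phi_sign g hi hs
          omega
        have hl : T.phi K i s = (m : ℤ) * T.phi K i (T.smp i) + 1 * T.phi K i (T.ref i s) :=
          phi_linear (fun k hk' => by rw [q2 k hk']; ring) i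
        have hp := (phi_sign g hi (hg.smp_lt hi)).1.2 (by rw [c_smp hg hi hi, if_pos rfl]; norm_num)
        have hq : 0 ≤ T.phi K i (T.ref i s) := by
          by_contra hh
          have := (phi_sign g hi hu).2.1 (not_le.1 hh)
          omega
        have : (0 : ℤ) < (m : ℤ) := by exact_mod_cast hm
        have := mul_pos this hp
        omega
      exact step i hi hiJ _ hu _ m hm hk (base i hi hiJ) (ih _ h1 h2 hu (ref_inJ hg hi hiJ hin))

/-- a commuting element negative on one node of an orbit is negative on the orbit system -/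
theorem block_neg {L : List ℕ} (hL : T.Wd L) (hc : X.Comm L) {b : ℕ} (hb : b < X.nb) {j : ℕ}
    (hj : j ∈ X.J b) (h : T.rw' L (T.smp j) < T.N) :
    ∀ s, T.N ≤ s → s < T.n → s ∈ T.inJ {i | i ∈ X.J b} → T.rw' L s < T.N := by
  have hg := g.toGood
  refine inJ_induction g (fun s => T.rw' L s < T.N) (fun j' _ hj' => ?_)
    (fun i hi _ u hu s m hm hk ha hb' => ?_)
  · obtain ⟨k, hk⟩ := X.J_orbit b hb j hj j' hj'
    have := (X.neg_iterate hL hc (hg.smp_lt (X.J_lt b hb j hj)) k).2.2 h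
    rwa [hk] at this
  · have hk' := chRoot_rw' hg hL (hg.smp_lt hi) hu m
    rw [hk, Option.map_some] at hk'
    simp only [chRoot, Option.map_eq_some_iff] at hk'
    obtain ⟨q, hq, hqk⟩ := hk'
    have hne : T.ch (T.rw' L (T.smp i)) (T.rw' L u) ≠ [] := fun he => by simp [he] at hq
    obtain ⟨-, -, -, -, -, hlow⟩ := chainOK_spec _ _ 1 _
      (hg.chain' (rw'_lt hg hL (hg.smp_lt hi)) (rw'_lt hg hL hu) hne).2.2.1 (q, m)
      (by rw [List.mk_mem_zipIdx_iff_le_and_getElem?_sub]; exact ⟨hm, hq⟩)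
    have := (hlow ha).2.1 hb'
    dsimp only at this
    show T.rw' L s < T.N
    omega

/-- a commuting element positive on one node of an orbit is positive on the orbit system -/
theorem block_pos {L : List ℕ} (hL : T.Wd L) (hc : X.Comm L) {b : ℕ} (hb : b < X.nb) {j : ℕ}
    (hj : j ∈ X.J b) (h : T.N ≤ T.rw' L (T.smp j)) :
    ∀ s, T.N ≤ s → s < T.n → s ∈ T.inJ {i | i ∈ X.J b} → T.N ≤ T.rw' L s := by
  have hg := g.toGood
  refine inJ_induction g (fun s => T.N ≤ T.rw' L s) (fun j' hj'l hj' => ?_)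
    (fun i hi _ u hu s m hm hk ha hb' => ?_)
  · by_contra hn
    have := X.block_neg hL hc hb hj' (not_le.1 hn) _ (hg.smp_ge (X.J_lt b hb j hj))
      (hg.smp_lt (X.J_lt b hb j hj)) (smp_mem_inJ hg (X.J_lt b hb j hj) hj)
    omega
  · have hk' := chRoot_rw' hg hL (hg.smp_lt hi) hu m
    rw [hk, Option.map_some] at hk'
    obtain ⟨-, -, h3⟩ := chRoot_spec hg (rw'_lt hg hL (hg.smp_lt hi)) (rw'_lt hg hL hu) hm hk'
    exact le_trans ha (h3 ha hb').1.le

theorem mem_invSet_w {b : ℕ} (hb : b < X.nb) {s : ℕ} :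
    s ∈ T.invSet (X.w b) ↔ T.N ≤ s ∧ s < T.n ∧ s ∈ T.inJ {i | i ∈ X.J b} := by
  simp only [invSet, Finset.mem_filter, Finset.mem_Ico]
  constructor
  · rintro ⟨⟨h1, h2⟩, h3⟩
    refine ⟨h1, h2, h2, fun k hk hkJ => ?_⟩
    by_contra hne
    have := rw'_pos_outside g.toGood (J := X.J b) (X.w_wd hb) (X.w_mem b hb) h1 h2 (by
      rw [Bool.eq_false_iff]
      intro h
      exact hne (inPhiB_iff.1 h k hk (by simpa using hkJ)))
    omega
  · rintro ⟨h1, h2, h3⟩
    exact ⟨⟨h1, h2⟩, X.w_neg b hb s h1 h2 h3⟩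

theorem neg_comm_rev {L : List ℕ} (hL : T.Wd L) (hc : X.Comm L) : X.Comm L.reverse := by
  intro s hs
  have hu := rw'_lt g.toGood hL.reverse hs
  have := congrArg (T.rw' L.reverse) (hc _ hu)
  rwa [rw'_rev' g.toGood hL hs, rw'_rev g.toGood hL (X.π_lt _ hu), eq_comm] at this

theorem comm_append {A B : List ℕ} (hA : X.Comm A) (hB : T.Wd B) (hB' : X.Comm B) : X.Comm (A ++ B) := by
  intro s hs
  rw [rw'_append, rw'_append, hB' s hs, hA _ (rw'_lt g.toGood hB hs)]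

/-- a commuting element sheds an orbit -/
theorem comm_peel {L : List ℕ} (hL : T.Wd L) (hc : X.Comm L) {m : ℕ}
    (hm : (T.invSet L).card = m + 1) :
    ∃ b < X.nb, (∀ s ∈ T.invSet (X.w b), T.rw' L s < T.N) ∧ T.Wd (L ++ (X.w b).reverse) ∧
      X.Comm (L ++ (X.w b).reverse) ∧
      (T.invSet (L ++ (X.w b).reverse)).card + (T.invSet (X.w b)).card = (T.invSet L).card ∧
      (T.invSet (L ++ (X.w b).reverse)).card ≤ m := by
  have hg := g.toGood
  obtain ⟨i, hi, hneg, -, -⟩ := invSet_peel hg hL hm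
  obtain ⟨b, hb, hib⟩ := X.J_cover i hi
  have hall : ∀ s ∈ T.invSet (X.w b), T.rw' L s < T.N := fun s hs => by
    obtain ⟨a, b', c⟩ := (X.mem_invSet_w hb).1 hs
    exact X.block_neg hL hc hb hib hneg s a b' c
  have hwd := X.w_wd hb
  have hw' : T.Wd (L ++ (X.w b).reverse) := Wd.append_iff.2 ⟨hL, hwd.reverse⟩
  refine ⟨b, hb, hall, hw', X.comm_append hc hwd.reverse (X.neg_comm_rev hwd (X.w_comm hb)), ?_⟩
  -- the inversion set splits
  have hdiff : T.invSet (L ++ (X.w b).reverse) =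
      (T.invSet L \ T.invSet (X.w b)).image (T.rw' (X.w b)) := by
    ext s
    simp only [invSet, Finset.mem_filter, Finset.mem_Ico, Finset.mem_image, Finset.mem_sdiff,
      rw'_append]
    constructor
    · rintro ⟨⟨h1, h2⟩, h3⟩
      have hu := rw'_lt hg hwd.reverse h2
      have hposu : T.N ≤ T.rw' (X.w b).reverse s := by
        by_contra hh
        have hnu : T.N ≤ T.neg (T.rw' (X.w b).reverse s) := (N_le_neg_iff hu).2 (not_le.1 hh)
        have hmem : T.neg (T.rw' (X.w b).reverse s) ∈ T.invSet (X.w b) := by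
          simp only [invSet, Finset.mem_filter, Finset.mem_Ico, rw'_neg hg hwd hu,
            rw'_rev' hg hwd h2]
          exact ⟨⟨hnu, neg_lt hu⟩, (neg_lt_N_iff h2).2 h1⟩
        have := hall _ hmem
        rw [rw'_neg hg hL hu, neg_lt_N_iff (rw'_lt hg hL hu)] at this
        omega
      refine ⟨T.rw' (X.w b).reverse s, ⟨⟨⟨hposu, hu⟩, h3⟩, ?_⟩, rw'_rev' hg hwd h2⟩
      rw [rw'_rev' hg hwd h2]
      omega
    · rintro ⟨u, ⟨⟨⟨h1, h2⟩, h3⟩, h4⟩, rfl⟩
      refine ⟨⟨?_, rw'_lt hg hwd h2⟩, by rwa [rw'_rev hg hwd h2]⟩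
      by_contra hh
      exact h4 ⟨⟨h1, h2⟩, not_le.1 hh⟩
  have hsub : T.invSet (X.w b) ⊆ T.invSet L := fun s hs => by
    obtain ⟨a, b', -⟩ := (X.mem_invSet_w hb).1 hs
    simp [invSet, a, b', hall s hs]
  have hcard : (T.invSet (L ++ (X.w b).reverse)).card + (T.invSet (X.w b)).card = (T.invSet L).card := by
    rw [hdiff, Finset.card_image_of_injOn, Finset.card_sdiff_add_card_eq_card hsub]
    intro a ha a' ha' e
    simp only [Finset.coe_sdiff, Set.mem_sdiff, Finset.mem_coe, invSet, Finset.mem_filter,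
      Finset.mem_Ico] at ha ha'
    have := congrArg (T.rw' (X.w b).reverse) e
    rwa [rw'_rev hg hwd ha.1.1.2, rw'_rev hg hwd ha'.1.1.2] at this
  refine ⟨hcard, ?_⟩
  have hmem : T.smp i ∈ T.invSet (X.w b) :=
    (X.mem_invSet_w hb).2 ⟨hg.smp_ge hi, hg.smp_lt hi, smp_mem_inJ hg hi hib⟩
  have := Finset.card_pos.2 ⟨_, hmem⟩
  omega

/-- splitting a fixed element of `U_L^-` along an orbit -/
theorem uMinus_split {L : List ℕ} (hL : T.Wd L) {b : ℕ} (hb : b < X.nb)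
    (hall : ∀ s ∈ T.invSet (X.w b), T.rw' L s < T.N) {u : GL T.D.Idx F}
    (hu : u ∈ uMinus g.toGood F L) (hσ : X.σ u = u) :
    ∃ y ∈ uMinus g.toGood F (L ++ (X.w b).reverse), X.σ y = y ∧
      ∃ z ∈ uMinus g.toGood F (X.w b), X.σ z = z ∧ u = (X.n b)⁻¹ * y * X.n b * z := by
  have hg := g.toGood
  have hwd := X.w_wd hb
  have hwc := X.w_comm hb
  obtain ⟨c, hc⟩ := X.n_eq b hb
  obtain ⟨hnG, hnσ⟩ := X.G1_le _ (X.n_mem b hb)
  obtain ⟨v, hv, hvw, z, hz, e⟩ :=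
    (pos_decomp g.toGoodA _ hwd le_rfl).1 u (uMinus_le_pos hg L hu)
  set ω := nWd hg F (X.w b) with hω
  have hconj : ∀ x, X.n b * x * (X.n b)⁻¹ = tor T F c * (ω * x * ω⁻¹) * (tor T F c)⁻¹ := fun x => by
    rw [hc, hω]; group
  have hzL : uMinus hg F (X.w b) ≤ uMinus hg F L := genS_mono hg fun r hr => by
    obtain ⟨h1, h2, h3⟩ := hr
    exact ⟨h1, h2, hall r (by simp [invSet, h1, h2, h3])⟩
  have hvL : v ∈ uMinus hg F L := by
    have : v = u * z⁻¹ := by rw [e, mul_inv_cancel_right]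
    rw [this]; exact mul_mem hu (inv_mem (hzL hz))
  have hvG : v ∈ T.D.group F := genS_le_group hg hv
  have hzG : z ∈ T.D.group F := genS_le_group hg hz
  have hσv : X.σ v ∈ genS hg F (Set.Ico T.N T.n) := X.σ_pos hv
  have hσvw : ω * X.σ v * ω⁻¹ ∈ genS hg F (Set.Ico T.N T.n) := by
    have h1 : X.σ (X.n b * v * (X.n b)⁻¹) ∈ genS hg F (Set.Ico T.N T.n) := by
      refine X.σ_pos ?_
      rw [hconj]
      exact (Subgroup.mem_normalizer_iff.1 (tor_normalizes hg (fun r hr => hr.2) c) _).1 hvw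
    rw [X.σ_conj hnG hvG, hnσ, hconj] at h1
    exact (Subgroup.mem_normalizer_iff.1 (tor_normalizes hg (fun r hr => hr.2) c) _).2 h1
  obtain ⟨hv', hz'⟩ := pos_decomp_unique hg hwd hσvw hvw (X.σ_uMinus hwd hwc hz) hz (by
    rw [← X.σ_mul _ hvG _ hzG, ← e, hσ])
  have hy : X.σ (X.n b * v * (X.n b)⁻¹) = X.n b * v * (X.n b)⁻¹ := by
    rw [X.σ_conj hnG hvG, hnσ, hv']
  refine ⟨X.n b * v * (X.n b)⁻¹, ?_, hy, z, hz, hz', by rw [e]; group⟩
  -- it is inverted by `L w⁻¹`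
  have hw' : T.Wd (L ++ (X.w b).reverse) := Wd.append_iff.2 ⟨hL, hwd.reverse⟩
  have hyP : ω * v * ω⁻¹ ∈ genS hg F (Set.Ico T.N T.n) := hvw
  obtain ⟨y0, hy0, hy0w, y1, hy1, ey⟩ := (pos_decomp g.toGoodA _ hw' le_rfl).1 _ hyP
  obtain ⟨d, hd⟩ : ∃ d, nWd hg F (X.w b).reverse * ω = tor T F d := by
    rw [hω, ← nWd_append]
    exact (nWd_torus_of_pos (F := F) hg _ le_rfl (Wd.append_iff.2 ⟨hwd.reverse, hwd⟩)
      fun s h1 h2 => by rw [rw'_append, rw'_rev hg hwd h2]; exact h1).1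
  have h1 : nWd hg F (L ++ (X.w b).reverse) * (ω * v * ω⁻¹) * (nWd hg F (L ++ (X.w b).reverse))⁻¹ ∈
      genS hg F (Set.Iio T.N) := by
    have h2 : tor T F d * v * (tor T F d)⁻¹ ∈ uMinus hg F L :=
      (Subgroup.mem_normalizer_iff.1 (tor_normalizes hg (fun r hr => hr.2.1) d) _).1 hvL
    have := uMinus_conj_neg hg hL h2
    convert this using 1
    rw [nWd_append, ← hd]
    group
  have hy0e : y0 = 1 := by
    have h3 := mul_mem h1 (inv_mem (uMinus_conj_neg hg hw' hy1))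
    have e' : nWd hg F (L ++ (X.w b).reverse) * (ω * v * ω⁻¹) *
          (nWd hg F (L ++ (X.w b).reverse))⁻¹ *
        (nWd hg F (L ++ (X.w b).reverse) * y1 * (nWd hg F (L ++ (X.w b).reverse))⁻¹)⁻¹ =
        nWd hg F (L ++ (X.w b).reverse) * y0 * (nWd hg F (L ++ (X.w b).reverse))⁻¹ := by
      rw [ey]; group
    rw [e'] at h3
    exact conj_eq_one_iff.1 (mem_neg_pos_eq_one hg hy0w h3)
  rw [hy0e, one_mul] at ey
  rw [hconj, ey]
  exact (Subgroup.mem_normalizer_iff.1 (tor_normalizes hg (fun r hr => hr.2.1) c) _).1 hy1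

/-- The fixed points of `U_L^-` lie in the twisted group. -/
theorem uMinus_fixed_mem : ∀ (m : ℕ) {L : List ℕ}, T.Wd L → X.Comm L → (T.invSet L).card ≤ m →
    ∀ u ∈ uMinus g.toGood F L, X.σ u = u → u ∈ X.G1 := by
  intro m
  have base : ∀ {L : List ℕ}, (T.invSet L).card = 0 → ∀ u ∈ uMinus g.toGood F L, u ∈ X.G1 := by
    intro L h0 u hu
    have hp := invSet_empty g.toGood h0
    have : uMinus g.toGood F L = ⊥ := le_bot_iff.1 (genS_le g.toGood fun r hr t => by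
      have := hp r hr.1 hr.2.1
      have := hr.2.2
      omega)
    rw [this, Subgroup.mem_bot] at hu
    rw [hu]; exact one_mem _
  induction m with
  | zero => exact fun _ _ h u hu _ => base (Nat.le_zero.1 h) u hu
  | succ m ih =>
    intro L hL hc hle u hu hσ
    rcases Nat.eq_zero_or_eq_sub_one_add_one (n := (T.invSet L).card) with h0 | hs
    · exact base h0 u hu
    obtain ⟨b, hb, hall, hw', hc', -, hlt⟩ := X.comm_peel hL hc hs
    obtain ⟨y, hy, hσy, z, hz, hσz, rfl⟩ := X.uMinus_split hL hb hall hu hσ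
    have hn := X.n_mem b hb
    exact mul_mem (mul_mem (mul_mem (inv_mem hn) (ih hw' hc' (by omega) y hy hσy)) hn)
      (X.U_mem b hb z hz hσz)

/-- a commuting word inverting all positive roots -/
theorem exists_longest_comm :
    ∃ L, T.Wd L ∧ X.Comm L ∧ ∀ s, T.N ≤ s → s < T.n → T.rw' L s < T.N := by
  have hg := g.toGood
  obtain ⟨L, hL, hneg, -⟩ := exists_longest hg
  refine ⟨L, hL, fun s hs => ?_, hneg⟩
  obtain ⟨L', hL', c', hc'⟩ := (mem_monomial_iff hg).1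
    (X.σ_mono ((mem_monomial_iff (F := F) hg).2 ⟨L, hL, 1, rfl⟩))
  have hrel : ∀ s < T.n, T.rw' L' (X.π s) = X.π (T.rw' L s) := fun s hs => X.conj_root hL hL' hc' hs
  -- `π` is onto
  have hsurj : ∀ r < T.n, ∃ r' < T.n, X.π r' = r := by
    have h : Function.Injective (fun r : Fin T.n => (⟨X.π r, X.π_lt r r.2⟩ : Fin T.n)) :=
      fun a b h => Fin.ext (X.π_inj a a.2 b b.2 (congrArg Fin.val h))
    intro r hr
    obtain ⟨r', h'⟩ := (Finite.injective_iff_surjective.1 h) ⟨r, hr⟩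
    exact ⟨r', r'.2, congrArg Fin.val h'⟩
  have hneg' : ∀ s, T.N ≤ s → s < T.n → T.rw' L' s < T.N := by
    intro r h1 h2
    obtain ⟨r', hr', rfl⟩ := hsurj r h2
    rw [hrel r' hr']
    have := hneg r' ((X.π_pos r' hr').1 h1) hr'
    by_contra hh
    have := (X.π_pos _ (rw'_lt hg hL hr')).1 (not_lt.1 hh)
    omega
  have hpos : ∀ s, T.N ≤ s → s < T.n → T.N ≤ T.rw' (L.reverse ++ L') s := by
    intro r h1 h2
    have hu := rw'_lt hg hL' h2
    rw [rw'_append]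
    by_contra hh
    have hv := rw'_lt hg hL.reverse hu
    have h3 := hneg _ ((N_le_neg_iff hv).2 (not_le.1 hh)) (neg_lt hv)
    rw [rw'_neg hg hL hv, rw'_rev' hg hL hu, neg_lt_N_iff hu] at h3
    have := hneg' r h1 h2
    omega
  have hid := (nWd_torus_of_pos (F := F) hg _ le_rfl
    (Wd.append_iff.2 ⟨hL.reverse, hL'⟩) hpos).2 (X.π s) (X.π_lt s hs)
  have := congrArg (T.rw' L) hid
  rw [rw'_append, rw'_rev' hg hL (rw'_lt hg hL' (X.π_lt s hs))] at this
  rw [← this, hrel s hs]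

/-- the fixed points of `U` lie in the twisted group -/
theorem pos_fixed_mem {u : GL T.D.Idx F} (hu : u ∈ genS g.toGood F (Set.Ico T.N T.n))
    (hσ : X.σ u = u) : u ∈ X.G1 := by
  obtain ⟨L, hL, hc, hneg⟩ := X.exists_longest_comm
  exact X.uMinus_fixed_mem _ hL hc le_rfl u
    (genS_mono g.toGood (S := Set.Ico T.N T.n) (S' := {r | T.N ≤ r ∧ r < T.n ∧ T.rw' L r < T.N})
      (fun r hr => ⟨hr.1, hr.2, hneg r hr.1 hr.2⟩) hu) hσ

/-- `U ∩ G¹` is the group of fixed points of `U`. -/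
theorem mem_pos_inf_iff {u : GL T.D.Idx F} :
    u ∈ T.D.posUnipotent F ⊓ X.G1 ↔ u ∈ genS g.toGood F (Set.Ico T.N T.n) ∧ X.σ u = u := by
  rw [Subgroup.mem_inf, posUnipotent_eq g.toGood]
  exact ⟨fun h => ⟨h.1, (X.G1_le u h.2).2⟩, fun h => ⟨h.1, X.pos_fixed_mem h.1 h.2⟩⟩

/-- The normal form inside the twisted group. -/
theorem g1_decomp {x : GL T.D.Idx F} (hx : x ∈ X.G1) :
    ∃ v ∈ genS g.toGood F (Set.Ico T.N T.n), v ∈ X.G1 ∧ ∃ L, T.Wd L ∧ X.Comm L ∧ ∃ c,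
      tor T F c * nWd g.toGood F L ∈ X.G1 ∧
      ∃ u ∈ uMinus g.toGood F L, u ∈ X.G1 ∧ x = v * (tor T F c * nWd g.toGood F L) * u := by
  obtain ⟨hxG, hσ⟩ := X.G1_le x hx
  obtain ⟨v, hv, hσv, L, hL, hc, c, -, u, hu, hσu, e⟩ := X.fix_decomp hxG hσ
  have hv1 := X.pos_fixed_mem hv hσv
  have hu1 := X.uMinus_fixed_mem _ hL hc le_rfl u hu hσu
  refine ⟨v, hv, hv1, L, hL, hc, c, ?_, u, hu, hu1, e⟩
  have : tor T F c * nWd g.toGood F L = v⁻¹ * x * u⁻¹ := by rw [e]; group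
  rw [this]
  exact mul_mem (mul_mem (inv_mem hv1) hx) (inv_mem hu1)

end Twist

end Tab

end Cfsg.Agent.Chev
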