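import Cfsg.Agent.Lib.Lie.ChevBruhat
import Cfsg.Agent.Lib.Lie.ChevPoincare
import Cfsg.Agent.Lib.Lie.ChevTorus

/-! The group order from a Poincaré certificate and a torus certificate. -/

set_option autoImplicit false

namespace Cfsg.Agent.Chev

open Cfsg.Lie

/-- evaluation of a coefficient list -/
def evalL (q : ℤ) : List ℤ → ℤ
  | [] => 0
  | a :: l => a + q * evalL q l

/-- sum of coefficient lists -/
def addL : List ℤ → List ℤ → List ℤ
  | [], m => m
  | l, [] => l
  | a :: l, b :: m => (a + b) :: addL l m

/-- product of coefficient lists -/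
def mulL : List ℤ → List ℤ → List ℤ
  | [], _ => []
  | [a], m => m.map fun x => a * x
  | a :: l, m => addL (m.map fun x => a * x) (0 :: mulL l m)

/-- product of many -/
def prodL (L : List (List ℤ)) : List ℤ := L.foldr mulL [1]

/-- `q^d - 1` -/
def binL (d : ℕ) : List ℤ := (-1) :: (List.replicate (d - 1) 0 ++ [1])

/-- equality test on coefficient lists -/
def eqL : List ℤ → List ℤ → Bool
  | [], [] => true
  | a :: l, b :: m => a == b && eqL l m
  | _, _ => false

theorem eqL_iff : ∀ {l m : List ℤ}, eqL l m = true ↔ l = m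
  | [], [] => by simp [eqL]
  | [], _ :: _ => by simp [eqL]
  | _ :: _, [] => by simp [eqL]
  | a :: l, b :: m => by simp [eqL, eqL_iff]

theorem evalL_addL (q : ℤ) : ∀ l m, evalL q (addL l m) = evalL q l + evalL q m
  | [], m => by simp [addL, evalL]
  | a :: l, [] => by simp [addL, evalL]
  | a :: l, b :: m => by simp only [addL, evalL, evalL_addL q l m]; ring

theorem evalL_map (q a : ℤ) : ∀ m, evalL q (m.map fun x => a * x) = a * evalL q m
  | [] => by simp [evalL]
  | b :: m => by simp only [List.map_cons, evalL, evalL_map q a m]; ring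

theorem evalL_mulL (q : ℤ) : ∀ l m, evalL q (mulL l m) = evalL q l * evalL q m
  | [], m => by simp [mulL, evalL]
  | [a], m => by simp [mulL, evalL, evalL_map]
  | a :: b :: l, m => by
    rw [mulL, evalL_addL, evalL_map]
    · simp only [evalL, evalL_mulL q (b :: l) m]; ring
    · simp

theorem evalL_prodL (q : ℤ) (L : List (List ℤ)) : evalL q (prodL L) = (L.map (evalL q)).prod := by
  induction L with
  | nil => simp [prodL, evalL]
  | cons a L ih =>
    show evalL q (mulL a (prodL L)) = _
    rw [evalL_mulL, ih, List.map_cons, List.prod_cons]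

theorem evalL_monomial (q : ℤ) : ∀ k, evalL q (List.replicate k 0 ++ [1]) = q ^ k
  | 0 => by simp [evalL]
  | k + 1 => by simp [List.replicate_succ, evalL, evalL_monomial q k, pow_succ']

theorem evalL_binL (q : ℤ) {d : ℕ} (hd : 1 ≤ d) : evalL q (binL d) = q ^ d - 1 := by
  obtain ⟨k, rfl⟩ := Nat.exists_eq_add_of_le hd
  rw [binL, evalL, evalL_monomial, Nat.add_sub_cancel_left, pow_add, pow_one]
  ring

namespace Tab

/-- the length polynomial of a list of representatives -/
def lenPoly (D : List Rep) : List ℤ :=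
  D.foldr (fun d acc => addL (List.replicate d.len 0 ++ [1]) acc) []

theorem evalL_lenPoly (q : ℕ) (D : List Rep) :
    evalL (q : ℤ) (lenPoly D) = (((D.map fun d => q ^ d.len).sum : ℕ) : ℤ) := by
  induction D with
  | nil => simp [lenPoly, evalL]
  | cons d D ih =>
    show evalL (q : ℤ) (addL _ (lenPoly D)) = _
    rw [evalL_addL, ih, evalL_monomial]
    simp

/-- all steps of a chain starting from `J` -/
def checkChain (T : Tab) : List ℕ → List (ℕ × List Rep) → Bool
  | J, [] => allBelow (fun i => memB i J) T.l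
  | J, e :: rest => T.checkStep J (J ++ [e.1]) e.2 && checkChain T (J ++ [e.1]) rest

/-- the identity of polynomials -/
def checkPoly (T : Tab) (steps : List (ℕ × List Rep)) (degs : List ℕ) : Bool :=
  degs.all (fun d => Nat.ble 1 d) &&
    eqL (prodL (steps.map (fun e => lenPoly e.2) ++ List.replicate T.l [-1, 1]))
      (prodL (degs.map binL))

variable {T : Tab} {F : Type*} [Field F]

theorem checkChain_spec (g : T.Good) (q : ℕ) : ∀ (steps : List (ℕ × List Rep)) (J : List ℕ),
    T.checkChain J steps = true → ∃ Jtop, (∀ i < T.l, i ∈ Jtop) ∧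
      (poinc g Jtop q : ℤ) = (steps.map fun e => evalL (q : ℤ) (lenPoly e.2)).prod * poinc g J q
  | [], J, h => ⟨J, fun i hi => memB_iff.1 (allBelow_eq_true.1 h i hi), by simp⟩
  | e :: rest, J, h => by
    simp only [checkChain, Bool.and_eq_true] at h
    obtain ⟨Jt, hJt, e'⟩ := checkChain_spec g q rest _ h.2
    refine ⟨Jt, hJt, ?_⟩
    rw [e', poinc_step g h.1, Nat.cast_mul, ← evalL_lenPoly, List.map_cons, List.prod_cons]
    ring

theorem card_group_formula (g : T.GoodA) [Fintype F] {q : ℕ} (hq : Fintype.card F = q)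
    {C : TorCert} {steps : List (ℕ × List Rep)} {degs : List ℕ}
    (hC : T.checkTor C = true) (hS : T.checkChain [] steps = true)
    (hP : T.checkPoly steps degs = true) :
    Nat.gcd C.d (q - 1) ^ C.k * Nat.card (T.D.group F) =
      q ^ T.N * (degs.map fun d => q ^ d - 1).prod := by
  classical
  subst hq
  set q := Fintype.card F with hq
  have hq1 : 1 ≤ q := Fintype.card_pos
  haveI : Fintype ↥(wG g.toGood) := Fintype.ofFinite _
  have hsum : Nat.card (T.D.group F) = Nat.card (T.D.borelSubgroup F) *
      ∑ w : ↥(wG g.toGood), q ^ T.wInv (w : Equiv.Perm (Fin T.n)) := by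
    convert card_group_eq (F := F) g
  obtain ⟨Jt, hJt, e⟩ := checkChain_spec g.toGood q steps [] hS
  rw [poinc_nil, Nat.cast_one, mul_one] at e
  simp only [checkPoly, Bool.and_eq_true, List.all_eq_true, nat_ble, eqL_iff] at hP
  obtain ⟨hdeg, hpoly⟩ := hP
  have h := congrArg (evalL (q : ℤ)) hpoly
  rw [evalL_prodL, evalL_prodL, List.map_append, List.prod_append, List.map_map, List.map_map,
    List.map_replicate, List.prod_replicate] at h
  have hb : (degs.map (evalL (q : ℤ) ∘ binL)).prod =
      (((degs.map fun d => q ^ d - 1).prod : ℕ) : ℤ) := by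
    rw [Nat.cast_list_prod, List.map_map]
    refine congrArg List.prod (List.map_congr_left fun d hd => ?_)
    simp only [Function.comp_apply]
    rw [evalL_binL _ (hdeg d hd), Nat.cast_sub (Nat.one_le_pow _ _ hq1)]
    simp
  rw [hb] at h
  have hP' : poinc g.toGood Jt q * (q - 1) ^ T.l = (degs.map fun d => q ^ d - 1).prod := by
    have : ((poinc g.toGood Jt q * (q - 1) ^ T.l : ℕ) : ℤ) =
        (((degs.map fun d => q ^ d - 1).prod : ℕ) : ℤ) := by
      rw [← h, Nat.cast_mul, e, Nat.cast_pow, Nat.cast_sub hq1]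
      congr 1
      simp [evalL]
      ring
    exact_mod_cast this
  rw [hsum, card_borel g, poinc_top g.toGood hJt q, ← hP']
  have hT := card_diagonal_mul (F := F) g.toGood hC
  rw [Nat.gcd_comm, ← hq] at hT
  calc _ = q ^ T.N * (Nat.gcd C.d (q - 1) ^ C.k * Nat.card (T.D.diagonalSubgroup F)) *
        poinc g.toGood Jt q := by ring
    _ = _ := by rw [hT]; ring

end Tab

end Cfsg.Agent.Chev
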