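import Cfsg.Agent.Lib.Lie.ChevConj
import Mathlib.GroupTheory.QuotientGroup.Basic

/-! The group elements `x_r(t)`, `n_p`, the torus, and the subgroups `H`, `N`. -/

set_option autoImplicit false

namespace Cfsg.Agent.Chev

open Cfsg.Lie
open Matrix hiding zpow_mul inv_zpow mul_inv_rev zpow_add zpow_neg

namespace Tab

variable {T : Tab} {F : Type*} [Field F]

/-- `x_r(t)` as an element of the general linear group. -/
noncomputable def xg (g : T.Good) (r : ℕ) (t : F) : GL T.D.Idx F :=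
  ⟨T.D.x F r t, T.D.x F r (-t), by rw [x_add g, add_neg_cancel, x_zero g],
    by rw [x_add g, neg_add_cancel, x_zero g]⟩

theorem xg_val (g : T.Good) (r : ℕ) (t : F) :
    ((xg g r t : GL T.D.Idx F) : Matrix T.D.Idx T.D.Idx F) = T.D.x F r t := rfl

theorem eq_xg (g : T.Good) {r : ℕ} {t : F} {x : GL T.D.Idx F}
    (h : (x : Matrix T.D.Idx T.D.Idx F) = T.D.x F r t) : x = xg g r t := Units.ext h

theorem xg_add (g : T.Good) (r : ℕ) (t u : F) : xg g r t * xg g r u = xg g r (t + u) :=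
  Units.ext (x_add g r t u)

@[simp] theorem xg_zero (g : T.Good) (r : ℕ) : xg g r (0 : F) = 1 := Units.ext (x_zero g r)

theorem xg_inv (g : T.Good) (r : ℕ) (t : F) : (xg g r t)⁻¹ = xg g r (-t) := Units.ext rfl

theorem xg_injective (g : T.Good) {r : ℕ} (hr : r < T.n) :
    Function.Injective (xg (F := F) g r) :=
  fun _ _ h => x_injective g hr (congrArg Units.val h)

theorem xg_out (g : T.Good) {r : ℕ} (hr : ¬ r < T.n) (t : F) : xg g r t = 1 := by
  refine Units.ext ?_
  rw [xg_val, ChevalleyDatum.x, dif_neg (by rw [g.nroots_eq]; exact hr)]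
  rfl

theorem mem_rootSubgroup_iff (g : T.Good) {r : ℕ} {x : GL T.D.Idx F} :
    x ∈ T.D.rootSubgroup F r ↔ ∃ t : F, x = xg g r t := by
  constructor
  · intro hx
    induction hx using Subgroup.closure_induction with
    | mem y hy => obtain ⟨t, ht⟩ := hy; exact ⟨t, eq_xg g ht⟩
    | one => exact ⟨0, (xg_zero g r).symm⟩
    | mul y z _ _ hy hz =>
      obtain ⟨t, rfl⟩ := hy; obtain ⟨u, rfl⟩ := hz
      exact ⟨t + u, xg_add g r t u⟩
    | inv y _ hy => obtain ⟨t, rfl⟩ := hy; exact ⟨-t, xg_inv g r t⟩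
  · rintro ⟨t, rfl⟩
    exact Subgroup.subset_closure ⟨t, rfl⟩

theorem xg_mem_group (g : T.Good) (r : ℕ) (t : F) : xg g r t ∈ T.D.group F := by
  by_cases hr : r < T.n
  · refine Subgroup.subset_closure ⟨⟨r, by rw [g.nroots_eq]; exact hr⟩, t, ?_⟩
    rw [xg_val, ChevalleyDatum.x, dif_pos (by rw [g.nroots_eq]; exact hr)]
  · rw [xg_out g hr]; exact one_mem _

/-- The element `n_{p_i}`. -/
noncomputable def nG (g : T.Good) (F : Type*) [Field F] (i : ℕ) : GL T.D.Idx F :=
  xg g (T.smp i) (1 : F) * xg g (T.neg (T.smp i)) (-1 : F) * xg g (T.smp i) (1 : F)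

theorem nG_val (g : T.Good) {i : ℕ} (hi : i < T.l) :
    ((nG g F i : GL T.D.Idx F) : Matrix T.D.Idx T.D.Idx F) = nM T F i := by
  simp [nG, nM, ChevalleyDatum.nMat, ChevalleyDatum.nWord, ChevalleyDatum.wordMat, xg_val,
    g.simple_eq hi, g.neg_eq (g.smp_lt hi), mul_assoc]

theorem nG_mem_group (g : T.Good) (i : ℕ) : nG g F i ∈ T.D.group F :=
  mul_mem (mul_mem (xg_mem_group g _ _) (xg_mem_group g _ _)) (xg_mem_group g _ _)

theorem nG_conj (g : T.Good) {i s : ℕ} (hi : i < T.l) (hs : s < T.n) (t : F) :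
    nG g F i * xg g s t * (nG g F i)⁻¹ = xg g (T.ref i s) ((T.eta i s : F) * t) := by
  rw [mul_inv_eq_iff_eq_mul]
  refine Units.ext ?_
  rw [Units.val_mul, Units.val_mul, nG_val g hi, xg_val, xg_val]
  exact n_conj g hi hs t

/-! ### Diagonal elements -/

variable (T) in
/-- the diagonal entries attached to a weight function on the roots -/
def dgv (χ : ℕ → Fˣ) : T.D.Idx → F := Sum.elim (fun _ => 1) fun s => (χ s.val : F)

/-- the diagonal element attached to a weight function on the roots -/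
noncomputable def dg (T : Tab) (F : Type*) [Field F] : (ℕ → Fˣ) →* GL T.D.Idx F where
  toFun χ := ⟨diagonal (dgv T χ), diagonal (dgv T χ⁻¹),
    by rw [diagonal_mul_diagonal]; convert diagonal_one using 2; funext i; cases i <;> simp [dgv],
    by rw [diagonal_mul_diagonal]; convert diagonal_one using 2; funext i; cases i <;> simp [dgv]⟩
  map_one' := by
    refine Units.ext ?_
    show diagonal (dgv T (1 : ℕ → Fˣ)) = 1
    convert diagonal_one using 2; funext i; cases i <;> simp [dgv]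
  map_mul' χ ψ := by
    refine Units.ext ?_
    show diagonal (dgv T (χ * ψ)) = diagonal (dgv T χ) * diagonal (dgv T ψ)
    rw [diagonal_mul_diagonal]; congr 1; funext i; cases i <;> simp [dgv]

theorem dg_val (χ : ℕ → Fˣ) :
    ((dg T F χ : GL T.D.Idx F) : Matrix T.D.Idx T.D.Idx F) = diagonal (dgv T χ) := rfl

theorem dg_congr (g : T.Good) {χ ψ : ℕ → Fˣ} (h : ∀ s < T.n, χ s = ψ s) : dg T F χ = dg T F ψ := by
  refine Units.ext ?_
  rw [dg_val, dg_val]
  congr 1
  funext i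
  rcases i with i | ⟨s, hs⟩
  · rfl
  · rw [g.nroots_eq] at hs
    simp [dgv, h s hs]

theorem dg_col_h (g : T.Good) (χ : ℕ → Fˣ) {v : ℕ} (hv : v < T.l) :
    (dg T F χ : Matrix T.D.Idx T.D.Idx F) *ᵥ bas T F v = bas T F v := by
  rw [dg_val]
  funext a
  rw [mulVec_diagonal]
  rcases a with ⟨a, ha⟩ | ⟨a, ha⟩
  · simp [dgv]
  · simp [dgv, bas, code, show T.l + a ≠ v by omega]

theorem dg_col_root (g : T.Good) (χ : ℕ → Fˣ) {s : ℕ} :
    (dg T F χ : Matrix T.D.Idx T.D.Idx F) *ᵥ bas T F (T.l + s) = (χ s : F) • bas T F (T.l + s) := by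
  rw [dg_val]
  funext a
  rw [mulVec_diagonal]
  rcases a with ⟨a, ha⟩ | ⟨a, ha⟩
  · rw [g.rank_eq] at ha
    simp [dgv, bas, code, show a ≠ T.l + s by omega]
  · by_cases h : a = s
    · subst h; simp [dgv, bas, code]
    · simp [dgv, bas, code, h]

theorem nG_col_h (g : T.Good) {i v : ℕ} (hi : i < T.l) (hv : v < T.l) :
    (nG g F i : Matrix T.D.Idx T.D.Idx F) *ᵥ bas T F v =
      bas T F v - (T.A v (T.smp i) : F) • bas T F i := by
  rw [nG_val g hi]; exact n_col_h g hi hv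

theorem nG_col_root (g : T.Good) {i s : ℕ} (hi : i < T.l) (hs : s < T.n) :
    (nG g F i : Matrix T.D.Idx T.D.Idx F) *ᵥ bas T F (T.l + s) =
      (T.eta i s : F) • bas T F (T.l + T.ref i s) := by
  rw [nG_val g hi]; exact n_col_root g hi hs

theorem nG_dg (g : T.Good) {i : ℕ} (hi : i < T.l) (χ : ℕ → Fˣ) :
    nG g F i * dg T F χ * (nG g F i)⁻¹ = dg T F fun s => χ (T.ref i s) := by
  rw [mul_inv_eq_iff_eq_mul]
  refine Units.ext ?_
  rw [Units.val_mul, Units.val_mul]
  refine ext_col g fun j hj => ?_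
  rw [← mulVec_mulVec, ← mulVec_mulVec]
  rcases col_cases T hj with hv | ⟨v, hv, rfl⟩
  · simp only [dg_col_h g _ hv, nG_col_h g hi hv, mulVec_sub, mulVec_smul, dg_col_h g _ hi]
  · simp only [dg_col_root g, mulVec_smul, nG_col_root g hi hv, g.ref_ref hi hv, smul_smul, mul_comm]

/-- the weight of a torus element at a root -/
def wt (T : Tab) (F : Type*) [Field F] (c : ℕ → Fˣ) (s : ℕ) : Fˣ :=
  ∏ j ∈ Finset.range T.l, c j ^ T.A j s

theorem wt_mul (c d : ℕ → Fˣ) (s : ℕ) : wt T F (c * d) s = wt T F c s * wt T F d s := by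
  simp [wt, mul_zpow, Finset.prod_mul_distrib]

theorem wt_single (g : T.Good) {i : ℕ} (hi : i < T.l) (u : Fˣ) (s : ℕ) :
    wt T F (Pi.mulSingle i u) s = u ^ T.A i s := by
  rw [wt, Finset.prod_eq_single i]
  · simp
  · intro j _ hne; simp [hne]
  · exact fun h => absurd (Finset.mem_range.2 hi) h

/-- the torus homomorphism -/
noncomputable def tor (T : Tab) (F : Type*) [Field F] : (ℕ → Fˣ) →* GL T.D.Idx F :=
  (dg T F).comp
    { toFun := fun c s => wt T F c s
      map_one' := by funext s; simp [wt]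
      map_mul' := fun c d => by funext s; exact wt_mul c d s }

theorem tor_apply (c : ℕ → Fˣ) : tor T F c = dg T F (wt T F c) := rfl

theorem wt_chain (g : T.Good) {r s : ℕ} (hr : r < T.n) (hs : s < T.n) (c : ℕ → Fˣ)
    {q : (ℕ × ℤ) × ℕ} (hq : q ∈ (T.ch r s).zipIdx) :
    q.1.1 < T.n ∧ wt T F c q.1.1 = wt T F c s * wt T F c r ^ (q.2 + 1) := by
  have hne : T.ch r s ≠ [] := by
    intro h; simp [h] at hq
  have hq' : (q.1, q.2 + 1) ∈ (T.ch r s).zipIdx 1 := by
    rw [List.mk_mem_zipIdx_iff_le_and_getElem?_sub]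
    refine ⟨by omega, ?_⟩
    rw [Nat.add_sub_cancel]
    exact (List.mk_mem_zipIdx_iff_getElem?).1 hq
  obtain ⟨h1, _, _, h4, _⟩ := chainOK_spec r s 1 _ (g.chain' hr hs hne).2.2.1 _ hq'
  refine ⟨h1, ?_⟩
  rw [wt, wt, wt, ← Finset.prod_pow, ← Finset.prod_mul_distrib]
  refine Finset.prod_congr rfl fun j hj => ?_
  rw [h4 j (Finset.mem_range.1 hj), _root_.zpow_add, mul_comm (((q.2 + 1 : ℕ) : ℤ)), zpow_mul,
    zpow_natCast]

theorem wt_neg (g : T.Good) {s : ℕ} (hs : s < T.n) (c : ℕ → Fˣ) :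
    wt T F c (T.neg s) = (wt T F c s)⁻¹ := by
  rw [wt, wt, ← Finset.prod_inv_distrib]
  refine Finset.prod_congr rfl fun j hj => ?_
  rw [((g.sign' hs).1 j (Finset.mem_range.1 hj)).2.2.2, _root_.zpow_neg]

/-- `h x_s(t) = x_s(χ(s) t) h`. -/
theorem tor_xg (g : T.Good) (c : ℕ → Fˣ) {s : ℕ} (hs : s < T.n) (t : F) :
    tor T F c * xg g s t * (tor T F c)⁻¹ = xg g s ((wt T F c s : F) * t) := by
  rw [mul_inv_eq_iff_eq_mul]
  refine Units.ext ?_
  rw [Units.val_mul, Units.val_mul, xg_val, xg_val, tor_apply]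
  refine ext_col g fun j hj => ?_
  rw [← mulVec_mulVec, ← mulVec_mulVec]
  rcases col_cases T hj with hv | ⟨v, hv, rfl⟩
  · rw [col_h g hs hv, dg_col_h g _ hv, col_h g hs hv, mulVec_sub, mulVec_smul, dg_col_h g _ hv,
      dg_col_root g, smul_smul]
    congr 2
    ring
  · rw [dg_col_root g, mulVec_smul]
    by_cases h1 : v = s
    · subst h1
      rw [col_self g hs, col_self g hs, dg_col_root g]
    by_cases h2 : v = T.neg s
    · subst h2
      have hh : (dg T F (wt T F c) : Matrix T.D.Idx T.D.Idx F) *ᵥ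
          (∑ j ∈ Finset.range T.l, (T.c s j : F) • bas T F j) =
          ∑ j ∈ Finset.range T.l, (T.c s j : F) • bas T F j := by
        rw [mulVec_sum]
        exact Finset.sum_congr rfl fun j hj => by
          rw [mulVec_smul, dg_col_h g _ (Finset.mem_range.1 hj)]
      rw [col_neg g hs, col_neg g hs, mulVec_add, mulVec_sub, mulVec_smul, mulVec_smul, hh,
        dg_col_root g, dg_col_root g, wt_neg g hs, smul_add, smul_sub, smul_smul, smul_smul,
        smul_smul]
      have hu : (wt T F c s : F) ≠ 0 := Units.ne_zero _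
      congr 1
      · congr 1
        rw [Units.val_inv_eq_inv_val]
        field_simp
      · rw [Units.val_inv_eq_inv_val, ← mul_assoc, inv_mul_cancel₀ hu, one_mul]
    · rw [col_other g hs hv h1 h2, col_other g hs hv h1 h2, mulVec_add, dg_col_root g, smul_add]
      congr 1
      rw [List.smul_sum, List.map_map]
      have key : ∀ L : List ((ℕ × ℤ) × ℕ), (∀ q ∈ L, q ∈ (T.ch s v).zipIdx) →
          (dg T F (wt T F c) : Matrix T.D.Idx T.D.Idx F) *ᵥ
              (L.map fun q => ((q.1.2 : F) * t ^ (q.2 + 1)) • bas T F (T.l + q.1.1)).sum =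
            (L.map ((fun x => (wt T F c v : F) • x) ∘ fun q =>
              ((q.1.2 : F) * ((wt T F c s : F) * t) ^ (q.2 + 1)) • bas T F (T.l + q.1.1))).sum := by
        intro L
        induction L with
        | nil => simp
        | cons q L ih =>
          intro hL
          obtain ⟨_, hq⟩ := wt_chain g hs hv c (hL q List.mem_cons_self)
          simp only [List.map_cons, List.sum_cons, mulVec_add, mulVec_smul, dg_col_root g,
            Function.comp_apply, ih fun x hx => hL x (List.mem_cons_of_mem _ hx), hq, smul_smul,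
            Units.val_mul, Units.val_pow_eq_pow_val, mul_pow]
          congr 2
          ring
      exact key _ fun q hq => hq

/-- the simple torus element `h_{p_i}(u)` -/
noncomputable def hS (T : Tab) (F : Type*) [Field F] (i : ℕ) (u : Fˣ) : GL T.D.Idx F :=
  tor T F (Pi.mulSingle i u)

theorem hS_eq (g : T.Good) {i : ℕ} (hi : i < T.l) (u : Fˣ) :
    hS T F i u = dg T F fun s => u ^ T.A i s := by
  rw [hS, tor_apply]
  exact dg_congr g fun s _ => wt_single g hi u s

theorem hS_mul (i : ℕ) (u v : Fˣ) : hS T F i (u * v) = hS T F i u * hS T F i v := by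
  rw [hS, hS, hS, Pi.mulSingle_mul, map_mul]

theorem hS_inv (i : ℕ) (u : Fˣ) : hS T F i u⁻¹ = (hS T F i u)⁻¹ := by
  rw [hS, hS, Pi.mulSingle_inv, map_inv]

theorem hS_one (i : ℕ) : hS T F i (1 : Fˣ) = 1 := by
  rw [hS, Pi.mulSingle_one, map_one]

theorem nG_hS (g : T.Good) {i : ℕ} (hi : i < T.l) (u : Fˣ) :
    nG g F i * hS T F i u = hS T F i u⁻¹ * nG g F i := by
  rw [← mul_inv_eq_iff_eq_mul, hS_eq g hi, nG_dg g hi, hS_eq g hi]
  refine dg_congr g fun s hs => ?_
  rw [A_ref_self g hi hs, _root_.zpow_neg, inv_zpow]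

theorem nG_sq (g : T.Good) {i : ℕ} (hi : i < T.l) :
    nG g F i * nG g F i = hS T F i (-1) := by
  rw [hS_eq g hi]
  refine Units.ext ?_
  rw [Units.val_mul]
  refine ext_col g fun j hj => ?_
  rw [← mulVec_mulVec]
  rcases col_cases T hj with hv | ⟨v, hv, rfl⟩
  · simp only [dg_col_h g _ hv, nG_col_h g hi hv, mulVec_sub, mulVec_smul, nG_col_h g hi hi,
      A_smp_self g hi]
    push_cast
    module
  · rw [dg_col_root g, nG_col_root g hi hv, mulVec_smul, nG_col_root g hi (g.ref_lt hi hv),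
      g.ref_ref hi hv, smul_smul, ← Int.cast_mul, (g.refl' hi hv).2.2.2.2.2.1]
    congr 1
    rcases Int.natAbs_eq (T.A i v) with h | h <;> rw [h] <;>
      simp only [zpow_natCast, _root_.zpow_neg, Int.natAbs_natCast, Int.natAbs_neg,
        Units.val_pow_eq_pow_val, Units.val_inv_eq_inv_val, Units.val_neg, Units.val_one,
        Int.cast_pow, Int.cast_neg, Int.cast_one, ← inv_pow, inv_neg, inv_one]

/-- `x_p(t) x_{-p}(-1/t) x_p(t) = h_p(t) n_p`. -/
theorem nE_simple (g : T.Good) {i : ℕ} (hi : i < T.l) (u : Fˣ) :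
    xg g (T.smp i) (u : F) * xg g (T.neg (T.smp i)) (-(u : F)⁻¹) * xg g (T.smp i) (u : F) =
      hS T F i u * nG g F i := by
  rw [← mul_inv_eq_iff_eq_mul, nG, mul_inv_rev, mul_inv_rev, xg_inv, xg_inv, hS_eq g hi]
  refine Units.ext ?_
  simp only [Units.val_mul, xg_val, neg_neg]
  refine ext_col g fun j hj => ?_
  have h := colsEq_spec (T := T) u 1 (allBelow_eq_true.1 g.hDiag i hi) hj
  rw [sem_wapply _ _ g, sem_one] at h
  · have e : sem T u (1 : Fˣ) (T.hCol i j) =
        (dg T F (fun s => u ^ T.A i s) : Matrix T.D.Idx T.D.Idx F) *ᵥ bas T F j := by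
      rcases col_cases T hj with hv | ⟨v, hv, rfl⟩
      · rw [dg_col_h g _ hv, hCol, nat_blt.2 hv, cond_true, sem_one]
      · rw [dg_col_root g, hCol, nat_blt_false.2 (Nat.le_add_right _ _), cond_false,
          show Nat.sub (T.l + v) T.l = v from Nat.add_sub_cancel_left _ _]
        simp [sem, monVal]
    rw [e] at h
    rw [← h]
    simp [nW, ChevalleyDatum.wordMat, pval_singleton, monVal, mul_assoc, Units.val_inv_eq_inv_val]
  · intro e he
    have := neg_lt (g.smp_lt hi)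
    have := g.smp_lt hi
    simp [nW] at he
    rcases he with rfl | rfl | rfl | rfl | rfl | rfl <;> assumption

/-- The subgroup generated by the elements `n_p`. -/
noncomputable def wSub (g : T.Good) (F : Type*) [Field F] : Subgroup (GL T.D.Idx F) :=
  Subgroup.closure {x | ∃ i < T.l, x = nG g F i}

theorem nG_mem_wSub (g : T.Good) {i : ℕ} (hi : i < T.l) : nG g F i ∈ wSub g F :=
  Subgroup.subset_closure ⟨i, hi, rfl⟩

/-- Every root is conjugate to a simple one, compatibly with negation. -/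
theorem exists_conj_simple (g : T.Good) {r : ℕ} (hr : r < T.n) :
    ∃ i < T.l, ∃ ω ∈ wSub g F, ∃ ε : Fˣ, ε * ε = 1 ∧ ∀ t : F,
      ω * xg g (T.smp i) t * ω⁻¹ = xg g r ((ε : F) * t) ∧
      ω * xg g (T.neg (T.smp i)) t * ω⁻¹ = xg g (T.neg r) ((ε : F) * t) := by
  revert r
  intro r hr
  refine root_induction g (P := fun r => ∃ i < T.l, ∃ ω ∈ wSub g F, ∃ ε : Fˣ, ε * ε = 1 ∧ ∀ t : F,
      ω * xg g (T.smp i) t * ω⁻¹ = xg g r ((ε : F) * t) ∧
      ω * xg g (T.neg (T.smp i)) t * ω⁻¹ = xg g (T.neg r) ((ε : F) * t)) ?_ ?_ r hr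
  · exact fun i hi => ⟨i, hi, 1, one_mem _, 1, by simp, fun t => by simp⟩
  · rintro j hj s hs ⟨i, hi, ω, hω, ε, hε, h⟩
    obtain ⟨ε', he'⟩ : ∃ u : Fˣ, (u : F) = (T.eta j s : F) :=
      ⟨⟨_, _, eta_sq T j s, eta_sq T j s⟩, rfl⟩
    refine ⟨i, hi, nG g F j * ω, mul_mem (nG_mem_wSub g hj) hω, ε' * ε, ?_, fun t => ?_⟩
    · refine Units.ext ?_
      have h1 : (ε : F) * ε = 1 := by rw [← Units.val_mul, hε, Units.val_one]
      have h2 := eta_sq (F := F) T j s
      simp only [Units.val_mul, Units.val_one, he']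
      linear_combination ((ε : F) * ε) * h2 + h1
    have e : ∀ x, nG g F j * ω * x * (nG g F j * ω)⁻¹ = nG g F j * (ω * x * ω⁻¹) * (nG g F j)⁻¹ :=
      fun x => by group
    constructor
    · rw [e, (h t).1, nG_conj g hj hs, Units.val_mul, he', mul_assoc]
    · rw [e, (h t).2, nG_conj g hj (neg_lt hs), g.eta_neg hj hs, g.ref_neg hj hs, Units.val_mul, he',
        mul_assoc]

/-- `n_r(t)` -/
noncomputable def nE (g : T.Good) (r : ℕ) (t : F) : GL T.D.Idx F :=
  xg g r t * xg g (T.neg r) (-t⁻¹) * xg g r t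

/-- `h_r(t)` -/
noncomputable def hE (g : T.Good) (r : ℕ) (t : F) : GL T.D.Idx F := nE g r t * nE g r (-1)

theorem nE_val (g : T.Good) {r : ℕ} (hr : r < T.n) (t : F) :
    ((nE g r t : GL T.D.Idx F) : Matrix T.D.Idx T.D.Idx F) = T.D.nMat F r t := by
  simp [nE, ChevalleyDatum.nMat, ChevalleyDatum.nWord, ChevalleyDatum.wordMat, xg_val, g.neg_eq hr,
    mul_assoc]

theorem hE_val (g : T.Good) {r : ℕ} (hr : r < T.n) (t : F) :
    ((hE g r t : GL T.D.Idx F) : Matrix T.D.Idx T.D.Idx F) = T.D.hMat F r t := by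
  rw [hE, Units.val_mul, nE_val g hr, nE_val g hr]
  simp [ChevalleyDatum.hMat, ChevalleyDatum.nMat, ChevalleyDatum.hWord, ChevalleyDatum.wordMat,
    mul_assoc]

theorem nE_mul_nE (g : T.Good) {i : ℕ} {ω : GL T.D.Idx F} {ε : Fˣ} {r : ℕ} (hi : i < T.l)
    (hε : ε * ε = 1)
    (h : ∀ t : F, ω * xg g (T.smp i) t * ω⁻¹ = xg g r ((ε : F) * t) ∧
      ω * xg g (T.neg (T.smp i)) t * ω⁻¹ = xg g (T.neg r) ((ε : F) * t)) (a b : Fˣ) :
    nE g r (a : F) * nE g r (b : F) = ω * hS T F i (-(a * b⁻¹)) * ω⁻¹ := by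
  have he : (ε : F) * ε = 1 := by rw [← Units.val_mul, hε, Units.val_one]
  have key : ∀ a : Fˣ, nE g r (a : F) = ω * (hS T F i (ε * a) * nG g F i) * ω⁻¹ := by
    intro a
    rw [← nE_simple g hi (ε * a), nE]
    have e : ∀ x y z : GL T.D.Idx F, ω * (x * y * z) * ω⁻¹ =
        (ω * x * ω⁻¹) * (ω * y * ω⁻¹) * (ω * z * ω⁻¹) := fun x y z => by group
    rw [e, (h _).1, (h _).2, Units.val_mul, ← mul_assoc (ε : F), he, one_mul, mul_inv, mul_neg,
      ← mul_assoc (ε : F), mul_inv_cancel₀ (Units.ne_zero ε), one_mul]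
  rw [key, key]
  calc _ = ω * (hS T F i (ε * a) * (nG g F i * hS T F i (ε * b)) * nG g F i) * ω⁻¹ := by group
    _ = ω * (hS T F i (ε * a) * hS T F i (ε * b)⁻¹ * (nG g F i * nG g F i)) * ω⁻¹ := by
      rw [nG_hS g hi]; group
    _ = _ := by
      rw [nG_sq g hi, ← hS_mul, ← hS_mul]
      congr 3
      refine Units.ext ?_
      simp only [Units.val_mul, Units.val_neg, Units.val_one, Units.val_inv_eq_inv_val]
      field_simp

/-- `n_r(a) n_r(b) = h_r(-a/b)`. -/
theorem nE_mul_nE_eq_hE (g : T.Good) {r : ℕ} (hr : r < T.n) (a b : Fˣ) :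
    nE g r (a : F) * nE g r (b : F) = hE g r (-((a : F) * (b : F)⁻¹)) := by
  obtain ⟨i, hi, ω, hω, ε, hε, h⟩ := exists_conj_simple (F := F) g hr
  rw [nE_mul_nE g hi hε h, hE]
  have := nE_mul_nE g hi hε h (-(a * b⁻¹)) (-1)
  simp only [Units.val_neg, Units.val_mul, Units.val_one, Units.val_inv_eq_inv_val] at this
  rw [this]
  congr 3
  simp

theorem hE_conj (g : T.Good) {r : ℕ} (hr : r < T.n) :
    ∃ i < T.l, ∃ ω ∈ wSub g F, ∀ u : Fˣ, hE g r (u : F) = ω * hS T F i u * ω⁻¹ := by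
  obtain ⟨i, hi, ω, hω, ε, hε, h⟩ := exists_conj_simple (F := F) g hr
  refine ⟨i, hi, ω, hω, fun u => ?_⟩
  have := nE_mul_nE g hi hε h u (-1)
  simp only [Units.val_neg, Units.val_one] at this
  rw [hE, this]
  simp

theorem hE_mul (g : T.Good) {r : ℕ} (hr : r < T.n) (u v : Fˣ) :
    hE g r (u : F) * hE g r (v : F) = hE g r ((u : F) * (v : F)) := by
  obtain ⟨i, hi, ω, _, h⟩ := hE_conj (F := F) g hr
  rw [← Units.val_mul, h, h, h, hS_mul]
  group

theorem hE_smp (g : T.Good) {i : ℕ} (hi : i < T.l) (u : Fˣ) :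
    hE g (T.smp i) (u : F) = hS T F i u := by
  have := nE_mul_nE g (r := T.smp i) (ω := 1) (ε := 1) hi (by simp) (fun t => by simp) u (-1)
  simp only [Units.val_neg, Units.val_one] at this
  rw [hE, this]
  simp

theorem nE_conj (g : T.Good) {i s : ℕ} (hi : i < T.l) (hs : s < T.n) (t : F) :
    nG g F i * nE g s t * (nG g F i)⁻¹ = nE g (T.ref i s) ((T.eta i s : F) * t) := by
  rw [nE, nE, ← g.ref_neg hi hs]
  have e : ∀ x y z : GL T.D.Idx F, nG g F i * (x * y * z) * (nG g F i)⁻¹ =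
      (nG g F i * x * (nG g F i)⁻¹) * (nG g F i * y * (nG g F i)⁻¹) *
        (nG g F i * z * (nG g F i)⁻¹) := fun x y z => by group
  rw [e, nG_conj g hi hs, nG_conj g hi (neg_lt hs), g.eta_neg hi hs]
  congr 3
  rcases eta_cases T i s with h | h <;> simp [h, inv_neg]

theorem hE_ref (g : T.Good) {i s : ℕ} (hi : i < T.l) (hs : s < T.n) (u : Fˣ) :
    nG g F i * hE g s (u : F) * (nG g F i)⁻¹ = hE g (T.ref i s) (u : F) := by
  obtain ⟨ε, he⟩ : ∃ v : Fˣ, (v : F) = (T.eta i s : F) :=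
    ⟨⟨_, _, eta_sq T i s, eta_sq T i s⟩, rfl⟩
  have e : nG g F i * hE g s (u : F) * (nG g F i)⁻¹ =
      (nG g F i * nE g s (u : F) * (nG g F i)⁻¹) * (nG g F i * nE g s (-1) * (nG g F i)⁻¹) := by
    rw [hE]; group
  rw [e, nE_conj g hi hs, nE_conj g hi hs, ← he]
  have := nE_mul_nE_eq_hE g (g.ref_lt hi hs) (ε * u) (-ε)
  simp only [Units.val_mul, Units.val_neg] at this
  rw [show (ε : F) * (-1) = -(ε : F) by ring, this]
  congr 1
  field_simp

theorem nE_one_eq (g : T.Good) {r : ℕ} (hr : r < T.n) :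
    ∃ i < T.l, ∃ ω ∈ wSub g F, ∃ u : Fˣ, nE g r (1 : F) = ω * (hS T F i u * nG g F i) * ω⁻¹ := by
  obtain ⟨i, hi, ω, hω, ε, hε, h⟩ := exists_conj_simple (F := F) g hr
  refine ⟨i, hi, ω, hω, ε, ?_⟩
  have he : (ε : F) * ε = 1 := by rw [← Units.val_mul, hε, Units.val_one]
  rw [← nE_simple g hi ε, nE]
  have e : ∀ x y z : GL T.D.Idx F, ω * (x * y * z) * ω⁻¹ =
      (ω * x * ω⁻¹) * (ω * y * ω⁻¹) * (ω * z * ω⁻¹) := fun x y z => by group
  rw [e, (h _).1, (h _).2, he, mul_neg, mul_inv_cancel₀ (Units.ne_zero ε), inv_one]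

/-! ### The subgroups `H` and `N` -/

theorem torus_conj_le (g : T.Good) {i : ℕ} (hi : i < T.l) (c : ℕ → Fˣ) :
    ∃ d, nG g F i * tor T F c * (nG g F i)⁻¹ = tor T F d := by
  refine ⟨c * Pi.mulSingle i (∏ j ∈ Finset.range T.l, c j ^ (-T.A j (T.smp i))), ?_⟩
  rw [tor_apply, tor_apply, nG_dg g hi]
  refine dg_congr g fun s hs => ?_
  rw [wt_mul, wt_single g hi, wt, wt, ← Finset.prod_zpow, ← Finset.prod_mul_distrib]
  refine Finset.prod_congr rfl fun j hj => ?_
  rw [← zpow_mul, ← _root_.zpow_add, A_ref g hi (Finset.mem_range.1 hj) hs]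
  congr 1
  ring

theorem wSub_conj_torus (g : T.Good) {ω : GL T.D.Idx F} (hω : ω ∈ wSub g F) (c : ℕ → Fˣ) :
    ∃ d, ω * tor T F c * ω⁻¹ = tor T F d := by
  have key : ω ∈ Subgroup.normalizer ((tor T F).range : Set (GL T.D.Idx F)) := by
    refine (Subgroup.closure_le _).2 ?_ hω
    rintro x ⟨i, hi, rfl⟩
    rw [SetLike.mem_coe, Subgroup.mem_normalizer_iff]
    intro y
    constructor
    · rintro ⟨e, rfl⟩
      obtain ⟨d, hd⟩ := torus_conj_le g hi e
      exact ⟨d, hd.symm⟩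
    · rintro ⟨e, he⟩
      obtain ⟨d, hd⟩ := torus_conj_le g hi e
      refine ⟨Pi.mulSingle i (-1 : Fˣ) * d * (Pi.mulSingle i (-1 : Fˣ))⁻¹, ?_⟩
      rw [map_mul, map_mul, map_inv, ← hd, he]
      have h2 : tor T F (Pi.mulSingle i (-1 : Fˣ)) * (nG g F i * nG g F i) = 1 := by
        rw [nG_sq g hi, ← hS, ← hS_mul]; simp [hS_one]
      have h3 : tor T F (Pi.mulSingle i (-1 : Fˣ)) = (nG g F i * nG g F i)⁻¹ :=
        eq_inv_of_mul_eq_one_left h2
      rw [h3]
      group
  obtain ⟨d, hd⟩ := (Subgroup.mem_normalizer_iff.1 key _).1 ⟨c, rfl⟩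
  exact ⟨d, hd.symm⟩

theorem tor_eq_prod (g : T.Good) (c : ℕ → Fˣ) :
    tor T F c = ((List.range T.l).map fun i => hS T F i (c i)).prod := by
  have hp : (List.range T.l).map (fun i => hS T F i (c i)) =
      ((List.range T.l).map fun i => Pi.mulSingle i (c i)).map (tor T F) := by
    rw [List.map_map]; rfl
  rw [hp, ← map_list_prod, tor_apply, tor_apply]
  refine dg_congr g fun s _ => ?_
  rw [wt, wt]
  refine Finset.prod_congr rfl fun j hj => ?_
  congr 1
  rw [Pi.list_prod_apply, List.map_map]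
  have : ∀ k, j < k →
      ((List.range k).map ((fun f : ℕ → Fˣ => f j) ∘ fun i => Pi.mulSingle i (c i))).prod = c j := by
    intro k
    induction k with
    | zero => omega
    | succ k ih =>
      intro hk
      rw [List.range_succ, List.map_append, List.prod_append]
      rcases eq_or_lt_of_le (Nat.le_of_lt_succ hk) with rfl | hlt
      · rw [List.prod_eq_one]
        · simp
        · intro x hx
          obtain ⟨i, hi, rfl⟩ := List.mem_map.1 hx
          have := List.mem_range.1 hi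
          simp [Pi.mulSingle_eq_of_ne, show j ≠ i by omega]
      · rw [ih hlt]
        simp [Pi.mulSingle_eq_of_ne, show j ≠ k by omega]
  exact (this T.l (Finset.mem_range.1 hj)).symm

theorem diagonalSubgroup_eq (g : T.Good) : T.D.diagonalSubgroup F = (tor T F).range := by
  refine le_antisymm ((Subgroup.closure_le _).2 ?_) ?_
  · rintro x ⟨r, t, hr, ht, hx⟩
    rw [g.nroots_eq] at hr
    obtain ⟨i, hi, ω, hω, h⟩ := hE_conj (F := F) g hr
    have hx' : x = hE g r t := Units.ext (hx.trans (hE_val g hr t).symm)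
    obtain ⟨d, hd⟩ := wSub_conj_torus g hω (Pi.mulSingle i (Units.mk0 t ht))
    refine ⟨d, ?_⟩
    rw [hx', ← hd]
    exact (h (Units.mk0 t ht)).symm
  · rintro x ⟨c, rfl⟩
    rw [tor_eq_prod g]
    refine Subgroup.list_prod_mem _ fun y hy => ?_
    obtain ⟨i, hi, rfl⟩ := List.mem_map.1 hy
    have hi' := List.mem_range.1 hi
    refine Subgroup.subset_closure ⟨T.smp i, (c i : F), by rw [g.nroots_eq]; exact g.smp_lt hi',
      Units.ne_zero _, ?_⟩
    rw [← hE_smp g hi', hE_val g (g.smp_lt hi')]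

theorem monomialSubgroup_eq (g : T.Good) :
    T.D.monomialSubgroup F = (tor T F).range ⊔ wSub g F := by
  rw [ChevalleyDatum.monomialSubgroup, diagonalSubgroup_eq g]
  refine le_antisymm (sup_le le_sup_left ((Subgroup.closure_le _).2 ?_))
    (sup_le le_sup_left ((Subgroup.closure_le _).2 ?_))
  · rintro x ⟨r, hr, hx⟩
    rw [g.nroots_eq] at hr
    obtain ⟨i, hi, ω, hω, u, h⟩ := nE_one_eq (F := F) g hr
    have hω' := le_sup_right (a := (tor T F).range) hω
    have hx' : x = nE g r (1 : F) := Units.ext (hx.trans (nE_val g hr 1).symm)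
    rw [hx', h]
    exact mul_mem (mul_mem hω' (mul_mem (le_sup_left (b := wSub g F) ⟨_, rfl⟩)
      (le_sup_right (a := (tor T F).range) (nG_mem_wSub g hi)))) (inv_mem hω')
  · rintro x ⟨i, hi, rfl⟩
    refine le_sup_right (a := (tor T F).range) (Subgroup.subset_closure
      ⟨T.smp i, by rw [g.nroots_eq]; exact g.smp_lt hi, ?_⟩)
    rw [nG_val g hi, nM, g.simple_eq hi]

theorem hS_mem_group (g : T.Good) {i : ℕ} (hi : i < T.l) (u : Fˣ) :
    hS T F i u ∈ T.D.group F := by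
  rw [← hE_smp g hi]
  exact mul_mem (mul_mem (mul_mem (xg_mem_group g _ _) (xg_mem_group g _ _)) (xg_mem_group g _ _))
    (mul_mem (mul_mem (xg_mem_group g _ _) (xg_mem_group g _ _)) (xg_mem_group g _ _))

theorem tor_mem_group (g : T.Good) (c : ℕ → Fˣ) : tor T F c ∈ T.D.group F := by
  rw [tor_eq_prod g]
  refine Subgroup.list_prod_mem _ fun y hy => ?_
  obtain ⟨i, hi, rfl⟩ := List.mem_map.1 hy
  exact hS_mem_group g (List.mem_range.1 hi) _

end Tab

end Cfsg.Agent.Chev
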