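import Cfsg.Agent.Lib.Lie.ChevComm
import Cfsg.Agent.Lib.Lie.ChevGroup

/-!
# The unipotent subgroups `U`, `V` and the subgroup `B = UH`
-/

set_option autoImplicit false

namespace Cfsg.Agent.Chev

open Cfsg.Lie
open Matrix hiding zpow_mul inv_zpow mul_inv_rev zpow_add zpow_neg

namespace Tab

variable {T : Tab} {F : Type*} [Field F]

/-! ### Triangular shape -/

/-- height of a basis vector: negative roots, then the torus part, then positive roots -/
def rho (T : Tab) : T.D.Idx → ℤ
  | Sum.inl v => (T.N : ℤ) + v.val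
  | Sum.inr s => if s.val < T.N then (s.val : ℤ) else (s.val : ℤ) + T.l

theorem rho_injective (g : T.Good) : Function.Injective T.rho := by
  have hl := g.rank_eq
  rintro (⟨i, hi⟩ | ⟨s, hs⟩) (⟨j, hj⟩ | ⟨u, hu⟩) h <;> simp only [rho] at h
  · obtain rfl : i = j := by omega
    rfl
  · split_ifs at h <;> omega
  · split_ifs at h <;> omega
  · obtain rfl : s = u := by split_ifs at h <;> omega
    rfl

theorem rho_bounds (g : T.Good) (a : T.D.Idx) : 0 ≤ T.rho a ∧ T.rho a < (T.l + T.n : ℕ) := by
  have hl := g.rank_eq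
  have hn := g.nroots_eq
  have := n_def (T := T)
  rcases a with ⟨i, hi⟩ | ⟨s, hs⟩ <;> simp only [rho]
  · omega
  · split_ifs <;> omega

/-- unipotent and triangular with respect to `f` -/
def UT (f : T.D.Idx → ℤ) (M : Matrix T.D.Idx T.D.Idx F) : Prop :=
  ∀ a b, f a ≤ f b → M a b = (1 : Matrix T.D.Idx T.D.Idx F) a b

theorem UT.one (f : T.D.Idx → ℤ) : UT f (1 : Matrix T.D.Idx T.D.Idx F) := fun _ _ _ => rfl

theorem UT.mul {f : T.D.Idx → ℤ} {M M' : Matrix T.D.Idx T.D.Idx F} (h : UT f M) (h' : UT f M') :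
    UT f (M * M') := by
  intro a b hab
  rw [Matrix.mul_apply, Finset.sum_eq_single a]
  · rw [h a a le_rfl, Matrix.one_apply_eq, one_mul, h' a b hab]
  · intro c _ hne
    by_cases hac : f a ≤ f c
    · rw [h a c hac, Matrix.one_apply_ne (Ne.symm hne), zero_mul]
    · rw [h' c b (by omega), Matrix.one_apply_ne (fun e => by subst e; omega), mul_zero]
  · simp

theorem UT.sub_one_pow {f : T.D.Idx → ℤ} {M : Matrix T.D.Idx T.D.Idx F} (h : UT f M) :
    ∀ (m : ℕ) (a b : T.D.Idx), f a < f b + m → ((M - 1) ^ m) a b = 0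
  | 0, a, b, hab => by
    rw [pow_zero, Matrix.one_apply_ne]
    intro e; subst e; omega
  | m + 1, a, b, hab => by
    rw [pow_succ, Matrix.mul_apply]
    refine Finset.sum_eq_zero fun c _ => ?_
    by_cases hcb : f c ≤ f b
    · rw [Matrix.sub_apply, h c b hcb, sub_self, mul_zero]
    · rw [UT.sub_one_pow h m a c (by push_cast at hab; omega), zero_mul]

theorem list_sum_apply {α β M : Type*} [AddCommMonoid M] (L : List α) (f : α → β → M) (a : β) :
    (L.map f).sum a = (L.map fun q => f q a).sum := by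
  induction L <;> simp [*]

theorem bas_ne {a : T.D.Idx} {j : ℕ} (h : T.code a ≠ j) : bas T F j a = 0 := by simp [bas, h]

theorem one_apply_bas (g : T.Good) (a b : T.D.Idx) :
    (1 : Matrix T.D.Idx T.D.Idx F) a b = bas T F (T.code b) a := by
  simp [bas, Matrix.one_apply, (code_injective g).eq_iff]

theorem apply_eq_col (g : T.Good) (M : Matrix T.D.Idx T.D.Idx F) (a b : T.D.Idx) :
    M a b = (M *ᵥ bas T F (T.code b)) a := by
  rw [bas_code g, Matrix.mulVec_single_one, Matrix.col_apply]

/-- root elements are triangular: lower for negative, upper for positive roots -/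
theorem xg_UT (g : T.Good) {r : ℕ} (hr : r < T.n) (t : F) :
    (T.N ≤ r → UT T.rho (T.D.x F r t)) ∧ (r < T.N → UT (fun a => -T.rho a) (T.D.x F r t)) := by
  have hn := n_def (T := T)
  have key : ∀ a b : T.D.Idx,
      T.D.x F r t a b = (1 : Matrix T.D.Idx T.D.Idx F) a b ∨
      ((T.N ≤ r → T.rho b < T.rho a) ∧ (r < T.N → T.rho a < T.rho b)) := by
    intro a b
    rw [apply_eq_col g (T.D.x F r t) a b, one_apply_bas g a b]
    have hl := g.rank_eq
    rcases b with ⟨v, hv⟩ | ⟨s, hs⟩
    · have hv' : v < T.l := by omega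
      rw [show T.code (Sum.inl ⟨v, hv⟩) = v from rfl, col_h g hr hv']
      by_cases ha : T.code a = T.l + r
      · refine Or.inr ?_
        rcases a with ⟨u, hu⟩ | ⟨u, hu⟩ <;> simp only [code] at ha
        · omega
        · simp only [rho]; constructor <;> intro <;> split_ifs <;> omega
      · exact Or.inl (by simp [bas_ne ha])
    · have hs' : s < T.n := by rw [g.nroots_eq] at hs; exact hs
      rw [show T.code (Sum.inr ⟨s, hs⟩) = T.l + s from rfl]
      by_cases h1 : s = r
      · subst h1; exact Or.inl (by rw [col_self g hr])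
      by_cases h2 : s = T.neg r
      · subst h2
        rw [col_neg g hr]
        by_cases ha : T.code a = T.l + r
        · refine Or.inr ?_
          have h1 := N_le_neg_iff (T := T) hr
          rcases a with ⟨u, hu⟩ | ⟨u, hu⟩ <;> simp only [code] at ha
          · omega
          · simp only [rho]; constructor <;> intro <;> split_ifs <;> omega
        · by_cases ha' : T.code a < T.l
          · refine Or.inr ?_
            have h1 := N_le_neg_iff (T := T) hr
            rcases a with ⟨u, hu⟩ | ⟨u, hu⟩ <;> simp only [code] at ha'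
            · simp only [rho]; constructor <;> intro <;> split_ifs <;> omega
            · omega
          · refine Or.inl ?_
            simp only [Pi.add_apply, Pi.sub_apply, Pi.smul_apply, Finset.sum_apply, bas_ne ha,
              smul_zero, sub_zero, add_eq_left]
            rw [Finset.sum_eq_zero, smul_zero]
            intro j hj
            rw [bas_ne (by have := Finset.mem_range.1 hj; omega), smul_zero]
      · rw [col_other g hr hs' h1 h2]
        by_cases ha : ∃ q ∈ (T.ch r s).zipIdx, T.code a = T.l + q.1.1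
        · obtain ⟨q, hq, ha⟩ := ha
          refine Or.inr ?_
          have hne : T.ch r s ≠ [] := fun e => by simp [e] at hq
          have hq' : (q.1, q.2 + 1) ∈ (T.ch r s).zipIdx 1 := by
            rw [List.mk_mem_zipIdx_iff_le_and_getElem?_sub]
            exact ⟨by omega, by rw [Nat.add_sub_cancel]; exact (List.mk_mem_zipIdx_iff_getElem?).1 hq⟩
          obtain ⟨-, -, -, -, h5, h6⟩ := chainOK_spec r s 1 _ (g.chain' hr hs' hne).2.2.1 _ hq'
          dsimp only at h5 h6
          rcases a with ⟨u, hu⟩ | ⟨u, hu⟩ <;> simp only [code] at ha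
          · omega
          · simp only [rho]
            constructor <;> intro hN
            · have := (h5 hN).1; split_ifs <;> omega
            · have := (h6 hN).1; split_ifs <;> omega
        · refine Or.inl ?_
          push Not at ha
          rw [Pi.add_apply, add_eq_left, list_sum_apply]
          refine List.sum_eq_zero fun x hx => ?_
          simp only [List.mem_map] at hx
          obtain ⟨q, hq, rfl⟩ := hx
          simp [bas_ne (ha q hq)]
  constructor <;> intro hN a b hab <;> rcases key a b with h | ⟨h1, h2⟩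
  · exact h
  · have := h1 hN; omega
  · exact h
  · have := h2 hN; simp only [neg_le_neg_iff] at hab; omega

/-! ### Subgroups generated by root elements -/

/-- the subgroup generated by the root subgroups of a set of roots -/
noncomputable def genS (g : T.Good) (F : Type*) [Field F] (S : Set ℕ) : Subgroup (GL T.D.Idx F) :=
  Subgroup.closure {y | ∃ r ∈ S, ∃ t : F, y = xg g r t}

theorem xg_mem_genS (g : T.Good) {S : Set ℕ} {r : ℕ} (h : r ∈ S) (t : F) :
    xg g r t ∈ genS g F S := Subgroup.subset_closure ⟨r, h, t, rfl⟩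

theorem genS_le (g : T.Good) {S : Set ℕ} {K : Subgroup (GL T.D.Idx F)}
    (h : ∀ r ∈ S, ∀ t : F, xg g r t ∈ K) : genS g F S ≤ K := by
  refine (Subgroup.closure_le _).2 ?_
  rintro y ⟨r, hr, t, rfl⟩
  exact h r hr t

theorem genS_mono (g : T.Good) {S S' : Set ℕ} (h : S ⊆ S') : genS g F S ≤ genS g F S' :=
  genS_le g fun _ hr t => xg_mem_genS g (h hr) t

theorem genS_induction (g : T.Good) {S : Set ℕ} {p : GL T.D.Idx F → Prop} (h1 : p 1)
    (hs : ∀ r ∈ S, ∀ t : F, ∀ y, p y → p (xg g r t * y)) {x : GL T.D.Idx F}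
    (hx : x ∈ genS g F S) : p x := by
  induction hx using Subgroup.closure_induction_left with
  | one => exact h1
  | mul_left x hx y _ hy => obtain ⟨r, hr, t, rfl⟩ := hx; exact hs r hr t y hy
  | inv_mul_cancel x hx y _ hy =>
    obtain ⟨r, hr, t, rfl⟩ := hx
    rw [xg_inv]
    exact hs r hr _ y hy

theorem genS_UT (g : T.Good) {S : Set ℕ} {f : T.D.Idx → ℤ}
    (h : ∀ r ∈ S, ∀ t : F, UT f (T.D.x F r t)) {x : GL T.D.Idx F} (hx : x ∈ genS g F S) :
    UT f (x : Matrix T.D.Idx T.D.Idx F) :=
  genS_induction g (p := fun x : GL T.D.Idx F => UT f (x : Matrix T.D.Idx T.D.Idx F))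
    (by simpa using UT.one f) (fun r hr t y hy => by rw [Units.val_mul, xg_val]; exact (h r hr t).mul hy) hx

theorem posUnipotent_eq (g : T.Good) :
    T.D.posUnipotent F = genS g F (Set.Ico T.N T.n) := by
  refine le_antisymm ((Subgroup.closure_le _).2 ?_) (genS_le g fun r hr t => ?_)
  · rintro y ⟨r, t, hr, hy⟩
    rw [eq_xg g hy]
    exact xg_mem_genS g ((g.isPosRoot_iff r).1 hr) t
  · exact Subgroup.subset_closure ⟨r, t, (g.isPosRoot_iff r).2 hr, rfl⟩

theorem negUnipotent_eq (g : T.Good) :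
    T.D.negUnipotent F = genS g F (Set.Iio T.N) := by
  refine le_antisymm ((Subgroup.closure_le _).2 ?_) (genS_le g fun r hr t => ?_)
  · rintro y ⟨r, t, hr, hy⟩
    rw [eq_xg g hy]
    exact xg_mem_genS g (S := Set.Iio T.N) (r := r) ((g.isNegRoot_iff r).1 hr) t
  · exact Subgroup.subset_closure ⟨r, t, (g.isNegRoot_iff r).2 hr, rfl⟩

theorem pos_UT (g : T.Good) {x : GL T.D.Idx F} (hx : x ∈ genS g F (Set.Ico T.N T.n)) :
    UT T.rho (x : Matrix T.D.Idx T.D.Idx F) :=
  genS_UT g (fun _ hr t => (xg_UT g hr.2 t).1 hr.1) hx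

theorem neg_UT (g : T.Good) {x : GL T.D.Idx F} (hx : x ∈ genS g F (Set.Iio T.N)) :
    UT (fun a => -T.rho a) (x : Matrix T.D.Idx T.D.Idx F) := by
  have hn := n_def (T := T)
  exact genS_UT g (fun r hr t => (xg_UT g (by have : r < T.N := hr; omega) t).2 hr) hx

theorem pos_sub_one_pow (g : T.Good) {x : GL T.D.Idx F}
    (hx : x ∈ genS g F (Set.Ico T.N T.n)) :
    ((x : Matrix T.D.Idx T.D.Idx F) - 1) ^ (T.l + T.n) = 0 := by
  ext a b
  rw [(pos_UT g hx).sub_one_pow _ a b (by
    have := (rho_bounds g a).2; have := (rho_bounds g b).1; omega), Matrix.zero_apply]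

/-- `U ∩ VH`: a triangular unipotent which is opposite triangular is trivial. -/
theorem eq_one_of_UT_of_tri (g : T.Good) {M : Matrix T.D.Idx T.D.Idx F} (h : UT T.rho M)
    (h' : ∀ a b, T.rho b < T.rho a → M a b = 0) : M = 1 := by
  ext a b
  by_cases hab : T.rho a ≤ T.rho b
  · exact h a b hab
  · rw [h' a b (by omega), Matrix.one_apply_ne]
    intro e; subst e; omega

/-! ### Commutators -/

theorem xg_comm (g : T.GoodA) {r s : ℕ} (hr : r < T.n) (hs : s < T.n) (h1 : s ≠ r)
    (h2 : s ≠ T.neg r) (t u : F) :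
    xg g.toGood s u * xg g.toGood r t = xg g.toGood r t * xg g.toGood s u *
      ((cVal T F r s t u).map fun e => xg g.toGood e.1 e.2).prod := by
  have hp : ∀ L : List (ℕ × F),
      (((L.map fun e => xg g.toGood e.1 e.2).prod : GL T.D.Idx F) : Matrix T.D.Idx T.D.Idx F) =
        T.D.wordMat F L := by
    intro L
    induction L with
    | nil => rfl
    | cons e L ih => rw [List.map_cons, List.prod_cons, Units.val_mul, ih, xg_val, wordMat_cons]
  refine Units.ext ?_
  simp only [Units.val_mul, xg_val, hp]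
  exact x_comm g hr hs h1 h2 t u

/-- If all commutator terms of `r` with roots of `S` lie in `S`, then `X_r` normalises `⟨X_s : s ∈ S⟩`. -/
theorem xg_normalizes (g : T.GoodA) {S : Set ℕ} {r : ℕ} (hr : r < T.n)
    (hS : ∀ s ∈ S, s < T.n ∧ s ≠ T.neg r ∧ (s ≠ r → ∀ c ∈ T.cTerms r s, c.1 ∈ S)) (t : F) :
    xg g.toGood r t ∈ Subgroup.normalizer (genS g.toGood F S : Set (GL T.D.Idx F)) := by
  have h : ∀ t : F, ∀ x ∈ genS g.toGood F S,
      (xg g.toGood r t)⁻¹ * x * xg g.toGood r t ∈ genS g.toGood F S := by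
    intro t x hx
    have e : genS g.toGood F S ≤
        (genS g.toGood F S).comap (MulAut.conj (xg g.toGood r t)⁻¹).toMonoidHom := by
      refine genS_le g.toGood fun s hs u => ?_
      obtain ⟨hsn, hne, hc⟩ := hS s hs
      simp only [Subgroup.mem_comap, MulEquiv.coe_toMonoidHom, MulAut.conj_apply, inv_inv]
      by_cases h1 : s = r
      · subst h1
        rw [xg_inv, xg_add, xg_add]
        exact xg_mem_genS g.toGood hs _
      rw [mul_assoc, xg_comm g hr hsn h1 hne, mul_assoc, inv_mul_cancel_left]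
      refine mul_mem (xg_mem_genS g.toGood hs u) (Subgroup.list_prod_mem _ fun y hy => ?_)
      simp only [cVal, List.map_map, List.mem_map, Function.comp_apply] at hy
      obtain ⟨c, hc', rfl⟩ := hy
      exact xg_mem_genS g.toGood (hc h1 c hc') _
    simpa using e hx
  rw [Subgroup.mem_normalizer_iff]
  intro x
  constructor
  · intro hx
    have := h (-t) x hx
    rwa [← xg_inv, inv_inv] at this
  · intro hx
    have := h t _ hx
    simpa [mul_assoc] using this

/-- `W_k`: the subgroup of the positive roots of index at least `k`. -/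
theorem xg_normalizes_Ico (g : T.GoodA) {k r : ℕ} (hk : T.N ≤ k) (hr : r < T.n) (hrN : T.N ≤ r)
    (t : F) :
    xg g.toGood r t ∈
      Subgroup.normalizer (genS g.toGood F (Set.Ico k T.n) : Set (GL T.D.Idx F)) := by
  refine xg_normalizes g hr (fun s hs => ⟨hs.2, ?_, fun _ c hc => ?_⟩) t
  · have := (neg_lt_N_iff hr).2 hrN
    have := hs.1
    omega
  · obtain ⟨h1, -, -, -, h5⟩ := cTerms_mem g.toGood hr hs.2 hc
    have := (h5 hrN (hk.trans hs.1)).2
    exact ⟨by have := hs.1; omega, h1⟩

theorem exists_split (g : T.GoodA) {k : ℕ} (hk : T.N ≤ k) {x : GL T.D.Idx F}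
    (hx : x ∈ genS g.toGood F (Set.Ico k T.n)) :
    ∃ t : F, ∃ y ∈ genS g.toGood F (Set.Ico (k + 1) T.n), x = xg g.toGood k t * y := by
  refine genS_induction g.toGood (p := fun x => ∃ t : F,
    ∃ y ∈ genS g.toGood F (Set.Ico (k + 1) T.n), x = xg g.toGood k t * y)
    ⟨0, 1, one_mem _, by simp⟩ ?_ hx
  rintro r hr u _ ⟨t, y, hy, rfl⟩
  rcases eq_or_lt_of_le hr.1 with rfl | hlt
  · exact ⟨u + t, y, hy, by rw [← mul_assoc, xg_add]⟩
  · refine ⟨t, (xg g.toGood k t)⁻¹ * xg g.toGood r u * xg g.toGood k t * y, mul_mem ?_ hy, by group⟩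
    have h' := xg_normalizes_Ico g (k := k + 1) (r := k) (by omega) (by have := hr.2; omega) hk t
    have := (Subgroup.mem_normalizer_iff.1 (inv_mem h') (xg g.toGood r u)).1
      (xg_mem_genS g.toGood (S := Set.Ico (k + 1) T.n) (r := r) ⟨hlt, hr.2⟩ u)
    simpa using this

/-- the coefficient of `x_k` is seen in the torus part of the image of `e_{-k}` -/
theorem lowest_coeff (g : T.Good) {k : ℕ} (hk : T.N ≤ k) (hkn : k < T.n) {t : F}
    (hx : xg g k t ∈ genS g F (Set.Ico (k + 1) T.n)) : t = 0 := by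
  have hn := n_def (T := T)
  have hl := g.rank_eq
  let P : (T.D.Idx → F) → Prop := fun v => ∀ a, T.code a < T.l + T.N → v a = 0
  have hP : ∀ r, T.N ≤ r → r < T.n → ∀ (u : F) (v : T.D.Idx → F), P v → P (T.D.x F r u *ᵥ v) := by
    intro r hrN hr u v hv a ha
    rw [Matrix.mulVec, dotProduct]
    refine Finset.sum_eq_zero fun c _ => ?_
    by_cases hc : T.code c < T.l + T.N
    · rw [hv c hc, mul_zero]
    · rw [(xg_UT g hr u).1 hrN a c, Matrix.one_apply_ne, zero_mul]
      · intro e; subst e; omega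
      · rcases a with ⟨i, hi⟩ | ⟨i, hi⟩ <;> rcases c with ⟨j, hj⟩ | ⟨j, hj⟩ <;>
          simp only [code, rho] at * <;> (try split_ifs) <;> omega
  let e : T.D.Idx → F := bas T F (T.l + T.neg k)
  have hfix : ∀ x ∈ genS g F (Set.Ico (k + 1) T.n),
      P ((x : Matrix T.D.Idx T.D.Idx F) *ᵥ e - e) := by
    intro x hx
    refine genS_induction g (p := fun x : GL T.D.Idx F => P ((x : Matrix T.D.Idx T.D.Idx F) *ᵥ e - e))
      (by intro a _; simp) ?_ hx
    intro r hr u y hy
    have hr1 : k < r := hr.1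
    have hrN : T.N ≤ r := by omega
    have h1 : P (T.D.x F r u *ᵥ e - e) := by
      have hne1 : T.neg k ≠ r := by have := (neg_lt_N_iff hkn).2 hk; omega
      have hne2 : T.neg k ≠ T.neg r := fun he => by
        have := congrArg T.neg he; rw [neg_neg hkn, neg_neg hr.2] at this; omega
      intro a ha
      simp only [e, col_other g hr.2 (neg_lt hkn) hne1 hne2, add_sub_cancel_left]
      rw [list_sum_apply]
      refine List.sum_eq_zero fun z hz => ?_
      simp only [List.mem_map] at hz
      obtain ⟨q, hq, rfl⟩ := hz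
      have hne : T.ch r (T.neg k) ≠ [] := fun e' => by simp [e'] at hq
      have hq' : (q.1, q.2 + 1) ∈ (T.ch r (T.neg k)).zipIdx 1 := by
        rw [List.mk_mem_zipIdx_iff_le_and_getElem?_sub]
        exact ⟨by omega, by rw [Nat.add_sub_cancel]; exact (List.mk_mem_zipIdx_iff_getElem?).1 hq⟩
      obtain ⟨-, -, -, -, h5, -⟩ := chainOK_spec r _ 1 _ (g.chain' hr.2 (neg_lt hkn) hne).2.2.1 _ hq'
      have := (h5 hrN).2.2 ((neg_lt_N_iff hkn).2 hk) (by rw [neg_neg hkn]; omega)
      dsimp only at this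
      simp [bas_ne (show T.code a ≠ T.l + q.1.1 by omega)]
    intro a ha
    rw [Units.val_mul, xg_val, ← mulVec_mulVec,
      show (y : Matrix T.D.Idx T.D.Idx F) *ᵥ e =
        ((y : Matrix T.D.Idx T.D.Idx F) *ᵥ e - e) + e by simp, mulVec_add, add_sub_assoc,
      Pi.add_apply, hP r hrN hr.2 u _ hy a ha, h1 a ha, add_zero]
  obtain ⟨j, hj, hc⟩ := g.exists_c_ne_zero hkn F
  obtain ⟨a, rfl⟩ := exists_code g (show j < T.l + T.n by omega)
  have h := hfix _ hx a (by omega)
  simp only [e, xg_val, col_neg g hkn, Pi.sub_apply, Pi.add_apply, Pi.smul_apply, Finset.sum_apply,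
    bas, show T.code a ≠ T.l + T.neg k by omega, show T.code a ≠ T.l + k by omega, if_false,
    smul_eq_mul, mul_ite, mul_one, mul_zero, Finset.sum_ite_eq, Finset.mem_range.2 hj, if_true,
    sub_zero, zero_add] at h
  exact (mul_eq_zero.1 h).resolve_right hc

/-- ordered product of positive root elements of index `≥ k` -/
noncomputable def ordProd (g : T.Good) (k : ℕ) (t : ℕ → F) : GL T.D.Idx F :=
  ((List.range' k (T.n - k)).map fun r => xg g r (t r)).prod

theorem ordProd_step (g : T.Good) {k : ℕ} (hk : k < T.n) (t : ℕ → F) :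
    ordProd g k t = xg g k (t k) * ordProd g (k + 1) t := by
  rw [ordProd, ordProd, show T.n - k = (T.n - (k + 1)) + 1 by omega, List.range'_succ,
    List.map_cons, List.prod_cons]

theorem ordProd_end (g : T.Good) {k : ℕ} (hk : T.n ≤ k) (t : ℕ → F) : ordProd g k t = 1 := by
  simp [ordProd, Nat.sub_eq_zero_of_le hk]

theorem ordProd_mem (g : T.Good) (k : ℕ) (t : ℕ → F) :
    ordProd g k t ∈ genS g F (Set.Ico k T.n) := by
  refine Subgroup.list_prod_mem _ fun y hy => ?_
  obtain ⟨r, hr, rfl⟩ := List.mem_map.1 hy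
  rw [List.mem_range'_1] at hr
  exact xg_mem_genS g (S := Set.Ico k T.n) (r := r) ⟨hr.1, by omega⟩ _

theorem ordProd_congr (g : T.Good) {k : ℕ} {t u : ℕ → F} (h : ∀ r, k ≤ r → r < T.n → t r = u r) :
    ordProd g k t = ordProd g k u := by
  refine congrArg List.prod (List.map_congr_left fun r hr => ?_)
  rw [List.mem_range'_1] at hr
  rw [h r hr.1 (by omega)]

theorem ordProd_spec (g : T.GoodA) : ∀ m k, T.N ≤ k → T.n ≤ k + m →
    (∀ x ∈ genS g.toGood F (Set.Ico k T.n), ∃ t : ℕ → F, x = ordProd g.toGood k t) ∧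
    (∀ t u : ℕ → F, ordProd g.toGood k t = ordProd g.toGood k u →
      ∀ r, k ≤ r → r < T.n → t r = u r)
  | 0, k, _, hle => by
    refine ⟨fun x hx => ⟨0, ?_⟩, fun t u _ r h1 h2 => absurd h2 (by omega)⟩
    rw [ordProd_end g.toGood (by omega)]
    exact genS_induction g.toGood (p := fun x => x = 1) rfl
      (fun r hr => absurd hr.2 (by have := hr.1; omega)) hx
  | m + 1, k, hk, hle => by
    obtain ⟨ihe, ihu⟩ := ordProd_spec g m (k + 1) (by omega) (by omega)
    by_cases hkn : k < T.n
    swap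
    · exact ordProd_spec g m k hk (by omega)
    refine ⟨fun x hx => ?_, fun t u h r h1 h2 => ?_⟩
    · obtain ⟨a, y, hy, rfl⟩ := exists_split g hk hx
      obtain ⟨t, rfl⟩ := ihe y hy
      refine ⟨Function.update t k a, ?_⟩
      rw [ordProd_step g.toGood hkn, Function.update_self,
        ordProd_congr g.toGood (k := k + 1) (t := Function.update t k a) (u := t)
          fun r h1 h2 => Function.update_of_ne (by omega) _ _]
    · rw [ordProd_step g.toGood hkn, ordProd_step g.toGood hkn] at h
      have h' : xg g.toGood k (-u k + t k) =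
          ordProd g.toGood (k + 1) u * (ordProd g.toGood (k + 1) t)⁻¹ := by
        rw [← xg_add, ← xg_inv, eq_mul_inv_iff_mul_eq, mul_assoc, h, inv_mul_cancel_left]
      have h0 := lowest_coeff g.toGood hk hkn (t := -u k + t k)
        (h' ▸ mul_mem (ordProd_mem _ _ _) (inv_mem (ordProd_mem _ _ _)))
      have htu : t k = u k := by linear_combination h0
      rcases eq_or_lt_of_le h1 with rfl | hlt
      · exact htu
      · rw [htu] at h
        exact ihu t u (mul_left_cancel h) r hlt h2

/-! ### `H` normalises root groups -/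

theorem tor_normalizes (g : T.Good) {S : Set ℕ} (hS : ∀ r ∈ S, r < T.n) (c : ℕ → Fˣ) :
    tor T F c ∈ Subgroup.normalizer (genS g F S : Set (GL T.D.Idx F)) := by
  have h : ∀ c : ℕ → Fˣ, ∀ x ∈ genS g F S, tor T F c * x * (tor T F c)⁻¹ ∈ genS g F S := by
    intro c x hx
    have e : genS g F S ≤ (genS g F S).comap (MulAut.conj (tor T F c)).toMonoidHom := by
      refine genS_le g fun s hs u => ?_
      simp only [Subgroup.mem_comap, MulEquiv.coe_toMonoidHom, MulAut.conj_apply,
        tor_xg g c (hS s hs)]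
      exact xg_mem_genS g hs _
    simpa using e hx
  rw [Subgroup.mem_normalizer_iff]
  refine fun x => ⟨h c x, fun hx => ?_⟩
  have := h c⁻¹ _ hx
  simpa [map_inv, mul_assoc] using this

theorem mem_borel_iff (g : T.Good) {x : GL T.D.Idx F} :
    x ∈ T.D.borelSubgroup F ↔
      ∃ u ∈ genS g F (Set.Ico T.N T.n), ∃ c : ℕ → Fˣ, x = u * tor T F c := by
  have hle : T.D.diagonalSubgroup F ≤
      Subgroup.normalizer (T.D.posUnipotent F : Set (GL T.D.Idx F)) := by
    rw [diagonalSubgroup_eq g, posUnipotent_eq g]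
    rintro y ⟨c, rfl⟩
    exact tor_normalizes g (fun r hr => hr.2) c
  rw [ChevalleyDatum.borelSubgroup, ← SetLike.mem_coe,
    Subgroup.coe_mul_of_right_le_normalizer_left _ _ hle, Set.mem_mul, diagonalSubgroup_eq g,
    posUnipotent_eq g]
  constructor
  · rintro ⟨u, hu, _, ⟨c, rfl⟩, rfl⟩
    exact ⟨u, hu, c, rfl⟩
  · rintro ⟨u, hu, c, rfl⟩
    exact ⟨u, hu, _, ⟨c, rfl⟩, rfl⟩

theorem tor_apply_ne (c : ℕ → Fˣ) {a b : T.D.Idx} (h : a ≠ b) :
    (tor T F c : Matrix T.D.Idx T.D.Idx F) a b = 0 := by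
  rw [tor_apply, dg_val, Matrix.diagonal_apply_ne _ h]

theorem borel_upper (g : T.Good) {x : GL T.D.Idx F} (hx : x ∈ T.D.borelSubgroup F) {a b : T.D.Idx}
    (h : T.rho a < T.rho b) : (x : Matrix T.D.Idx T.D.Idx F) a b = 0 := by
  obtain ⟨u, hu, c, rfl⟩ := (mem_borel_iff g).1 hx
  rw [Units.val_mul, Matrix.mul_apply]
  refine Finset.sum_eq_zero fun d _ => ?_
  by_cases hd : d = b
  · subst hd
    rw [pos_UT g hu a d h.le, Matrix.one_apply_ne, zero_mul]
    intro e; subst e; omega
  · rw [tor_apply_ne c hd, mul_zero]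

theorem pos_inf_torus (g : T.Good) {x : GL T.D.Idx F} (hx : x ∈ genS g F (Set.Ico T.N T.n))
    (hx' : x ∈ T.D.diagonalSubgroup F) : x = 1 := by
  rw [diagonalSubgroup_eq g] at hx'
  obtain ⟨c, rfl⟩ := hx'
  refine Units.ext ?_
  rw [Units.val_one]
  exact eq_one_of_UT_of_tri g (pos_UT g hx) fun a b h =>
    tor_apply_ne c (fun e => by subst e; omega)

theorem borel_inf_neg (g : T.Good) {x : GL T.D.Idx F} (hx : x ∈ T.D.borelSubgroup F)
    (hx' : x ∈ genS g F (Set.Iio T.N)) : x = 1 := by
  refine Units.ext ?_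
  rw [Units.val_one]
  ext a b
  rcases lt_or_ge (T.rho a) (T.rho b) with h | h
  · rw [borel_upper g hx h, Matrix.one_apply_ne]
    intro e; subst e; omega
  · exact neg_UT g hx' a b (by simpa using h)

end Tab

end Cfsg.Agent.Chev
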