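import Cfsg.Agent.Lib.Lie.RootGenerate
import Cfsg.Agent.Lib.Lie.ChevUnip
import Cfsg.Agent.Lib.Lie.ChevTorus

/-! Two generators of a tabulated Chevalley group: certificates and their soundness. -/

set_option autoImplicit false
set_option maxRecDepth 8000

namespace Cfsg.Agent.Chev

open Cfsg.Lie

/-- one step of a derivation of root subgroups inside a subgroup -/
inductive GStep where
  /-- conjugate a known root by the Weyl word -/
  | conj (s : ℕ)
  /-- the term at `k` of the commutator of the known roots `r`, `s` -/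
  | comm (r s k : ℕ)
  /-- the one new root `k` in the conjugate of the known root `s` by the element of order three -/
  | zstep (s k : ℕ)

namespace Tab

/-- membership in a list of roots -/
def memR (K : List ℕ) (x : ℕ) : Bool := K.any (Nat.beq x)

/-- the root added by a step -/
def stepRoot (T : Tab) (W : List ℕ) : GStep → ℕ
  | .conj s => T.rw' W s
  | .comm _ _ k => k
  | .zstep _ k => k

/-- validity of a step -/
def stepOK (T : Tab) (good : List ℕ) (zi : ℕ) (K : List ℕ) : GStep → Bool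
  | .conj s => memR K s
  | .comm r s k => memR K r && memR K s && !Nat.beq s r && !Nat.beq s (T.neg r) &&
      (T.cTerms r s).any fun c => Nat.beq c.1 k && good.any (Nat.beq c.2.1.natAbs) &&
        (Nat.beq c.2.2.1 1 || Nat.beq c.2.2.2 1) &&
        ((T.cTerms r s).erase c).all fun d => memR K d.1
  | .zstep s k => Nat.blt zi T.l && memR K s &&
      (!Nat.beq (T.ref zi s) (T.smp zi) && !Nat.beq (T.ref zi s) (T.neg (T.smp zi))) &&
      ((Nat.beq (T.ref zi s) k &&
          (T.cTerms (T.smp zi) (T.ref zi s)).all fun d => memR K d.1) ||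
        (memR K (T.ref zi s) && (T.cTerms (T.smp zi) (T.ref zi s)).any fun c => Nat.beq c.1 k &&
          good.any (Nat.beq c.2.1.natAbs) &&
          ((T.cTerms (T.smp zi) (T.ref zi s)).erase c).all fun d => memR K d.1))

/-- the steps lead from `K` to every fundamental root and its negative -/
def checkDer (T : Tab) (W : List ℕ) (good : List ℕ) (zi : ℕ) : List GStep → List ℕ → Bool
  | [], K => allBelow (fun i => memR K (T.smp i) && memR K (T.neg (T.smp i))) T.l
  | st :: rest, K => T.stepOK good zi K st && checkDer T W good zi rest (T.stepRoot W st :: K)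

/-- all letters of a word are indices of fundamental roots -/
def checkWd (T : Tab) (W : List ℕ) : Bool := W.all fun i => Nat.blt i T.l

/-- exponent of a root under the torus element with exponents `v` -/
def eVal (T : Tab) (v : List ℤ) (s : ℕ) : ℤ := sumBelow (fun j => T.A j s * v.getD j 0) T.l

/-- the torus element with exponents `v`, times a commuting root element, and a root element times
a monomial element -/
def checkTorusGen (T : Tab) (W : List ℕ) (v : List ℤ) (S : ℕ) : Bool :=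
  T.checkWd W && Nat.blt S T.n && Nat.beq (T.eVal v S).natAbs 1 &&
    Nat.beq (T.eVal v (T.rw' W.reverse S)).natAbs 1

/-- the second root is centralised and some conjugate has exponent `±k` -/
def checkExtraRoot (T : Tab) (W : List ℕ) (v : List ℤ) (L m k : ℕ) : Bool :=
  Nat.blt L T.n && T.eVal v L == 0 &&
    Nat.beq (T.eVal v (T.rw' (List.replicate m W).flatten L)).natAbs k

/-- the hypothesis on the element of order three -/
def checkZ (T : Tab) (zi L : ℕ) : Bool :=
  Nat.blt zi T.l && Nat.blt L T.n && Nat.beq (T.ref zi L) L && !Nat.beq (T.smp zi) L &&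
    !Nat.beq (T.smp zi) (T.neg L) && (T.cTerms L (T.smp zi)).isEmpty &&
    Nat.beq (T.ref zi (T.smp zi)) (T.neg (T.smp zi))

variable {T : Tab} {F : Type*} [Field F]

theorem memR_iff {K : List ℕ} {x : ℕ} : memR K x = true ↔ x ∈ K := by
  simp [memR, List.any_eq_true, nat_beq]

theorem checkWd_iff {W : List ℕ} : T.checkWd W = true ↔ T.Wd W := by
  simp [checkWd, Wd, List.all_eq_true, nat_blt]

theorem eta_cast_ne_zero (i s : ℕ) : (T.eta i s : F) ≠ 0 := by
  rcases T.eta_cases i s with h | h <;> simp [h]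

/-- the roots whose whole root subgroup lies in `M` -/
def FullIn (g : T.Good) (M : Subgroup (GL T.D.Idx F)) (s : ℕ) : Prop :=
  s < T.n ∧ ∀ t : F, xg g s t ∈ M

theorem full_conj (g : T.Good) {M : Subgroup (GL T.D.Idx F)} {W : List ℕ} (hW : T.Wd W)
    (hn : nWd g F W ∈ M) {s : ℕ} (h : FullIn g M s) : FullIn g M (T.rw' W s) := by
  refine ⟨rw'_lt g hW h.1, fun t => ?_⟩
  obtain ⟨ε, hε, hconj⟩ := nWd_conj (F := F) g hW h.1
  have := mul_mem (mul_mem hn (h.2 ((ε : F) * t))) (inv_mem hn)
  rwa [(hconj _).1, ← mul_assoc, ← Units.val_mul, hε, Units.val_one, one_mul] at this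

theorem extract_mem {G : Type*} [Group G] {α : Type*} [BEq α] [LawfulBEq α] {M : Subgroup G}
    (f : α → G) {L : List α} {c : α} (hc : c ∈ L) (hall : ∀ d ∈ L.erase c, f d ∈ M)
    (hprod : (L.map f).prod ∈ M) : f c ∈ M := by
  obtain ⟨A, B, -, hL, herase⟩ := List.exists_erase_eq hc
  rw [herase] at hall
  have hAB : ∀ L' : List α, (∀ d ∈ L', d ∈ A ++ B) → (L'.map f).prod ∈ M := fun L' h => by
    refine Subgroup.list_prod_mem _ fun y hy => ?_
    obtain ⟨d, hd, rfl⟩ := List.mem_map.1 hy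
    exact hall d (h d hd)
  rw [hL, List.map_append, List.map_cons, List.prod_append, List.prod_cons] at hprod
  exact (M.mul_mem_cancel_right (hAB B fun d hd => List.mem_append_right A hd)).1
    ((M.mul_mem_cancel_left (hAB A fun d hd => List.mem_append_left B hd)).1 hprod)

theorem step_sound (g : T.GoodA) {M : Subgroup (GL T.D.Idx F)} {W : List ℕ} (hW : T.Wd W)
    (hn : nWd g.toGood F W ∈ M) {good : List ℕ} (hgood : ∀ k ∈ good, (k : F) ≠ 0) {zi : ℕ}
    (hz : zi < T.l → (∀ x : F, x = 0 ∨ x = 1) ∧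
      xg g.toGood (T.smp zi) (1 : F) * nG g.toGood F zi ∈ M)
    {K : List ℕ} (hK : ∀ s ∈ K, FullIn g.toGood M s) {st : GStep}
    (h : T.stepOK good zi K st = true) : FullIn g.toGood M (T.stepRoot W st) := by
  have hg := g.toGood
  have hcoef : ∀ c : ℕ × ℤ × ℕ × ℕ, good.any (Nat.beq c.2.1.natAbs) = true →
      (c.2.1 : F) ≠ 0 := by
    intro c hc
    obtain ⟨k, hk, hkc⟩ := List.any_eq_true.1 hc
    rw [nat_beq] at hkc
    rcases Int.natAbs_eq c.2.1 with he | he <;> rw [he, hkc] <;> simp [hgood k hk]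
  cases st with
  | conj s => exact full_conj hg hW hn (hK s (memR_iff.1 h))
  | comm r s k =>
    simp only [stepOK, Bool.and_eq_true, Bool.or_eq_true, Bool.not_eq_true', List.any_eq_true,
      List.all_eq_true, memR_iff, nat_beq_false, nat_beq] at h
    obtain ⟨⟨⟨⟨hr, hs⟩, hne⟩, hne'⟩, c, hc, ⟨⟨rfl, hgc⟩, hij⟩, hall⟩ := h
    obtain ⟨hr', hrM⟩ := hK r hr
    obtain ⟨hs', hsM⟩ := hK s hs
    have hC0 := hcoef c (by simpa [List.any_eq_true, nat_beq] using hgc)
    refine ⟨(cTerms_mem hg hr' hs' hc).1, fun z => ?_⟩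
    obtain ⟨t, u, htu⟩ : ∃ t u : F, (c.2.1 : F) * (-t) ^ c.2.2.1 * u ^ c.2.2.2 = z := by
      rcases hij with h | h
      · exact ⟨-(z / (c.2.1 : F)), 1, by
          rw [h, one_pow, _root_.neg_neg, pow_one, mul_one]; field_simp⟩
      · exact ⟨-1, z / (c.2.1 : F), by
          rw [h, _root_.neg_neg, one_pow, mul_one, pow_one]; field_simp⟩
    let f : ℕ × ℤ × ℕ × ℕ → GL T.D.Idx F :=
      fun d => xg hg d.1 ((d.2.1 : F) * (-t) ^ d.2.2.1 * u ^ d.2.2.2)
    have hprod : ((T.cTerms r s).map f).prod ∈ M := by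
      have hxc := xg_comm g hr' hs' hne hne' t u
      rw [show ((T.cTerms r s).map f).prod =
        (xg hg r t * xg hg s u)⁻¹ * (xg hg s u * xg hg r t) by
          rw [hxc, cVal, List.map_map]; simp only [f, Function.comp_def]; group]
      exact mul_mem (inv_mem (mul_mem (hrM _) (hsM _))) (mul_mem (hsM _) (hrM _))
    have := extract_mem f hc (fun d hd => (hK d.1 (hall d hd)).2 _) hprod
    simpa [f, htu, stepRoot] using this
  | zstep s k =>
    simp only [stepOK, Bool.and_eq_true, Bool.or_eq_true, Bool.not_eq_true', List.any_eq_true,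
      List.all_eq_true, memR_iff, nat_beq_false, nat_beq, nat_blt] at h
    obtain ⟨⟨⟨hi, hs⟩, hne, hne'⟩, hcase⟩ := h
    obtain ⟨hF, hzM⟩ := hz hi
    obtain ⟨hs', hsM⟩ := hK s hs
    have hone : ∀ x : F, x ≠ 0 → x = 1 := fun x hx => (hF x).resolve_left hx
    have hm : T.ref zi s < T.n := hg.ref_lt hi hs'
    have hp : T.smp zi < T.n := hg.smp_lt hi
    have hfull : ∀ {k : ℕ} {v : F}, v ≠ 0 → xg hg k v ∈ M → ∀ z : F, xg hg k z ∈ M := by
      intro k v hv h z
      rcases hF z with rfl | rfl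
      · have h0 : xg hg k (0 : F) = xg hg k (v + -v) := by rw [add_neg_cancel]
        rw [h0, ← xg_add, ← xg_inv]
        exact mul_mem h (inv_mem h)
      · rwa [hone v hv] at h
    let f : ℕ × ℤ × ℕ × ℕ → GL T.D.Idx F := fun d =>
      xg hg d.1 ((d.2.1 : F) * (-(-1 : F)) ^ d.2.2.1 * (T.eta zi s : F) ^ d.2.2.2)
    have hprod : xg hg (T.ref zi s) (T.eta zi s : F) *
        ((T.cTerms (T.smp zi) (T.ref zi s)).map f).prod ∈ M := by
      have hxc := xg_comm g hp hm hne hne' (-1 : F) (T.eta zi s : F)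
      rw [cVal, List.map_map] at hxc
      have hc := nG_conj hg hi hs' (1 : F)
      rw [mul_one] at hc
      have hmem := mul_mem (mul_mem hzM (hsM 1)) (inv_mem hzM)
      rw [mul_inv_rev, xg_inv, show xg hg (T.smp zi) (1 : F) * nG hg F zi * xg hg s (1 : F) *
        ((nG hg F zi)⁻¹ * xg hg (T.smp zi) (-1 : F)) =
          xg hg (T.smp zi) (1 : F) * (nG hg F zi * xg hg s (1 : F) * (nG hg F zi)⁻¹) *
            xg hg (T.smp zi) (-1 : F) by group, hc, mul_assoc, hxc, ← mul_assoc, ← mul_assoc,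
        show xg hg (T.smp zi) (1 : F) = (xg hg (T.smp zi) (-1 : F))⁻¹ by
          rw [xg_inv, _root_.neg_neg], inv_mul_cancel, one_mul] at hmem
      simpa [f, Function.comp_def] using hmem
    rcases hcase with ⟨rfl, hall⟩ | ⟨hmK, c, hc, ⟨rfl, hgc⟩, hall⟩
    · refine ⟨hm, hfull (eta_cast_ne_zero (T := T) zi s) ?_⟩
      refine (M.mul_mem_cancel_right (Subgroup.list_prod_mem _ fun y hy => ?_)).1 hprod
      obtain ⟨d, hd, rfl⟩ := List.mem_map.1 hy
      exact (hK d.1 (hall d hd)).2 _
    · have hC0 := hcoef c (by simpa [List.any_eq_true, nat_beq] using hgc)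
      refine ⟨(cTerms_mem hg hp hm hc).1, hfull
        (v := (c.2.1 : F) * (-(-1 : F)) ^ c.2.2.1 * (T.eta zi s : F) ^ c.2.2.2) ?_ ?_⟩
      · simp [hC0, eta_cast_ne_zero]
      · exact extract_mem f hc (fun d hd => (hK d.1 (hall d hd)).2 _)
          ((M.mul_mem_cancel_left ((hK _ hmK).2 _)).1 hprod)

theorem group_le_of_der (g : T.GoodA) {M : Subgroup (GL T.D.Idx F)} {W : List ℕ} (hW : T.Wd W)
    (hn : nWd g.toGood F W ∈ M) {good : List ℕ} (hgood : ∀ k ∈ good, (k : F) ≠ 0) {zi : ℕ}
    (hz : zi < T.l → (∀ x : F, x = 0 ∨ x = 1) ∧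
      xg g.toGood (T.smp zi) (1 : F) * nG g.toGood F zi ∈ M) :
    ∀ (steps : List GStep) (K : List ℕ), (∀ s ∈ K, FullIn g.toGood M s) →
      T.checkDer W good zi steps K = true → T.D.group F ≤ M
  | [], K, hK, h => by
    have h' := allBelow_eq_true.1 h
    simp only [Bool.and_eq_true, memR_iff] at h'
    exact group_le_of_simple g.toGood (fun i hi => (hK _ (h' i hi).1).2) fun i hi =>
      mul_mem (mul_mem ((hK _ (h' i hi).1).2 _) ((hK _ (h' i hi).2).2 _)) ((hK _ (h' i hi).1).2 _)
  | st :: rest, K, hK, h => by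
    simp only [checkDer, Bool.and_eq_true] at h
    refine group_le_of_der g hW hn hgood hz rest _ (fun s hs => ?_) h.2
    rcases List.mem_cons.1 hs with rfl | hs
    exacts [step_sound g hW hn hgood hz hK h.1, hK s hs]

/-- a root subgroup is full as soon as one non-trivial element and enough scalings lie in `M` -/
theorem full_of_scaling (g : T.Good) [Finite F] {M : Subgroup (GL T.D.Idx F)} (c : ℕ → Fˣ)
    (hc : tor T F c ∈ M) {θ : Fˣ} (hθ : ∀ x : Fˣ, x ∈ Subgroup.zpowers θ) {e : ℤ} {s : ℕ}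
    (hs : s < T.n) (hwt : wt T F c s = θ ^ e)
    (hsurj : Function.Surjective fun x : F => x ^ e.natAbs)
    {d : F} (hd : d ≠ 0) (hxd : xg g s d ∈ M) : FullIn g M s := by
  refine ⟨hs, fun t => ?_⟩
  by_cases ht : t = 0
  · have h0 : xg g s t = xg g s (d + -d) := by rw [add_neg_cancel, ht]
    rw [h0, ← xg_add, ← xg_inv]
    exact mul_mem hxd (inv_mem hxd)
  obtain ⟨y, hy⟩ := hsurj (t / d)
  change y ^ e.natAbs = t / d at hy
  by_cases he0 : e.natAbs = 0
  · rw [he0, pow_zero] at hy
    rwa [(div_eq_one_iff_eq hd).1 hy.symm]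
  have hy0 : y ≠ 0 := by
    rintro rfl
    rw [zero_pow he0, eq_comm, div_eq_zero_iff] at hy
    tauto
  obtain ⟨i, hi⟩ := Subgroup.mem_zpowers_iff.1 (hθ (Units.mk0 y hy0))
  obtain ⟨j, hj⟩ : ∃ j : ℤ, ((wt T F c s ^ j : Fˣ) : F) = t / d := by
    rcases Int.natAbs_eq e with he | he
    · refine ⟨i, ?_⟩
      rw [hwt, he, ← _root_.zpow_mul, mul_comm, _root_.zpow_mul, hi, zpow_natCast]
      simpa using hy
    · refine ⟨-i, ?_⟩
      rw [hwt, he, ← _root_.zpow_mul, neg_mul_neg, mul_comm, _root_.zpow_mul, hi, zpow_natCast]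
      simpa using hy
  have hwj : wt T F (c ^ j) s = wt T F c s ^ j := by
    rw [wt, wt, ← Finset.prod_zpow]
    exact Finset.prod_congr rfl fun k _ => by
      rw [Pi.pow_apply, ← _root_.zpow_mul, ← _root_.zpow_mul, mul_comm]
  have h1 := mul_mem (mul_mem (zpow_mem hc j) hxd) (inv_mem (zpow_mem hc j))
  rw [← map_zpow, tor_xg g _ hs d, hwj, hj, div_mul_cancel₀ t hd] at h1
  exact h1

theorem tor_comm_root (g : T.Good) (c : ℕ → Fˣ) {W : List ℕ} (hW : T.Wd W) {S : ℕ} (hS : S < T.n)
    {M : Subgroup (GL T.D.Idx F)} (hc : tor T F c ∈ M)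
    (hb : xg g S (1 : F) * nWd g F W ∈ M) :
    xg g S ((1 - (wt T F c (T.rw' W.reverse S) : F)) * (1 - (wt T F c S : F))) ∈ M := by
  set h := tor T F c
  set nn := nWd g F W
  set l : F := (wt T F c (T.rw' W.reverse S) : F)
  obtain ⟨d, hd⟩ := wSub_conj_torus g (nWd_mem_wSub g hW) c
  have hS' := rw'_lt g hW.reverse hS
  have hrev : T.rw' W (T.rw' W.reverse S) = S := by
    have := rw'_rev g hW.reverse hS
    rwa [List.reverse_reverse] at this
  obtain ⟨ε, hε, hconj⟩ := nWd_conj (F := F) g hW hS'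
  have hεF : (ε : F) * ε = 1 := by rw [← Units.val_mul, hε, Units.val_one]
  have hlam : ∀ t : F, tor T F d * xg g S t * (tor T F d)⁻¹ = xg g S (l * t) := by
    intro t
    have h1 : nn⁻¹ * xg g S t * nn = xg g (T.rw' W.reverse S) ((ε : F) * t) := by
      rw [show nn⁻¹ * xg g S t * nn = nn⁻¹ * (nn * xg g (T.rw' W.reverse S) ((ε : F) * t) * nn⁻¹) * nn
        by rw [(hconj _).1, hrev, ← mul_assoc, hεF, one_mul]]
      group
    rw [← hd, show nn * h * nn⁻¹ * xg g S t * (nn * h * nn⁻¹)⁻¹ =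
      nn * (h * (nn⁻¹ * xg g S t * nn) * h⁻¹) * nn⁻¹ by group, h1, tor_xg g c hS', (hconj _).1, hrev]
    congr 1
    linear_combination (l * t) * hεF
  have hx : xg g S (1 : F) * tor T F d * (xg g S (1 : F))⁻¹ =
      xg g S (1 - l) * tor T F d := by
    rw [xg_inv, show xg g S (1 : F) * tor T F d * xg g S (-1 : F) =
      xg g S (1 : F) * (tor T F d * xg g S (-1 : F) * (tor T F d)⁻¹) * tor T F d by group, hlam,
      xg_add]
    congr 2
    ring
  have hmem : xg g S (1 - l) * tor T F d ∈ M := by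
    rw [← hx, ← hd, show xg g S (1 : F) * (nn * h * nn⁻¹) * (xg g S (1 : F))⁻¹ =
      xg g S (1 : F) * nn * h * (xg g S (1 : F) * nn)⁻¹ by group]
    exact mul_mem (mul_mem hb hc) (inv_mem hb)
  have hcomm : tor T F d * h * (tor T F d)⁻¹ = h := by
    rw [← map_mul, mul_comm d c, map_mul, mul_inv_cancel_right]
  have := mul_mem (mul_mem (mul_mem hmem hc) (inv_mem hmem)) (inv_mem hc)
  rw [show xg g S (1 - l) * tor T F d * h * (xg g S (1 - l) * tor T F d)⁻¹ * h⁻¹ =
      xg g S (1 - l) * (tor T F d * h * (tor T F d)⁻¹) * (xg g S (1 - l))⁻¹ * h⁻¹ by group, hcomm,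
    xg_inv, show xg g S (1 - l) * h * xg g S (-(1 - l)) * h⁻¹ =
      xg g S (1 - l) * (h * xg g S (-(1 - l)) * h⁻¹) by group, tor_xg g c hS, xg_add] at this
  convert this using 2
  ring

/-- the group is generated by two elements -/
def IsTwoGen (T : Tab) (F : Type*) [Field F] : Prop :=
  ∃ a b : GL T.D.Idx F, a ∈ T.D.group F ∧ b ∈ T.D.group F ∧
    T.D.group F ≤ Subgroup.closure {a, b}

theorem nWd_mem_group (g : T.Good) (W : List ℕ) : nWd g F W ∈ T.D.group F := by
  induction W with
  | nil => simp [nWd]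
  | cons i W ih => rw [nWd_cons]; exact mul_mem (nG_mem_group g i) ih

theorem nWd_replicate (g : T.Good) (W : List ℕ) (m : ℕ) :
    nWd g F (List.replicate m W).flatten = nWd g F W ^ m := by
  induction m with
  | zero => simp [nWd]
  | succ m ih => rw [List.replicate_succ, List.flatten_cons, nWd_append, ih, pow_succ']

theorem wd_replicate {W : List ℕ} (hW : T.Wd W) (m : ℕ) : T.Wd (List.replicate m W).flatten := by
  intro i hi
  obtain ⟨l, hl, hil⟩ := List.mem_flatten.1 hi
  rw [List.eq_of_mem_replicate hl] at hil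
  exact hW i hil

theorem xg_pow (g : T.Good) (r : ℕ) (t : F) (n : ℕ) : xg g r t ^ n = xg g r ((n : F) * t) := by
  induction n with
  | zero => rw [pow_zero, Nat.cast_zero, zero_mul, xg_zero]
  | succ n ih => rw [pow_succ, ih, xg_add, Nat.cast_succ, add_mul, one_mul]

theorem wt_zpow_eVal (θ : Fˣ) (v : List ℤ) (s : ℕ) :
    wt T F (fun j => θ ^ v.getD j 0) s = θ ^ T.eVal v s := by
  rw [wt, eVal, sumBelow_eq_sum, ← prod_zpow_sum]
  exact Finset.prod_congr rfl fun j _ => by rw [← _root_.zpow_mul, mul_comm]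

section generation

variable [Finite F] {θ : Fˣ}

theorem torus_start (g : T.GoodA) (hθ : ∀ x : Fˣ, x ∈ Subgroup.zpowers θ) (hθ1 : θ ≠ 1)
    {W : List ℕ} {v : List ℤ} {S : ℕ} (h : T.checkTorusGen W v S = true)
    {M : Subgroup (GL T.D.Idx F)} (hc : tor T F (fun j => θ ^ v.getD j 0) ∈ M)
    (hb : xg g.toGood S (1 : F) * nWd g.toGood F W ∈ M) :
    T.Wd W ∧ FullIn g.toGood M S ∧ nWd g.toGood F W ∈ M := by
  simp only [checkTorusGen, Bool.and_eq_true, checkWd_iff, nat_blt, nat_beq] at h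
  obtain ⟨⟨⟨hW, hS⟩, he⟩, he'⟩ := h
  have hne : ∀ e : ℤ, e.natAbs = 1 → ((θ ^ e : Fˣ) : F) ≠ 1 := by
    intro e he h
    rw [← Units.val_one, Units.val_inj] at h
    rcases Int.natAbs_eq e with h' | h' <;> rw [he] at h' <;> subst h' <;> simp at h <;>
      exact hθ1 h
  have hd := tor_comm_root g.toGood _ hW hS hc hb
  rw [wt_zpow_eVal, wt_zpow_eVal] at hd
  have hfull : FullIn g.toGood M S :=
    full_of_scaling g.toGood _ hc hθ hS (wt_zpow_eVal θ v S)
      (fun y => ⟨y, by simp [he]⟩)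
      (mul_ne_zero (sub_ne_zero.2 (hne _ he').symm) (sub_ne_zero.2 (hne _ he).symm)) hd
  refine ⟨hW, hfull, ?_⟩
  have := mul_mem (inv_mem (hfull.2 1)) hb
  rwa [inv_mul_cancel_left] at this

theorem isTwoGen_torus (g : T.GoodA) (hθ : ∀ x : Fˣ, x ∈ Subgroup.zpowers θ) (hθ1 : θ ≠ 1)
    {W : List ℕ} {v : List ℤ} {S : ℕ} (h : T.checkTorusGen W v S = true) {good : List ℕ}
    (hgood : ∀ k ∈ good, (k : F) ≠ 0) {steps : List GStep}
    (hder : T.checkDer W good T.l steps [S] = true) : T.IsTwoGen F := by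
  refine ⟨tor T F fun j => θ ^ v.getD j 0, xg g.toGood S (1 : F) * nWd g.toGood F W,
    tor_mem_group g.toGood _, mul_mem (xg_mem_group g.toGood _ _) (nWd_mem_group g.toGood W), ?_⟩
  set M := Subgroup.closure ({tor T F fun j => θ ^ v.getD j 0,
    xg g.toGood S (1 : F) * nWd g.toGood F W} : Set (GL T.D.Idx F))
  obtain ⟨hW, hfull, hn⟩ := torus_start g hθ hθ1 h (M := M) (Subgroup.subset_closure (Or.inl rfl))
    (Subgroup.subset_closure (Or.inr rfl))
  exact group_le_of_der g hW hn hgood (fun h => absurd h (lt_irrefl _)) steps [S]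
    (fun s hs => by rw [List.mem_singleton.1 hs]; exact hfull) hder

theorem isTwoGen_torus_root (g : T.GoodA) (hθ : ∀ x : Fˣ, x ∈ Subgroup.zpowers θ) (hθ1 : θ ≠ 1)
    {W : List ℕ} {v : List ℤ} {S L m k : ℕ} (h : T.checkTorusGen W v S = true)
    (hL : T.checkExtraRoot W v L m k = true) (hk : Function.Surjective fun x : F => x ^ k)
    {good : List ℕ} (hgood : ∀ k ∈ good, (k : F) ≠ 0) {steps : List GStep}
    (hder : T.checkDer W good T.l steps [S, T.rw' (List.replicate m W).flatten L] = true) :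
    T.IsTwoGen F := by
  classical
  haveI := Fintype.ofFinite F
  have hg := g.toGood
  simp only [checkExtraRoot, Bool.and_eq_true, nat_blt, nat_beq, beq_iff_eq] at hL
  obtain ⟨⟨hLn, hLe⟩, hkm⟩ := hL
  let c : ℕ → Fˣ := fun j => θ ^ v.getD j 0
  refine ⟨tor T F c * xg hg L (1 : F), xg hg S (1 : F) * nWd hg F W,
    mul_mem (tor_mem_group hg _) (xg_mem_group hg _ _),
    mul_mem (xg_mem_group hg _ _) (nWd_mem_group hg W), ?_⟩
  set M := Subgroup.closure ({tor T F c * xg hg L (1 : F), xg hg S (1 : F) * nWd hg F W} :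
    Set (GL T.D.Idx F))
  have ha : tor T F c * xg hg L (1 : F) ∈ M := Subgroup.subset_closure (by simp)
  have hwtL : wt T F c L = 1 := by rw [wt_zpow_eVal, hLe, _root_.zpow_zero]
  have hcom : Commute (tor T F c) (xg hg L (1 : F)) := by
    have := tor_xg hg c hLn (1 : F)
    rw [hwtL, Units.val_one, one_mul, mul_inv_eq_iff_eq_mul] at this
    exact this
  have hc1 : c ^ Fintype.card Fˣ = 1 := funext fun j => by simp [pow_card_eq_one]
  have hxL : xg hg L (1 : F) ∈ M := by
    have h := pow_mem ha (Fintype.card Fˣ)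
    rw [hcom.mul_pow, ← map_pow, hc1, map_one, one_mul, xg_pow, mul_one, Fintype.card_units,
      Nat.cast_sub Fintype.card_pos, FiniteField.cast_card_eq_zero, Nat.cast_one, zero_sub] at h
    rw [show (1 : F) = - -1 by rw [_root_.neg_neg], ← xg_inv]
    exact inv_mem h
  have hc : tor T F c ∈ M := by
    have := mul_mem ha (inv_mem hxL)
    rwa [mul_inv_cancel_right] at this
  obtain ⟨hW, hfull, hn⟩ := torus_start g hθ hθ1 h hc (Subgroup.subset_closure (by simp))
  have hW' := wd_replicate hW m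
  obtain ⟨ε, -, hconj⟩ := nWd_conj (F := F) hg hW' hLn
  have hnm : nWd hg F (List.replicate m W).flatten ∈ M := by
    rw [nWd_replicate]; exact pow_mem hn m
  have hmem := mul_mem (mul_mem hnm hxL) (inv_mem hnm)
  rw [(hconj 1).1] at hmem
  have hfull' : FullIn hg M (T.rw' (List.replicate m W).flatten L) :=
    full_of_scaling hg c hc hθ (rw'_lt hg hW' hLn) (wt_zpow_eVal θ v _)
      (by rw [hkm]; exact hk) (by simp) hmem
  refine group_le_of_der g hW hn hgood (fun h => absurd h (lt_irrefl _)) steps _ (fun s hs => ?_)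
    hder
  simp only [List.mem_cons, List.not_mem_nil, or_false] at hs
  rcases hs with rfl | rfl
  exacts [hfull, hfull']

end generation

section twoElements

variable (hF : ∀ x : F, x = 0 ∨ x = 1)

include hF

theorem fullIn_two (g : T.Good) {M : Subgroup (GL T.D.Idx F)} {s : ℕ} (hs : s < T.n)
    (h : xg g s (1 : F) ∈ M) : FullIn g M s :=
  ⟨hs, fun t => by rcases hF t with rfl | rfl <;> [(rw [xg_zero]; exact one_mem M); exact h]⟩

theorem isTwoGen_two (g : T.GoodA) {W : List ℕ} (hW : T.checkWd W = true) {S : ℕ} (hS : S < T.n)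
    {steps : List GStep} (hder : T.checkDer W [1] T.l steps [S] = true) : T.IsTwoGen F := by
  refine ⟨xg g.toGood S (1 : F), nWd g.toGood F W, xg_mem_group g.toGood _ _,
    nWd_mem_group g.toGood W, ?_⟩
  exact group_le_of_der g (checkWd_iff.1 hW) (Subgroup.subset_closure (by simp)) (by simp)
    (fun h => absurd h (lt_irrefl _)) steps [S]
    (fun s hs => by
      rw [List.mem_singleton.1 hs]
      exact fullIn_two hF g.toGood hS (Subgroup.subset_closure (by simp))) hder

theorem isTwoGen_three (g : T.GoodA) {W : List ℕ} (hW : T.checkWd W = true) {zi L : ℕ}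
    (hz : T.checkZ zi L = true) {steps : List GStep}
    (hder : T.checkDer W [1] zi steps [L] = true) : T.IsTwoGen F := by
  have hg := g.toGood
  simp only [checkZ, Bool.and_eq_true, Bool.not_eq_true', nat_blt, nat_beq, nat_beq_false,
    List.isEmpty_iff] at hz
  obtain ⟨⟨⟨⟨⟨⟨hi, hL⟩, href⟩, hne⟩, hne'⟩, hct⟩, hrp⟩ := hz
  have hone : ∀ x : F, x ≠ 0 → x = 1 := fun x hx => (hF x).resolve_left hx
  have hneg : (-1 : F) = 1 := hone _ (neg_ne_zero.2 one_ne_zero)
  have heta : ∀ i s, (T.eta i s : F) = 1 := fun i s => hone _ (eta_cast_ne_zero (T := T) i s)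
  set p := T.smp zi
  set x := xg hg p (1 : F)
  set n := nG hg F zi
  set xL := xg hg L (1 : F)
  have hp : p < T.n := hg.smp_lt hi
  have hu : ∀ u : Fˣ, u = 1 := fun u => Units.ext (hone _ u.ne_zero)
  have hn2 : n * n = 1 := by rw [nG_sq hg hi, hu (-1), hS_one]
  have hnL : n * xL = xL * n := by
    have := nG_conj hg hi hL (1 : F)
    rw [href, heta, one_mul, mul_inv_eq_iff_eq_mul] at this
    exact this
  have hxx : xL * x = x * xL := by
    have := xg_comm g hL hp hne hne' (1 : F) (1 : F)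
    simp only [cVal, hct, List.map_nil, List.prod_nil, mul_one] at this
    exact this.symm
  have hcom : Commute xL (x * n) := by
    rw [Commute, SemiconjBy, ← mul_assoc, hxx, mul_assoc, ← hnL, mul_assoc]
  have hxinv : ∀ r : ℕ, xg hg r (1 : F) * xg hg r (1 : F) = 1 := fun r => by
    rw [xg_add, show (1 : F) + 1 = 0 by rw [← add_neg_cancel (1 : F), hneg], xg_zero]
  have hz3 : (x * n) ^ 3 = 1 := by
    have hc := nG_conj hg hi hp (1 : F)
    rw [hrp, heta, one_mul, show n⁻¹ = n from inv_eq_of_mul_eq_one_right hn2] at hc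
    have hdef : n = x * xg hg (T.neg p) (1 : F) * x := by
      show nG hg F zi = _
      rw [nG, hneg]
    calc (x * n) ^ 3 = x * (n * x * n) * x * n := by rw [pow_succ, pow_two]; group
      _ = x * xg hg (T.neg p) (1 : F) * x * n := by rw [hc]
      _ = n * n := by rw [← hdef]
      _ = 1 := hn2
  refine ⟨xL * (x * n), nWd hg F W, mul_mem (xg_mem_group hg _ _)
    (mul_mem (xg_mem_group hg _ _) (nG_mem_group hg zi)), nWd_mem_group hg W, ?_⟩
  set M := Subgroup.closure ({xL * (x * n), nWd hg F W} : Set (GL T.D.Idx F))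
  have ha : xL * (x * n) ∈ M := Subgroup.subset_closure (by simp)
  have hxL : xL ∈ M := by
    have h := pow_mem ha 3
    rw [hcom.mul_pow, hz3, mul_one, pow_succ, pow_two, hxinv, one_mul] at h
    exact h
  have hzM : x * n ∈ M := by
    have := mul_mem (inv_mem hxL) ha
    rwa [inv_mul_cancel_left] at this
  exact group_le_of_der g (checkWd_iff.1 hW) (Subgroup.subset_closure (by simp)) (by simp)
    (fun _ => ⟨hF, hzM⟩) steps [L]
    (fun s hs => by rw [List.mem_singleton.1 hs]; exact fullIn_two hF hg hL hxL) hder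

end twoElements

theorem exists_two_generators_of_isTwoGen (h : T.IsTwoGen F) :
    ∃ a b : ↥(T.D.group F), Subgroup.closure ({a, b} : Set ↥(T.D.group F)) = ⊤ := by
  obtain ⟨a, b, ha, hb, hle⟩ := h
  refine ⟨⟨a, ha⟩, ⟨b, hb⟩, Subgroup.map_injective (T.D.group F).subtype_injective ?_⟩
  rw [MonoidHom.map_closure, ← MonoidHom.range_eq_map, Subgroup.range_subtype, Set.image_pair]
  exact le_antisymm ((Subgroup.closure_le _).2 (by simp [Set.insert_subset_iff, ha, hb])) hle

end Tab

end Cfsg.Agent.Chev
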