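import Cfsg.Agent.Lib.Lie.ChevTwoGenData

/-! Two generation of the seven tabulated Chevalley groups. -/

set_option autoImplicit false
set_option maxRecDepth 8000

namespace Cfsg.Agent.Chev

open Cfsg.Lie Tab TwoGenCert

variable {F : Type*} [Field F]

theorem exists_large_or_two (F : Type*) [Field F] [Finite F] :
    (∃ θ : Fˣ, (∀ x : Fˣ, x ∈ Subgroup.zpowers θ) ∧ θ ≠ 1) ∨ ∀ x : F, x = 0 ∨ x = 1 := by
  obtain ⟨θ, hθ⟩ := IsCyclic.exists_generator (α := Fˣ)
  by_cases h : θ = 1
  · refine Or.inr fun x => or_iff_not_imp_left.2 fun hx => ?_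
    have := hθ (Units.mk0 x hx)
    rw [h, Subgroup.zpowers_one_eq_bot, Subgroup.mem_bot] at this
    exact congrArg Units.val this
  · exact Or.inl ⟨θ, hθ, h⟩

theorem surjective_pow_one : Function.Surjective fun x : F => x ^ 1 := fun y => ⟨y, pow_one y⟩

theorem surjective_pow_of_cast_eq_zero [Finite F] {p : ℕ} (hp : p.Prime) (h : (p : F) = 0) :
    Function.Surjective fun x : F => x ^ p := by
  haveI := Fact.mk hp
  haveI : CharP F p := (CharP.charP_iff_prime_eq_zero hp).2 h
  exact Finite.injective_iff_surjective.1 (frobenius_inj F p)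

theorem isTwoGen_G2 [Finite F] (hF : ∃ x : F, x ≠ 0 ∧ x ≠ 1) : G2Data.tab.IsTwoGen F := by
  have g : G2Data.tab.GoodA := ⟨G2Data.good, by decide +kernel⟩
  rcases exists_large_or_two F with ⟨θ, hθ, hθ1⟩ | h2
  · by_cases h3 : (3 : F) = 0
    · exact isTwoGen_torus_root g hθ hθ1 (W := [0, 1]) (v := [1, 0]) (S := 3) (L := 0) (m := 1)
        (k := 3) (good := [1]) (steps := g2RootSteps) (by decide +kernel) (by decide +kernel)
        (surjective_pow_of_cast_eq_zero Nat.prime_three (by exact_mod_cast h3)) (by simp)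
        (by decide +kernel)
    · exact isTwoGen_torus g hθ hθ1 (W := [0, 1]) (v := [1, 0]) (S := 3) (good := [1, 3])
        (steps := g2ShortSteps) (by decide +kernel) (by simp [h3]) (by decide +kernel)
  · obtain ⟨x, hx⟩ := hF
    exact absurd (h2 x) (by tauto)

theorem isTwoGen_B2 [Finite F] (hF : ∃ x : F, x ≠ 0 ∧ x ≠ 1) : B2Data.tab.IsTwoGen F := by
  have g : B2Data.tab.GoodA := ⟨B2Data.good, by decide +kernel⟩
  rcases exists_large_or_two F with ⟨θ, hθ, hθ1⟩ | h2
  · by_cases h3 : (2 : F) = 0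
    · exact isTwoGen_torus_root g hθ hθ1 (W := [0, 1]) (v := [0, 1]) (S := 1) (L := 0) (m := 1)
        (k := 2) (good := [1]) (steps := b2RootSteps) (by decide +kernel) (by decide +kernel)
        (surjective_pow_of_cast_eq_zero Nat.prime_two (by exact_mod_cast h3)) (by simp)
        (by decide +kernel)
    · exact isTwoGen_torus g hθ hθ1 (W := [0, 1]) (v := [0, 1]) (S := 1) (good := [1, 2])
        (steps := b2ShortSteps) (by decide +kernel) (by simp [h3]) (by decide +kernel)
  · obtain ⟨x, hx⟩ := hF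
    exact absurd (h2 x) (by tauto)

theorem isTwoGen_D4 [Finite F] : D4Data.tab.IsTwoGen F := by
  have g : D4Data.tab.GoodA := ⟨D4Data.good, by decide +kernel⟩
  rcases exists_large_or_two F with ⟨θ, hθ, hθ1⟩ | h2
  · exact isTwoGen_torus_root g hθ hθ1 (W := [0, 1, 2, 3]) (v := [1, 0, 0, 0]) (S := 1) (L := 10)
      (m := 1) (k := 1) (good := [1]) (steps := d4RootSteps) (by decide +kernel)
      (by decide +kernel) surjective_pow_one (by simp) (by decide +kernel)
  · exact isTwoGen_three h2 g (W := [0, 1, 2, 3]) (by decide +kernel) (zi := 0) (L := 10)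
      (steps := d4TwoSteps) (by decide +kernel) (by decide +kernel)

theorem isTwoGen_F4 [Finite F] : F4Data.tab.IsTwoGen F := by
  have g : F4Data.tab.GoodA := ⟨F4Data.good, by decide +kernel⟩
  rcases exists_large_or_two F with ⟨θ, hθ, hθ1⟩ | h2
  · exact isTwoGen_torus_root g hθ hθ1 (W := [0, 1, 2, 3]) (v := [0, 0, 1, 0]) (S := 9) (L := 0)
      (m := 1) (k := 1) (good := [1]) (steps := f4RootSteps) (by decide +kernel)
      (by decide +kernel) surjective_pow_one (by simp) (by decide +kernel)
  · exact isTwoGen_three h2 g (W := [0, 1, 2, 3]) (by decide +kernel) (zi := 0) (L := 0)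
      (steps := f4TwoSteps) (by decide +kernel) (by decide +kernel)

theorem isTwoGen_E6 [Finite F] : E6Data.tab.IsTwoGen F := by
  have g : E6Data.tab.GoodA := ⟨E6Data.good, by decide +kernel⟩
  rcases exists_large_or_two F with ⟨θ, hθ, hθ1⟩ | h2
  · exact isTwoGen_torus_root g hθ hθ1 (W := [0, 1, 2, 3, 4, 5]) (v := [1, 0, 0, 0, 0, 0])
      (S := 5) (L := 0) (m := 2) (k := 1) (good := [1]) (steps := e6RootSteps) (by decide +kernel)
      (by decide +kernel) surjective_pow_one (by simp) (by decide +kernel)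
  · exact isTwoGen_two h2 g (W := [0, 1, 2, 3, 4, 5]) (by decide +kernel) (S := 2)
      (by decide +kernel) (steps := e6TwoSteps) (by decide +kernel)

theorem isTwoGen_E7 [Finite F] : E7Data.tab.IsTwoGen F := by
  have g : E7Data.tab.GoodA := ⟨E7Data.good, by decide +kernel⟩
  rcases exists_large_or_two F with ⟨θ, hθ, hθ1⟩ | h2
  · exact isTwoGen_torus_root g hθ hθ1 (W := [0, 1, 2, 3, 4, 5, 6]) (v := [1, 0, 0, 0, 0, 0, 0])
      (S := 18) (L := 2) (m := 2) (k := 1) (good := [1]) (steps := e7RootSteps)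
      (by decide +kernel) (by decide +kernel) surjective_pow_one (by simp) (by decide +kernel)
  · exact isTwoGen_two h2 g (W := [0, 1, 2, 3, 4, 5, 6]) (by decide +kernel) (S := 3)
      (by decide +kernel) (steps := e7TwoSteps) (by decide +kernel)

theorem isTwoGen_E8 [Finite F] : E8Data.tab.IsTwoGen F := by
  have g : E8Data.tab.GoodA := ⟨E8Data.good, by decide +kernel⟩
  rcases exists_large_or_two F with ⟨θ, hθ, hθ1⟩ | h2
  · exact isTwoGen_torus_root g hθ hθ1 (W := [0, 1, 2, 3, 4, 5, 6, 7])
      (v := [1, 0, 0, 0, 0, 0, 0, 0]) (S := 6) (L := 0) (m := 1) (k := 1) (good := [1])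
      (steps := e8RootSteps) (by decide +kernel) (by decide +kernel) surjective_pow_one (by simp)
      (by decide +kernel)
  · exact isTwoGen_two h2 g (W := [0, 1, 2, 3, 4, 5, 6, 7]) (by decide +kernel) (S := 0)
      (by decide +kernel) (steps := e8TwoSteps) (by decide +kernel)

/-- two generation for every member of the list -/
theorem exists_two_generators_chev [Finite F] {D : ChevalleyDatum}
    (hD : D ∈ [chevG2, chevB2, chevD4, chevF4, chevE6, chevE7, chevE8])
    (hF : D ∈ [chevB2, chevG2] → ∃ x : F, x ≠ 0 ∧ x ≠ 1) :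
    ∃ a b : ↥(D.group F), Subgroup.closure ({a, b} : Set ↥(D.group F)) = ⊤ := by
  simp only [List.mem_cons, List.not_mem_nil, or_false] at hD
  rcases hD with rfl | rfl | rfl | rfl | rfl | rfl | rfl
  exacts [exists_two_generators_of_isTwoGen (isTwoGen_G2 (hF (by simp))),
    exists_two_generators_of_isTwoGen (isTwoGen_B2 (hF (by simp))),
    exists_two_generators_of_isTwoGen isTwoGen_D4, exists_two_generators_of_isTwoGen isTwoGen_F4,
    exists_two_generators_of_isTwoGen isTwoGen_E6, exists_two_generators_of_isTwoGen isTwoGen_E7,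
    exists_two_generators_of_isTwoGen isTwoGen_E8]

end Cfsg.Agent.Chev
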