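/-
The Chevalley group of type D4 as a projective orthogonal group.
-/
import Cfsg.Agent.Lib.Lie.NatRep
import Cfsg.Agent.Lib.Lie.TabD4
import Cfsg.Agent.Lib.Orthogonal.Counts

set_option autoImplicit false
set_option maxRecDepth 8000

namespace Cfsg.Agent.Chev.D4Data

open Cfsg.Lie QuadraticMap
open Cfsg.Agent.Orth (qPlus)

/-- frame roots -/
def nat : Tab.NatData where
  m := 4
  core := false
  u r := [1, 1, 1, 1, 1, 1, 3, 3, 3, 3, 5, 5, 4, 4, 2, 2, 2, 2, 0, 0, 0, 0, 0, 0].getD r 0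
  w r := [3, 5, 6, 7, 4, 2, 5, 6, 7, 4, 6, 7, 6, 7, 5, 6, 7, 4, 3, 5, 6, 7, 4, 2].getD r 0
  ε r := [-1, 1, -1, -1, -1, -1, 1, -1, -1, -1, -1, -1, 1, 1, 1, 1, 1, -1, 1, 1, 1, 1, -1, 1].getD r 1

variable (F : Type*) [Field F]

/-- the frame `e₀, f₀, …, e₃, f₃, 0` -/
def frame8 (a : ℕ) : Fin 4 ⊕ Fin 4 → F :=
  match a with
  | 0 => Pi.single (.inl 0) 1
  | 1 => Pi.single (.inr 0) 1
  | 2 => Pi.single (.inl 1) 1
  | 3 => Pi.single (.inr 1) 1
  | 4 => Pi.single (.inl 2) 1
  | 5 => Pi.single (.inr 2) 1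
  | 6 => Pi.single (.inl 3) 1
  | 7 => Pi.single (.inr 3) 1
  | _ => 0

theorem polar_plus (x y : Fin 4 ⊕ Fin 4 → F) :
    polar (qPlus F 4) x y = ∑ i, (x (.inl i) * y (.inr i) + y (.inl i) * x (.inr i)) := by
  simp only [polar, Orth.coe_qPlus, Cfsg.quadFormPlus, Pi.add_apply, ← Finset.sum_sub_distrib]
  exact Finset.sum_congr rfl fun i _ => by ring

theorem isFrame : Orth.Frame (qPlus F 4) 4 (frame8 F) where
  two := by norm_num
  sing a ha := by
    interval_cases a <;> simp [Orth.coe_qPlus, Cfsg.quadFormPlus, frame8, Fin.sum_univ_four]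
  pol a ha b hb := by
    interval_cases a <;> interval_cases b <;>
      simp [QuadraticMap.polar, Orth.coe_qPlus, Cfsg.quadFormPlus, frame8, Fin.sum_univ_four, Orth.par,
        Pi.single_apply]
  core x hx := by
    refine ⟨0, ?_⟩
    rw [zero_smul]
    funext s
    have hl : ∀ a, a < 2 * 4 → polar (qPlus F 4) x (frame8 F a) = 0 := hx
    rcases s with i | i <;> fin_cases i
    · simpa [polar_plus, frame8, Fin.sum_univ_four] using hl 1 (by norm_num)
    · simpa [polar_plus, frame8, Fin.sum_univ_four] using hl 3 (by norm_num)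
    · simpa [polar_plus, frame8, Fin.sum_univ_four] using hl 5 (by norm_num)
    · simpa [polar_plus, frame8, Fin.sum_univ_four] using hl 7 (by norm_num)
    · simpa [polar_plus, frame8, Fin.sum_univ_four] using hl 0 (by norm_num)
    · simpa [polar_plus, frame8, Fin.sum_univ_four] using hl 2 (by norm_num)
    · simpa [polar_plus, frame8, Fin.sum_univ_four] using hl 4 (by norm_num)
    · simpa [polar_plus, frame8, Fin.sum_univ_four] using hl 6 (by norm_num)
  aniso c _ := by simp [frame8]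

theorem natSys : Tab.NatSys tab nat (qPlus F 4) (frame8 F) where
  good := good
  frame := isFrame F
  qcore := by
    show qPlus F 4 (0 : Fin 4 ⊕ Fin 4 → F) = _
    rw [map_zero]
    simp [Tab.NatData.qz, nat]
  core0 _ := rfl
  shape := by decide +kernel
  rel := by decide +kernel
  diag := by decide +kernel
  cover := by decide +kernel

/-- `D₄(F) ≅ PΩ₈⁺(F)` -/
theorem equiv_pomega : Nonempty (↥(chevD4.group F) ≃* Cfsg.POmega F (Cfsg.quadFormPlus 4 F)) := by
  have gW : tab.GoodW [[4, 4, 2, 2], [4, 8, 4, 4], [2, 4, 4, 2], [2, 4, 2, 4]]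
      [(6, 22, 0), (1, 23, 0), (3, 22, 0), (2, 22, 0)] :=
    ⟨⟨⟨good, by decide +kernel⟩, by decide +kernel⟩, by decide +kernel⟩
  have gS : tab.GoodS := ⟨⟨good, by decide +kernel⟩, by decide +kernel, by decide +kernel⟩
  have h := Tab.natRep_equiv (natSys F) gW gS (two := false) (by decide +kernel)
    (fun h => absurd h Bool.false_ne_true) (Or.inl (by decide +kernel))
    ⟨18, by decide +kernel, Tab.natEl_ne_one (natSys F) (by decide +kernel) (by decide +kernel)⟩
  have h' := Tab.pomega_equiv (qPlus F 4) h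
  rw [Orth.coe_qPlus] at h'
  exact h'

end Cfsg.Agent.Chev.D4Data
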