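import Cfsg.Agent.Lib.Lie.ChevLong

/-! The Weyl group as a group of permutations of the roots, and the homomorphism `N → W` with kernel `H`. -/

set_option autoImplicit false

namespace Cfsg.Agent.Chev

open Cfsg.Lie
open Matrix hiding zpow_mul inv_zpow mul_inv_rev zpow_add zpow_neg

namespace Tab

variable {T : Tab} {F : Type*} [Field F]

/-- The fundamental reflection as a permutation of the roots. -/
noncomputable def sP (g : T.Good) (i : ℕ) : Equiv.Perm (Fin T.n) :=
  if h : i < T.l then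
    Function.Involutive.toPerm (fun s => ⟨T.ref i s, g.ref_lt h s.isLt⟩)
      fun s => Fin.ext (g.ref_ref h s.isLt)
  else 1

theorem sP_apply (g : T.Good) {i : ℕ} (hi : i < T.l) (s : Fin T.n) :
    (sP g i s : ℕ) = T.ref i s := by
  rw [sP, dif_pos hi]; rfl

theorem sP_sq (g : T.Good) (i : ℕ) : sP g i * sP g i = 1 := by
  by_cases hi : i < T.l
  · ext s
    simp [Equiv.Perm.mul_apply, sP_apply g hi, g.ref_ref hi s.isLt]
  · simp [sP, hi]

theorem sP_inv (g : T.Good) (i : ℕ) : (sP g i)⁻¹ = sP g i := inv_eq_of_mul_eq_one_left (sP_sq g i)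

/-- The permutation attached to a word. -/
noncomputable def pL (g : T.Good) (L : List ℕ) : Equiv.Perm (Fin T.n) := (L.map (sP g)).prod

theorem pL_nil (g : T.Good) : pL g [] = 1 := rfl

theorem pL_cons (g : T.Good) (i : ℕ) (L : List ℕ) : pL g (i :: L) = sP g i * pL g L := by simp [pL]

theorem pL_append (g : T.Good) (A B : List ℕ) : pL g (A ++ B) = pL g A * pL g B := by simp [pL]

theorem pL_apply (g : T.Good) : ∀ {L : List ℕ}, T.Wd L → ∀ s : Fin T.n, (pL g L s : ℕ) = T.rw' L s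
  | [], _, s => by simp [pL]
  | i :: L, h, s => by
    obtain ⟨hi, hL⟩ := Wd.cons_iff.1 h
    rw [pL_cons, Equiv.Perm.mul_apply, sP_apply g hi, pL_apply g hL, rw'_cons]

theorem pL_eq_iff (g : T.Good) {A B : List ℕ} (hA : T.Wd A) (hB : T.Wd B) :
    pL g A = pL g B ↔ ∀ s < T.n, T.rw' A s = T.rw' B s := by
  constructor
  · intro h s hs
    have := congrArg (fun p : Equiv.Perm (Fin T.n) => (p ⟨s, hs⟩ : ℕ)) h
    simpa [pL_apply g hA, pL_apply g hB] using this
  · intro h
    ext s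
    rw [pL_apply g hA, pL_apply g hB, h s s.isLt]

theorem pL_inv (g : T.Good) (L : List ℕ) : (pL g L)⁻¹ = pL g L.reverse := by
  induction L with
  | nil => simp [pL]
  | cons i L ih =>
    rw [pL_cons, _root_.mul_inv_rev, ih, List.reverse_cons, pL_append, sP_inv]
    simp [pL]

/-- The Weyl group. -/
noncomputable def wG (g : T.Good) : Subgroup (Equiv.Perm (Fin T.n)) where
  carrier := {p | ∃ L, T.Wd L ∧ pL g L = p}
  one_mem' := ⟨[], by simp [Wd], rfl⟩
  mul_mem' := by
    rintro _ _ ⟨A, hA, rfl⟩ ⟨B, hB, rfl⟩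
    exact ⟨A ++ B, Wd.append_iff.2 ⟨hA, hB⟩, pL_append g A B⟩
  inv_mem' := by
    rintro _ ⟨A, hA, rfl⟩
    exact ⟨A.reverse, hA.reverse, (pL_inv g A).symm⟩

theorem mem_wG_iff (g : T.Good) {p : Equiv.Perm (Fin T.n)} :
    p ∈ wG g ↔ ∃ L, T.Wd L ∧ pL g L = p := Iff.rfl

/-- A word sending each fundamental root to a positive root acts trivially. -/
theorem rw'_id_of_simple (g : T.Good) {L : List ℕ} (hL : T.Wd L)
    (h : ∀ i < T.l, T.N ≤ T.rw' L (T.smp i)) : ∀ s, T.N ≤ s → s < T.n → T.N ≤ T.rw' L s := by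
  intro s
  induction s using Nat.strong_induction_on with
  | _ s ih =>
    intro hN hs
    rcases exists_descent g hs hN with ⟨i, hi, rfl⟩ | ⟨i, hi, h2, h1, m, hm, hk⟩
    · exact h i hi
    · have hu := g.ref_lt hi hs
      have ha := h i hi
      have hb := ih _ h1 h2 hu
      have hk' := chRoot_rw' g hL (g.smp_lt hi) hu m
      rw [hk, Option.map_some] at hk'
      obtain ⟨-, -, h3⟩ := chRoot_spec g (rw'_lt g hL (g.smp_lt hi)) (rw'_lt g hL hu) hm hk'
      have := (h3 ha hb).1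
      omega

/-- Words agreeing on the fundamental roots agree everywhere. -/
theorem pL_eq_of_simple (g : T.Good) {A B : List ℕ} (hA : T.Wd A) (hB : T.Wd B)
    (h : ∀ i < T.l, T.rw' A (T.smp i) = T.rw' B (T.smp i)) : pL g A = pL g B := by
  have hL : T.Wd (B.reverse ++ A) := Wd.append_iff.2 ⟨hB.reverse, hA⟩
  have hpos : ∀ i < T.l, T.N ≤ T.rw' (B.reverse ++ A) (T.smp i) := fun i hi => by
    rw [rw'_append, h i hi, rw'_rev g hB (g.smp_lt hi)]
    exact g.smp_ge hi
  have hid := (nWd_torus_of_pos (F := ℚ) g _ le_rfl hL (rw'_id_of_simple g hL hpos)).2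
  rw [pL_eq_iff g hA hB]
  intro s hs
  have := congrArg (T.rw' B) (hid s hs)
  rwa [rw'_append, rw'_rev' g hB (rw'_lt g hA hs)] at this

/-- a word representing an element of `N` -/
theorem exists_mono_word (g : T.Good) (x : ↥(T.D.monomialSubgroup F)) :
    ∃ L, T.Wd L ∧ ∃ c, (x : GL T.D.Idx F) = tor T F c * nWd g F L :=
  (mem_monomial_iff g).1 x.2

/-- the homomorphism `N → W` -/
noncomputable def toPerm (g : T.Good) : ↥(T.D.monomialSubgroup F) →* Equiv.Perm (Fin T.n) :=
  MonoidHom.mk' (fun x => pL g (exists_mono_word g x).choose) (by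
    intro x y
    obtain ⟨hA, a, ha⟩ := (exists_mono_word g x).choose_spec
    obtain ⟨hB, b, hb⟩ := (exists_mono_word g y).choose_spec
    obtain ⟨hC, c, hc⟩ := (exists_mono_word g (x * y)).choose_spec
    rw [← pL_append, pL_eq_iff g hC (Wd.append_iff.2 ⟨hA, hB⟩)]
    obtain ⟨d, hd⟩ := torus_pass g (nWd_mem_wSub (F := F) g hA) b
    intro s hs
    refine rw'_of_nWd_eq g hC (Wd.append_iff.2 ⟨hA, hB⟩) (c := c) (d := a * d) ?_ hs
    refine hc.symm.trans ((congrArg₂ (· * ·) ha hb).trans ?_)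
    rw [nWd_append, map_mul]
    simp only [mul_assoc]
    rw [← mul_assoc (nWd g F _), hd, mul_assoc])

theorem toPerm_eq (g : T.Good) {x : ↥(T.D.monomialSubgroup F)} {L : List ℕ} (hL : T.Wd L)
    {c : ℕ → Fˣ} (h : (x : GL T.D.Idx F) = tor T F c * nWd g F L) : toPerm g x = pL g L := by
  obtain ⟨hA, a, ha⟩ := (exists_mono_word g x).choose_spec
  show pL g (exists_mono_word g x).choose = pL g L
  rw [pL_eq_iff g hA hL]
  exact fun s hs => rw'_of_nWd_eq g hA hL (ha.symm.trans h) hs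

theorem toPerm_range (g : T.Good) : (toPerm g (F := F)).range = wG g := by
  ext p
  constructor
  · rintro ⟨x, rfl⟩
    exact ⟨_, (exists_mono_word g x).choose_spec.1, rfl⟩
  · rintro ⟨L, hL, rfl⟩
    exact ⟨⟨tor T F 1 * nWd g F L, (mem_monomial_iff g).2 ⟨L, hL, 1, rfl⟩⟩, toPerm_eq g hL rfl⟩

theorem toPerm_ker (g : T.Good) :
    (toPerm g (F := F)).ker = (T.D.diagonalSubgroup F).subgroupOf (T.D.monomialSubgroup F) := by
  ext x
  rw [MonoidHom.mem_ker, Subgroup.mem_subgroupOf]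
  obtain ⟨L, hL, c, hc⟩ := exists_mono_word g x
  rw [toPerm_eq g hL hc]
  constructor
  · intro h
    rw [← pL_nil g, pL_eq_iff g hL (by simp [Wd])] at h
    obtain ⟨⟨d, hd⟩, -⟩ := nWd_torus_of_pos (F := F) g _ le_rfl hL
      (fun s h1 h2 => by rw [h s h2]; exact h1)
    rw [diagonalSubgroup_eq g, hc, hd]
    exact ⟨c * d, map_mul _ _ _⟩
  · intro h
    rw [diagonalSubgroup_eq g] at h
    obtain ⟨d, hd⟩ := h
    rw [← pL_nil g, pL_eq_iff g hL (by simp [Wd])]
    exact fun s hs => rw'_of_nWd_eq g hL (by simp [Wd]) (c := c) (d := d)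
      (by rw [← hc, nWd_nil, mul_one, hd]) hs

/-- number of positive roots sent to negative ones -/
noncomputable def wInv (T : Tab) (p : Equiv.Perm (Fin T.n)) : ℕ :=
  ((Finset.univ : Finset (Fin T.n)).filter fun s : Fin T.n => T.N ≤ (s : ℕ) ∧ (p s : ℕ) < T.N).card

theorem wInv_pL (g : T.Good) {L : List ℕ} (hL : T.Wd L) :
    T.wInv (pL g L) = (T.invSet L).card := by
  refine Finset.card_bij (fun s _ => (s : ℕ)) ?_ ?_ ?_
  · intro s hs
    simp only [Finset.mem_filter, Finset.mem_univ, true_and, pL_apply g hL] at hs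
    simp [invSet, hs.1, hs.2, s.isLt]
  · exact fun a _ b _ h => Fin.ext h
  · intro b hb
    simp only [invSet, Finset.mem_filter, Finset.mem_Ico] at hb
    exact ⟨⟨b, hb.1.2⟩, by simp [pL_apply g hL, hb.1.1, hb.2], rfl⟩

end Tab

end Cfsg.Agent.Chev
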