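import Cfsg.Agent.Lib.Lie.ChevEngine

/-!
# Root elements: additivity, and conjugation by the monomial elements `n_p`

The simple cases come from the kernel checks; the general ones follow by conjugating with `n_p`.
-/

set_option autoImplicit false

namespace Cfsg.Agent.Chev

open Cfsg.Lie Matrix

namespace Tab

variable {T : Tab} {F : Type*} [Field F]

theorem eta_cases (T : Tab) (i s : ℕ) : T.eta i s = 1 ∨ T.eta i s = -1 := by
  unfold eta
  cases Nat.beq (Nat.land (field (T.refPk i) 9 s) 1) 0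
  · exact Or.inr rfl
  · exact Or.inl rfl

theorem eta_sq (T : Tab) (i s : ℕ) : ((T.eta i s : ℤ) : F) * (T.eta i s : F) = 1 := by
  rcases eta_cases T i s with h | h <;> simp [h]

theorem eta_sq_int (T : Tab) (i s : ℕ) : T.eta i s * T.eta i s = 1 := by
  rcases eta_cases T i s with h | h <;> simp [h]

theorem monVal_11 (m : Mono) : monVal (1 : Fˣ) 1 m = (m.1 : F) := by simp [monVal]

theorem col_h (g : T.Good) {r v : ℕ} (hr : r < T.n) (hv : v < T.l) (t : F) :
    T.D.x F r t *ᵥ bas T F v = bas T F v - ((T.A v r : F) * t) • bas T F (T.l + r) := by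
  rw [x_mulVec_bas g hr, xcol, nat_blt.2 hv, cond_true]
  simp [colVal, ix, sub_eq_add_neg]

theorem col_self (g : T.Good) {r : ℕ} (hr : r < T.n) (t : F) :
    T.D.x F r t *ᵥ bas T F (T.l + r) = bas T F (T.l + r) := by
  rw [x_mulVec_bas g hr, xcol, nat_blt_false.2 (Nat.le_add_right _ _), cond_false,
    show Nat.beq (T.l + r) (T.ix r) = true from nat_beq.2 rfl, cond_true]
  simp [colVal]

theorem colVal_cons (t : F) (q : ℕ × ℤ × ℕ) (L : List (ℕ × ℤ × ℕ)) :
    colVal T t (q :: L) = ((q.2.1 : F) * t ^ q.2.2) • bas T F q.1 + colVal T t L := by simp [colVal]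

theorem col_neg (g : T.Good) {r : ℕ} (hr : r < T.n) (t : F) :
    T.D.x F r t *ᵥ bas T F (T.l + T.neg r) =
      bas T F (T.l + T.neg r) - (t ^ 2) • bas T F (T.l + r) +
        t • ∑ j ∈ Finset.range T.l, (T.c r j : F) • bas T F j := by
  rw [x_mulVec_bas g hr, xcol, nat_blt_false.2 (Nat.le_add_right _ _), cond_false,
    show Nat.beq (T.l + T.neg r) (T.ix r) = false from nat_beq_false.2 (by
      show T.l + T.neg r ≠ T.l + r
      have := neg_ne hr; omega), cond_false,
    show Nat.beq (T.l + T.neg r) (T.ix (T.neg r)) = true from nat_beq.2 rfl, cond_true, colVal_cons,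
    colVal_cons, sub_eq_add_neg, add_assoc]
  congr 1
  · simp
  congr 1
  · simp [ix]
  rw [colVal, listBelow_eq, List.map_map, Finset.smul_sum]
  induction T.l with
  | zero => simp
  | succ k ih =>
    rw [Finset.sum_range_succ, List.range_succ, List.map_append, List.sum_append, ih]
    simp [smul_smul, mul_comm]

theorem col_other (g : T.Good) {r s : ℕ} (hr : r < T.n) (hs : s < T.n) (h1 : s ≠ r)
    (h2 : s ≠ T.neg r) (t : F) :
    T.D.x F r t *ᵥ bas T F (T.l + s) = bas T F (T.l + s) +
      ((T.ch r s).zipIdx.map fun q =>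
        ((q.1.2 : F) * t ^ (q.2 + 1)) • bas T F (T.l + q.1.1)).sum := by
  rw [x_mulVec_bas g hr, xcol, nat_blt_false.2 (Nat.le_add_right _ _), cond_false,
    show Nat.beq (T.l + s) (T.ix r) = false from nat_beq_false.2 (by show T.l + s ≠ T.l + r; omega),
    cond_false,
    show Nat.beq (T.l + s) (T.ix (T.neg r)) = false from
      nat_beq_false.2 (by show T.l + s ≠ T.l + T.neg r; omega), cond_false,
    show Nat.blt (T.l + s) (Nat.add T.l T.n) = true from
      nat_blt.2 (by show T.l + s < T.l + T.n; omega), cond_true, colVal_cons,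
    show Nat.sub (T.l + s) T.l = s from Nat.add_sub_cancel_left _ _]
  congr 1
  · simp
  · simp [colVal, List.map_map, Function.comp_def, ix]

/-- Cases of a column index. -/
theorem col_cases (T : Tab) {j : ℕ} (hj : j < T.l + T.n) :
    j < T.l ∨ ∃ s < T.n, j = T.l + s := by
  by_cases h : j < T.l
  · exact Or.inl h
  · exact Or.inr ⟨j - T.l, by omega, by omega⟩

theorem x_zero (g : T.Good) (r : ℕ) : T.D.x F r 0 = 1 := by
  by_cases hr : r < T.n
  swap
  · rw [ChevalleyDatum.x, dif_neg (by rw [g.nroots_eq]; exact hr)]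
  refine ext_col g fun j hj => ?_
  rw [one_mulVec]
  rcases col_cases T hj with hv | ⟨s, hs, rfl⟩
  · simp [col_h g hr hv]
  · by_cases h1 : s = r
    · rw [h1, col_self g hr]
    · by_cases h2 : s = T.neg r
      · simp [h2, col_neg g hr]
      · rw [col_other g hr hs h1 h2, add_eq_left]
        apply List.sum_eq_zero
        intro x hx
        obtain ⟨q, _, rfl⟩ := List.mem_map.1 hx
        simp

theorem x_injective (g : T.Good) {r : ℕ} (hr : r < T.n) :
    Function.Injective fun t : F => T.D.x F r t := by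
  intro t u h
  obtain ⟨j, hj, hc⟩ := g.exists_c_ne_zero hr F
  obtain ⟨i, rfl⟩ := exists_code g (show j < T.l + T.n by omega)
  have h' := congrFun (congrArg (fun M => M *ᵥ bas T F (T.l + T.neg r)) h) i
  simp only [col_neg g hr] at h'
  simp only [Pi.add_apply, Pi.sub_apply, Pi.smul_apply, Finset.sum_apply, bas, smul_eq_mul] at h'
  simp only [show T.code i ≠ T.l + T.neg r by omega, show T.code i ≠ T.l + r by omega,
    if_false, mul_ite, mul_one, mul_zero, Finset.sum_ite_eq, Finset.mem_range.2 hj, if_true,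
    sub_zero, zero_add] at h'
  exact mul_right_cancel₀ hc h'

/-- The matrix of `n_p`. -/
noncomputable def nM (T : Tab) (F : Type*) [Field F] (i : ℕ) : Matrix T.D.Idx T.D.Idx F :=
  T.D.nMat F (T.D.simple i) 1

theorem pval_singleton (τ υ : Fˣ) (m : Mono) : pval τ υ [m] = monVal τ υ m := by simp [pval]

theorem nM_sem (g : T.Good) {i : ℕ} (hi : i < T.l) {j : ℕ} (hj : j < T.l + T.n) :
    nM T F i *ᵥ bas T F j = sem T (1 : Fˣ) 1 (T.nCol i j) := by
  have h := colsEq_spec (T := T) (1 : Fˣ) 1 (allBelow_eq_true.1 g.nMon i hi) hj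
  rw [sem_wapply _ _ g, sem_one] at h
  · rw [← h]
    simp [nM, ChevalleyDatum.nMat, ChevalleyDatum.nWord, nW, g.simple_eq hi, g.neg_eq (g.smp_lt hi),
      pval_singleton, monVal_11]
  · intro e he
    simp [nW] at he
    rcases he with rfl | rfl | rfl
    exacts [g.smp_lt hi, neg_lt (g.smp_lt hi), g.smp_lt hi]

theorem n_col_h (g : T.Good) {i v : ℕ} (hi : i < T.l) (hv : v < T.l) :
    nM T F i *ᵥ bas T F v = bas T F v - (T.A v (T.smp i) : F) • bas T F i := by
  rw [nM_sem g hi (by omega), nCol, nat_blt.2 hv, cond_true]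
  simp [sem, monVal_11, sub_eq_add_neg]

theorem n_col_root (g : T.Good) {i s : ℕ} (hi : i < T.l) (hs : s < T.n) :
    nM T F i *ᵥ bas T F (T.l + s) = (T.eta i s : F) • bas T F (T.l + T.ref i s) := by
  rw [nM_sem g hi (by omega), nCol, nat_blt_false.2 (Nat.le_add_right _ _), cond_false,
    show Nat.sub (T.l + s) T.l = s from Nat.add_sub_cancel_left _ _]
  simp [sem, monVal_11, ix]

theorem c_smp (g : T.Good) {i j : ℕ} (hi : i < T.l) (hj : j < T.l) :
    T.c (T.smp i) j = if j = i then 1 else 0 := by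
  have h := ((g.refl' hi (g.smp_lt hi)).2.2.2.2.2.2.2.2 j hj).2
  rw [g.ref_smp hi, ((g.sign' (g.smp_lt hi)).1 j hj).2.2.1, (g.sign' (g.smp_lt hi)).2.1] at h
  split_ifs at h ⊢ <;> omega

theorem A_smp_self (g : T.Good) {i : ℕ} (hi : i < T.l) : T.A i (T.smp i) = 2 := by
  have h := (g.sign' (g.smp_lt hi)).2.1
  rw [Finset.sum_eq_single i] at h
  · rwa [c_smp g hi hi, if_pos rfl, one_mul] at h
  · intro j hj hne
    rw [c_smp g hi (Finset.mem_range.1 hj), if_neg hne, zero_mul]
  · exact fun h => absurd (Finset.mem_range.2 hi) h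

theorem A_ref (g : T.Good) {i j s : ℕ} (hi : i < T.l) (hj : j < T.l) (hs : s < T.n) :
    T.A j (T.ref i s) = T.A j s - T.A j (T.smp i) * T.A i s := by
  have h := ((g.refl' hi hs).2.2.2.2.2.2.2.2 j hj).1
  have h' := ((g.refl' hi hs).2.2.2.2.2.2.2.2 i hi).1
  rw [A_smp_self g hi] at h'
  have : T.A i (T.ref i s) = -T.A i s := by omega
  rw [this] at h
  linarith

theorem A_ref_self (g : T.Good) {i s : ℕ} (hi : i < T.l) (hs : s < T.n) :
    T.A i (T.ref i s) = -T.A i s := by
  rw [A_ref g hi hi hs, A_smp_self g hi]; ring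

theorem mapChain_spec (g : T.Good) {i : ℕ} (hi : i < T.l) (t : F) (er : ℤ) (her : er * er = 1) :
    ∀ (L : List (ℕ × ℤ)) (es : ℤ) (k : ℕ) (e0 : ℤ), es = e0 * er ^ k → e0 * e0 = 1 →
      (∀ q ∈ L, q.1 < T.n) →
      nM T F i *ᵥ ((L.zipIdx k).map fun q =>
          ((q.1.2 : F) * t ^ (q.2 + 1)) • bas T F (T.l + q.1.1)).sum =
        (e0 : F) • (((T.mapChain i er es L).zipIdx k).map fun q =>
          ((q.1.2 : F) * ((er : F) * t) ^ (q.2 + 1)) • bas T F (T.l + q.1.1)).sum
  | [], _, _, _, _, _, _ => by simp [mapChain]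
  | (t', M) :: L, es, k, e0, hes, he0, hL => by
    have ih := mapChain_spec g hi t er her L (er * es) (k + 1) e0 (by rw [hes, pow_succ]; ring) he0
      fun q hq => hL q (List.mem_cons_of_mem _ hq)
    simp only [mapChain, List.zipIdx_cons, List.map_cons, List.sum_cons, mulVec_add, mulVec_smul,
      n_col_root g hi (hL _ List.mem_cons_self), ih, smul_add, smul_smul]
    congr 2
    have h1 : ((er : F) * er) = 1 := by exact_mod_cast congrArg (Int.cast : ℤ → F) her
    have h2 : ((e0 : F) * e0) = 1 := by exact_mod_cast congrArg (Int.cast : ℤ → F) he0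
    push_cast [hes]
    have h3 : ((er : F) ^ (k + 1)) * (er : F) ^ (k + 1) = 1 := by rw [← mul_pow, h1, one_pow]
    rw [mul_pow]
    calc (M : F) * t ^ (k + 1) * (T.eta i t' : F)
        = (M : F) * t ^ (k + 1) * (T.eta i t' : F) * ((e0 : F) * e0) *
            ((er : F) ^ (k + 1) * (er : F) ^ (k + 1)) := by rw [h2, h3]; ring
      _ = _ := by ring

/-- `n_p x_s(t) = x_{w_p s}(η t) n_p`. -/
theorem n_conj (g : T.Good) {i s : ℕ} (hi : i < T.l) (hs : s < T.n) (t : F) :
    nM T F i * T.D.x F s t = T.D.x F (T.ref i s) ((T.eta i s : F) * t) * nM T F i := by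
  have hw := g.ref_lt hi hs
  refine ext_col g fun j hj => ?_
  rw [← mulVec_mulVec, ← mulVec_mulVec]
  rcases col_cases T hj with hv | ⟨v, hv, rfl⟩
  · rw [col_h g hs hv, mulVec_sub, mulVec_smul, n_col_h g hi hv, n_col_root g hi hs, mulVec_sub,
      mulVec_smul, col_h g hw hv, col_h g hw hi, A_ref_self g hi hs, A_ref g hi hv hs]
    push_cast
    module
  · rw [n_col_root g hi hv, mulVec_smul]
    by_cases h1 : v = s
    · subst h1
      rw [col_self g hs, col_self g hw, n_col_root g hi hs]
    by_cases h2 : v = T.neg s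
    · subst h2
      have hhr : ∑ j ∈ Finset.range T.l, (T.c s j : F) • (bas T F j - (T.A j (T.smp i) : F) • bas T F i) =
          ∑ j ∈ Finset.range T.l, (T.c (T.ref i s) j : F) • bas T F j := by
        rw [Finset.sum_congr rfl (g := fun j => (T.c (T.ref i s) j : F) • bas T F j)
          (fun j _ => rfl) (s₁ := Finset.range T.l)]
        simp only [smul_sub, smul_smul, Finset.sum_sub_distrib, ← Finset.sum_smul]
        have hall : ∀ j ∈ Finset.range T.l, (T.c (T.ref i s) j : F) • bas T F j =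
            (T.c s j : F) • bas T F j - (if j = i then
              ((∑ k ∈ Finset.range T.l, T.c s k * T.A k (T.smp i) : ℤ) : F) else 0) • bas T F j := by
          intro j hj
          rw [((g.refl' hi hs).2.2.2.2.2.2.2.2 j (Finset.mem_range.1 hj)).2]
          split_ifs <;> simp [sub_smul]
        rw [Finset.sum_congr rfl hall, Finset.sum_sub_distrib]
        congr 1
        simp [ite_smul, Finset.sum_ite_eq', hi, Finset.sum_smul]
      have hn1 : ∀ j ∈ Finset.range T.l, nM T F i *ᵥ ((T.c s j : F) • bas T F j) =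
          (T.c s j : F) • (bas T F j - (T.A j (T.smp i) : F) • bas T F i) := fun j hj => by
        rw [mulVec_smul, n_col_h g hi (Finset.mem_range.1 hj)]
      have he := eta_sq (F := F) T i s
      rw [col_neg g hs, g.ref_neg hi hs, col_neg g hw, g.eta_neg hi hs, mulVec_add, mulVec_sub,
        mulVec_smul, mulVec_smul, mulVec_sum, Finset.sum_congr rfl hn1, hhr,
        n_col_root g hi (neg_lt hs), n_col_root g hi hs, g.ref_neg hi hs, g.eta_neg hi hs]
      rw [smul_add, smul_sub, smul_smul, smul_smul]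
      congr 1
      · congr 1
        rw [mul_pow, sq (T.eta i s : F), he, one_mul, mul_comm]
      · rw [smul_smul, ← mul_assoc, he, one_mul]
    have h1' : T.ref i v ≠ T.ref i s := fun h => h1 (g.ref_inj hi hv hs h)
    have h2' : T.ref i v ≠ T.neg (T.ref i s) := by
      rw [← g.ref_neg hi hs]; exact fun h => h2 (g.ref_inj hi hv (neg_lt hs) h)
    rw [col_other g hs hv h1 h2, col_other g hw (g.ref_lt hi hv) h1' h2', mulVec_add,
      n_col_root g hi hv, smul_add]
    congr 1
    rw [g.ch_ref hi hs hv]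
    refine mapChain_spec g hi t (T.eta i s) (eta_sq_int T i s) (T.ch s v) (T.eta i v) 0 (T.eta i v)
      (by simp) (eta_sq_int T i v) fun q hq => ?_
    by_cases hne : T.ch s v = []
    · simp [hne] at hq
    · obtain ⟨k, hk, rfl⟩ := List.getElem_of_mem hq
      exact (chainOK_spec s v 1 _ (g.chain' hs hv hne).2.2.1 ((T.ch s v)[k], 1 + k)
        (by rw [List.mk_mem_zipIdx_iff_le_and_getElem?_sub]; simp [hk])).1

theorem nM_pow_four (g : T.Good) {i : ℕ} (hi : i < T.l) : nM T F i ^ 4 = 1 := by
  refine ext_col g fun j hj => ?_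
  rw [one_mulVec, show (4 : ℕ) = 1 + 1 + 1 + 1 from rfl, pow_add, pow_add, pow_add, pow_one,
    ← mulVec_mulVec, ← mulVec_mulVec, ← mulVec_mulVec]
  rcases col_cases T hj with hv | ⟨v, hv, rfl⟩
  · simp only [n_col_h g hi hv, mulVec_sub, mulVec_smul, n_col_h g hi hi, A_smp_self g hi]
    push_cast
    module
  · have hw := g.ref_lt hi hv
    simp only [n_col_root g hi hv, mulVec_smul, n_col_root g hi hw, g.ref_ref hi hv, smul_smul]
    have e1 := eta_sq (F := F) T i v
    have e2 := eta_sq (F := F) T i (T.ref i v)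
    rw [show (T.eta i v : F) * (T.eta i (T.ref i v) : F) * (T.eta i v : F) * (T.eta i (T.ref i v) : F) =
      ((T.eta i v : F) * (T.eta i v : F)) * ((T.eta i (T.ref i v) : F) * (T.eta i (T.ref i v) : F)) by ring,
      e1, e2, mul_one, one_smul]

theorem nM_isUnit (g : T.Good) {i : ℕ} (hi : i < T.l) : IsUnit (nM T F i) := by
  refine ⟨⟨nM T F i, nM T F i ^ 3, ?_, ?_⟩, rfl⟩
  · rw [← pow_succ', nM_pow_four g hi]
  · rw [← pow_succ, nM_pow_four g hi]

/-- A property of roots that holds for the simple roots and is stable under reflections holds for all. -/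
theorem root_induction (g : T.Good) {P : ℕ → Prop} (base : ∀ i < T.l, P (T.smp i))
    (step : ∀ i < T.l, ∀ s < T.n, P s → P (T.ref i s)) : ∀ s < T.n, P s := by
  have hd : ∀ s < T.n, ∃ i < T.l, s = T.smp i ∨ s = T.neg (T.smp i) ∨
      (T.N ≤ s → T.ref i s < s ∧ T.N ≤ T.ref i s) := by
    intro s hs
    have h := g.descent
    simp only [checkDescent, Bool.and_eq_true] at h
    obtain ⟨i, hi, h'⟩ := anyBelow_eq_true.1 (allBelow_eq_true.1 h.1 s hs)
    refine ⟨i, hi, ?_⟩
    simp only [Bool.or_eq_true, nat_beq] at h'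
    rcases h' with (h' | h') | h'
    · exact Or.inl h'
    · exact Or.inr (Or.inl h')
    · refine Or.inr (Or.inr fun hN => ?_)
      rw [nat_ble.2 hN, cond_true, Bool.and_eq_true, nat_blt, nat_ble] at h'
      exact h'
  have key : ∀ s, T.N ≤ s → s < T.n → P s ∧ P (T.neg s) := by
    intro s
    induction s using Nat.strong_induction_on with
    | _ s ih =>
      intro hN hs
      obtain ⟨i, hi, h⟩ := hd s hs
      rcases h with rfl | rfl | h
      · exact ⟨base i hi, g.ref_smp hi ▸ step i hi _ hs (base i hi)⟩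
      · exfalso
        have h1 := (N_le_neg_iff (g.smp_lt hi)).1 hN
        have := g.smp_ge hi
        omega
      · obtain ⟨hlt, hN'⟩ := h hN
        have hu := g.ref_lt hi hs
        obtain ⟨h1, h2⟩ := ih _ hlt hN' hu
        refine ⟨g.ref_ref hi hs ▸ step i hi _ hu h1, ?_⟩
        have h3 := step i hi _ (neg_lt hu) h2
        rwa [g.ref_neg hi hu, g.ref_ref hi hs] at h3
  intro s hs
  by_cases hN : T.N ≤ s
  · exact (key s hN hs).1
  · have := (key (T.neg s) ((N_le_neg_iff hs).2 (not_le.1 hN)) (neg_lt hs)).2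
    rwa [neg_neg hs] at this

theorem x_add_simple (g : T.Good) {i : ℕ} (hi : i < T.l) (t u : F) :
    T.D.x F (T.smp i) t * T.D.x F (T.smp i) u = T.D.x F (T.smp i) (t + u) := by
  by_cases ht : t = 0
  · simp [ht, x_zero g]
  by_cases hu : u = 0
  · simp [hu, x_zero g]
  have h := wordMat_eq_of_colsEq (Units.mk0 t ht) (Units.mk0 u hu) g
    (w := [(T.smp i, [(1, 1, 0)]), (T.smp i, [(1, 0, 1)])]) (w' := [(T.smp i, [(1, 1, 0), (1, 0, 1)])])
    (by simp [g.smp_lt hi]) (by simp [g.smp_lt hi]) (allBelow_eq_true.1 g.add i hi)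
  simpa [ChevalleyDatum.wordMat, pval, monVal] using h

/-- Root elements are additive in the parameter. -/
theorem x_add (g : T.Good) (r : ℕ) (t u : F) :
    T.D.x F r t * T.D.x F r u = T.D.x F r (t + u) := by
  by_cases hr : r < T.n
  swap
  · simp [ChevalleyDatum.x, g.nroots_eq, hr]
  revert t u
  refine root_induction g (P := fun r => ∀ t u : F,
    T.D.x F r t * T.D.x F r u = T.D.x F r (t + u)) (fun i hi => x_add_simple g hi) ?_ r hr
  intro i hi s hs ih t u
  have e := eta_sq (F := F) T i s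
  have hc : ∀ v : F, T.D.x F (T.ref i s) v * nM T F i = nM T F i * T.D.x F s ((T.eta i s : F) * v) := by
    intro v
    rw [n_conj g hi hs, ← mul_assoc, e, one_mul]
  apply (nM_isUnit (F := F) g hi).mul_right_cancel
  rw [mul_assoc, hc, ← mul_assoc, hc, mul_assoc, ih, hc, mul_add]

end Tab

end Cfsg.Agent.Chev
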