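import Cfsg.Agent.Lib.Lie.GoodA
import Cfsg.Agent.Lib.Lie.ChevConj

/-!
# Chevalley's commutator formula

The kernel checks it on representative pairs of roots; conjugation by the elements `n_p` carries it to
all pairs.
-/

set_option autoImplicit false

namespace Cfsg.Agent.Chev

open Cfsg.Lie Matrix

namespace Tab

variable {T : Tab} {F : Type*} [Field F]

/-- Roots with equal Cartan integers are equal. -/
theorem A_ext (g : T.GoodA) {s s' : ℕ} (hs : s < T.n) (hs' : s' < T.n)
    (h : ∀ j < T.l, T.A j s' = T.A j s) : s' = s := by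
  revert s' hs' h
  refine root_induction g.toGood
    (P := fun s => ∀ {s' : ℕ}, s' < T.n → (∀ j < T.l, T.A j s' = T.A j s) → s' = s) ?_ ?_ s hs
  · intro i hi s' hs' h
    have h0 := g.aSmp
    simp only [checkASmp, allBelow_eq_true, Bool.or_eq_true, nat_beq, anyBelow_eq_true,
      Bool.not_eq_true', beq_eq_false_iff_ne] at h0
    rcases h0 i hi s' hs' with h' | ⟨j, hj, hne⟩
    · exact h'
    · exact absurd (h j hj) hne
  · intro i hi s hs ih s' hs' h
    have : T.ref i s' = s := ih (g.ref_lt hi hs') fun j hj => by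
      rw [A_ref g.toGood hi hj hs', h j hj, h i hi, A_ref g.toGood hi hj hs, A_ref_self g.toGood hi hs]
      ring
    rw [← this, g.ref_ref hi hs']

theorem mapChain_getElem? (T : Tab) (i : ℕ) (er : ℤ) : ∀ (L : List (ℕ × ℤ)) (es : ℤ) (m : ℕ),
    (T.mapChain i er es L)[m]? =
      (L[m]?).map fun q => (T.ref i q.1, q.2 * er * (es * er ^ m) * T.eta i q.1)
  | [], _, _ => by simp [mapChain]
  | (t, M) :: L, es, 0 => by simp [mapChain]
  | (t, M) :: L, es, m + 1 => by
    simp only [mapChain, List.getElem?_cons_succ]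
    rw [mapChain_getElem? T i er L (er * es) m]
    rcases L[m]? with _ | q <;> simp only [Option.map_none, Option.map_some, Option.some.injEq, Prod.mk.injEq, true_and, pow_succ]
    ring

theorem chRoot_spec (g : T.Good) {r s m k : ℕ} (hr : r < T.n) (hs : s < T.n) (hm : 1 ≤ m)
    (h : T.chRoot r s m = some k) :
    k < T.n ∧ (∀ j < T.l, T.A j k = T.A j s + (m : ℤ) * T.A j r) ∧
      (T.N ≤ r → T.N ≤ s → r < k ∧ s < k) := by
  simp only [chRoot, Option.map_eq_some_iff] at h
  obtain ⟨q, hq, rfl⟩ := h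
  have hne : T.ch r s ≠ [] := fun he => by simp [he] at hq
  obtain ⟨a, -, -, b, c, -⟩ := chainOK_spec r s 1 _ (g.chain' hr hs hne).2.2.1 (q, m)
    (by rw [List.mk_mem_zipIdx_iff_le_and_getElem?_sub]; exact ⟨hm, hq⟩)
  exact ⟨a, b, fun h1 h2 => ⟨(c h1).2.1 h2, (c h1).1⟩⟩

theorem chRoot_ref (g : T.Good) {i r s : ℕ} (hi : i < T.l) (hr : r < T.n) (hs : s < T.n) (m : ℕ) :
    T.chRoot (T.ref i r) (T.ref i s) m = (T.chRoot r s m).map (T.ref i) := by
  simp only [chRoot, g.ch_ref hi hr hs, mapChain_getElem?, Option.map_map, Function.comp_def]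

theorem chM_of_none {r s m : ℕ} (h : T.chRoot r s m = none) : T.chM r s m = 0 := by
  simp only [chRoot, Option.map_eq_none_iff] at h
  simp [chM, h]

theorem chM_ref (g : T.Good) {i r s k : ℕ} (hi : i < T.l) (hr : r < T.n) (hs : s < T.n) {m : ℕ}
    (h : T.chRoot r s (m + 1) = some k) :
    T.chM (T.ref i r) (T.ref i s) (m + 1) =
      T.chM r s (m + 1) * T.eta i r ^ (m + 1) * T.eta i s * T.eta i k := by
  simp only [chRoot, Nat.add_sub_cancel, Option.map_eq_some_iff] at h
  obtain ⟨q, hq, rfl⟩ := h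
  simp only [chM, Nat.add_sub_cancel, g.ch_ref hi hr hs, mapChain_getElem?, hq, Option.map_some,
    Option.getD_some]
  ring

theorem chRoot_one_of_three {r s k : ℕ} (h : T.chRoot r s 3 = some k) :
    ∃ k1, T.chRoot r s 1 = some k1 ∧ 3 ≤ (T.ch r s).length ∧ ∃ M l, T.ch r s = (k1, M) :: l := by
  simp only [chRoot, Option.map_eq_some_iff] at h
  obtain ⟨q, hq, -⟩ := h
  obtain ⟨hlen, -⟩ := List.getElem?_eq_some_iff.1 hq
  cases hc : T.ch r s with
  | nil => simp [hc] at hlen
  | cons e l => exact ⟨e.1, by simp [chRoot, hc], by rw [hc] at hlen; simpa using hlen, e.2, l, rfl⟩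

/-- the map on commutator terms induced by a reflection -/
def mapTerm (T : Tab) (i r s : ℕ) (c : ℕ × ℤ × ℕ × ℕ) : ℕ × ℤ × ℕ × ℕ :=
  (T.ref i c.1, c.2.1 * T.eta i r ^ c.2.2.1 * T.eta i s ^ c.2.2.2 * T.eta i c.1, c.2.2)

theorem filterMap_map_of_forall₂ {α β γ : Type} {h : α → Option β} {f : β → γ} {h' : α → Option γ} :
    ∀ {L' L : List α}, List.Forall₂ (fun a' a => h' a' = (h a).map f) L' L →
      L'.filterMap h' = (L.filterMap h).map f
  | _, _, .nil => rfl
  | _, _, .cons (a := a') (b := a) e t => by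
    rcases ha : h a with _ | b <;> rw [ha] at e <;>
      simp [List.filterMap_cons, ha, e, filterMap_map_of_forall₂ t]

theorem cTerms_ref (g : T.GoodA) {i r s : ℕ} (hi : i < T.l) (hr : r < T.n) (hs : s < T.n) :
    T.cTerms (T.ref i r) (T.ref i s) = (T.cTerms r s).map (mapTerm T i r s) := by
  unfold cTerms
  refine filterMap_map_of_forall₂ ?_
  have hg := g.toGood
  have e1 := eta_sq_int T i r
  have e2 := eta_sq_int T i s
  have simpleCase : ∀ (a b m : ℕ) (sg : ℤ) (p : ℕ × ℕ), a < T.n → b < T.n →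
      (∀ k, T.eta i a ^ (m + 1) * T.eta i b * T.eta i k =
        T.eta i r ^ p.1 * T.eta i s ^ p.2 * T.eta i k) →
      (T.chRoot (T.ref i a) (T.ref i b) (m + 1)).map
        (fun k => (k, sg * T.chM (T.ref i a) (T.ref i b) (m + 1), p)) =
      ((T.chRoot a b (m + 1)).map fun k => (k, sg * T.chM a b (m + 1), p)).map (mapTerm T i r s) := by
    intro a b m sg p ha hb he
    rw [chRoot_ref hg hi ha hb]
    rcases hk : T.chRoot a b (m + 1) with _ | k
    · rfl
    · simp only [Option.map_some, mapTerm, chM_ref hg hi ha hb hk]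
      have := he k
      congr 3
      linear_combination (sg * T.chM a b (m + 1)) * this
  refine .cons ?_ (.cons ?_ (.cons ?_ (.cons ?_ (.cons ?_ (.cons ?_ (.cons ?_ .nil))))))
  · simpa using simpleCase r s 0 1 (1, 1) hr hs (by intro k; ring)
  · simpa using simpleCase r s 1 1 (2, 1) hr hs (by intro k; ring)
  · simpa using simpleCase s r 1 1 (1, 2) hs hr (by intro k; ring)
  · simpa using simpleCase r s 2 1 (3, 1) hr hs (by intro k; ring)
  · simpa using simpleCase s r 2 (-1) (1, 3) hs hr (by intro k; ring)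
  · dsimp only
    rw [chRoot_ref hg hi hr hs, chRoot_ref hg hi hr hs]
    rcases h3 : T.chRoot r s 3 with _ | k3
    · rfl
    obtain ⟨hk3, hA3, -⟩ := chRoot_spec hg hr hs (by norm_num) h3
    simp only [Option.map_some, Option.bind_some]
    rw [chRoot_ref hg hi hk3 hs]
    rcases hk : T.chRoot k3 s 1 with _ | k
    · rfl
    obtain ⟨hkn, hAk, -⟩ := chRoot_spec hg hk3 hs le_rfl hk
    obtain ⟨k1, h1, hlen, M, l, hch⟩ := chRoot_one_of_three h3
    obtain ⟨hk1, hA1, -⟩ := chRoot_spec hg hr hs le_rfl h1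
    simp only [h1, Option.map_some, Option.getD_some, mapTerm]
    congr 3
    rcases h2 : T.chRoot k1 r 2 with _ | k'
    · rw [chM_of_none h2, chM_of_none (by rw [chRoot_ref hg hi hk1 hr, h2]; rfl)]
      simp
    obtain ⟨hk', hA', -⟩ := chRoot_spec hg hk1 hr (by norm_num) h2
    have hdiv : 3 ∣ T.chM k1 r 2 :=
      ((hg.chain' hr hs (by rw [hch]; simp)).2.2.2.resolve_left (by omega)) k1 M l hch
    obtain rfl : k' = k := A_ext g hkn hk' fun j hj => by
      rw [hA' j hj, hAk j hj, hA1 j hj, hA3 j hj]; push_cast; ring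
    rw [chM_ref hg hi hk1 hr h2]
    simp only [mul_assoc]
    rw [Int.mul_ediv_assoc' _ hdiv]
    rcases eta_cases T i k1 with a | a <;> rcases eta_cases T i r with b | b <;>
      rcases eta_cases T i s with c | c <;> simp [a, b, c]
  · dsimp only
    rw [chRoot_ref hg hi hs hr, chRoot_ref hg hi hr hs]
    rcases h3 : T.chRoot s r 3 with _ | k3
    · rfl
    obtain ⟨hk3, hA3, -⟩ := chRoot_spec hg hs hr (by norm_num) h3
    simp only [Option.map_some, Option.bind_some]
    rw [chRoot_ref hg hi hk3 hr]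
    rcases hk : T.chRoot k3 r 1 with _ | k
    · rfl
    obtain ⟨hkn, hAk, -⟩ := chRoot_spec hg hk3 hr le_rfl hk
    simp only [Option.map_some, mapTerm]
    congr 3
    rcases h1 : T.chRoot r s 1 with _ | k1
    · simp
    obtain ⟨hk1, hA1, -⟩ := chRoot_spec hg hr hs le_rfl h1
    simp only [Option.map_some, Option.getD_some]
    rcases h2 : T.chRoot k1 s 2 with _ | k'
    · rw [chM_of_none h2, chM_of_none (by rw [chRoot_ref hg hi hk1 hs, h2]; rfl)]
      simp
    obtain ⟨hk', hA', -⟩ := chRoot_spec hg hk1 hs (by norm_num) h2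
    obtain ⟨k1', h1', hlen, M, l, hch⟩ := chRoot_one_of_three h3
    obtain ⟨hk1', hA1', -⟩ := chRoot_spec hg hs hr le_rfl h1'
    obtain rfl : k1' = k1 := A_ext g hk1 hk1' fun j hj => by
      rw [hA1 j hj, hA1' j hj]; push_cast; ring
    have hdiv : 3 ∣ T.chM k1' s 2 :=
      ((hg.chain' hs hr (by rw [hch]; simp)).2.2.2.resolve_left (by omega)) k1' M l hch
    obtain rfl : k' = k := A_ext g hkn hk' fun j hj => by
      rw [hA' j hj, hAk j hj, hA1 j hj, hA3 j hj]; push_cast; ring
    rw [chM_ref hg hi hk1 hs h2]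
    simp only [← mul_assoc (-2 : ℤ)]
    simp only [mul_assoc]
    rw [← mul_assoc (-2 : ℤ), Int.mul_ediv_assoc' _ (dvd_mul_of_dvd_right hdiv (-2))]
    rcases eta_cases T i k1' with a | a <;> rcases eta_cases T i r with b | b <;>
      rcases eta_cases T i s with c | c <;> simp [a, b, c]

/-- The roots occurring in the commutator formula. -/
theorem cTerms_mem (g : T.Good) {r s : ℕ} (hr : r < T.n) (hs : s < T.n) {c : ℕ × ℤ × ℕ × ℕ}
    (hc : c ∈ T.cTerms r s) :
    c.1 < T.n ∧ 1 ≤ c.2.2.1 ∧ 1 ≤ c.2.2.2 ∧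
      (∀ j < T.l, T.A j c.1 = (c.2.2.1 : ℤ) * T.A j r + (c.2.2.2 : ℤ) * T.A j s) ∧
      (T.N ≤ r → T.N ≤ s → r < c.1 ∧ s < c.1) := by
  simp only [cTerms, List.mem_filterMap, List.mem_cons, List.not_mem_nil, or_false,
    Option.map_eq_some_iff] at hc
  obtain ⟨a, ha, k, hk, rfl⟩ := hc
  rcases ha with rfl | rfl | rfl | rfl | rfl | rfl | rfl <;> dsimp only at hk ⊢
  · obtain ⟨h1, h2, h3⟩ := chRoot_spec g hr hs le_rfl hk
    exact ⟨h1, le_rfl, le_rfl, fun j hj => by rw [h2 j hj]; push_cast; ring, h3⟩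
  · obtain ⟨h1, h2, h3⟩ := chRoot_spec g hr hs (by norm_num) hk
    exact ⟨h1, by norm_num, le_rfl, fun j hj => by rw [h2 j hj]; push_cast; ring, h3⟩
  · obtain ⟨h1, h2, h3⟩ := chRoot_spec g hs hr (by norm_num) hk
    exact ⟨h1, le_rfl, by norm_num, fun j hj => by rw [h2 j hj]; push_cast; ring,
      fun a b => (h3 b a).symm⟩
  · obtain ⟨h1, h2, h3⟩ := chRoot_spec g hr hs (by norm_num) hk
    exact ⟨h1, by norm_num, le_rfl, fun j hj => by rw [h2 j hj]; push_cast; ring, h3⟩
  · obtain ⟨h1, h2, h3⟩ := chRoot_spec g hs hr (by norm_num) hk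
    exact ⟨h1, le_rfl, by norm_num, fun j hj => by rw [h2 j hj]; push_cast; ring,
      fun a b => (h3 b a).symm⟩
  · obtain ⟨k3, h3', hk'⟩ := Option.bind_eq_some_iff.1 hk
    obtain ⟨h1, h2, h3⟩ := chRoot_spec g hr hs (by norm_num) h3'
    obtain ⟨q1, q2, q3⟩ := chRoot_spec g h1 hs le_rfl hk'
    refine ⟨q1, by norm_num, by norm_num,
      fun j hj => by rw [q2 j hj, h2 j hj]; push_cast; ring, fun a b => ?_⟩
    obtain ⟨u1, u2⟩ := h3 a b
    obtain ⟨v1, v2⟩ := q3 (by omega) b
    omega
  · obtain ⟨k3, h3', hk'⟩ := Option.bind_eq_some_iff.1 hk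
    obtain ⟨h1, h2, h3⟩ := chRoot_spec g hs hr (by norm_num) h3'
    obtain ⟨q1, q2, q3⟩ := chRoot_spec g h1 hr le_rfl hk'
    refine ⟨q1, by norm_num, by norm_num,
      fun j hj => by rw [q2 j hj, h2 j hj]; push_cast; ring, fun a b => ?_⟩
    obtain ⟨u1, u2⟩ := h3 b a
    obtain ⟨v1, v2⟩ := q3 (by omega) a
    omega

theorem commTerms_eq (g : T.Good) {r s : ℕ} (hr : r < T.n) (hs : s < T.n) :
    T.D.commTerms r s = T.cTerms r s := by
  have hb : ∀ a b, a < T.n → b < T.n → ∀ x, x < T.n →
      ((T.chRoot a b 3).bind fun k => T.D.chainRoot k x 1) =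
        (T.chRoot a b 3).bind fun k => T.chRoot k x 1 := by
    intro a b ha hb x hx
    rcases h : T.chRoot a b 3 with _ | k
    · rfl
    · simp [g.chainRoot_eq (chRoot_spec g ha hb (by norm_num) h).1 hx]
  have hm : ∀ (x : ℕ), x < T.n → ∀ f : ℤ → ℤ,
      ((T.chRoot r s 1).map fun k => f (T.D.chainM k x 2)) =
        (T.chRoot r s 1).map fun k => f (T.chM k x 2) := by
    intro x hx f
    rcases h : T.chRoot r s 1 with _ | k
    · rfl
    · simp [g.chainM_eq (chRoot_spec g hr hs le_rfl h).1 hx]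
  simp only [ChevalleyDatum.commTerms, cTerms, g.chainRoot_eq hr hs, g.chainRoot_eq hs hr,
    g.chainM_eq hr hs, g.chainM_eq hs hr, hb r s hr hs s hs, hb s r hs hr r hr,
    hm r hr fun M => M / 3, hm s hs fun M => -2 * M / 3]

/-- the value of the right-hand word of the commutator formula -/
noncomputable def cVal (T : Tab) (F : Type*) [Field F] (r s : ℕ) (t u : F) : List (ℕ × F) :=
  (T.cTerms r s).map fun c => (c.1, (c.2.1 : F) * (-t) ^ c.2.2.1 * u ^ c.2.2.2)

theorem wordMat_cons (e : ℕ × F) (L : List (ℕ × F)) :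
    T.D.wordMat F (e :: L) = T.D.x F e.1 e.2 * T.D.wordMat F L := by
  simp [ChevalleyDatum.wordMat]

theorem wordMat_eq_one (g : T.Good) {L : List (ℕ × F)} (h : ∀ e ∈ L, e.2 = 0) :
    T.D.wordMat F L = 1 := by
  induction L with
  | nil => simp [ChevalleyDatum.wordMat]
  | cons e L ih =>
    rw [wordMat_cons, h e List.mem_cons_self, x_zero g, one_mul,
      ih fun x hx => h x (List.mem_cons_of_mem _ hx)]

theorem nM_wordMat (g : T.Good) {i : ℕ} (hi : i < T.l) :
    ∀ L : List (ℕ × F), (∀ e ∈ L, e.1 < T.n) → nM T F i * T.D.wordMat F L =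
      T.D.wordMat F (L.map fun e => (T.ref i e.1, (T.eta i e.1 : F) * e.2)) * nM T F i
  | [], _ => by simp [ChevalleyDatum.wordMat]
  | e :: L, h => by
    rw [List.map_cons, wordMat_cons, wordMat_cons, ← mul_assoc,
      n_conj g hi (h e List.mem_cons_self), mul_assoc,
      nM_wordMat g hi L fun x hx => h x (List.mem_cons_of_mem _ hx), mul_assoc]

/-- Chevalley's commutator formula. -/
theorem x_comm (g : T.GoodA) {r s : ℕ} (hr : r < T.n) (hs : s < T.n) (h1 : s ≠ r)
    (h2 : s ≠ T.neg r) (t u : F) :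
    T.D.x F s u * T.D.x F r t =
      T.D.x F r t * T.D.x F s u * T.D.wordMat F (cVal T F r s t u) := by
  have hg := g.toGood
  let P : ℕ → ℕ → Prop := fun r s => s ≠ r → s ≠ T.neg r → ∀ t u : F,
    T.D.x F s u * T.D.x F r t = T.D.x F r t * T.D.x F s u * T.D.wordMat F (cVal T F r s t u)
  have hrep : ∀ p ∈ T.reps, p.1 < T.n → p.2 < T.n → P p.1 p.2 := by
    rintro ⟨r, s⟩ hp hr hs - - t u
    dsimp only at hr hs ⊢
    by_cases ht : t = 0
    · subst ht
      rw [wordMat_eq_one hg, x_zero hg]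
      · simp
      intro e he
      obtain ⟨c, hc, rfl⟩ := List.mem_map.1 he
      simp [Nat.one_le_iff_ne_zero.1 (cTerms_mem hg hr hs hc).2.1]
    by_cases hu : u = 0
    · subst hu
      rw [wordMat_eq_one hg, x_zero hg]
      · simp
      intro e he
      obtain ⟨c, hc, rfl⟩ := List.mem_map.1 he
      simp [Nat.one_le_iff_ne_zero.1 (cTerms_mem hg hr hs hc).2.2.1]
    have h := wordMat_eq_of_colsEq (Units.mk0 t ht) (Units.mk0 u hu) hg
      (w := [(s, [(1, 0, 1)]), (r, [(1, 1, 0)])])
      (w' := (r, [(1, 1, 0)]) :: (s, [(1, 0, 1)]) :: T.cWord r s)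
      (by simp [hr, hs]) (by
        simp only [List.mem_cons, forall_eq_or_imp, cWord, List.mem_map]
        refine ⟨hr, hs, ?_⟩
        rintro e ⟨c, hc, rfl⟩
        exact (cTerms_mem hg hr hs hc).1)
      (List.all_eq_true.1 g.comm (r, s) hp)
    have hT : pval (Units.mk0 t ht) (Units.mk0 u hu) [(1, 1, 0)] = t := by simp [pval, monVal]
    have hU : pval (Units.mk0 t ht) (Units.mk0 u hu) [(1, 0, 1)] = u := by simp [pval, monVal]
    have hW : (T.cWord r s).map (fun e => (e.1, pval (Units.mk0 t ht) (Units.mk0 u hu) e.2)) =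
        cVal T F r s t u := by
      simp only [cWord, cVal, List.map_map]
      refine List.map_congr_left fun c _ => ?_
      simp only [Function.comp_apply, pval_singleton, monVal, Units.val_mul, zpow_natCast,
        Units.val_pow_eq_pow_val, Units.val_mk0]
      congr 1
      rcases Nat.mod_two_eq_zero_or_one c.2.2.1 with hm | hm
      · rw [if_pos hm, (Nat.even_iff.2 hm).neg_pow]; ring
      · rw [if_neg (by omega), (Nat.odd_iff.2 hm).neg_pow]; push_cast; ring
    simp only [List.map_cons, List.map_nil, wordMat_cons, hT, hU, hW] at h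
    rw [show T.D.wordMat F ([] : List (ℕ × F)) = 1 from rfl, mul_one, ← mul_assoc] at h
    exact h
  have hstep : ∀ i < T.l, ∀ r < T.n, ∀ s < T.n, P r s → P (T.ref i r) (T.ref i s) := by
    intro i hi r hr s hs ih h1 h2 t u
    have h1' : s ≠ r := fun h => h1 (by rw [h])
    have h2' : s ≠ T.neg r := fun h => h2 (by rw [h, hg.ref_neg hi hr])
    have h := ih h1' h2' ((T.eta i r : F) * t) ((T.eta i s : F) * u)
    apply (nM_isUnit (F := F) hg hi).mul_right_cancel
    have er := eta_sq (F := F) T i r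
    have es := eta_sq (F := F) T i s
    have hmove : ∀ v, v < T.n → ∀ a : F, (T.eta i v : F) * (T.eta i v : F) = 1 →
        T.D.x F (T.ref i v) a * nM T F i = nM T F i * T.D.x F v ((T.eta i v : F) * a) := by
      intro v hv a e
      rw [n_conj hg hi hv, ← mul_assoc, e, one_mul]
    have hw : T.D.wordMat F (cVal T F (T.ref i r) (T.ref i s) t u) * nM T F i =
        nM T F i * T.D.wordMat F (cVal T F r s ((T.eta i r : F) * t) ((T.eta i s : F) * u)) := by
      rw [nM_wordMat hg hi]
      · congr 2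
        simp only [cVal, cTerms_ref g hi hr hs, List.map_map]
        refine List.map_congr_left fun c _ => ?_
        simp only [Function.comp_apply, mapTerm, mul_pow, neg_mul_eq_mul_neg]
        congr 1
        push_cast
        ring
      · intro e he
        obtain ⟨c, hc, rfl⟩ := List.mem_map.1 he
        exact (cTerms_mem hg hr hs hc).1
    calc T.D.x F (T.ref i s) u * T.D.x F (T.ref i r) t * nM T F i
        = nM T F i * (T.D.x F s ((T.eta i s : F) * u) * T.D.x F r ((T.eta i r : F) * t)) := by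
          rw [mul_assoc, hmove r hr t er, ← mul_assoc, hmove s hs u es, mul_assoc]
      _ = nM T F i * T.D.x F r ((T.eta i r : F) * t) * T.D.x F s ((T.eta i s : F) * u) *
            T.D.wordMat F (cVal T F r s ((T.eta i r : F) * t) ((T.eta i s : F) * u)) := by
          rw [h]; simp only [mul_assoc]
      _ = _ := by
          rw [← hmove r hr t er, mul_assoc (T.D.x F (T.ref i r) t), ← hmove s hs u es,
            ← mul_assoc (T.D.x F (T.ref i r) t), mul_assoc (T.D.x F (T.ref i r) t * _), ← hw,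
            ← mul_assoc]
  have hd := g.descent
  simp only [checkDescent, Bool.and_eq_true] at hd
  have key : ∀ m r, T.n - r ≤ m → r < T.n → ∀ s < T.n, P r s := by
    intro m
    induction m with
    | zero => intros; omega
    | succ m ih =>
      intro r hm hr s
      induction s using Nat.strong_induction_on with
      | _ s ihs =>
        intro hs
        have h := allBelow_eq_true.1 hd.2 r hr
        simp only [Bool.or_eq_true, anyBelow_eq_true, nat_blt, allBelow_eq_true, Bool.and_eq_true,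
          nat_beq, List.any_eq_true] at h
        rcases h with ⟨i, hi, hlt⟩ | h
        · have h' := hstep i hi _ (hg.ref_lt hi hr) _ (hg.ref_lt hi hs)
            (ih _ (by omega) (hg.ref_lt hi hr) _ (hg.ref_lt hi hs))
          rwa [hg.ref_ref hi hr, hg.ref_ref hi hs] at h'
        · rcases h s hs with ((h | h) | ⟨i, hi, hfix, hlt⟩) | ⟨p, hp, hp1, hp2⟩
          · exact fun h' _ => absurd h h'
          · exact fun _ h' => absurd h h'
          · have h' := hstep i hi r hr _ (hg.ref_lt hi hs) (ihs _ hlt (hg.ref_lt hi hs))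
            rwa [hfix, hg.ref_ref hi hs] at h'
          · have := hrep p hp (hp1.symm ▸ hr) (hp2.symm ▸ hs)
            rwa [hp1, hp2] at this
  exact key T.n r (Nat.sub_le _ _) hr s hs h1 h2 t u

theorem commWord_eq (g : T.Good) {r s : ℕ} (hr : r < T.n) (hs : s < T.n) (t u : F) :
    T.D.commWord F r s t u = cVal T F r s t u := by
  rw [ChevalleyDatum.commWord, commTerms_eq g hr hs, cVal]

end Tab

end Cfsg.Agent.Chev
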