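import Cfsg.Agent.Lib.Lie.GoodW
import Cfsg.Agent.Lib.Lie.ChevBruhat
import Cfsg.Prelude.Def_Steinberg
import Mathlib.GroupTheory.PresentedGroup

/-!
# Steinberg groups: relations, the projection, the automorphisms attached to reflections

`θ` is injective on the subgroups generated by the positive, and by the negative, root elements.
-/

set_option autoImplicit false

namespace Cfsg.Agent.Chev

open Cfsg.Lie
open Matrix hiding zpow_mul inv_zpow mul_inv_rev zpow_add zpow_neg

namespace Tab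

variable {T : Tab} {K : List (List ℕ)} {F : Type*} [Field F]

/-- `x̄_r(t)` -/
def sx (T : Tab) (F : Type*) [Field F] (r : ℕ) (t : F) : T.D.SteinbergGroup F := T.D.stGen F r t

/-- a word in `x̄` -/
def sWord (T : Tab) (F : Type*) [Field F] (w : List (ℕ × F)) : T.D.SteinbergGroup F :=
  (w.map fun p => sx T F p.1 p.2).prod

theorem mk_stWord (w : List (ℕ × F)) :
    PresentedGroup.mk (T.D.steinbergRels F) (T.D.stWord w) = sWord T F w := by
  rw [ChevalleyDatum.stWord, map_list_prod, List.map_map]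
  rfl

theorem sx_add (g : T.Good) (r : ℕ) (a b : F) : sx T F r a * sx T F r b = sx T F r (a + b) := by
  by_cases hr : r < T.n
  · have h := PresentedGroup.one_of_mem (rels := T.D.steinbergRels F)
      (x := T.D.stX r a * T.D.stX r b * (T.D.stX r (a + b))⁻¹)
      (Or.inl (Or.inl ⟨r, a, b, by rw [g.nroots_eq]; exact hr, rfl⟩))
    simp only [map_mul, map_inv] at h
    exact mul_inv_eq_one.1 h
  · simp [sx, ChevalleyDatum.stGen, ChevalleyDatum.stX, g.nroots_eq, hr]

@[simp] theorem sx_zero (g : T.Good) (r : ℕ) : sx T F r (0 : F) = 1 := by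
  have h := sx_add g r (0 : F) 0
  rw [add_zero] at h
  exact mul_eq_left.1 h

theorem sx_inv (g : T.Good) (r : ℕ) (a : F) : (sx T F r a)⁻¹ = sx T F r (-a) :=
  inv_eq_of_mul_eq_one_right (by rw [sx_add g, add_neg_cancel, sx_zero g])

theorem sx_comm (g : T.Good) {r s : ℕ} (hr : r < T.n) (hs : s < T.n) (h1 : s ≠ r)
    (h2 : s ≠ T.neg r) (t u : F) :
    sx T F s u * sx T F r t = sx T F r t * sx T F s u * sWord T F (cVal T F r s t u) := by
  have h := PresentedGroup.one_of_mem (rels := T.D.steinbergRels F)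
    (x := (T.D.stX s u)⁻¹ * (T.D.stX r t)⁻¹ * T.D.stX s u * T.D.stX r t *
      (T.D.stWord (T.D.commWord F r s t u))⁻¹)
    (Or.inl (Or.inr ⟨r, s, t, u, by rw [g.nroots_eq]; exact hr, by rw [g.nroots_eq]; exact hs, h1,
      by rw [g.neg_eq hr]; exact h2, rfl⟩))
  simp only [map_mul, map_inv, mk_stWord, commWord_eq g hr hs] at h
  rw [mul_inv_eq_one] at h
  rw [← h]
  show T.D.stGen F s u * T.D.stGen F r t = _
  simp only [ChevalleyDatum.stGen, sx]
  group

/-- `n̄_r(t)` -/
def sn (T : Tab) (F : Type*) [Field F] (r : ℕ) (t : F) : T.D.SteinbergGroup F :=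
  sx T F r t * sx T F (T.neg r) (-t⁻¹) * sx T F r t

/-- `h̄_r(t)` -/
def sh (T : Tab) (F : Type*) [Field F] (r : ℕ) (t : F) : T.D.SteinbergGroup F :=
  sn T F r t * sn T F r (-1)

theorem mk_stH (g : T.Good) {r : ℕ} (hr : r < T.n) (t : F) :
    PresentedGroup.mk (T.D.steinbergRels F) (T.D.stH r t) = sh T F r t := by
  rw [ChevalleyDatum.stH, mk_stWord]
  simp [sWord, ChevalleyDatum.hWord, ChevalleyDatum.nWord, sh, sn, g.neg_eq hr, mul_assoc]

theorem sh_mul (g : T.Good) {r : ℕ} (hr : r < T.n) {a b : F} (ha : a ≠ 0) (hb : b ≠ 0) :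
    sh T F r a * sh T F r b = sh T F r (a * b) := by
  have h := PresentedGroup.one_of_mem (rels := T.D.steinbergRels F)
    (x := T.D.stH r a * T.D.stH r b * (T.D.stH r (a * b))⁻¹)
    (Or.inr ⟨r, a, b, by rw [g.nroots_eq]; exact hr, ha, hb, rfl⟩)
  simp only [map_mul, map_inv, mk_stH g hr] at h
  exact mul_inv_eq_one.1 h

theorem sn_inv (g : T.Good) (r : ℕ) (t : F) : (sn T F r t)⁻¹ = sn T F r (-t) := by
  simp only [sn, _root_.mul_inv_rev, sx_inv g, inv_neg, mul_assoc]

theorem sn_eq_sh (g : T.Good) (r : ℕ) (t : F) : sn T F r t = sh T F r t * sn T F r 1 := by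
  rw [sh, ← sn_inv g, inv_mul_cancel_right]

theorem sh_one (g : T.Good) (r : ℕ) : sh T F r (1 : F) = 1 := by
  rw [sh, ← sn_inv g, mul_inv_cancel]

theorem sh_inv (g : T.Good) {r : ℕ} (hr : r < T.n) {a : F} (ha : a ≠ 0) :
    (sh T F r a)⁻¹ = sh T F r a⁻¹ :=
  inv_eq_of_mul_eq_one_right (by rw [sh_mul g hr ha (inv_ne_zero ha), mul_inv_cancel₀ ha, sh_one g])

theorem sn_sq (g : T.Good) (r : ℕ) :
    sn T F r (1 : F) * sn T F r 1 = (sh T F r (-1))⁻¹ := by
  rw [sh, ← sn_inv g, _root_.mul_inv_rev, inv_inv]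

/-- The projection onto the matrix group. -/
noncomputable def θ0 (g : T.GoodA) (F : Type*) [Field F] : T.D.SteinbergGroup F →* GL T.D.Idx F :=
  PresentedGroup.toGroup (rels := T.D.steinbergRels F)
    (f := fun p : Fin T.D.nroots × F => xg g.toGood p.1 p.2) <| by
    have hX : ∀ r (t : F), FreeGroup.lift (fun p : Fin T.D.nroots × F => xg g.toGood p.1 p.2)
        (T.D.stX r t) = xg g.toGood r t := by
      intro r t
      by_cases hr : r < T.D.nroots
      · simp [ChevalleyDatum.stX, hr]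
      · rw [g.toGood.nroots_eq] at hr
        simp [ChevalleyDatum.stX, g.toGood.nroots_eq, hr, xg_out]
    have hW : ∀ w : List (ℕ × F), FreeGroup.lift (fun p : Fin T.D.nroots × F => xg g.toGood p.1 p.2)
        (T.D.stWord w) = (w.map fun e => xg g.toGood e.1 e.2).prod := by
      intro w
      rw [ChevalleyDatum.stWord, map_list_prod, List.map_map]
      exact congrArg List.prod (List.map_congr_left fun e _ => hX _ _)
    rintro x ((⟨r, a, b, hr, rfl⟩ | ⟨r, s, t, u, hr, hs, h1, h2, rfl⟩) | ⟨r, a, b, hr, ha, hb, rfl⟩)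
    · simp only [map_mul, map_inv, hX, xg_add, mul_inv_cancel]
    · rw [g.toGood.nroots_eq] at hr hs
      rw [g.toGood.neg_eq hr] at h2
      simp only [map_mul, map_inv, hX, hW, commWord_eq g.toGood hr hs]
      rw [mul_assoc ((xg g.toGood s u)⁻¹ * _), xg_comm g hr hs h1 h2 t u]
      group
    · rw [g.toGood.nroots_eq] at hr
      have hH : ∀ c : F, FreeGroup.lift (fun p : Fin T.D.nroots × F => xg g.toGood p.1 p.2)
          (T.D.stH r c) = hE g.toGood r c := by
        intro c
        rw [ChevalleyDatum.stH, hW]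
        simp [ChevalleyDatum.hWord, ChevalleyDatum.nWord, g.toGood.neg_eq hr, hE, nE, mul_assoc]
      obtain ⟨u, rfl⟩ : ∃ u : Fˣ, (u : F) = a := ⟨Units.mk0 a ha, rfl⟩
      obtain ⟨v, rfl⟩ : ∃ v : Fˣ, (v : F) = b := ⟨Units.mk0 b hb, rfl⟩
      simp only [map_mul, map_inv, hH, hE_mul g.toGood hr, mul_inv_cancel]

theorem θ0_sx (g : T.GoodA) (r : ℕ) (t : F) : θ0 g F (sx T F r t) = xg g.toGood r t := by
  by_cases hr : r < T.D.nroots
  · rw [sx, ChevalleyDatum.stGen, ChevalleyDatum.stX, dif_pos hr]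
    exact PresentedGroup.toGroup.of _
  · rw [g.toGood.nroots_eq] at hr
    simp [sx, ChevalleyDatum.stGen, ChevalleyDatum.stX, g.toGood.nroots_eq, hr, xg_out]

theorem θ0_sn (g : T.GoodA) (r : ℕ) (t : F) : θ0 g F (sn T F r t) = nE g.toGood r t := by
  simp [sn, nE, θ0_sx]

theorem θ0_sh (g : T.GoodA) (r : ℕ) (t : F) : θ0 g F (sh T F r t) = hE g.toGood r t := by
  simp [sh, hE, θ0_sn]

theorem θ0_range (g : T.GoodA) : (θ0 g F).range = T.D.group F := by
  apply le_antisymm
  · rintro y ⟨x, rfl⟩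
    refine PresentedGroup.generated_by (T.D.steinbergRels F) ((T.D.group F).comap (θ0 g F)) ?_ x
    rintro ⟨r, t⟩
    show θ0 g F (PresentedGroup.of (r, t)) ∈ T.D.group F
    rw [θ0, PresentedGroup.toGroup.of]
    exact xg_mem_group g.toGood _ _
  · exact group_le_of_simple g.toGood (fun i _ t => ⟨sx T F (T.smp i) t, θ0_sx g _ _⟩)
      fun i _ => ⟨sn T F (T.smp i) 1, by rw [θ0_sn]; simp [nE, nG]⟩

/-! ### The endomorphisms attached to the reflections -/

/-- The automorphism of the Steinberg group attached to a reflection. -/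
noncomputable def reflHom (g : T.GoodA) (F : Type*) [Field F] {i : ℕ} (hi : i < T.l) :
    T.D.SteinbergGroup F →* T.D.SteinbergGroup F :=
  PresentedGroup.toGroup (rels := T.D.steinbergRels F)
    (f := fun p : Fin T.D.nroots × F => sx T F (T.ref i p.1) ((T.eta i p.1 : F) * p.2)) <| by
    have hg := g.toGood
    set f := fun p : Fin T.D.nroots × F => sx T F (T.ref i p.1) ((T.eta i p.1 : F) * p.2) with hf
    have hX : ∀ r, r < T.n → ∀ t : F, FreeGroup.lift f (T.D.stX r t) =
        sx T F (T.ref i r) ((T.eta i r : F) * t) := by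
      intro r hr t
      simp [ChevalleyDatum.stX, hg.nroots_eq, hr, f]
    have hW : ∀ w : List (ℕ × F), (∀ e ∈ w, e.1 < T.n) → FreeGroup.lift f (T.D.stWord w) =
        sWord T F (w.map fun e => (T.ref i e.1, (T.eta i e.1 : F) * e.2)) := by
      intro w hw
      rw [ChevalleyDatum.stWord, map_list_prod, List.map_map, sWord, List.map_map]
      exact congrArg List.prod (List.map_congr_left fun e he => hX _ (hw e he) _)
    rintro x ((⟨r, a, b, hr, rfl⟩ | ⟨r, s, t, u, hr, hs, h1, h2, rfl⟩) | ⟨r, a, b, hr, ha, hb, rfl⟩)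
    · rw [hg.nroots_eq] at hr
      simp only [map_mul, map_inv, hX _ hr, sx_add hg, ← mul_add, mul_inv_cancel]
    · rw [hg.nroots_eq] at hr hs
      rw [hg.neg_eq hr] at h2
      have hlt : ∀ e ∈ cVal T F r s t u, e.1 < T.n := by
        intro e he
        obtain ⟨c, hc, rfl⟩ := List.mem_map.1 he
        exact (cTerms_mem hg hr hs hc).1
      have e : (cVal T F r s t u).map (fun e => (T.ref i e.1, (T.eta i e.1 : F) * e.2)) =
          cVal T F (T.ref i r) (T.ref i s) ((T.eta i r : F) * t) ((T.eta i s : F) * u) := by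
        simp only [cVal, cTerms_ref g hi hr hs, List.map_map]
        refine List.map_congr_left fun c _ => ?_
        simp only [Function.comp_apply, mapTerm, mul_pow, neg_mul_eq_mul_neg]
        congr 1
        have key : ∀ a k : ℕ, ((T.eta i a : F) ^ k) * ((T.eta i a : F) ^ k) = 1 := fun a k => by
          rw [← mul_pow, eta_sq, one_pow]
        push_cast
        linear_combination (-((T.eta i c.1 : F) * (c.2.1 : F) * (-t) ^ c.2.2.1 * u ^ c.2.2.2)) *
            ((T.eta i s : F) ^ c.2.2.2 * (T.eta i s : F) ^ c.2.2.2) * key r c.2.2.1 +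
          (-((T.eta i c.1 : F) * (c.2.1 : F) * (-t) ^ c.2.2.1 * u ^ c.2.2.2)) * key s c.2.2.2
      simp only [map_mul, map_inv, hX _ hr, hX _ hs, commWord_eq hg hr hs, hW _ hlt, e]
      rw [mul_assoc ((sx T F (T.ref i s) _)⁻¹ * _), sx_comm hg (hg.ref_lt hi hr) (hg.ref_lt hi hs)
        (fun h => h1 (hg.ref_inj hi hs hr h))
        (fun h => h2 (hg.ref_inj hi hs (neg_lt hr) (by rw [h, hg.ref_neg hi hr])))]
      group
    · rw [hg.nroots_eq] at hr
      have hu := hg.ref_lt hi hr
      have hN : ∀ c : F, FreeGroup.lift f (T.D.stH r c) =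
          sn T F (T.ref i r) ((T.eta i r : F) * c) * sn T F (T.ref i r) (-(T.eta i r : F)) := by
        intro c
        have hlt : ∀ e ∈ T.D.hWord r c, e.1 < T.n := by
          intro e he
          have := neg_lt hr
          simp [ChevalleyDatum.hWord, ChevalleyDatum.nWord, hg.neg_eq hr] at he
          rcases he with rfl | rfl | rfl | rfl | rfl | rfl <;> assumption
        rw [ChevalleyDatum.stH, hW _ hlt]
        rcases eta_cases T i r with h | h <;>
          simp [ChevalleyDatum.hWord, ChevalleyDatum.nWord, sWord, sn, hg.neg_eq hr,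
            hg.ref_neg hi hr, hg.eta_neg hi hr, h, mul_assoc, inv_neg]
      have hH : ∀ c : F, c ≠ 0 → FreeGroup.lift f (T.D.stH r c) = sh T F (T.ref i r) c := by
        intro c hc
        rw [hN]
        rcases eta_cases T i r with h | h
        · simp [h, sh]
        · simp only [h, Int.cast_neg, Int.cast_one, neg_mul, one_mul]
          rw [sn_eq_sh hg _ (-c), mul_assoc, show -(-1 : F) = 1 from _root_.neg_neg 1, sn_sq hg, sh_inv hg hu (by norm_num : (-1 : F) ≠ 0),
            inv_neg, inv_one, sh_mul hg hu (neg_ne_zero.2 hc) (by norm_num : (-1 : F) ≠ 0)]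
          simp
      simp only [map_mul, map_inv, hH a ha, hH b hb, hH (a * b) (mul_ne_zero ha hb),
        sh_mul hg hu ha hb, mul_inv_cancel]

theorem reflHom_sx (g : T.GoodA) {i : ℕ} (hi : i < T.l) {r : ℕ} (hr : r < T.n) (t : F) :
    reflHom g F hi (sx T F r t) = sx T F (T.ref i r) ((T.eta i r : F) * t) := by
  rw [sx, ChevalleyDatum.stGen, ChevalleyDatum.stX, dif_pos (by rw [g.toGood.nroots_eq]; exact hr)]
  exact PresentedGroup.toGroup.of _

theorem θ0_reflHom (g : T.GoodA) {i : ℕ} (hi : i < T.l) (x : T.D.SteinbergGroup F) :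
    θ0 g F (reflHom g F hi x) = nG g.toGood F i * θ0 g F x * (nG g.toGood F i)⁻¹ := by
  have e : (θ0 g F).comp (reflHom g F hi) =
      (MulAut.conj (nG g.toGood F i)).toMonoidHom.comp (θ0 g F) := by
    refine PresentedGroup.ext fun p => ?_
    have hp : (p.1 : ℕ) < T.n := by rw [← g.toGood.nroots_eq]; exact p.1.isLt
    have hof : (PresentedGroup.of p : T.D.SteinbergGroup F) = sx T F p.1 p.2 := by
      rw [sx, ChevalleyDatum.stGen, ChevalleyDatum.stX, dif_pos p.1.isLt]
      rfl
    simp only [MonoidHom.comp_apply, hof, reflHom_sx g hi hp, θ0_sx, MulEquiv.coe_toMonoidHom,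
      MulAut.conj_apply, nG_conj g.toGood hi hp]
  exact DFunLike.congr_fun e x

theorem reflHom_injective (g : T.GoodA) {i : ℕ} (hi : i < T.l) :
    Function.Injective (reflHom g F hi) := by
  have e : ((reflHom g F hi).comp (reflHom g F hi)).comp ((reflHom g F hi).comp (reflHom g F hi)) =
      MonoidHom.id _ := by
    refine PresentedGroup.ext fun p => ?_
    have hp : (p.1 : ℕ) < T.n := by rw [← g.toGood.nroots_eq]; exact p.1.isLt
    have hof : (PresentedGroup.of p : T.D.SteinbergGroup F) = sx T F p.1 p.2 := by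
      rw [sx, ChevalleyDatum.stGen, ChevalleyDatum.stX, dif_pos p.1.isLt]
      rfl
    have hu := g.toGood.ref_lt hi hp
    simp only [MonoidHom.comp_apply, MonoidHom.id_apply, hof, reflHom_sx g hi hp, reflHom_sx g hi hu,
      g.toGood.ref_ref hi hp]
    congr 1
    have e1 := eta_sq (F := F) T i p.1
    have e2 := eta_sq (F := F) T i (T.ref i p.1)
    linear_combination ((T.eta i (T.ref i p.1) : F) * (T.eta i (T.ref i p.1) : F) * p.2) * e1 + p.2 * e2
  intro x y h
  have := congrArg (fun z => reflHom g F hi (reflHom g F hi (reflHom g F hi z))) h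
  have hid := DFunLike.congr_fun e
  simp only [MonoidHom.comp_apply, MonoidHom.id_apply] at hid
  exact (hid x).symm.trans (this.trans (hid y))

/-! ### Subgroups generated by root elements -/

/-- the subgroup of the Steinberg group generated by a set of roots -/
def sGen (T : Tab) (F : Type*) [Field F] (S : Set ℕ) : Subgroup (T.D.SteinbergGroup F) :=
  Subgroup.closure {y | ∃ r ∈ S, ∃ t : F, y = sx T F r t}

theorem sx_mem_sGen {S : Set ℕ} {r : ℕ} (h : r ∈ S) (t : F) : sx T F r t ∈ sGen T F S :=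
  Subgroup.subset_closure ⟨r, h, t, rfl⟩

theorem sGen_le {S : Set ℕ} {K : Subgroup (T.D.SteinbergGroup F)}
    (h : ∀ r ∈ S, ∀ t : F, sx T F r t ∈ K) : sGen T F S ≤ K := by
  refine (Subgroup.closure_le _).2 ?_
  rintro y ⟨r, hr, t, rfl⟩
  exact h r hr t

theorem sGen_mono {S S' : Set ℕ} (h : S ⊆ S') : sGen T F S ≤ sGen T F S' :=
  sGen_le fun _ hr t => sx_mem_sGen (h hr) t

theorem sGen_induction (g : T.Good) {S : Set ℕ} {p : T.D.SteinbergGroup F → Prop} (h1 : p 1)
    (hs : ∀ r ∈ S, ∀ t : F, ∀ y, p y → p (sx T F r t * y)) {x : T.D.SteinbergGroup F}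
    (hx : x ∈ sGen T F S) : p x := by
  induction hx using Subgroup.closure_induction_left with
  | one => exact h1
  | mul_left x hx y _ hy => obtain ⟨r, hr, t, rfl⟩ := hx; exact hs r hr t y hy
  | inv_mul_cancel x hx y _ hy =>
    obtain ⟨r, hr, t, rfl⟩ := hx
    rw [sx_inv g]
    exact hs r hr _ y hy

theorem sx_normalizes (g : T.Good) {S : Set ℕ} {r : ℕ} (hr : r < T.n)
    (hS : ∀ s ∈ S, s < T.n ∧ s ≠ T.neg r ∧ (s ≠ r → ∀ c ∈ T.cTerms r s, c.1 ∈ S)) (t : F) :
    sx T F r t ∈ Subgroup.normalizer (sGen T F S : Set (T.D.SteinbergGroup F)) := by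
  have h : ∀ t : F, ∀ x ∈ sGen T F S, (sx T F r t)⁻¹ * x * sx T F r t ∈ sGen T F S := by
    intro t x hx
    have e : sGen T F S ≤ (sGen T F S).comap (MulAut.conj (sx T F r t)⁻¹).toMonoidHom := by
      refine sGen_le fun s hs u => ?_
      obtain ⟨hsn, hne, hc⟩ := hS s hs
      simp only [Subgroup.mem_comap, MulEquiv.coe_toMonoidHom, MulAut.conj_apply, inv_inv]
      by_cases h1 : s = r
      · subst h1
        rw [sx_inv g, sx_add g, sx_add g]
        exact sx_mem_sGen hs _
      rw [mul_assoc, sx_comm g hr hsn h1 hne, mul_assoc, inv_mul_cancel_left]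
      refine mul_mem (sx_mem_sGen hs u) (Subgroup.list_prod_mem _ fun y hy => ?_)
      simp only [cVal, List.map_map, List.mem_map, Function.comp_apply] at hy
      obtain ⟨c, hc', rfl⟩ := hy
      exact sx_mem_sGen (hc h1 c hc') _
    simpa using e hx
  rw [Subgroup.mem_normalizer_iff]
  intro x
  constructor
  · intro hx
    have := h (-t) x hx
    rwa [← sx_inv g, inv_inv] at this
  · intro hx
    have := h t _ hx
    simpa [mul_assoc] using this

theorem sx_normalizes_Ico (g : T.Good) {k r : ℕ} (hk : T.N ≤ k) (hr : r < T.n) (hrN : T.N ≤ r)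
    (t : F) :
    sx T F r t ∈ Subgroup.normalizer (sGen T F (Set.Ico k T.n) : Set (T.D.SteinbergGroup F)) := by
  refine sx_normalizes g hr (fun s hs => ⟨hs.2, ?_, fun _ c hc => ?_⟩) t
  · have := (neg_lt_N_iff hr).2 hrN
    have := hs.1
    omega
  · obtain ⟨h1, -, -, -, h5⟩ := cTerms_mem g hr hs.2 hc
    have := (h5 hrN (hk.trans hs.1)).2
    exact ⟨by have := hs.1; omega, h1⟩

theorem sx_split (g : T.Good) {k : ℕ} (hk : T.N ≤ k) {x : T.D.SteinbergGroup F}
    (hx : x ∈ sGen T F (Set.Ico k T.n)) :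
    ∃ t : F, ∃ y ∈ sGen T F (Set.Ico (k + 1) T.n), x = sx T F k t * y := by
  refine sGen_induction g (p := fun x => ∃ t : F,
    ∃ y ∈ sGen T F (Set.Ico (k + 1) T.n), x = sx T F k t * y)
    ⟨0, 1, one_mem _, by simp [sx_zero g]⟩ ?_ hx
  rintro r hr u _ ⟨t, y, hy, rfl⟩
  rcases eq_or_lt_of_le hr.1 with rfl | hlt
  · exact ⟨u + t, y, hy, by rw [← mul_assoc, sx_add g]⟩
  · refine ⟨t, (sx T F k t)⁻¹ * sx T F r u * sx T F k t * y, mul_mem ?_ hy, by group⟩
    have h' := sx_normalizes_Ico (F := F) g (k := k + 1) (r := k) (by omega)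
      (by have := hr.2; omega) hk t
    have := (Subgroup.mem_normalizer_iff.1 (inv_mem h') (sx T F r u)).1
      (sx_mem_sGen (S := Set.Ico (k + 1) T.n) (r := r) ⟨hlt, hr.2⟩ u)
    simpa using this

/-- `θ` is injective on `Ū`. -/
theorem θ0_inj_pos (g : T.GoodA) : ∀ m k, T.N ≤ k → T.n ≤ k + m →
    ∀ x ∈ sGen T F (Set.Ico k T.n), θ0 g F x = 1 → x = 1
  | 0, k, _, hle, x, hx, _ =>
    sGen_induction g.toGood (p := fun x => x = 1) rfl
      (fun r hr => absurd hr.2 (by have := hr.1; omega)) hx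
  | m + 1, k, hk, hle, x, hx, h1 => by
    by_cases hkn : k < T.n
    swap
    · exact θ0_inj_pos g m k hk (by omega) x hx h1
    obtain ⟨t, y, hy, rfl⟩ := sx_split g.toGood hk hx
    have hθy : θ0 g F y ∈ genS g.toGood F (Set.Ico (k + 1) T.n) := by
      refine sGen_induction g.toGood (p := fun y => θ0 g F y ∈ genS g.toGood F (Set.Ico (k + 1) T.n))
        (by rw [map_one]; exact one_mem _) (fun r hr u z hz => ?_) hy
      rw [map_mul, θ0_sx]
      exact mul_mem (xg_mem_genS g.toGood hr u) hz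
    rw [map_mul, θ0_sx] at h1
    have ht : t = 0 := lowest_coeff g.toGood hk hkn (by
      rw [eq_inv_of_mul_eq_one_left h1]; exact inv_mem hθy)
    subst ht
    rw [sx_zero g.toGood, one_mul]
    rw [xg_zero, one_mul] at h1
    exact θ0_inj_pos g m (k + 1) (by omega) (by omega) y hy h1

/-- composite of the reflection automorphisms along a word -/
theorem exists_word_hom (g : T.GoodA) (L : List ℕ) (hL : T.Wd L) :
    ∃ Φ : T.D.SteinbergGroup F →* T.D.SteinbergGroup F, Function.Injective Φ ∧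
      (∀ r < T.n, ∀ t : F, ∃ t', Φ (sx T F r t) = sx T F (T.rw' L r) t') ∧
      ∀ x, θ0 g F x = 1 → θ0 g F (Φ x) = 1 := by
  induction L with
  | nil => exact ⟨MonoidHom.id _, fun _ _ h => h, fun r _ t => ⟨t, rfl⟩, fun x h => h⟩
  | cons i L ih =>
    obtain ⟨hi, hL'⟩ := Wd.cons_iff.1 hL
    obtain ⟨Φ, h1, h2, h3⟩ := ih hL'
    refine ⟨(reflHom g F hi).comp Φ, (reflHom_injective g hi).comp h1, fun r hr t => ?_,
      fun x hx => ?_⟩
    · obtain ⟨t', ht⟩ := h2 r hr t
      exact ⟨_, by rw [MonoidHom.comp_apply, ht, reflHom_sx g hi (rw'_lt g.toGood hL' hr)]; rfl⟩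
    · rw [MonoidHom.comp_apply, θ0_reflHom, h3 x hx, mul_one, mul_inv_cancel]

/-- `θ` is injective on `V̄`. -/
theorem θ0_inj_neg (g : T.GoodA) {x : T.D.SteinbergGroup F} (hx : x ∈ sGen T F (Set.Iio T.N))
    (h : θ0 g F x = 1) : x = 1 := by
  obtain ⟨L, hL, hlong, -⟩ := exists_longest g.toGood
  obtain ⟨Φ, h1, h2, h3⟩ := exists_word_hom (F := F) g L hL
  have hn := n_def (T := T)
  have hmem : Φ x ∈ sGen T F (Set.Ico T.N T.n) := by
    refine sGen_induction g.toGood (p := fun x => Φ x ∈ sGen T F (Set.Ico T.N T.n))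
      (by rw [map_one]; exact one_mem _) (fun r hr t y hy => ?_) hx
    have hr' : r < T.N := hr
    have hrn : r < T.n := by omega
    obtain ⟨t', ht⟩ := h2 r hrn t
    rw [map_mul, ht]
    refine mul_mem (sx_mem_sGen (S := Set.Ico T.N T.n) ⟨?_, rw'_lt g.toGood hL hrn⟩ _) hy
    have := hlong _ ((N_le_neg_iff hrn).2 hr') (neg_lt hrn)
    rw [rw'_neg g.toGood hL hrn, neg_lt_N_iff (rw'_lt g.toGood hL hrn)] at this
    exact this
  exact h1 ((θ0_inj_pos g T.n T.N le_rfl (by omega) _ hmem (h3 x h)).trans (map_one Φ).symm)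

end Tab

end Cfsg.Agent.Chev
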