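import Mathlib

/-!
# Counting conjugates, four-groups acting on groups of odd order, a transfer lemma
-/

set_option autoImplicit false

namespace Cfsg.Agent.ReeGroup

variable {G : Type*} [Group G]

/-- the non-identity elements conjugate into `A` -/
def conjSet (A : Subgroup G) : Set G := {g | ∃ c : G, c⁻¹ * g * c ∈ A ∧ c⁻¹ * g * c ≠ 1}

theorem card_conjSet_mul [Finite G] (A : Subgroup G)
    (hTI : ∀ y ∈ A, y ≠ 1 → ∀ c : G, c * y * c⁻¹ ∈ A → c ∈ Subgroup.normalizer (A : Set G)) :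
    Nat.card (conjSet A) * Nat.card (Subgroup.normalizer (A : Set G)) =
      Nat.card G * (Nat.card A - 1) := by
  classical
  let A' := {y : A // y ≠ 1}
  have hA' : Nat.card A' = Nat.card A - 1 := by
    haveI := Fintype.ofFinite A
    simp only [A', Nat.card_eq_fintype_card, Fintype.card_subtype_compl, Fintype.card_subtype_eq]
  rw [← hA', ← Nat.card_prod, ← Nat.card_prod]
  choose c hc hc1 using fun g : conjSet A => g.2
  let f : conjSet A × ↥(Subgroup.normalizer (A : Set G)) → G × A' := fun p =>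
    (c p.1 * (p.2 : G),
      ⟨⟨(p.2 : G)⁻¹ * ((c p.1)⁻¹ * p.1.1 * c p.1) * p.2,
          (Subgroup.mem_normalizer_iff''.1 p.2.2 _).1 (hc p.1)⟩, fun h => hc1 p.1 (by
        have h' : (p.2 : G)⁻¹ * ((c p.1)⁻¹ * p.1.1 * c p.1) * p.2 = 1 := congrArg Subtype.val h
        simpa [mul_assoc] using congrArg (fun z => (p.2 : G) * z * (p.2 : G)⁻¹) h')⟩)
  refine Nat.card_eq_of_bijective f ⟨fun p p' e => ?_, fun ⟨d, y⟩ => ?_⟩
  · have e1 : c p.1 * (p.2 : G) = c p'.1 * (p'.2 : G) := congrArg Prod.fst e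
    have e2 : (p.2 : G)⁻¹ * ((c p.1)⁻¹ * p.1.1 * c p.1) * p.2 =
        (p'.2 : G)⁻¹ * ((c p'.1)⁻¹ * p'.1.1 * c p'.1) * p'.2 :=
      congrArg (fun z : G × A' => (z.2.1 : G)) e
    have e3 : p.1 = p'.1 := by
      refine Subtype.ext ?_
      have := congrArg (fun z => (c p.1 * (p.2 : G)) * z * (c p.1 * (p.2 : G))⁻¹) e2
      simp only [show ∀ (a b g : G), a * b * (b⁻¹ * (a⁻¹ * g * a) * b) * (a * b)⁻¹ = g from
        fun a b g => by group] at this
      rw [this, e1]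
      group
    refine Prod.ext e3 (Subtype.ext ?_)
    rw [e3] at e1
    exact mul_left_cancel e1
  · have hg : d * y.1.1 * d⁻¹ ∈ conjSet A := ⟨d, by simp [mul_assoc], by
      simp only [mul_assoc, inv_mul_cancel_left, inv_mul_cancel, mul_one]
      exact fun h => y.2 (Subtype.ext h)⟩
    set g : conjSet A := ⟨_, hg⟩
    have hn : (c g)⁻¹ * d ∈ Subgroup.normalizer (A : Set G) := by
      refine hTI y.1.1 y.1.2 (fun h => y.2 (Subtype.ext h)) _ ?_
      convert hc g using 1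
      simp [g, mul_assoc]
    refine ⟨(g, ⟨_, hn⟩), Prod.ext (mul_inv_cancel_left _ _) (Subtype.ext (Subtype.ext ?_))⟩
    show ((c g)⁻¹ * d)⁻¹ * ((c g)⁻¹ * (d * y.1.1 * d⁻¹) * c g) * ((c g)⁻¹ * d) = y.1.1
    group

theorem eq_one_of_inverted {x k : G} (hodd : Odd (orderOf x)) (hk : Odd (orderOf k))
    (h : k⁻¹ * x * k = x⁻¹) : x = 1 := by
  obtain ⟨a, ha⟩ := hk
  have h2 : Commute (k ^ 2) x := by
    have h' : k⁻¹ * x⁻¹ * k = x := by
      rw [show k⁻¹ * x⁻¹ * k = (k⁻¹ * x * k)⁻¹ by group, h, inv_inv]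
    have : k⁻¹ * (k⁻¹ * x * k) * k = x := by rw [h, h']
    rw [Commute, SemiconjBy, pow_two]
    calc k * k * x = k * k * (k⁻¹ * (k⁻¹ * x * k) * k) := by rw [this]
      _ = x * (k * k) := by group
  have hk' : k = ((k ^ 2) ^ a)⁻¹ := by
    refine eq_inv_of_mul_eq_one_left ?_
    rw [← pow_mul, ← pow_succ', ← ha, pow_orderOf_eq_one]
  have hc : Commute k x := hk' ▸ (h2.pow_left a).inv_left
  rw [mul_assoc, ← hc.eq, inv_mul_cancel_left] at h
  have h1 : orderOf x ∣ 2 := orderOf_dvd_of_pow_eq_one (by rw [pow_two]; exact mul_eq_one_iff_eq_inv.2 h)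
  exact orderOf_eq_one_iff.1 (Nat.eq_one_of_dvd_coprimes (Nat.coprime_two_left.2 hodd) h1 dvd_rfl)

theorem exists_inverted_part {e r : G} (he : e * e = 1) (hodd : Odd (orderOf (e * r⁻¹ * e * r))) :
    ∃ t k : G, r = t * k ∧ e * t * e = t ∧ e * k * e = k⁻¹ ∧ k ∈ Subgroup.zpowers (e * r⁻¹ * e * r) := by
  set w := e * r⁻¹ * e * r with hw
  obtain ⟨a, ha⟩ := hodd
  have hei : e⁻¹ = e := inv_eq_of_mul_eq_one_right he
  have hconj : ∀ z : G, e * z * e = e * z * e⁻¹ := fun z => by rw [hei]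
  have hwi : e * w * e = w⁻¹ := by
    rw [hw]
    calc e * (e * r⁻¹ * e * r) * e = e * e * (r⁻¹ * e * r * e) := by group
      _ = (e⁻¹ * r⁻¹ * e⁻¹ * r)⁻¹ := by rw [he]; group
      _ = _ := by rw [hei]
  have hk : ∀ n : ℕ, e * w ^ n * e = (w ^ n)⁻¹ := fun n => by
    rw [hconj, ← conj_pow, ← hconj, hwi, inv_pow]
  refine ⟨r * (w ^ (a + 1))⁻¹, w ^ (a + 1), by group, ?_, hk _, Subgroup.pow_mem _ (Subgroup.mem_zpowers _) _⟩
  have e1 : e * r * e = r * w⁻¹ := by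
    rw [hw]
    calc e * r * e = r * (r⁻¹ * e * r * e) := by group
      _ = r * (e⁻¹ * r⁻¹ * e⁻¹ * r)⁻¹ := by group
      _ = _ := by rw [hei]
  have e2 : w⁻¹ * w ^ (a + 1) = (w ^ (a + 1))⁻¹ := by
    refine eq_inv_of_mul_eq_one_left ?_
    rw [mul_assoc, ← pow_add, show a + 1 + (a + 1) = (2 * a + 1) + 1 by ring, ← ha, pow_succ,
      pow_orderOf_eq_one, one_mul, inv_mul_cancel]
  have e3 : e * (w ^ (a + 1))⁻¹ * e = w ^ (a + 1) := by
    rw [← hk, show e * (e * w ^ (a + 1) * e) * e = e * e * w ^ (a + 1) * (e * e) by group, he, one_mul, mul_one]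
  calc e * (r * (w ^ (a + 1))⁻¹) * e = (e * r * e) * (e * (w ^ (a + 1))⁻¹ * e) := by
        rw [show (e * r * e) * (e * (w ^ (a + 1))⁻¹ * e) = e * r * (e * e) * (w ^ (a + 1))⁻¹ * e by group, he]
        group
    _ = r * w⁻¹ * w ^ (a + 1) := by rw [e1, e3]
    _ = _ := by rw [mul_assoc, e2]

/-- a four-group acting on a group of odd order with equal fixed points -/
theorem eq_fixed {R : Subgroup G} (hodd : ∀ x ∈ R, Odd (orderOf x)) {e₁ e₂ : G}
    (h1 : e₁ * e₁ = 1) (h2 : e₂ * e₂ = 1) (h12 : e₁ * e₂ = e₂ * e₁)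
    (hn1 : ∀ x ∈ R, e₁ * x * e₁ ∈ R) (hn2 : ∀ x ∈ R, e₂ * x * e₂ ∈ R)
    (hf12 : ∀ x ∈ R, e₁ * x * e₁ = x → e₂ * x * e₂ = x)
    (hf21 : ∀ x ∈ R, e₂ * x * e₂ = x → e₁ * x * e₁ = x)
    (hf3 : ∀ x ∈ R, e₂ * (e₁ * x * e₁) * e₂ = x → e₁ * x * e₁ = x) :
    ∀ r ∈ R, e₁ * r * e₁ = r := by
  have hI : ∀ i ∈ R, e₁ * i * e₁ = i⁻¹ → i = 1 := by
    intro i hi hinv
    have hwR : e₂ * i⁻¹ * e₂ * i ∈ R := mul_mem (hn2 _ (inv_mem hi)) hi
    obtain ⟨t, k, e, ht, hk, hkw⟩ := exists_inverted_part (r := i) h2 (hodd _ hwR)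
    have hkR : k ∈ R := (Subgroup.zpowers_le.2 hwR) hkw
    have htR : t ∈ R := by
      rw [show t = i * k⁻¹ by rw [e]; group]; exact mul_mem hi (inv_mem hkR)
    have hei : e₁⁻¹ = e₁ := inv_eq_of_mul_eq_one_right h1
    have hek : e₁ * k * e₁ = t⁻¹ * k⁻¹ * t⁻¹ := by
      have ht1 := hf21 t htR ht
      calc e₁ * k * e₁ = (e₁ * t * e₁)⁻¹ * (e₁ * (t * k) * e₁) := by
            rw [show (e₁ * t * e₁)⁻¹ = e₁⁻¹ * t⁻¹ * e₁⁻¹ by group, hei]
            rw [show e₁ * t⁻¹ * e₁ * (e₁ * (t * k) * e₁) = e₁ * t⁻¹ * (e₁ * e₁) * (t * k) * e₁ by group,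
              h1]
            group
        _ = _ := by rw [ht1, ← e, hinv, e]; group
    have hek2 : e₂ * (e₁ * k * e₁) * e₂ = (e₁ * k * e₁)⁻¹ := by
      calc e₂ * (e₁ * k * e₁) * e₂ = (e₂ * e₁) * k * (e₁ * e₂) := by group
        _ = e₁ * (e₂ * k * e₂) * e₁ := by
          rw [show e₁ * (e₂ * k * e₂) * e₁ = (e₁ * e₂) * k * (e₂ * e₁) by group, h12]
        _ = (e₁ * k * e₁)⁻¹ := by
          rw [hk, show (e₁ * k * e₁)⁻¹ = e₁⁻¹ * k⁻¹ * e₁⁻¹ by group, hei]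
    rw [hek] at hek2
    have e22 : e₂⁻¹ = e₂ := inv_eq_of_mul_eq_one_right h2
    have h5 : e₂ * (t⁻¹ * k⁻¹ * t⁻¹) * e₂ = t⁻¹ * k * t⁻¹ := by
      have hinv2 : ∀ x : G, e₂ * x⁻¹ * e₂ = (e₂ * x * e₂)⁻¹ := fun x => by
        rw [show (e₂ * x * e₂)⁻¹ = e₂⁻¹ * x⁻¹ * e₂⁻¹ by group, e22]
      calc e₂ * (t⁻¹ * k⁻¹ * t⁻¹) * e₂
          = (e₂ * t⁻¹ * e₂) * (e₂ * k⁻¹ * e₂) * (e₂ * t⁻¹ * e₂) := by
            rw [show (e₂ * t⁻¹ * e₂) * (e₂ * k⁻¹ * e₂) * (e₂ * t⁻¹ * e₂) =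
              e₂ * t⁻¹ * (e₂ * e₂) * k⁻¹ * (e₂ * e₂) * t⁻¹ * e₂ by group, h2]
            group
        _ = _ := by rw [hinv2, hinv2, ht, hk, inv_inv]
    rw [h5] at hek2
    have h6 : k⁻¹ * t ^ 2 * k = (t ^ 2)⁻¹ := by
      have : t⁻¹ * k * t⁻¹ = t * k * t := by rw [hek2]; group
      calc k⁻¹ * t ^ 2 * k = k⁻¹ * t * (t * k * t) * t⁻¹ := by rw [pow_two]; group
        _ = k⁻¹ * t * (t⁻¹ * k * t⁻¹) * t⁻¹ := by rw [this]
        _ = _ := by rw [pow_two]; group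
    have ht2 : t ^ 2 = 1 := eq_one_of_inverted (hodd _ (pow_mem htR 2)) (hodd _ hkR) h6
    have ht0 : t = 1 := orderOf_eq_one_iff.1
      (Nat.eq_one_of_dvd_coprimes (Nat.coprime_two_left.2 (hodd t htR)) (orderOf_dvd_of_pow_eq_one ht2) dvd_rfl)
    rw [ht0, one_mul] at e
    subst e
    have h3 : e₂ * (e₁ * i * e₁) * e₂ = i := by
      rw [hinv, ← inv_inv (e₂ * i⁻¹ * e₂), show (e₂ * i⁻¹ * e₂)⁻¹ = e₂⁻¹ * i * e₂⁻¹ by group, e22, hk, inv_inv]
    have h4 := hf3 i hi h3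
    rw [hinv] at h4
    exact orderOf_eq_one_iff.1 (Nat.eq_one_of_dvd_coprimes (Nat.coprime_two_left.2 (hodd i hi))
      (orderOf_dvd_of_pow_eq_one (by rw [pow_two]; exact mul_eq_one_iff_eq_inv.2 h4.symm)) dvd_rfl)
  intro r hr
  have hwR : e₁ * r⁻¹ * e₁ * r ∈ R := mul_mem (hn1 _ (inv_mem hr)) hr
  obtain ⟨t, k, e, ht, hk, hkw⟩ := exists_inverted_part (r := r) h1 (hodd _ hwR)
  rw [hI k ((Subgroup.zpowers_le.2 hwR) hkw) hk, mul_one] at e
  rw [e]; exact ht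

/-- transfer: an element outside an index two subgroup of an elementary abelian Sylow 2-subgroup
of a perfect group is conjugate into it -/
theorem exists_conj_mem [Finite G] (S : Sylow 2 G) (hS : ∀ x ∈ (S : Subgroup G), x * x = 1)
    (hperf : commutator G = ⊤) {M : Subgroup G} (hM : M.relIndex (S : Subgroup G) = 2) {a : G}
    (haS : a ∈ (S : Subgroup G)) (haM : a ∉ M) :
    ∃ g : G, g⁻¹ * a * g ∈ (S : Subgroup G) ∧ g⁻¹ * a * g ∈ M := by
  classical
  by_contra hno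
  push Not at hno
  have hidx : (M.subgroupOf (S : Subgroup G)).index = 2 := hM
  let ϕ : (S : Subgroup G) →* Multiplicative (ZMod 2) :=
    MonoidHom.mk' (fun x => if (x : G) ∈ M then 1 else Multiplicative.ofAdd 1) fun x y => by
      have h := Subgroup.mul_mem_iff_of_index_two hidx (a := x) (b := y)
      simp only [Subgroup.mem_subgroupOf, Subgroup.coe_mul] at h
      have h11 : (Multiplicative.ofAdd (1 : ZMod 2)) * Multiplicative.ofAdd 1 = 1 := by decide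
      by_cases hx : (x : G) ∈ M <;> by_cases hy : (y : G) ∈ M <;> simp [hx, hy, h, h11]
  have htriv : MonoidHom.transfer ϕ a = 1 := by
    rw [← MonoidHom.mem_ker]
    exact Abelianization.commutator_subset_ker _ (hperf ▸ Subgroup.mem_top a)
  haveI : Fintype (Quotient (MulAction.orbitRel (Subgroup.zpowers a) (G ⧸ (S : Subgroup G)))) :=
    Fintype.ofFinite _
  have hterm : ∀ q : Quotient (MulAction.orbitRel (Subgroup.zpowers a) (G ⧸ (S : Subgroup G))),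
      ϕ ⟨q.out.out⁻¹ * a ^ Function.minimalPeriod (a • ·) q.out * q.out.out,
          QuotientGroup.out_conj_pow_minimalPeriod_mem (S : Subgroup G) a q.out⟩ =
        Multiplicative.ofAdd ((Function.minimalPeriod (a • ·) q.out : ℕ) : ZMod 2) := by
    intro q
    have hmem := QuotientGroup.out_conj_pow_minimalPeriod_mem (S : Subgroup G) a q.out
    rcases Nat.even_or_odd (Function.minimalPeriod (a • ·) q.out) with ⟨j, hj⟩ | ⟨j, hj⟩
    · have he : a ^ Function.minimalPeriod (a • ·) q.out = 1 := by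
        rw [hj, pow_add, ← (Commute.refl a).mul_pow, hS a haS, one_pow]
      have hz : ((Function.minimalPeriod (a • ·) q.out : ℕ) : ZMod 2) = 0 := by
        rw [ZMod.natCast_eq_zero_iff]; exact ⟨j, by omega⟩
      simp only [he, mul_one, inv_mul_cancel, hz, ofAdd_zero]
      exact map_one ϕ
    · have he : a ^ Function.minimalPeriod (a • ·) q.out = a := by
        rw [hj, pow_succ, pow_mul, pow_two, hS a haS, one_pow, one_mul]
      have hz : ((Function.minimalPeriod (a • ·) q.out : ℕ) : ZMod 2) = 1 := by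
        rw [hj]; push_cast; rw [show (2 : ZMod 2) = 0 from by decide]; ring
      rw [hz]
      rw [he] at hmem
      simp only [he]
      exact if_neg (hno _ hmem)
  have hodd : ((S : Subgroup G).index : ZMod 2) = 1 :=
    ZMod.natCast_eq_one_iff_odd.2 (Nat.not_even_iff_odd.1 fun h =>
      S.not_dvd_index (even_iff_two_dvd.1 h))
  rw [MonoidHom.transfer_eq_prod_quotient_orbitRel_zpowers_quot, Finset.prod_congr rfl (fun q _ => hterm q),
    ← ofAdd_sum, ← Nat.cast_sum, ← Subgroup.index_eq_sum_minimalPeriod, hodd] at htriv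
  exact absurd htriv (by decide)

end Cfsg.Agent.ReeGroup
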