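import Cfsg.Agent.Lib.Classical.PSL2Involutions
import Cfsg.Agent.Lib.Classical.SL2Tori

/-!
# Non-split tori and four-groups of `PSL₂(q)`, `q ≡ 3 mod 8`
-/

set_option autoImplicit false

namespace Cfsg.Agent.ReePSL

open Matrix SL2Inv PSL2Inv SL2Tori TwoByTwo

variable {F : Type*} [Field F] [Finite F]

local notation "S" => Matrix.SpecialLinearGroup (Fin 2) F
local notation "P" => Matrix.ProjectiveSpecialLinearGroup (Fin 2) F

/-- the involution -/
def tP (F : Type*) [Field F] : Matrix.ProjectiveSpecialLinearGroup (Fin 2) F :=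
  PSL2Inv.pr (SL2Inv.w : Matrix.SpecialLinearGroup (Fin 2) F)

variable (h8 : Nat.card F % 8 = 3)

include h8 in
theorem two_ne : (2 : F) ≠ 0 := by
  intro h
  haveI : CharP F 2 := CharTwo.of_one_ne_zero_of_two_eq_zero one_ne_zero h
  let := Fintype.ofFinite F
  obtain ⟨n, hp, hn⟩ := FiniteField.card F 2
  rw [Nat.card_eq_fintype_card, hn] at h8
  have : 2 ∣ 2 ^ (n : ℕ) := dvd_pow_self 2 n.pos.ne'
  omega

include h8 in
theorem noEigen_w : NoEigen (SL2Inv.w : S).1 := by
  classical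
  let := Fintype.ofFinite F
  rw [noEigen_iff]
  intro a ha
  have : IsSquare (-1 : F) := ⟨a, by
    simp [SL2Inv.w, Matrix.trace_fin_two, Matrix.det_fin_two] at ha
    linear_combination -ha⟩
  rw [FiniteField.isSquare_neg_one_iff, ← Nat.card_eq_fintype_card] at this
  omega

include h8 in
theorem card_C_eq : Nat.card (C : Subgroup S) = Nat.card F + 1 := by
  rw [card_C (two_ne h8), if_neg (by omega)]

include h8 in
theorem card_cent_t : Nat.card (Subgroup.centralizer {tP F}) = Nat.card F + 1 := by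
  rw [tP, card_centralizer (two_ne h8), card_C_eq h8]

include h8 in
theorem exists_torus : ∃ γ : P, orderOf γ = (Nat.card F + 1) / 2 ∧ γ ∈ Subgroup.centralizer {tP F} ∧
    tP F ∈ Subgroup.zpowers γ ∧
    (∀ x ∈ Subgroup.zpowers γ, x * x ≠ 1 → ∀ y : P, y * x = x * y → y ∈ Subgroup.zpowers γ) ∧
    ∀ y ∈ Subgroup.centralizer {tP F}, y * γ * y⁻¹ = γ ∨ y * γ * y⁻¹ = γ⁻¹ := by
  have h2 := two_ne (F := F) h8
  have hg := noEigen_w (F := F) h8
  have hCt : (C : Subgroup S) = torus SL2Inv.w := rfl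
  obtain ⟨⟨c, hc⟩, hgen⟩ := (isCyclic_torus hg).exists_generator
  have hpow : ∀ y ∈ (C : Subgroup S), y ∈ Subgroup.zpowers c := fun y hy => by
    obtain ⟨k, hk⟩ := hgen ⟨y, hy⟩
    exact ⟨k, congrArg Subtype.val hk⟩
  have hmap : ∀ x : P, x ∈ Subgroup.zpowers (pr c) ↔ ∃ y ∈ (C : Subgroup S), pr y = x := by
    intro x
    constructor
    · rintro ⟨k, rfl⟩
      exact ⟨c ^ k, zpow_mem hc k, map_zpow _ _ _⟩
    · rintro ⟨y, hy, rfl⟩
      obtain ⟨k, rfl⟩ := hpow y hy
      exact ⟨k, (map_zpow _ _ _).symm⟩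
  refine ⟨pr c, ?_, ?_, (hmap _).2 ⟨_, w_mem_C, rfl⟩, ?_, ?_⟩
  · have hoc : orderOf c = Nat.card F + 1 := by
      rw [← card_C_eq h8, ← Nat.card_zpowers]
      exact congrArg (fun H : Subgroup S => Nat.card H)
        (le_antisymm (Subgroup.zpowers_le.2 hc) fun y hy => hpow y hy)
    refine Nat.dvd_antisymm ?_ ?_
    · rw [orderOf_dvd_iff_pow_eq_one, ← map_pow, pr_eq_one_iff]
      refine eq_or_eq_negOne_of_mul_self h2 ?_
      rw [← pow_add, show (Nat.card F + 1) / 2 + (Nat.card F + 1) / 2 = Nat.card F + 1 by omega, ← hoc,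
        pow_orderOf_eq_one]
    · have h1 := pow_orderOf_eq_one (pr c)
      rw [← map_pow, pr_eq_one_iff] at h1
      have h3 : c ^ (2 * orderOf (pr c)) = 1 := by
        rw [mul_comm, pow_mul]
        rcases h1 with h | h <;> rw [h, pow_two]
        · exact one_mul _
        · exact negOne_mul_self
      have h4 := orderOf_dvd_of_pow_eq_one h3
      rw [hoc, show Nat.card F + 1 = 2 * ((Nat.card F + 1) / 2) by omega] at h4
      exact Nat.dvd_of_mul_dvd_mul_left two_pos h4
  · rw [Subgroup.mem_centralizer_singleton_iff, tP, ← map_mul, ← map_mul, mem_C.1 hc]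
  · intro x hx hxx y hyx
    obtain ⟨x₀, hx₀, rfl⟩ := (hmap x).1 hx
    obtain ⟨y₀, rfl⟩ := pr_surjective y
    rw [← map_mul, ← map_mul, pr_eq_iff] at hyx
    rcases hyx with h | h
    · have hns : ¬ IsScalar x₀.1 := fun hs => hxx (by
        have : x₀ = 1 ∨ x₀ = negOne := by
          rcases val_eq_pm_one hs with e | e
          · exact Or.inl (Subtype.ext e)
          · exact Or.inr (Subtype.ext (e.trans coe_negOne.symm))
        rw [← map_mul, pr_eq_one_iff]
        rcases this with rfl | rfl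
        · exact Or.inl (one_mul _)
        · exact Or.inl negOne_mul_self)
      have hy : y₀ ∈ torus x₀ := Subgroup.mem_centralizer_singleton_iff.2 h.symm
      rw [torus_eq (not_scalar hg) hx₀ hns] at hy
      exact (hmap _).2 ⟨y₀, hy, rfl⟩
    · exfalso
      have ht : x₀.1.trace = (negOne * x₀ : S).1.trace := by
        have e : negOne * x₀ = y₀⁻¹ * x₀ * y₀⁻¹⁻¹ := by
          rw [inv_inv]
          calc negOne * x₀ = y₀⁻¹ * (y₀ * negOne) * x₀ := by rw [inv_mul_cancel_left]
            _ = y₀⁻¹ * (negOne * (y₀ * x₀)) := by rw [← negOne_comm y₀]; simp only [mul_assoc]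
            _ = y₀⁻¹ * x₀ * y₀ := by rw [← h, mul_assoc]
        rw [e, SL2Tori.trace_conj]
      rw [Matrix.SpecialLinearGroup.coe_mul, coe_negOne, neg_one_mul, Matrix.trace_neg] at ht
      have h0 : x₀.1.trace = 0 := by
        have : (2 : F) * x₀.1.trace = 0 := by linear_combination ht
        exact (mul_eq_zero.1 this).resolve_left h2
      exact hxx (pr_mul_self h0)
  · intro y hy
    obtain ⟨y₀, rfl⟩ := pr_surjective y
    have hD : y₀ ∈ (D : Subgroup S) := hy
    obtain ⟨j, hj⟩ := exists_anti (F := F) h2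
    rcases D_dichotomy hj hD with h | h
    · left
      have : y₀ * c = c * y₀ := torus_comm (not_scalar hg) y₀ h c hc
      rw [← map_inv, ← map_mul, ← map_mul, this, mul_inv_cancel_right]
    · right
      have e : y₀ * c * y₀⁻¹ = j * c * j⁻¹ := by
        have : (j⁻¹ * y₀) * c = c * (j⁻¹ * y₀) := torus_comm (not_scalar hg) _ h c hc
        calc y₀ * c * y₀⁻¹ = j * ((j⁻¹ * y₀) * c) * (j⁻¹ * y₀)⁻¹ * j⁻¹ := by group
          _ = j * c * j⁻¹ := by rw [this]; group
      rw [← map_inv, ← map_mul, ← map_mul, e, hj.conj_C hc, map_inv]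

include h8 in
/-- a four-group through the involution with an element cycling it -/
theorem exists_four : ∃ u h : P, u ∈ Subgroup.centralizer {tP F} ∧ u * u = 1 ∧ u ≠ 1 ∧ u ≠ tP F ∧
    h * tP F * h⁻¹ = tP F * u ∧ h * (tP F * u) * h⁻¹ = u ∧ h * u * h⁻¹ = tP F ∧ h ^ 3 = 1 := by
  have h2 := two_ne (F := F) h8
  obtain ⟨j, hj⟩ := exists_anti (F := F) h2
  obtain ⟨h, h3, e1, e2, e3⟩ := hj.exists_cycle h2
  refine ⟨pr j, pr h, ?_, pr_mul_self hj.1, pr_ne_one h2 hj.1, (pr_w_ne h2 hj).symm, ?_, ?_, ?_, ?_⟩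
  · rw [Subgroup.mem_centralizer_singleton_iff, tP, ← map_mul, ← map_mul, hj.2, map_mul, pr_negOne, one_mul]
  all_goals simp only [tP, ← map_inv, ← map_mul, ← map_pow]
  · rw [e1]
  · rw [e2]
  · rw [e3]
  · rw [h3, map_one]

include h8 in
theorem isConj_t {x : P} (hx : x * x = 1) (hx1 : x ≠ 1) : IsConj (tP F) x :=
  isConj_pr_w (two_ne h8) hx hx1

include h8 in
theorem card_sl : Nat.card S = 2 * Nat.card P := card_sl_eq (two_ne h8)

end Cfsg.Agent.ReePSL
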