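import Cfsg.Agent.Lib.Lie.Ree4
import Cfsg.Agent.Lib.Lie.ReePSL
import Cfsg.Agent.Lib.Lie.ReeGroup

/-!
# Sylow 2-subgroups and the tori of order `(q+1)/4` in the small Ree groups
-/

set_option autoImplicit false

namespace Cfsg.Agent.Chev.Ree

open Cfsg.Lie TwG2 Tab

variable {F : Type*} [Field F] [CharP F 3] [Fintype F] {m : ℕ} (hK : Fintype.card F = 3 ^ (2 * m + 1))

local notation "P" => Matrix.ProjectiveSpecialLinearGroup (Fin 2) F

include hK in
/-- the basic involution -/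
noncomputable def a0 : Gr F m := Hh hK (-1)

theorem a0_sq : a0 hK * a0 hK = 1 := by rw [a0, ← map_mul, neg_mul_neg, one_mul, map_one]

theorem a0_ne : a0 hK ≠ 1 := fun h => neg_one_ne (F := F)
  (by simpa using congrArg Units.val (Hh_injective hK (h.trans (map_one (Hh hK)).symm)))

theorem card_mod' (hK : Fintype.card F = 3 ^ (2 * m + 1)) : Nat.card F % 8 = 3 := by
  rw [Nat.card_eq_fintype_card]; exact card_mod hK

include hK in
theorem exists_phi : ∃ φ : P →* Gr F m, Function.Injective φ ∧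
    (∀ p, a0 hK * φ p = φ p * a0 hK) ∧ (∀ p, φ p ≠ a0 hK) ∧
    ∀ g, g * a0 hK = a0 hK * g → ∃ p, g = φ p ∨ g = a0 hK * φ p := by
  obtain ⟨Φ, hΦ, hσ⟩ := exists_iso hK
  set σ : Multiplicative (ZMod 2) := Multiplicative.ofAdd (1 : ZMod 2) with hσdef
  have hle : cen F m ≤ tw F (3 ^ m) := inf_le_left
  have hval : ((Φ (σ, 1) : ↥(cen F m)) : GL G2Data.tab.D.Idx F) = (a0 hK : GL G2Data.tab.D.Idx F) := hσ
  refine ⟨((Subgroup.inclusion hle).comp Φ).comp (MonoidHom.inr _ _),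
    ((Subgroup.inclusion_injective hle).comp hΦ.1).comp (fun a b h => congrArg Prod.snd h),
    fun p => Subtype.ext ?_, fun p h => ?_, fun g hg => ?_⟩
  · show (a0 hK : GL G2Data.tab.D.Idx F) * (Φ (1, p) : ↥(cen F m)) = (Φ (1, p) : ↥(cen F m)) * (a0 hK : GL G2Data.tab.D.Idx F)
    rw [← hval, ← Subgroup.coe_mul, ← Subgroup.coe_mul, ← map_mul, ← map_mul]
    simp
  · have : Φ (1, p) = Φ (σ, 1) := Subtype.ext ((congrArg Subtype.val h).trans hval.symm)
    exact absurd (congrArg Prod.fst (hΦ.1 this)) (show (1 : Multiplicative (ZMod 2)) ≠ σ by rw [hσdef]; decide)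
  · have hgc : (g : GL G2Data.tab.D.Idx F) ∈ cen F m :=
      ⟨g.2, Subgroup.mem_centralizer_singleton_iff.2 (congrArg Subtype.val hg)⟩
    obtain ⟨⟨x, p⟩, hxp⟩ := hΦ.2 ⟨_, hgc⟩
    refine ⟨p, ?_⟩
    have hxp' : ((Φ (x, p) : ↥(cen F m)) : GL G2Data.tab.D.Idx F) = g := congrArg Subtype.val hxp
    rcases z2_cases x with rfl | rfl
    · exact Or.inl (Subtype.ext hxp'.symm)
    · refine Or.inr (Subtype.ext ?_)
      rw [Subgroup.coe_mul, ← hval, ← hxp']
      show _ = ((Φ (σ, 1) : ↥(cen F m)) : GL G2Data.tab.D.Idx F) * (Φ (1, p) : ↥(cen F m))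
      rw [← Subgroup.coe_mul, ← map_mul]
      simp [hσdef]

include hK in
/-- the embedding of `PSL₂` -/
noncomputable def phi : P →* Gr F m := Classical.choose (exists_phi hK)

theorem phi_injective : Function.Injective (phi hK) := (Classical.choose_spec (exists_phi hK)).1

theorem phi_comm (p : P) : a0 hK * phi hK p = phi hK p * a0 hK :=
  (Classical.choose_spec (exists_phi hK)).2.1 p

theorem phi_ne (p : P) : phi hK p ≠ a0 hK := (Classical.choose_spec (exists_phi hK)).2.2.1 p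

theorem cent_a0 {g : Gr F m} (hg : g * a0 hK = a0 hK * g) :
    ∃ p, g = phi hK p ∨ g = a0 hK * phi hK p := (Classical.choose_spec (exists_phi hK)).2.2.2 g hg

/-- membership of `⟨a₀⟩ × φ(V)` -/
def Ext (V : Subgroup P) : Subgroup (Gr F m) where
  carrier := {g | ∃ p ∈ V, g = phi hK p ∨ g = a0 hK * phi hK p}
  one_mem' := ⟨1, one_mem _, Or.inl (map_one _).symm⟩
  mul_mem' := by
    rintro a b ⟨p, hp, ha⟩ ⟨p', hp', hb⟩
    refine ⟨p * p', mul_mem hp hp', ?_⟩
    rcases ha with rfl | rfl <;> rcases hb with rfl | rfl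
    · exact Or.inl (map_mul _ _ _).symm
    · exact Or.inr (by rw [map_mul, ← mul_assoc, ← phi_comm, mul_assoc])
    · exact Or.inr (by rw [map_mul, mul_assoc])
    · exact Or.inl (by
        rw [map_mul, mul_assoc, ← mul_assoc (phi hK p), ← phi_comm, ← mul_assoc, ← mul_assoc, a0_sq, one_mul])
  inv_mem' := by
    rintro a ⟨p, hp, ha⟩
    refine ⟨p⁻¹, inv_mem hp, ?_⟩
    rcases ha with rfl | rfl
    · exact Or.inl (map_inv _ _).symm
    · exact Or.inr (by
        rw [_root_.mul_inv_rev, map_inv, inv_eq_of_mul_eq_one_right (a0_sq hK)]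
        have := phi_comm hK p⁻¹
        rw [map_inv] at this
        exact this.symm)

theorem mem_Ext {V : Subgroup P} {g : Gr F m} :
    g ∈ Ext hK V ↔ ∃ p ∈ V, g = phi hK p ∨ g = a0 hK * phi hK p := Iff.rfl

theorem phi_mem_Ext {V : Subgroup P} {p : P} : phi hK p ∈ Ext hK V ↔ p ∈ V := by
  refine ⟨?_, fun h => ⟨p, h, Or.inl rfl⟩⟩
  rintro ⟨p', hp', e | e⟩
  · rwa [phi_injective hK e]
  · exact absurd (show phi hK (p * p'⁻¹) = a0 hK by rw [map_mul, e, map_inv, mul_inv_cancel_right]) (phi_ne hK _)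

theorem a0_mem_Ext (V : Subgroup P) : a0 hK ∈ Ext hK V :=
  ⟨1, one_mem _, Or.inr (by rw [map_one, mul_one])⟩

theorem card_Ext (V : Subgroup P) : Nat.card (Ext hK V) = 2 * Nat.card V := by
  let f : Bool × V → Ext hK V := fun x =>
    if x.1 then ⟨a0 hK * phi hK x.2, x.2, x.2.2, Or.inr rfl⟩ else ⟨phi hK x.2, x.2, x.2.2, Or.inl rfl⟩
  have hf : Function.Bijective f := by
    constructor
    · rintro ⟨x, p⟩ ⟨y, q⟩ e
      have e' := congrArg Subtype.val e
      cases x <;> cases y <;> simp [f] at e'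
      · exact Prod.ext rfl (Subtype.ext (phi_injective hK e'))
      · exact absurd (show phi hK ((p : P) * (q : P)⁻¹) = a0 hK by rw [map_mul, e', map_inv, mul_inv_cancel_right]) (phi_ne hK _)
      · exact absurd (show phi hK ((q : P) * (p : P)⁻¹) = a0 hK by rw [map_mul, ← e', map_inv, mul_inv_cancel_right]) (phi_ne hK _)
      · exact Prod.ext rfl (Subtype.ext (phi_injective hK e'))
    · rintro ⟨g, p, hp, rfl | rfl⟩
      · exact ⟨(false, ⟨p, hp⟩), rfl⟩
      · exact ⟨(true, ⟨p, hp⟩), rfl⟩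
  rw [← Nat.card_eq_of_bijective f hf, Nat.card_prod]
  simp

/-! ### the chosen elements of `PSL₂` -/

/-- a generator of the torus through `t` -/
noncomputable def gam : P := Classical.choose (ReePSL.exists_torus (card_mod' hK))

theorem orderOf_gam : orderOf (gam hK) = (Nat.card F + 1) / 2 :=
  (Classical.choose_spec (ReePSL.exists_torus (card_mod' hK))).1

theorem gam_mem : gam hK ∈ Subgroup.centralizer {ReePSL.tP F} :=
  (Classical.choose_spec (ReePSL.exists_torus (card_mod' hK))).2.1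

theorem t_mem_gam : ReePSL.tP F ∈ Subgroup.zpowers (gam hK) :=
  (Classical.choose_spec (ReePSL.exists_torus (card_mod' hK))).2.2.1

theorem cent_gam {x y : P} (hx : x ∈ Subgroup.zpowers (gam hK)) (hxx : x * x ≠ 1) (h : y * x = x * y) :
    y ∈ Subgroup.zpowers (gam hK) :=
  (Classical.choose_spec (ReePSL.exists_torus (card_mod' hK))).2.2.2.1 x hx hxx y h

theorem conj_gam {y : P} (hy : y ∈ Subgroup.centralizer {ReePSL.tP F}) :
    y * gam hK * y⁻¹ = gam hK ∨ y * gam hK * y⁻¹ = (gam hK)⁻¹ :=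
  (Classical.choose_spec (ReePSL.exists_torus (card_mod' hK))).2.2.2.2 y hy

/-- the second involution of the four-group -/
noncomputable def uP' : P := Classical.choose (ReePSL.exists_four (card_mod' hK))

/-- the element cycling the four-group -/
noncomputable def hP : P :=
  Classical.choose (Classical.choose_spec (ReePSL.exists_four (card_mod' hK)))

theorem uP'_spec : uP' hK ∈ Subgroup.centralizer {ReePSL.tP F} ∧ uP' hK * uP' hK = 1 ∧ uP' hK ≠ 1 ∧
    uP' hK ≠ ReePSL.tP F ∧ hP hK * ReePSL.tP F * (hP hK)⁻¹ = ReePSL.tP F * uP' hK ∧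
    hP hK * (ReePSL.tP F * uP' hK) * (hP hK)⁻¹ = uP' hK ∧ hP hK * uP' hK * (hP hK)⁻¹ = ReePSL.tP F ∧
    hP hK ^ 3 = 1 :=
  Classical.choose_spec (Classical.choose_spec (ReePSL.exists_four (card_mod' hK)))

theorem t_sq : ReePSL.tP F * ReePSL.tP F = 1 := PSL2Inv.pr_mul_self SL2Inv.trace_w

include hK in
theorem t_ne : ReePSL.tP F ≠ 1 :=
  PSL2Inv.pr_ne_one (ReePSL.two_ne (card_mod' hK)) SL2Inv.trace_w

theorem tu_comm : ReePSL.tP F * uP' hK = uP' hK * ReePSL.tP F :=
  (Subgroup.mem_centralizer_singleton_iff.1 (uP'_spec hK).1).symm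

/-- the four-group of `PSL₂` -/
noncomputable def Vp : Subgroup P where
  carrier := {p | p = 1 ∨ p = ReePSL.tP F ∨ p = uP' hK ∨ p = ReePSL.tP F * uP' hK}
  one_mem' := Or.inl rfl
  mul_mem' := by
    obtain ⟨-, hu, -⟩ := uP'_spec hK
    have h1 : ReePSL.tP F * (ReePSL.tP F * uP' hK) = uP' hK := by rw [← mul_assoc, t_sq, one_mul]
    have h2 : uP' hK * (ReePSL.tP F * uP' hK) = ReePSL.tP F := by
      rw [tu_comm, ← mul_assoc, hu, one_mul]
    rintro a b (rfl | rfl | rfl | rfl) (rfl | rfl | rfl | rfl)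
    all_goals simp [mul_assoc, t_sq, hu, ← tu_comm, h1, h2]
  inv_mem' := by
    obtain ⟨-, hu, -⟩ := uP'_spec hK
    rintro a (rfl | rfl | rfl | rfl)
    · left; simp
    · right; left; exact inv_eq_of_mul_eq_one_right t_sq
    · right; right; left; exact inv_eq_of_mul_eq_one_right hu
    · right; right; right
      rw [_root_.mul_inv_rev, inv_eq_of_mul_eq_one_right hu, inv_eq_of_mul_eq_one_right t_sq, tu_comm]

theorem card_Vp : Nat.card (Vp hK) = 4 := by
  obtain ⟨-, hu, hu1, hut, -⟩ := uP'_spec hK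
  have ht := t_ne hK
  have h3 : ReePSL.tP F * uP' hK ≠ 1 := fun h => hut (by
    rw [← inv_eq_of_mul_eq_one_right h, inv_eq_of_mul_eq_one_right t_sq])
  show Nat.card ({p | p = 1 ∨ p = ReePSL.tP F ∨ p = uP' hK ∨ p = ReePSL.tP F * uP' hK} : Set P) = 4
  rw [show ({p | p = 1 ∨ p = ReePSL.tP F ∨ p = uP' hK ∨ p = ReePSL.tP F * uP' hK} : Set P) =
    {1, ReePSL.tP F, uP' hK, ReePSL.tP F * uP' hK} from rfl, Nat.card_coe_set_eq,
    Set.ncard_insert_of_notMem (by simp [ht.symm, hu1.symm, h3.symm]),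
    Set.ncard_insert_of_notMem (by simp [hut.symm, hu1]),
    Set.ncard_insert_of_notMem (by simp [ht]), Set.ncard_singleton]

theorem sq_Vp {p : P} (hp : p ∈ Vp hK) : p * p = 1 := by
  obtain ⟨-, hu, -⟩ := uP'_spec hK
  rcases hp with rfl | rfl | rfl | rfl
  · exact one_mul _
  · exact t_sq
  · exact hu
  · rw [show ReePSL.tP F * uP' hK * (ReePSL.tP F * uP' hK) =
      ReePSL.tP F * (uP' hK * ReePSL.tP F) * uP' hK by simp only [mul_assoc], ← tu_comm, ← mul_assoc,
      t_sq, one_mul, hu]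

theorem h_Vp {p : P} (hp : p ∈ Vp hK) : hP hK * p * (hP hK)⁻¹ ∈ Vp hK := by
  obtain ⟨-, -, -, -, e1, e2, e3, -⟩ := uP'_spec hK
  rcases hp with rfl | rfl | rfl | rfl
  · left; group
  · right; right; right; exact e1
  · right; left; exact e3
  · right; right; left; exact e2

theorem h_fix {p : P} (hp : p ∈ Vp hK) (h : hP hK * p * (hP hK)⁻¹ = p) : p = 1 := by
  obtain ⟨-, -, hu1, hut, e1, e2, e3, -⟩ := uP'_spec hK
  rcases hp with rfl | rfl | rfl | rfl
  · rfl
  · exact absurd (e1.symm.trans h) (fun e => hu1 (mul_eq_left.1 e))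
  · exact absurd (e3.symm.trans h) hut.symm
  · exact absurd (e2.symm.trans h) (fun e => t_ne hK (right_eq_mul.1 e))

/-- the Sylow 2-subgroup -/
noncomputable def S0 : Subgroup (Gr F m) := Ext hK (Vp hK)

theorem card_S0 : Nat.card (S0 hK) = 8 := by rw [S0, card_Ext, card_Vp]

theorem sq_S0 {g : Gr F m} (hg : g ∈ S0 hK) : g * g = 1 := by
  obtain ⟨p, hp, rfl | rfl⟩ := hg
  · rw [← map_mul, sq_Vp hK hp, map_one]
  · rw [show a0 hK * phi hK p * (a0 hK * phi hK p) = a0 hK * (phi hK p * a0 hK) * phi hK p by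
      simp only [mul_assoc], ← phi_comm, ← mul_assoc, a0_sq, one_mul, ← map_mul, sq_Vp hK hp, map_one]

/-- as a Sylow subgroup -/
noncomputable def S0s [Fact (Nat.Prime 2)] : Sylow 2 (Gr F m) :=
  Sylow.ofCard (S0 hK) (by rw [card_S0, card_two_part hK]; norm_num)

include hK in
theorem perfect (hm : 1 ≤ m) : commutator (Gr F m) = ⊤ := by
  refine Subgroup.map_injective (tw F (3 ^ m)).subtype_injective ?_
  rw [Subgroup.map_subtype_commutator, ← MonoidHom.range_eq_map, Subgroup.range_subtype]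
  exact derived hK hm

/-- every involution is conjugate to `a₀` -/
theorem invol_conj (hm : 1 ≤ m) {z : Gr F m} (hz : z * z = 1) (hz1 : z ≠ 1) :
    ∃ g, g * z * g⁻¹ = a0 hK := by
  haveI : Fact (Nat.Prime 2) := ⟨Nat.prime_two⟩
  let t := phi hK (ReePSL.tP F)
  have hφt : ∀ p : P, p * p = 1 → p ≠ 1 → ∃ g, g * t * g⁻¹ = phi hK p := by
    intro p hp hp1
    obtain ⟨c, hc⟩ := isConj_iff.1 (ReePSL.isConj_t (card_mod' hK) hp hp1)
    exact ⟨phi hK c, by rw [← map_inv, ← map_mul, ← map_mul, hc]⟩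
  set M : Subgroup (Gr F m) := (Vp hK).map (phi hK) with hM
  have hMle : M ≤ S0 hK := by
    rintro _ ⟨p, hp, rfl⟩; exact (phi_mem_Ext hK).2 hp
  have hMi : M.relIndex ((S0s hK : Sylow 2 (Gr F m)) : Subgroup (Gr F m)) = 2 := by
    show M.relIndex (S0 hK) = 2
    have h := Subgroup.card_mul_index (M.subgroupOf (S0 hK))
    rw [Nat.card_congr (Subgroup.subgroupOfEquivOfLe hMle).toEquiv, card_S0, hM,
      ← Nat.card_congr (Subgroup.equivMapOfInjective _ _ (phi_injective hK)).toEquiv, card_Vp] at h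
    rw [Subgroup.relIndex]
    exact Nat.eq_of_mul_eq_mul_left (by norm_num : 0 < 4) (h.trans rfl)
  have hout : ∀ a ∈ S0 hK, a ∉ M → ∃ g, g * t * g⁻¹ = a := by
    intro a ha haM
    obtain ⟨g, -, p, hp, e⟩ := ReeGroup.exists_conj_mem (S0s hK) (fun x hx => sq_S0 hK hx)
      (perfect hK hm) hMi ha haM
    have hp1 : p ≠ 1 := by
      rintro rfl
      rw [map_one] at e
      refine haM ?_
      have : a = 1 := by simpa [mul_assoc] using congrArg (fun z => g * z * g⁻¹) e.symm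
      rw [this]; exact one_mem _
    obtain ⟨c, hc⟩ := hφt p (sq_Vp hK hp) hp1
    exact ⟨g * c, by rw [show g * c * t * (g * c)⁻¹ = g * (c * t * c⁻¹) * g⁻¹ by group, hc, e]; group⟩
  have hall : ∀ a ∈ S0 hK, a ≠ 1 → ∃ g, g * t * g⁻¹ = a := by
    intro a ha ha1
    by_cases haM : a ∈ M
    · obtain ⟨p, hp, rfl⟩ := haM
      exact hφt p (sq_Vp hK hp) fun h => ha1 (by rw [h, map_one])
    · exact hout a ha haM
  obtain ⟨c, hc⟩ := hall _ (a0_mem_Ext hK _) (a0_ne hK)
  obtain ⟨Q, hQ⟩ := (IsPGroup.of_card (n := 1) (by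
    rw [pow_one, Nat.card_zpowers]; exact orderOf_eq_prime (by rw [pow_two]; exact hz) hz1) :
      IsPGroup 2 (Subgroup.zpowers z)).exists_le_sylow
  obtain ⟨d, hd⟩ := MulAction.exists_smul_eq (Gr F m) Q (S0s hK)
  have hdz : d * z * d⁻¹ ∈ S0 hK := by
    show d * z * d⁻¹ ∈ ((S0s hK : Sylow 2 (Gr F m)) : Subgroup (Gr F m))
    rw [← hd, Sylow.coe_subgroup_smul]
    exact Subgroup.mem_map_of_mem _ (hQ (Subgroup.mem_zpowers z))
  obtain ⟨e, he⟩ := hall _ hdz fun h => hz1 (conj_eq_one_iff.1 h)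
  refine ⟨c * e⁻¹ * d, ?_⟩
  rw [show c * e⁻¹ * d * z * (c * e⁻¹ * d)⁻¹ = c * (e⁻¹ * (d * z * d⁻¹) * e) * c⁻¹ by group, ← he, ← hc]
  group

theorem unique_invol {H : Type*} [Group H] [Finite H] {g y z : H} (hy : y ∈ Subgroup.zpowers g)
    (hz : z ∈ Subgroup.zpowers g) (hy2 : y * y = 1) (hz2 : z * z = 1) (hy1 : y ≠ 1) (hz1 : z ≠ 1) :
    y = z := by
  classical
  have key : ∀ y ∈ Subgroup.zpowers g, y * y = 1 → y ≠ 1 → ∃ i, 2 * i = orderOf g ∧ g ^ i = y := by
    intro y hy hy2 hy1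
    obtain ⟨i, hi, rfl⟩ := Finset.mem_image.1 (mem_zpowers_iff_mem_range_orderOf.1 hy)
    rw [← pow_add, ← two_mul] at hy2
    obtain ⟨c, hc⟩ := orderOf_dvd_of_pow_eq_one hy2
    have hi' := Finset.mem_range.1 hi
    refine ⟨i, ?_, rfl⟩
    rcases c with _ | _ | c
    · exact absurd (by rw [show i = 0 by omega, pow_zero]) hy1
    · omega
    · rw [mul_add, mul_add] at hc; omega
  obtain ⟨i, hi, rfl⟩ := key y hy hy2 hy1
  obtain ⟨j, hj, rfl⟩ := key z hz hz2 hz1
  rw [show i = j by omega]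

include hK in
theorem card_large (hm : 1 ≤ m) : 27 ≤ Nat.card F := by
  rw [Nat.card_eq_fintype_card, hK]
  calc 27 = 3 ^ 3 := rfl
    _ ≤ _ := Nat.pow_le_pow_right (by norm_num) (by omega)

theorem gam_sq_ne (hm : 1 ≤ m) : gam hK * gam hK ≠ 1 := by
  intro h
  have h2 := Nat.le_of_dvd two_pos (orderOf_dvd_of_pow_eq_one (show gam hK ^ 2 = 1 by rw [pow_two]; exact h))
  rw [orderOf_gam] at h2
  have := card_large hK hm
  omega

theorem low_gam {y : P} (hy : y ∈ Subgroup.zpowers (gam hK)) (hy2 : y * y = 1) :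
    y = 1 ∨ y = ReePSL.tP F :=
  or_iff_not_imp_left.2 fun h => unique_invol hy (t_mem_gam hK) hy2 t_sq h (t_ne hK)

/-- centraliser of the four-group inside `PSL₂` -/
theorem cent_Vp (hm : 1 ≤ m) {p : P} (ht : p * ReePSL.tP F = ReePSL.tP F * p)
    (hu : p * uP' hK = uP' hK * p) : p ∈ Vp hK := by
  obtain ⟨huC, hu2, hu1, hut, -⟩ := uP'_spec hK
  have hgg := gam_sq_ne hK hm
  have hlow := fun y hy h => low_gam hK (y := y) hy h
  have huinv : uP' hK * gam hK * (uP' hK)⁻¹ = (gam hK)⁻¹ := by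
    rcases conj_gam hK huC with h | h
    · exfalso
      have hu' := cent_gam hK (Subgroup.mem_zpowers _) hgg (mul_inv_eq_iff_eq_mul.1 h)
      rcases hlow _ hu' hu2 with h | h
      · exact hu1 h
      · exact hut h
    · exact h
  rcases conj_gam hK (Subgroup.mem_centralizer_singleton_iff.2 ht) with h | h
  · have hp := cent_gam hK (Subgroup.mem_zpowers _) hgg (mul_inv_eq_iff_eq_mul.1 h)
    obtain ⟨n, hn⟩ := hp
    have hpp : p * p = 1 := by
      have h1 : uP' hK * p * (uP' hK)⁻¹ = p⁻¹ := by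
        rw [← hn, ← conj_zpow, huinv, inv_zpow]
      rw [← hu, mul_inv_cancel_right] at h1
      exact mul_eq_one_iff_eq_inv.2 h1
    rcases hlow _ ⟨n, hn⟩ hpp with h | h
    · exact Or.inl h
    · exact Or.inr (Or.inl h)
  · have hq : p * uP' hK * gam hK * (p * uP' hK)⁻¹ = gam hK := by
      rw [show p * uP' hK * gam hK * (p * uP' hK)⁻¹ = p * (uP' hK * gam hK * (uP' hK)⁻¹) * p⁻¹ by group,
        huinv, show p * (gam hK)⁻¹ * p⁻¹ = (p * gam hK * p⁻¹)⁻¹ by group, h, inv_inv]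
    have hq' := cent_gam hK (Subgroup.mem_zpowers _) hgg (mul_inv_eq_iff_eq_mul.1 hq)
    have hqq : p * uP' hK * (p * uP' hK) = 1 := by
      have h1 : uP' hK * (p * uP' hK) * (uP' hK)⁻¹ = (p * uP' hK)⁻¹ := by
        obtain ⟨n, hn⟩ := hq'
        rw [← hn, ← conj_zpow, huinv, inv_zpow]
      rw [← mul_assoc, ← hu, mul_inv_cancel_right] at h1
      exact mul_eq_one_iff_eq_inv.2 h1
    have hp2 : p = p * uP' hK * uP' hK := by rw [mul_assoc, hu2, mul_one]
    rcases hlow _ hq' hqq with h | h <;> rw [h] at hp2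
    · exact Or.inr (Or.inr (Or.inl (by rw [hp2, one_mul])))
    · exact Or.inr (Or.inr (Or.inr hp2))

end Cfsg.Agent.Chev.Ree
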