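import Cfsg.Agent.Lib.Lie.ChevLead
import Cfsg.Agent.Lib.Lie.ChevSylow
import Cfsg.Agent.Lib.ChevAut.ParabolicCharP
import Cfsg.Agent.Lib.Blocks.TameInter
import Cfsg.Agent.Lib.Blocks.Degree
import Cfsg.Agent.Lib.Steinberg.ChevUnique

/-!
# The blocks of the Chevalley groups in their own characteristic

Defect groups are tame Sylow intersections; such an intersection is `U ∩ n U n⁻¹`, its root
subgroups are centralised by a fixed representative, and tameness then rules out the mixed case.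
-/

set_option autoImplicit false
set_option linter.style.haveILetI false

namespace Cfsg.Agent.Chev

open Cfsg Cfsg.Lie Cfsg.Agent.Blocks

namespace Tab

universe v

variable {T : Tab} {K : List (List ℕ)} {F : Type v} [Field F]

/-- Weyl words act linearly on the Cartan integers. -/
theorem A_rw'_linear (g : T.Good) : ∀ {L : List ℕ}, T.Wd L → ∀ {r s t : ℕ}, r < T.n → s < T.n →
    t < T.n → ∀ k : ℤ, (∀ j < T.l, T.A j t = T.A j r + k * T.A j s) →
    ∀ j < T.l, T.A j (T.rw' L t) = T.A j (T.rw' L r) + k * T.A j (T.rw' L s)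
  | [], _, _, _, _, _, _, _, _, h => h
  | i :: L, hL, r, s, t, hr, hs, ht, k, h => by
    obtain ⟨hi, hL⟩ := Wd.cons_iff.1 hL
    have ih := A_rw'_linear g hL hr hs ht k h
    intro j hj
    rw [rw'_cons, rw'_cons, rw'_cons, A_ref g hi hj (rw'_lt g hL ht), A_ref g hi hj (rw'_lt g hL hr),
      A_ref g hi hj (rw'_lt g hL hs), ih j hj, ih i hi]
    ring

/-- A positive root centralised modulo `B` by `n b` is fixed by the Weyl element. -/
theorem fixed_of_commute (g : T.GoodA) {L : List ℕ} (hL : T.Wd L) {b : GL T.D.Idx F}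
    (hb : b ∈ T.D.borelSubgroup F) {r : ℕ} (hr : r ∈ T.psi L)
    (hcomm : Commute (nWd g.toGood F L * b) (xg g.toGood r (1 : F))) :
    T.rw' L.reverse r = r := by
  have hg := g.toGood
  obtain ⟨hrN, hrn, hpN⟩ := hr
  set p := T.rw' L.reverse r with hp
  have hpn : p < T.n := rw'_lt hg hL.reverse hrn
  obtain ⟨ε, hε⟩ := xg_psi_conj (F := F) g hL hrn (1 : F)
  obtain ⟨u, hu, c, rfl⟩ := (mem_borel_iff hg).1 hb
  obtain ⟨z, hz, hz'⟩ := ChevAut.pos_conj_low g hrN hrn hu ((wt T F c r : F) * 1)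
  have key : xg hg p ((ε : F) * 1) = xg hg r ((wt T F c r : F) * 1) * z := by
    rw [← hz', ← tor_xg hg c hrn, ← hε]
    set n := nWd hg F L
    set x := xg hg r (1 : F)
    have h := hcomm.eq
    calc n⁻¹ * x * n = n⁻¹ * (x * (n * (u * tor T F c))) * (u * tor T F c)⁻¹ := by group
      _ = n⁻¹ * ((n * (u * tor T F c)) * x) * (u * tor T F c)⁻¹ := by rw [h]
      _ = _ := by group
  rcases lt_trichotomy p r with h | h | h
  · exfalso
    have hmem : xg hg p ((ε : F) * 1) ∈ genS hg F (Set.Ico (p + 1) T.n) := by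
      rw [key]
      exact mul_mem (xg_mem_genS hg (show r ∈ Set.Ico (p + 1) T.n from ⟨h, hrn⟩) _)
        (genS_mono hg (Set.Ico_subset_Ico_left (by omega : p + 1 ≤ r + 1)) hz)
    have h0 := lowest_coeff hg hpN hpn hmem
    simp at h0
  · exact h
  · exfalso
    have hmem : xg hg r ((wt T F c r : F) * 1) ∈ genS hg F (Set.Ico (r + 1) T.n) := by
      rw [show xg hg r ((wt T F c r : F) * 1) = xg hg p ((ε : F) * 1) * z⁻¹ by rw [key]; group]
      exact mul_mem (xg_mem_genS hg (show p ∈ Set.Ico (r + 1) T.n from ⟨h, hpn⟩) _) (inv_mem hz)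
    have h0 := lowest_coeff hg hrN hrn hmem
    simp at h0

/-- An element normalising two subgroups normalises their intersection. -/
theorem normalizes_inf {Γ : Type*} [Group Γ] {A B : Subgroup Γ} {x : Γ}
    (hA : x ∈ Subgroup.normalizer (A : Set Γ)) (hB : x ∈ Subgroup.normalizer (B : Set Γ)) :
    x ∈ Subgroup.normalizer ((A ⊓ B : Subgroup Γ) : Set Γ) := by
  rw [Subgroup.mem_normalizer_iff] at *
  exact fun y => ⟨fun h => ⟨(hA y).1 h.1, (hB y).1 h.2⟩, fun h => ⟨(hA y).2 h.1, (hB y).2 h.2⟩⟩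

theorem mem_normalizer_self {Γ : Type*} [Group Γ] {A : Subgroup Γ} {x : Γ} (hx : x ∈ A) :
    x ∈ Subgroup.normalizer (A : Set Γ) := Subgroup.le_normalizer hx

variable [Fintype F]

/-- The mixed case is impossible. -/
theorem no_mixed (g : T.GoodA) {L : List ℕ} (hL : T.Wd L) {a b : ℕ} (ha : a < T.l) (hb : b < T.l)
    (hA : T.A a (T.smp b) ≠ 0) (haΨ : T.smp a ∉ T.psi L) (hbΨ : T.smp b ∈ T.psi L)
    (hfix : ∀ r ∈ T.psi L, T.rw' L.reverse r = r)
    (htame : ∀ Q : Subgroup (GL T.D.Idx F),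
      Q ≤ (genS g.toGood F (Set.Ico T.N T.n)).map (MulAut.conj (nG g.toGood F a)).toMonoidHom →
      Q ≤ Subgroup.normalizer (genS g.toGood F (T.psi L) : Set (GL T.D.Idx F)) →
      Nat.card Q ≤ Nat.card (genS g.toGood F (Set.Ico T.N T.n) ⊓
        Subgroup.normalizer (genS g.toGood F (T.psi L) : Set (GL T.D.Idx F)) : Subgroup _)) :
    False := by
  classical
  have hg := g.toGood
  set U := genS hg F (Set.Ico T.N T.n) with hU
  set E := genS hg F (T.posExc a) with hE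
  set D := genS hg F (T.psi L) with hD
  set ND := Subgroup.normalizer (D : Set (GL T.D.Idx F)) with hND
  have hexc : T.posExc a ⊆ Set.Ico T.N T.n := fun r hr => ⟨hr.1, hr.2.1⟩
  have hΨexc : T.psi L ⊆ T.posExc a := fun r hr => ⟨hr.1, hr.2.1, fun e => haΨ (e ▸ hr)⟩
  have hinv : T.rw' L.reverse (T.smp a) < T.N :=
    not_le.1 fun h => haΨ ⟨hg.smp_ge ha, hg.smp_lt ha, h⟩
  -- the negative root subgroup normalises `D`
  have hDeq : D = E ⊓ U.map (MulAut.conj (nWd hg F L)).toMonoidHom := by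
    refine le_antisymm (fun x hx => ⟨genS_mono hg hΨexc hx, ((inter_eq_genS_psi (F := F) g hL).ge hx).2⟩)
      fun x hx => (inter_eq_genS_psi (F := F) g hL).le ⟨genS_mono hg hexc hx.1, hx.2⟩
  have hneg : ∀ t : F, xg hg (T.neg (T.smp a)) t ∈ ND := by
    intro t
    rw [hND, hDeq]
    refine normalizes_inf (posExc_normalized_neg g ha t) (mem_normalizer_self ?_)
    set q := T.rw' L.reverse (T.smp a) with hq
    have hqn : q < T.n := rw'_lt hg hL.reverse (hg.smp_lt ha)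
    obtain ⟨ε, hε⟩ := xg_psi_conj (F := F) g hL (neg_lt (hg.smp_lt ha)) t
    rw [rw'_neg hg hL.reverse (hg.smp_lt ha)] at hε
    refine ⟨xg hg (T.neg q) ((ε : F) * t), xg_mem_genS hg (show _ ∈ Set.Ico T.N T.n from
      ⟨(N_le_neg_iff hqn).2 hinv, neg_lt hqn⟩) _, ?_⟩
    show nWd hg F L * xg hg (T.neg q) ((ε : F) * t) * (nWd hg F L)⁻¹ = _
    rw [← hε]
    group
  -- the `a`-coordinate
  choose f hf₁ f₂ hf₂ using fun u : (U ⊓ ND : Subgroup _) => pos_split g ha u.2.1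
  have hxa : ∀ t : F, xg hg (T.smp a) t ∈ Subgroup.normalizer (E : Set (GL T.D.Idx F)) :=
    fun t => posExc_normalized g ha (hg.smp_ge ha) (hg.smp_lt ha) t
  have hquot : ∀ u v : (U ⊓ ND : Subgroup _), f₂ u = f₂ v →
      (u : GL T.D.Idx F) * (v : GL T.D.Idx F)⁻¹ ∈ E := by
    intro u v h
    rw [hf₂ u, hf₂ v, h, mul_inv_rev, mul_assoc, mul_inv_cancel_left]
    exact mul_mem (hf₁ u) (inv_mem (hf₁ v))
  let R0 : Subgroup (GL T.D.Idx F) := E ⊓ ND
  have hsurj : Function.Surjective f₂ := by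
    -- a `p`-subgroup of the normaliser containing the negative root subgroup
    let Q : Subgroup (GL T.D.Idx F) := U.map (MulAut.conj (nG hg F a)).toMonoidHom ⊓ ND
    have hcQ := htame Q inf_le_left inf_le_right
    have hEQ : ∀ x ∈ E, x ∈ U.map (MulAut.conj (nG hg F a)).toMonoidHom := by
      intro x hx
      have hn : nG hg F a ∈ Subgroup.normalizer (E : Set (GL T.D.Idx F)) :=
        nG_normalizes hg ha (fun r hr => hr.2.1) (fun r hr => ref_posExc hg ha hr)
      refine ⟨(nG hg F a)⁻¹ * x * nG hg F a, genS_mono hg hexc ?_, by simp [mul_assoc]⟩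
      have := (Subgroup.mem_normalizer_iff.1 (inv_mem hn) x).1 hx
      simpa using this
    have hnegQ : ∀ t : F, xg hg (T.neg (T.smp a)) t ∈ Q := by
      intro t
      refine ⟨⟨xg hg (T.smp a) ((T.eta a (T.smp a) : F) * t),
        xg_mem_genS hg (show _ ∈ Set.Ico T.N T.n from ⟨hg.smp_ge ha, hg.smp_lt ha⟩) _, ?_⟩, hneg t⟩
      show nG hg F a * _ * (nG hg F a)⁻¹ = _
      rw [nG_conj hg ha (hg.smp_lt ha), hg.ref_smp ha, ← mul_assoc, eta_sq, one_mul]
    have hlow : Nat.card R0 * Nat.card F ≤ Nat.card Q := by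
      rw [← Nat.card_prod]
      refine Nat.card_le_card_of_injective (fun rt : R0 × F =>
        (⟨(rt.1 : GL T.D.Idx F) * xg hg (T.neg (T.smp a)) rt.2,
          mul_mem ⟨hEQ _ rt.1.2.1, rt.1.2.2⟩ (hnegQ rt.2)⟩ : Q)) ?_
      rintro ⟨r, t⟩ ⟨r', t'⟩ h
      have h' : (r : GL T.D.Idx F) * xg hg (T.neg (T.smp a)) t =
          (r' : GL T.D.Idx F) * xg hg (T.neg (T.smp a)) t' := congrArg Subtype.val h
      have h2 : (r' : GL T.D.Idx F)⁻¹ * r = xg hg (T.neg (T.smp a)) (t' + -t) := by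
        rw [← xg_add, ← xg_inv, eq_mul_inv_iff_mul_eq, mul_assoc, h', inv_mul_cancel_left]
      have h3 : xg hg (T.neg (T.smp a)) (t' + -t) = 1 := borel_inf_neg hg
        (h2 ▸ genS_pos_le_borel hg (fun s hs => ⟨hs.1, hs.2⟩)
          (genS_mono hg hexc (mul_mem (inv_mem r'.2.1) r.2.1)))
        (xg_mem_genS hg (S := Set.Iio T.N) ((neg_lt_N_iff (hg.smp_lt ha)).2 (hg.smp_ge ha)) _)
      have h4 : t' + -t = 0 := by
        rw [← xg_zero hg (T.neg (T.smp a))] at h3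
        exact xg_injective hg (neg_lt (hg.smp_lt ha)) h3
      obtain rfl : t = t' := by linear_combination -h4
      rw [mul_right_cancel_iff] at h'
      exact Prod.ext (Subtype.ext h') rfl
    have hup : Nat.card (U ⊓ ND : Subgroup _) ≤ Nat.card R0 * Nat.card (Set.range f₂) := by
      choose s hs using fun y : Set.range f₂ => y.2
      rw [← Nat.card_prod]
      refine Nat.card_le_card_of_injective (fun u : (U ⊓ ND : Subgroup _) =>
        ((⟨(u : GL T.D.Idx F) * (s ⟨f₂ u, u, rfl⟩ : GL T.D.Idx F)⁻¹,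
          hquot u _ (hs ⟨f₂ u, u, rfl⟩).symm,
          ND.mul_mem u.2.2 (ND.inv_mem (s ⟨f₂ u, u, rfl⟩).2.2)⟩ : R0),
          (⟨f₂ u, u, rfl⟩ : Set.range f₂))) ?_
      intro u u' h
      simp only [Prod.mk.injEq, Subtype.mk.injEq] at h
      obtain ⟨h1, h2⟩ := h
      have e : (⟨f₂ u, u, rfl⟩ : Set.range f₂) = ⟨f₂ u', u', rfl⟩ := h2
      have h1' := congrArg Subtype.val h1
      dsimp only at h1'
      rw [congrArg s e] at h1'
      exact Subtype.ext (mul_right_cancel h1')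
    have hpos : 0 < Nat.card R0 := Nat.card_pos
    have hle : Nat.card F ≤ Nat.card (Set.range f₂) :=
      Nat.le_of_mul_le_mul_left ((hlow.trans hcQ).trans hup) hpos
    rw [← Set.range_eq_univ]
    exact Set.eq_of_subset_of_ncard_le (Set.subset_univ _)
      (by rwa [Set.ncard_univ, ← Nat.card_coe_set_eq]) (Set.toFinite _)
  obtain ⟨u, hu⟩ := hsurj 1
  -- an element of the normaliser in the coset of `n_a`
  set x := xg hg (T.smp a) (1 : F) with hx
  set y := xg hg (T.neg (T.smp a)) (-1 : F) with hy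
  set e := f u with he
  have hue : (u : GL T.D.Idx F) = e * x := by rw [hf₂ u, hu]
  set v := x * (y * e⁻¹ * y⁻¹) * x⁻¹ * e⁻¹ with hv
  have hvE : v ∈ E := by
    have hn1 : ∀ z ∈ E, x * z * x⁻¹ ∈ E := fun z hz =>
      (Subgroup.mem_normalizer_iff.1 (hxa 1) z).1 hz
    have hn2 : ∀ z ∈ E, y * z * y⁻¹ ∈ E := fun z hz =>
      (Subgroup.mem_normalizer_iff.1 (posExc_normalized_neg (F := F) g ha (-1)) z).1 hz
    exact E.mul_mem (hn1 _ (hn2 _ (E.inv_mem (hf₁ u)))) (E.inv_mem (hf₁ u))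
  have hm : (nG hg F a)⁻¹ * v ∈ ND := by
    have h : (u : GL T.D.Idx F)⁻¹ * y⁻¹ * (u : GL T.D.Idx F)⁻¹ ∈ ND :=
      ND.mul_mem (ND.mul_mem (ND.inv_mem u.2.2) (ND.inv_mem (hneg _))) (ND.inv_mem u.2.2)
    convert h using 1
    rw [hue, hv, show nG hg F a = x * y * x from rfl]
    group
  -- the image of a root subgroup of `D`
  have hxb : xg hg (T.smp b) (1 : F) ∈ D := xg_mem_genS hg hbΨ _
  have hvU : v ∈ U := genS_mono hg hexc hvE
  obtain ⟨z, hz, hzeq⟩ := ChevAut.pos_conj_low g hbΨ.1 hbΨ.2.1 hvU (1 : F)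
  have hw : (nG hg F a)⁻¹ * (v * xg hg (T.smp b) (1 : F) * v⁻¹) * nG hg F a ∈ D := by
    have := (Subgroup.mem_normalizer_iff.1 hm _).1 hxb
    simpa [mul_assoc] using this
  have hLa : T.Wd (a :: L) := Wd.cons_iff.2 ⟨ha, hL⟩
  have hconj : (nWd hg F (a :: L))⁻¹ * (xg hg (T.smp b) (1 : F) * z) * nWd hg F (a :: L) ∈ U := by
    have h := genS_psi_conj g hL hw
    rw [hzeq] at h
    simpa [nWd_cons, mul_assoc] using h
  have hba : T.smp b ≠ T.smp a := fun h => haΨ (h ▸ hbΨ)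
  set s' := T.ref a (T.smp b) with hs'
  have hsn : s' < T.n := hg.ref_lt ha (hg.smp_lt hb)
  have hsΨ : s' ∈ T.psi L := by
    refine ⟨hg.ref_pos ha (hg.smp_lt hb) (hg.smp_ge hb) hba, hsn, not_lt.1 fun h => ?_⟩
    refine one_ne_zero (lead_eq_zero g hLa hbΨ.1 hbΨ.2.1 ?_ hz hconj)
    rwa [List.reverse_cons, rw'_append, rw'_cons, rw'_nil]
  have hlin := A_rw'_linear hg hL.reverse (hg.smp_lt hb) (hg.smp_lt ha) hsn (-T.A a (T.smp b))
    (fun j hj => by rw [hs', A_ref hg ha hj (hg.smp_lt hb)]; ring)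
  have hfa : T.rw' L.reverse (T.smp a) = T.smp a := by
    refine A_ext g (hg.smp_lt ha) (rw'_lt hg hL.reverse (hg.smp_lt ha)) fun j hj => ?_
    have h := hlin j hj
    rw [hfix _ hsΨ, hfix _ hbΨ, hs', A_ref hg ha hj (hg.smp_lt hb)] at h
    exact mul_left_cancel₀ hA (by linarith)
  have := hg.smp_ge ha
  omega

/-- The structure of a tame intersection with a centralising element. -/
theorem tame_cases (g : T.GoodK K)
    (hconn : ∀ S : Set ℕ, (∃ i < T.l, i ∈ S) → (∃ i < T.l, i ∉ S) →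
      ∃ a < T.l, ∃ b < T.l, a ∈ S ∧ b ∉ S ∧ T.A a (T.smp b) ≠ 0)
    {L : List ℕ} (hL : T.Wd L) {b : GL T.D.Idx F} (hb : b ∈ T.D.borelSubgroup F)
    (hcomm : ∀ r ∈ T.psi L, Commute (nWd g.toGood F L * b) (xg g.toGood r (1 : F)))
    (htame : ∀ a < T.l, ∀ Q : Subgroup (GL T.D.Idx F),
      Q ≤ (genS g.toGood F (Set.Ico T.N T.n)).map (MulAut.conj (nG g.toGood F a)).toMonoidHom →
      Q ≤ Subgroup.normalizer (genS g.toGood F (T.psi L) : Set (GL T.D.Idx F)) →
      Nat.card Q ≤ Nat.card (genS g.toGood F (Set.Ico T.N T.n) ⊓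
        Subgroup.normalizer (genS g.toGood F (T.psi L) : Set (GL T.D.Idx F)) : Subgroup _)) :
    genS g.toGood F (T.psi L) = ⊥ ∨
      genS g.toGood F (T.psi L) = genS g.toGood F (Set.Ico T.N T.n) := by
  have hg := g.toGood
  have hfix := fun r hr => fixed_of_commute g.toGoodA hL hb hr (hcomm r hr)
  by_cases h0 : ∀ i < T.l, T.smp i ∉ T.psi L
  · left
    have hall := inverts_all hg hL.reverse fun i hi =>
      not_le.1 fun h => h0 i hi ⟨hg.smp_ge hi, hg.smp_lt hi, h⟩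
    have hempty : T.psi L = ∅ := Set.eq_empty_iff_forall_notMem.2 fun r hr =>
      absurd (hall r hr.1 hr.2.1) (not_lt.2 hr.2.2)
    rw [eq_bot_iff]
    refine genS_le hg fun r hr => ?_
    rw [hempty] at hr
    exact absurd hr (Set.notMem_empty r)
  push Not at h0
  obtain ⟨i₀, hi₀, hi₀Ψ⟩ := h0
  by_cases h1 : ∀ i < T.l, T.smp i ∈ T.psi L
  · right
    congr 1
    refine Set.Subset.antisymm (psi_subset L) fun r hr => ⟨hr.1, hr.2, ?_⟩
    exact rw'_id_of_simple hg hL.reverse (fun i hi => (h1 i hi).2.2) r hr.1 hr.2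
  push Not at h1
  obtain ⟨i₁, hi₁, hi₁Ψ⟩ := h1
  obtain ⟨a, ha, c, hc, haS, hcS, hA⟩ := hconn {i | T.smp i ∉ T.psi L} ⟨i₁, hi₁, hi₁Ψ⟩
    ⟨i₀, hi₀, fun h => h hi₀Ψ⟩
  exact (no_mixed g.toGoodA hL ha hc hA haS (not_not.1 hcS) hfix (htame a ha)).elim

variable (p : ℕ) [Fact p.Prime] [CharP F p] {M : Ideal AlgInt}

/-- Every block has defect zero or full defect. -/
theorem chev_defect_cases (g : T.GoodK K)
    (hconn : ∀ S : Set ℕ, (∃ i < T.l, i ∈ S) → (∃ i < T.l, i ∉ S) →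
      ∃ a < T.l, ∃ b < T.l, a ∈ S ∧ b ∉ S ∧ T.A a (T.smp b) ≠ 0)
    [Fintype ↥(T.D.group F)] (hM : IsPModular p M) (P : Sylow p ↥(T.D.group F))
    (hP : (P : Subgroup ↥(T.D.group F)) = (T.D.posUnipotent F).subgroupOf (T.D.group F))
    {B : Set (IrrCharacter ↥(T.D.group F))} (hB : IsPBlock M B) :
    blockDefect p B = 0 ∨ IsDefectGroup p M B (P : Subgroup ↥(T.D.group F)) := by
  classical
  haveI : M.IsPrime := hM.2.1.isPrime
  have hg := g.toGood
  set U := genS hg F (Set.Ico T.N T.n) with hU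
  have hUG : U ≤ (T.D.group F) := posU_le_group hg
  rw [posUnipotent_eq hg] at hP
  have hmemP : ∀ x : ↥(T.D.group F), x ∈ (P : Subgroup ↥(T.D.group F)) ↔ (x : GL T.D.Idx F) ∈ U := fun x => by
    rw [hP, Subgroup.mem_subgroupOf]
  obtain ⟨D₀, hD₀⟩ := exists_isDefectGroup (p := p) (M := M) hB
  -- a conjugate meeting `P` tamely
  obtain ⟨R⟩ : Nonempty (Sylow p (Subgroup.normalizer (D₀ : Set ↥(T.D.group F)))) := inferInstance
  set R' := (R : Subgroup (Subgroup.normalizer (D₀ : Set ↥(T.D.group F)))).map (Subgroup.subtype _) with hR'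
  obtain ⟨S, hS⟩ := (R.isPGroup'.map (Subgroup.normalizer (D₀ : Set ↥(T.D.group F))).subtype).exists_le_sylow
  obtain ⟨c, hc⟩ := MulAction.exists_smul_eq ↥(T.D.group F) S P
  have hD₀R : D₀ ≤ R' := by
    intro d hd
    refine ⟨⟨d, Subgroup.le_normalizer hd⟩, ?_, rfl⟩
    have hn : (D₀.subgroupOf (Subgroup.normalizer (D₀ : Set ↥(T.D.group F)))).Normal := Subgroup.normal_in_normalizer
    haveI : (D₀.comap (Subgroup.normalizer (D₀ : Set ↥(T.D.group F))).subtype).Normal := hn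
    exact ((isPGroup_defectGroup hD₀).comap_of_injective _ Subtype.val_injective).le_sylow_of_normal R
      (show (⟨d, Subgroup.le_normalizer hd⟩ : Subgroup.normalizer (D₀ : Set ↥(T.D.group F))) ∈
        D₀.subgroupOf _ from hd)
  have hSP : ∀ x ∈ (S : Subgroup ↥(T.D.group F)), c * x * c⁻¹ ∈ (P : Subgroup ↥(T.D.group F)) := fun x hx => by
    rw [← hc, Sylow.coe_subgroup_smul]
    exact Subgroup.smul_mem_pointwise_smul x (MulAut.conj c) _ hx
  set D₁ := D₀.map (MulAut.conj c).toMonoidHom with hD₁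
  have hD₁P : D₁ ≤ (P : Subgroup ↥(T.D.group F)) := by
    rintro _ ⟨d, hd, rfl⟩
    exact hSP d (hS (hD₀R hd))
  have hN₁ : ∀ x : ↥(T.D.group F), x ∈ Subgroup.normalizer (D₁ : Set ↥(T.D.group F)) ↔
      c⁻¹ * x * c ∈ Subgroup.normalizer (D₀ : Set ↥(T.D.group F)) := by
    intro x
    have he : D₁ = D₀.map (MulAut.conj c).toMonoidHom := rfl
    rw [Subgroup.mem_normalizer_iff, Subgroup.mem_normalizer_iff]
    simp only [he, Subgroup.mem_map_equiv, MulAut.conj_symm_apply]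
    constructor
    · intro h y
      have := h (c * y * c⁻¹)
      simpa [mul_assoc] using this
    · intro h y
      have := h (c⁻¹ * y * c)
      simpa [mul_assoc] using this
  have htame₁ : ∀ Q : Subgroup ↥(T.D.group F), IsPGroup p Q → Q ≤ Subgroup.normalizer (D₁ : Set ↥(T.D.group F)) →
      Nat.card Q ≤ Nat.card ((P : Subgroup ↥(T.D.group F)) ⊓ Subgroup.normalizer (D₁ : Set ↥(T.D.group F)) : Subgroup ↥(T.D.group F)) := by
    intro Q hQ hQN
    have hle : R'.map (MulAut.conj c).toMonoidHom ≤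
        (P : Subgroup ↥(T.D.group F)) ⊓ Subgroup.normalizer (D₁ : Set ↥(T.D.group F)) := by
      rintro _ ⟨r, hr, rfl⟩
      refine ⟨hSP r (hS hr), (hN₁ _).2 ?_⟩
      obtain ⟨r, -, rfl⟩ := hr
      simp [mul_assoc]
    refine le_trans ?_ (Subgroup.card_le_of_le hle)
    rw [Subgroup.card_map_of_injective (MulAut.conj c).injective,
      Subgroup.card_map_of_injective (Subgroup.subtype_injective _)]
    set Q₀ : Subgroup (Subgroup.normalizer (D₀ : Set ↥(T.D.group F))) :=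
      (Q.map (MulAut.conj c⁻¹).toMonoidHom).subgroupOf _ with hQ₀
    have hQle : Q.map (MulAut.conj c⁻¹).toMonoidHom ≤ Subgroup.normalizer (D₀ : Set ↥(T.D.group F)) := by
      rintro _ ⟨x, hx, rfl⟩
      simpa using (hN₁ x).1 (hQN hx)
    have hQp : IsPGroup p Q₀ := (hQ.map _).comap_of_injective _ Subtype.val_injective
    obtain ⟨R₂, hR₂⟩ := hQp.exists_le_sylow
    have h1 : Nat.card Q₀ = Nat.card Q := by
      rw [hQ₀, Nat.card_congr (Subgroup.subgroupOfEquivOfLe hQle).toEquiv,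
        Subgroup.card_map_of_injective (MulAut.conj c⁻¹).injective]
    rw [← h1]
    refine (Subgroup.card_le_of_le hR₂).trans (le_of_eq ?_)
    rw [Sylow.card_eq_multiplicity, Sylow.card_eq_multiplicity]
  obtain ⟨z, -, hzD, hinter⟩ :=
    exists_tame_inter hM hB (IsDefectGroup.map_conj hD₀ c) P hD₁P htame₁
  -- Bruhat decomposition of the centralising element
  obtain ⟨w, hw⟩ := BN.bruhat (bnPair g.toGoodA F) z
  obtain ⟨m, hm, rfl⟩ := BN.exists_rep (bnPair g.toGoodA F) w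
  rw [BN.cell_mk] at hw
  obtain ⟨b₁, h1, b₂, h2, ez⟩ := DoubleCoset.mem_doubleCoset.1 hw
  obtain ⟨L, hL, ct, hmL⟩ := (mem_monomial_iff hg).1 (show (m : GL T.D.Idx F) ∈ _ from hm)
  set β : GL T.D.Idx F := (b₁ : GL T.D.Idx F) * tor T F ct with hβ
  have h1' : (b₁ : GL T.D.Idx F) ∈ T.D.borelSubgroup F := h1
  have h2' : (b₂ : GL T.D.Idx F) ∈ T.D.borelSubgroup F := h2
  have hβB : β ∈ T.D.borelSubgroup F := mul_mem h1' (torus_le_borel hg ct)
  set βG : ↥(T.D.group F) := ⟨β, borel_le_group hg hβB⟩ with hβG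
  set b : GL T.D.Idx F := (b₂ : GL T.D.Idx F) * β with hbdef
  have hbB : b ∈ T.D.borelSubgroup F := mul_mem h2' hβB
  have ez' : (z : GL T.D.Idx F) = β * nWd hg F L * (b₂ : GL T.D.Idx F) := by
    rw [show (z : GL T.D.Idx F) = (b₁ : GL T.D.Idx F) * (m : GL T.D.Idx F) * (b₂ : GL T.D.Idx F)
      from congrArg Subtype.val ez, hmL, hβ]
    group
  have hnorm : ∀ y ∈ T.D.borelSubgroup F, ∀ x, x ∈ U ↔ y * x * y⁻¹ ∈ U :=
    fun y hy x => Subgroup.mem_normalizer_iff.1 (borel_normalizes hg hy) x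
  set Ψ := genS hg F (T.psi L) with hΨ
  have hΨU : Ψ ≤ U := genS_mono hg (psi_subset L)
  have hmemD : ∀ x : ↥(T.D.group F), x ∈ D₁ ↔ β⁻¹ * (x : GL T.D.Idx F) * β ∈ Ψ := by
    intro x
    rw [hD₁, ← hinter, hΨ, ← inter_eq_genS_psi g.toGoodA hL]
    simp only [Subgroup.mem_inf, hmemP, Subgroup.mem_map_equiv, MulAut.conj_symm_apply,
      Subgroup.coe_mul, Subgroup.coe_inv]
    refine and_congr ?_ ?_
    · have := hnorm _ (inv_mem hβB) (x : GL T.D.Idx F)
      simpa using this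
    · rw [ez']
      have h3 := hnorm _ h2' ((β * nWd hg F L * (b₂ : GL T.D.Idx F))⁻¹ * (x : GL T.D.Idx F) *
        (β * nWd hg F L * (b₂ : GL T.D.Idx F)))
      refine h3.trans ?_
      have e : (b₂ : GL T.D.Idx F) * ((β * nWd hg F L * (b₂ : GL T.D.Idx F))⁻¹ * (x : GL T.D.Idx F) *
          (β * nWd hg F L * (b₂ : GL T.D.Idx F))) * (b₂ : GL T.D.Idx F)⁻¹ =
          (nWd hg F L)⁻¹ * (β⁻¹ * (x : GL T.D.Idx F) * β) * nWd hg F L := by group
      rw [e]
  have hΨD : ∀ y ∈ Ψ, ∃ x : ↥(T.D.group F), x ∈ D₁ ∧ (x : GL T.D.Idx F) = β * y * β⁻¹ := by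
    intro y hy
    refine ⟨⟨β * y * β⁻¹, mul_mem (mul_mem βG.2 (hUG (hΨU hy))) (inv_mem βG.2)⟩, ?_, rfl⟩
    rw [hmemD]
    simpa [mul_assoc] using hy
  have hcommΨ : ∀ r ∈ T.psi L, Commute (nWd hg F L * b) (xg hg r (1 : F)) := by
    intro r hr
    obtain ⟨x, hx, ex⟩ := hΨD _ (xg_mem_genS hg hr (1 : F))
    have h : (z : GL T.D.Idx F) * x = x * z := congrArg Subtype.val (hzD x hx).eq
    rw [ez', ex] at h
    show nWd hg F L * b * xg hg r (1 : F) = xg hg r (1 : F) * (nWd hg F L * b)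
    set y := xg hg r (1 : F)
    calc nWd hg F L * b * y = β⁻¹ * ((β * nWd hg F L * (b₂ : GL T.D.Idx F)) * (β * y * β⁻¹)) * β := by
          rw [hbdef]; group
      _ = β⁻¹ * ((β * y * β⁻¹) * (β * nWd hg F L * (b₂ : GL T.D.Idx F))) * β := by rw [h]
      _ = _ := by rw [hbdef]; group
  have hpU : IsPGroup p U := posU_isPGroup hg p
  have hNΨ : ∀ y : GL T.D.Idx F, ∀ hy : y ∈ (T.D.group F), y ∈ Subgroup.normalizer (Ψ : Set (GL T.D.Idx F)) ↔
      βG * ⟨y, hy⟩ * βG⁻¹ ∈ Subgroup.normalizer (D₁ : Set ↥(T.D.group F)) := by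
    intro y hy
    rw [Subgroup.mem_normalizer_iff, Subgroup.mem_normalizer_iff]
    constructor
    · intro h x
      rw [hmemD, hmemD, h (β⁻¹ * (x : GL T.D.Idx F) * β)]
      simp [hβG, mul_assoc]
    · intro h w
      constructor <;> intro hw
      · obtain ⟨x, hx, ex⟩ := hΨD w hw
        have := (hmemD _).1 ((h x).1 hx)
        simpa [hβG, ex, mul_assoc] using this
      · obtain ⟨x, hx, ex⟩ := hΨD _ hw
        have e : βG * ⟨y, hy⟩ * βG⁻¹ * ((βG * ⟨y, hy⟩ * βG⁻¹)⁻¹ * x * (βG * ⟨y, hy⟩ * βG⁻¹)) *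
            (βG * ⟨y, hy⟩ * βG⁻¹)⁻¹ = x := by group
        have hx' := (h ((βG * ⟨y, hy⟩ * βG⁻¹)⁻¹ * x * (βG * ⟨y, hy⟩ * βG⁻¹))).2 (e.symm ▸ hx)
        rw [hmemD] at hx'
        simpa [hβG, ex, mul_assoc] using hx'
  have htameΨ : ∀ a < T.l, ∀ Q : Subgroup (GL T.D.Idx F),
      Q ≤ U.map (MulAut.conj (nG hg F a)).toMonoidHom →
      Q ≤ Subgroup.normalizer (Ψ : Set (GL T.D.Idx F)) →
      Nat.card Q ≤ Nat.card (U ⊓ Subgroup.normalizer (Ψ : Set (GL T.D.Idx F)) : Subgroup _) := by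
    intro a _ Q hQU hQN
    have hQG : Q ≤ (T.D.group F) := by
      intro q hq
      obtain ⟨u, hu, rfl⟩ := hQU hq
      exact mul_mem (mul_mem (nG_mem_group hg a) (hUG hu)) (inv_mem (nG_mem_group hg a))
    let Q₁ : Subgroup ↥(T.D.group F) := (Q.subgroupOf (T.D.group F)).map (MulAut.conj βG).toMonoidHom
    have hcQ : Nat.card Q₁ = Nat.card Q := by
      rw [Subgroup.card_map_of_injective (MulAut.conj βG).injective,
        Nat.card_congr (Subgroup.subgroupOfEquivOfLe hQG).toEquiv]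
    have hQ₁p : IsPGroup p Q₁ :=
      (((hpU.map _).to_le hQU).comap_of_injective (T.D.group F).subtype (T.D.group F).subtype_injective).map _
    have h := htame₁ Q₁ hQ₁p (by
      rintro _ ⟨q, hq, rfl⟩
      simpa using (hNΨ _ q.2).1 (hQN hq))
    rw [hcQ] at h
    refine h.trans (Nat.card_le_card_of_injective (fun x : ((P : Subgroup ↥(T.D.group F)) ⊓
        Subgroup.normalizer (D₁ : Set ↥(T.D.group F)) : Subgroup ↥(T.D.group F)) =>
      (⟨β⁻¹ * ((x : ↥(T.D.group F)) : GL T.D.Idx F) * β, ?_, ?_⟩ :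
        (U ⊓ Subgroup.normalizer (Ψ : Set (GL T.D.Idx F)) : Subgroup _))) ?_)
    · have := (hnorm _ (inv_mem hβB) _).1 ((hmemP _).1 x.2.1)
      simpa using this
    · refine (hNΨ _ (mul_mem (mul_mem (inv_mem βG.2) (x : ↥(T.D.group F)).2) βG.2)).2 ?_
      have e : βG * ⟨β⁻¹ * ((x : ↥(T.D.group F)) : GL T.D.Idx F) * β,
          mul_mem (mul_mem (inv_mem βG.2) (x : ↥(T.D.group F)).2) βG.2⟩ * βG⁻¹ = (x : ↥(T.D.group F)) := by
        apply Subtype.ext
        simp [hβG, mul_assoc]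
      rw [e]
      exact x.2.2
    · intro x x' hxx
      have h' := congrArg Subtype.val hxx
      exact Subtype.ext (Subtype.ext (mul_left_cancel (mul_right_cancel h')))
  rcases tame_cases g hconn hL hbB hcommΨ htameΨ with h0 | h1
  · left
    have hbot : D₁ = ⊥ := by
      rw [eq_bot_iff]
      intro x hx
      have h' := (hmemD x).1 hx
      rw [show Ψ = ⊥ from h0, Subgroup.mem_bot] at h'
      refine Subgroup.mem_bot.2 (Subtype.ext ?_)
      calc ((x : GL T.D.Idx F)) = β * (β⁻¹ * (x : GL T.D.Idx F) * β) * β⁻¹ := by group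
        _ = _ := by rw [h']; simp
    have hc' := card_defectGroup hM hB (IsDefectGroup.map_conj hD₀ c)
    rw [← hD₁, hbot, Subgroup.card_bot] at hc'
    exact (Nat.pow_eq_one.1 hc'.symm).resolve_left (Fact.out : p.Prime).ne_one
  · right
    have htop : D₁ = (P : Subgroup ↥(T.D.group F)) := by
      refine le_antisymm hD₁P fun x hx => (hmemD x).2 ?_
      rw [show Ψ = U from h1]
      have := (hnorm _ (inv_mem hβB) _).1 ((hmemP x).1 hx)
      simpa using this
    rw [← htop]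
    exact IsDefectGroup.map_conj hD₀ c

end Tab

end Cfsg.Agent.Chev
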