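import Cfsg.Agent.Lib.Lie.BNPair

/-!
# The big cell of a finite split Tits system

In a finite group with a (B, N)-pair there is only one element of `W` without an ascent.  If some
representative `c` has `U ∩ c⁻¹ B c = 1` (`B = U T`), its cell is the unique cell of largest size.
-/

set_option autoImplicit false

namespace Cfsg.Agent.BN

variable {G : Type*} [Group G] (P : Cfsg.BNPair G)

/-- `w` has no ascent. -/
def NoAsc (w : W P) : Prop := ∀ s : P.S, len P (σ P s * w) < len P w

theorem NoAsc.len_add {w : W P} (hw : NoAsc P w) (v : W P) :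
    len P (v⁻¹ * w) + len P v = len P w := by
  obtain ⟨l, hl, rfl⟩ := exists_reduced P v
  clear hl
  suffices h : ∀ l : List P.S, len P (wp P l) = l.length →
      len P ((wp P l)⁻¹ * w) + l.length = len P w by
    obtain ⟨l', hl', he⟩ := exists_reduced P (wp P l)
    have := h l' (by rw [he, hl'])
    rw [he] at this
    omega
  intro l
  induction l with
  | nil => simp
  | cons s l ih =>
    intro hl
    have h1 := len_σ_mul_le P s (wp P l)
    have h2 := len_wp_le P l
    rw [wp_cons] at hl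
    simp only [List.length_cons] at hl
    have hl' : len P (wp P l) = l.length := by omega
    have ih' := ih hl'
    obtain ⟨m, hm, hme⟩ := exists_reduced P ((wp P l)⁻¹ * w)
    have hw' : wp P (l ++ m) = w := by simp [hme]
    have hlen : len P (wp P (l ++ m)) = (l ++ m).length := by rw [hw', List.length_append]; omega
    obtain ⟨i, hi, he⟩ := exchange P s (l ++ m) hlen (by rw [← hlen, hw']; exact hw s)
    rw [List.length_append] at hi
    rw [wp_cons]
    by_cases hil : i < l.length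
    · exfalso
      rw [List.eraseIdx_append_of_lt_length hil, wp_append, wp_append, ← mul_assoc] at he
      have h3 := len_wp_le P (l.eraseIdx i)
      rw [← mul_right_cancel he, List.length_eraseIdx_of_lt hil] at h3
      omega
    · rw [List.eraseIdx_append_of_length_le (not_lt.1 hil), hw', wp_append] at he
      have hme' : (σ P s * wp P l)⁻¹ * w = wp P (m.eraseIdx (i - l.length)) := by
        rw [mul_inv_rev, σ_inv, mul_assoc, he]; group
      have h3 := len_wp_le P (m.eraseIdx (i - l.length))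
      rw [List.length_eraseIdx_of_lt (by omega), ← hme'] at h3
      have h4 : len P w ≤ len P ((σ P s * wp P l)⁻¹ * w) + (l.length + 1) := by
        obtain ⟨k, hk, hke⟩ := exists_reduced P ((σ P s * wp P l)⁻¹ * w)
        have : wp P (s :: l ++ k) = w := by simp [hke, mul_assoc]
        have h5 := len_wp_le P (s :: l ++ k)
        rw [this] at h5
        simp only [List.length_append, List.length_cons] at h5
        omega
      simp only [List.length_cons]
      omega

theorem NoAsc.unique {w w' : W P} (hw : NoAsc P w) (hw' : NoAsc P w') : w = w' := by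
  have h1 := hw.len_add P w'
  have h2 := hw'.len_add P w
  have h3 : len P (w'⁻¹ * w) = 0 := by omega
  exact (inv_mul_eq_one.1 ((len_eq_zero P).1 h3)).symm

variable [Finite G]

theorem card_cell_lt (s : P.S) (v : W P) (h : len P v < len P (σ P s * v)) :
    Nat.card (cell P v) < Nat.card (cell P (σ P s * v)) := by
  set v' := σ P s * v with hv'
  have hsub : (fun x => (s : G) * x) '' cell P v ⊆ cell P v' := by
    rintro _ ⟨x, hx, rfl⟩
    exact mul_mem_cell_of_le P s v h.le (self_mem_cell_σ P s) hx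
  rw [Nat.card_coe_set_eq, Nat.card_coe_set_eq,
    ← Set.ncard_image_of_injective (cell P v) (mul_right_injective (s : G))]
  refine Set.ncard_lt_ncard (hsub.ssubset_of_ne fun he => ?_) (Set.toFinite _)
  obtain ⟨y, hy⟩ := cell_nonempty P v'
  obtain ⟨b, hb, hby⟩ := exists_mem_of_lt P s v' (by rw [hv', σ_cancel]; exact h) hy
  rw [← he] at hby
  obtain ⟨x, hx, hxe⟩ := hby
  have e : x = b * y := mul_left_cancel (hxe.trans (mul_assoc _ _ _))
  have := eq_of_mem_cell P hx (by rw [e]; exact cell_mul_left P hb hy)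
  rw [← this] at h
  exact lt_irrefl _ h

/-- A representative of the opposite position. -/
structure BigRep (U : Subgroup G) where
  /-- the representative -/
  c : G
  mem : c ∈ P.N
  prod : ∀ b ∈ P.B, ∃ u ∈ U, ∃ t ∈ P.B ⊓ P.N, b = u * t
  le : U ≤ P.B
  reg : ∀ x ∈ U, c⁻¹ * x * c ∈ P.B → x = 1

variable {U : Subgroup G} (R : BigRep P U)

/-- the Weyl element of the big cell -/
def BigRep.w : W P := wmk P R.c R.mem

include R in
/-- `B n B = U n B`. -/
theorem BigRep.cell_subset {n : G} (hn : n ∈ P.N) {g : G} (hg : g ∈ cell P (wmk P n hn)) :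
    ∃ u ∈ U, ∃ b ∈ P.B, g = u * n * b := by
  rw [cell_mk] at hg
  obtain ⟨a, ha, b, hb, rfl⟩ := DoubleCoset.mem_doubleCoset.1 hg
  obtain ⟨u, hu, t, ht, rfl⟩ := R.prod a ha
  refine ⟨u, hu, n⁻¹ * t * n * b, P.B.mul_mem ?_ hb, by group⟩
  simpa using P.conj_mem n⁻¹ (P.N.inv_mem hn) t ht

include R in
theorem BigRep.cell_w {g : G} (hg : g ∈ cell P (R.w P)) : ∃ u ∈ U, ∃ b ∈ P.B, g = u * R.c * b :=
  R.cell_subset P R.mem hg

theorem BigRep.card_le (v : W P) : Nat.card (cell P v) ≤ Nat.card (cell P (R.w P)) := by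
  obtain ⟨n, hn, rfl⟩ := exists_rep P v
  have h1 : Nat.card (cell P (wmk P n hn)) ≤ Nat.card (U × P.B) := by
    let f : U × P.B → cell P (wmk P n hn) := fun x => ⟨(x.1 : G) * n * x.2, by
      rw [cell_mk]; exact DoubleCoset.mem_doubleCoset.2 ⟨_, R.le x.1.2, _, x.2.2, rfl⟩⟩
    refine Nat.card_le_card_of_surjective f fun g => ?_
    obtain ⟨u, hu, b, hb, he⟩ := R.cell_subset P hn g.2
    exact ⟨⟨⟨u, hu⟩, ⟨b, hb⟩⟩, Subtype.ext he.symm⟩
  refine h1.trans ?_
  let f : U × P.B → cell P (R.w P) := fun x => ⟨(x.1 : G) * R.c * x.2, by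
    rw [BigRep.w, cell_mk]; exact DoubleCoset.mem_doubleCoset.2 ⟨_, R.le x.1.2, _, x.2.2, rfl⟩⟩
  refine Nat.card_le_card_of_injective f fun x y he => ?_
  have he' : (x.1 : G) * R.c * x.2 = (y.1 : G) * R.c * y.2 := congrArg Subtype.val he
  have h : R.c⁻¹ * ((y.1 : G)⁻¹ * x.1) * R.c = (y.2 : G) * (x.2 : G)⁻¹ := by
    rw [show R.c⁻¹ * ((y.1 : G)⁻¹ * x.1) * R.c =
      R.c⁻¹ * (y.1 : G)⁻¹ * ((x.1 : G) * R.c * x.2) * (x.2 : G)⁻¹ by group, he']
    group
  have h1 := R.reg _ (U.mul_mem (U.inv_mem y.1.2) x.1.2) (by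
    rw [h]; exact P.B.mul_mem y.2.2 (P.B.inv_mem x.2.2))
  have e1 : (x.1 : G) = y.1 := (inv_mul_eq_one.1 h1).symm
  rw [e1] at he'
  exact Prod.ext (Subtype.ext e1) (Subtype.ext (mul_left_cancel he'))

theorem BigRep.noAsc : NoAsc P (R.w P) := fun s =>
  (len_lt_or_gt P s _).resolve_right fun h =>
    (card_cell_lt P s _ h).not_ge (R.card_le P _)

theorem BigRep.eq_of_card {v : W P} (h : Nat.card (cell P (R.w P)) ≤ Nat.card (cell P v)) :
    v = R.w P := by
  refine NoAsc.unique P (fun s => ?_) (R.noAsc P)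
  exact (len_lt_or_gt P s v).resolve_right fun hs =>
    (card_cell_lt P s v hs).not_ge ((R.card_le P _).trans h)

theorem BigRep.inv_eq : (R.w P)⁻¹ = R.w P := by
  refine R.eq_of_card P ?_
  exact Nat.card_le_card_of_injective
    (fun g : cell P (R.w P) => (⟨(g : G)⁻¹, cell_inv P g.2⟩ : cell P (R.w P)⁻¹))
    fun a b h => Subtype.ext (inv_injective (congrArg Subtype.val h))

theorem BigRep.sq_mem : R.c * R.c ∈ P.B := by
  have h := R.inv_eq P
  rw [inv_eq_iff_mul_eq_one, BigRep.w, ← wmk_mul P R.mem R.mem, wmk_eq_one_iff] at h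
  exact h

theorem BigRep.reg' {x : G} (hx : x ∈ U) (h : R.c * x * R.c⁻¹ ∈ P.B) : x = 1 := by
  refine R.reg x hx ?_
  have h2 := R.sq_mem P
  have e : R.c⁻¹ * x * R.c = (R.c * R.c)⁻¹ * (R.c * x * R.c⁻¹) * (R.c * R.c) := by group
  rw [e]
  exact P.B.mul_mem (P.B.mul_mem (P.B.inv_mem h2) h) h2

include R in
theorem BigRep.exists_mul (l : List P.S) : ∀ {x : G}, x ∈ cell P (R.w P) →
    len P (wp P l) = l.length → ∃ y ∈ cell P (wp P l), x * y ∈ cell P (R.w P) := by
  induction l with
  | nil =>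
    intro x hx _
    exact ⟨1, by rw [wp_nil, cell_one]; exact P.B.one_mem, by rwa [mul_one]⟩
  | cons s l ih =>
    intro x hx hl
    have h1 := len_σ_mul_le P s (wp P l)
    have h2 := len_wp_le P l
    rw [wp_cons] at hl ⊢
    simp only [List.length_cons] at hl
    have hl' : len P (wp P l) = l.length := by omega
    have hinv : x⁻¹ ∈ cell P (R.w P) := by
      have := cell_inv P hx
      rwa [R.inv_eq] at this
    obtain ⟨b, hb, hbx⟩ := exists_mem_of_lt P s _ (R.noAsc P s) hinv
    have hbx' := cell_inv P hbx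
    rw [R.inv_eq, show ((s : G) * b * x⁻¹)⁻¹ = x * ((s : G) * b)⁻¹ by group] at hbx'
    have hy1 : ((s : G) * b)⁻¹ ∈ cell P (σ P s) := by
      have := cell_inv P (cell_mul_right P hb (self_mem_cell_σ P s))
      rwa [σ_inv] at this
    obtain ⟨y, hy, hxy⟩ := ih hbx' hl'
    refine ⟨((s : G) * b)⁻¹ * y, mul_mem_cell_of_le P s _ (by omega) hy1 hy, ?_⟩
    rwa [← mul_assoc]

include R in
/-- Three pairwise opposite positions: some element of `c U c⁻¹` lies in the big cell. -/
theorem BigRep.exists_triple : ∃ u ∈ U, R.c * u * R.c⁻¹ ∈ cell P (R.w P) := by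
  have hc : R.c ∈ cell P (R.w P) := by rw [BigRep.w, cell_mk]; exact self_mem_dc P _
  obtain ⟨l, hl, he⟩ := exists_reduced P (R.w P)
  obtain ⟨y, hy, hcy⟩ := R.exists_mul P l hc (by rw [he, hl])
  rw [he] at hy
  rw [BigRep.w, cell_mk] at hy
  obtain ⟨a, ha, b, hb, rfl⟩ := DoubleCoset.mem_doubleCoset.1 hy
  obtain ⟨u, hu, t, ht, rfl⟩ := R.prod a ha
  refine ⟨u, hu, ?_⟩
  have hk : R.c * t * R.c * b ∈ P.B := by
    rw [show R.c * t * R.c * b = R.c * t * R.c⁻¹ * (R.c * R.c) * b by group]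
    exact P.B.mul_mem (P.B.mul_mem (P.conj_mem _ R.mem t ht) (R.sq_mem P)) hb
  have := cell_mul_right P (P.B.inv_mem hk) hcy
  rwa [show R.c * (u * t * R.c * b) * (R.c * t * R.c * b)⁻¹ = R.c * u * R.c⁻¹ by group] at this

include R in
theorem BigRep.B_le_normalizer (hN : ∀ t ∈ P.B ⊓ P.N, ∀ x ∈ U, t * x * t⁻¹ ∈ U) {b x : G}
    (hb : b ∈ P.B) (hx : x ∈ U) : b * x * b⁻¹ ∈ U := by
  obtain ⟨u, hu, t, ht, rfl⟩ := R.prod b hb
  rw [show u * t * x * (u * t)⁻¹ = u * (t * x * t⁻¹) * u⁻¹ by group]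
  exact U.mul_mem (U.mul_mem hu (hN t ht x hx)) (U.inv_mem hu)

end Cfsg.Agent.BN
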