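import Cfsg.Agent.Lib.Lie.BNSylowFix
import Mathlib

/-!
# Automorphisms of order prime to `p` that fix a Sylow `p`-subgroup pointwise
-/

set_option autoImplicit false

namespace Cfsg.Agent.BN

variable {G H : Type*} [Group G] [Group H] [Finite G] (P : Cfsg.BNPair G) (π : G →* H)
  {U : Subgroup G} (R : BigRep P U)

/-- If `U` is invariant under the torus, `π B` is the normaliser of `π U`. -/
theorem normalizer_map (hπ : Function.Surjective π) (hker : π.ker ≤ P.B)
    (hN : ∀ t ∈ P.B ⊓ P.N, ∀ x ∈ U, t * x * t⁻¹ ∈ U) (R : BigRep P U) :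
    Subgroup.normalizer (U.map π : Set H) = P.B.map π := by
  set M := (Subgroup.normalizer (U.map π : Set H)).comap π with hM
  have hBM : P.B ≤ M := fun b hb => by
    rw [hM, Subgroup.mem_comap, Subgroup.mem_normalizer_iff]
    intro y
    constructor
    · rintro ⟨x, hx, rfl⟩
      exact ⟨b * x * b⁻¹, R.B_le_normalizer P hN hb hx, by simp⟩
    · rintro ⟨x, hx, he⟩
      refine ⟨b⁻¹ * x * b⁻¹⁻¹, R.B_le_normalizer P hN (P.B.inv_mem hb) hx, ?_⟩
      rw [map_mul, map_mul, inv_inv, map_inv, he]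
      group
  have key : M = P.B := by
    rw [eq_parabolic P M hBM]
    refine le_antisymm (sup_le le_rfl ((Subgroup.closure_le _).2 ?_)) (B_le_parabolic P _)
    rintro s ⟨hs, hsM⟩
    exfalso
    apply P.conj_ne s hs
    have hsub : ∀ b ∈ P.B, s * b * s ∈ P.B := fun b hb => by
      obtain ⟨u, hu, t, ht, rfl⟩ := R.prod b hb
      have h1 : s * u * s⁻¹ ∈ P.B := by
        have h := (Subgroup.mem_normalizer_iff.1 hsM (π u)).1 ⟨u, hu, rfl⟩
        obtain ⟨x, hx, he⟩ := h
        have hk : x⁻¹ * (s * u * s⁻¹) ∈ π.ker := by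
          rw [MonoidHom.mem_ker, map_mul, map_mul, map_mul, map_inv, map_inv, he, inv_mul_cancel]
        simpa using P.B.mul_mem (R.le hx) (hker hk)
      rw [show s * (u * t) * s = (s * u * s⁻¹) * (s * t * s⁻¹) * (s * s) by group]
      exact P.B.mul_mem (P.B.mul_mem h1 (P.conj_mem s (P.subset hs) t ht)) (P.sq_mem s hs)
    ext x
    refine ⟨?_, fun hx => ⟨(s * s)⁻¹ * (s * x * s) * (s * s)⁻¹, ?_, by group⟩⟩
    · rintro ⟨b, hb, rfl⟩
      exact hsub b hb
    · have h2 := P.B.inv_mem (P.sq_mem s hs)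
      exact P.B.mul_mem (P.B.mul_mem h2 (hsub x hx)) h2
  rw [← key, hM, Subgroup.map_comap_eq_self_of_surjective hπ]

include R in
/-- An automorphism fixing `π U` pointwise and of order prime to `p` is trivial. -/
theorem eq_one_of_fix [IsSimpleGroup H] (p : ℕ) [Fact p.Prime] (hπ : Function.Surjective π)
    (hker : π.ker ≤ P.B) (hN : ∀ t ∈ P.B ⊓ P.N, ∀ x ∈ U, t * x * t⁻¹ ∈ U)
    (hU : IsPGroup p U) (hne : ∃ x ∈ U, π x ≠ 1) (α : MulAut H) (hα : ¬ p ∣ orderOf α)
    (hfix : ∀ x ∈ U, α (π x) = π x) : α = 1 := by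
  classical
  haveI : Finite H := Finite.of_surjective π hπ
  have hfixU : ∀ y ∈ U.map π, α y = y := by
    rintro _ ⟨x, hx, rfl⟩
    exact hfix x hx
  have hmapU : (U.map π).map α.toMonoidHom = U.map π := by
    ext y
    constructor
    · rintro ⟨x, hx, rfl⟩
      show α x ∈ _
      rwa [hfixU x hx]
    · intro hy
      exact ⟨y, hy, hfixU y hy⟩
  have hmapB : ∀ {β : MulAut H}, (∀ y ∈ U.map π, β y = y) → ∀ y ∈ P.B.map π, β y ∈ P.B.map π := by
    intro β hβ y hy
    rw [← normalizer_map P π hπ hker hN R] at hy ⊢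
    rw [Subgroup.mem_normalizer_iff] at hy ⊢
    intro z
    constructor
    · intro hz
      have h2 := (hy z).1 hz
      rw [← hβ _ h2] at h2
      simpa [hβ z hz] using h2
    · intro hz
      have h1 := hβ _ hz
      have h2 : β (y * β⁻¹ z * y⁻¹) = β y * z * (β y)⁻¹ := by simp
      rw [← h1] at h2
      have h3 := β.injective h2
      rw [← h3] at hz
      have h4 := (hy _).2 hz
      have h5 := hβ _ h4
      rw [MulAut.apply_inv_self] at h5
      rwa [h5]
  have hB : ∀ b ∈ P.B, ∃ b' ∈ P.B, α (π b) = π b' := fun b hb => by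
    obtain ⟨b', hb', he⟩ := hmapB hfixU _ ⟨b, hb, rfl⟩
    exact ⟨b', hb', he.symm⟩
  obtain ⟨g, hg⟩ := hπ (α (π R.c))
  obtain ⟨v, hgv⟩ := bruhat P g
  -- α maps the big double coset onto the double coset of `g`
  have hv : v = R.w P := by
    refine R.eq_of_card P ?_
    let f : cell P (R.w P) → H := fun x => α (π x)
    have key : ∀ x : cell P (R.w P), ∃ y ∈ cell P v, π y = f x := fun x => by
      obtain ⟨u, hu, b, hb, he⟩ := R.cell_w P x.2
      obtain ⟨b', hb', he'⟩ := hB b hb
      refine ⟨u * g * b', cell_mul_right P hb' (cell_mul_left P (R.le hu) hgv), ?_⟩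
      show π (u * g * b') = α (π x)
      rw [he, map_mul, map_mul, map_mul, map_mul, map_mul, map_mul, hg, he', hfix u hu]
    choose y hy hye using key
    have hch : ∀ x : cell P (R.w P), ∃ k ∈ P.B, (x : G) = (Function.surjInv hπ (π x)) * k := fun x => by
      refine ⟨(Function.surjInv hπ (π x))⁻¹ * x, hker ?_, by group⟩
      rw [MonoidHom.mem_ker, map_mul, map_inv, Function.surjInv_eq hπ, inv_mul_cancel]
    -- lift the injection through the kernel
    let F : cell P (R.w P) → cell P v := fun x =>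
      ⟨y ⟨Function.surjInv hπ (π x), by
          obtain ⟨k, hk, he⟩ := hch x
          have := cell_mul_right P (P.B.inv_mem hk) x.2
          rwa [he, mul_inv_cancel_right] at this⟩ * ((Function.surjInv hπ (π x))⁻¹ * x),
        cell_mul_right P (by
          refine hker ?_
          rw [MonoidHom.mem_ker, map_mul, map_inv, Function.surjInv_eq hπ, inv_mul_cancel]) (hy _)⟩
    refine Nat.card_le_card_of_injective F fun a b hab => ?_
    have h := congrArg Subtype.val hab
    simp only [F] at h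
    have h1 : π a = π b := by
      have h2 := congrArg π h
      simp only [map_mul, map_inv, hye, f, Function.surjInv_eq hπ, inv_mul_cancel, mul_one] at h2
      exact α.injective h2
    simp only [h1] at h
    exact Subtype.ext (mul_left_cancel (mul_left_cancel h))
  subst hv
  obtain ⟨u, hu, b, hb, rfl⟩ := R.cell_w P hgv
  -- coprimality
  have hpow : ∀ k : ℕ, ∃ b' ∈ P.B, (α ^ k) (π R.c) = π (u ^ k * R.c * b') := by
    intro k
    induction k with
    | zero => exact ⟨1, P.B.one_mem, by simp⟩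
    | succ k ih =>
      obtain ⟨b', hb', he⟩ := ih
      obtain ⟨b'', hb'', he''⟩ := hB b' hb'
      refine ⟨b * b'', P.B.mul_mem hb hb'', ?_⟩
      rw [pow_succ', MulAut.mul_apply, he, map_mul, map_mul, map_mul, map_mul, ← hg,
        hfix _ (U.pow_mem hu k), he'']
      simp only [map_mul, map_pow]
      rw [pow_succ]
      group
  obtain ⟨b', hb', he⟩ := hpow (orderOf α)
  rw [pow_orderOf_eq_one, MulAut.one_apply] at he
  have h1 : u ^ orderOf α = 1 := by
    refine R.reg _ (U.pow_mem hu _) ?_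
    have hk : R.c⁻¹ * (u ^ orderOf α * R.c * b') ∈ π.ker := by
      rw [MonoidHom.mem_ker, map_mul, ← he, map_inv, inv_mul_cancel]
    have := P.B.mul_mem (hker hk) (P.B.inv_mem hb')
    rwa [show R.c⁻¹ * (u ^ orderOf α * R.c * b') * b'⁻¹ = R.c⁻¹ * u ^ orderOf α * R.c by group] at this
  obtain ⟨k, hk⟩ := hU ⟨u, hu⟩
  have hk' : u ^ p ^ k = 1 := congrArg Subtype.val hk
  have hu1 : u = 1 := by
    rw [← pow_one u, ← Nat.Coprime.gcd_eq_one
      ((Nat.Coprime.pow_left k (((Fact.out : p.Prime).coprime_iff_not_dvd).2 hα)))]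
    exact pow_gcd_eq_one.2 ⟨hk', h1⟩
  refine eq_one_of_fix_big P π R hπ hker hN α hfix hB hne hb ?_
  rw [← hg, hu1, one_mul]

include R in
/-- The same for an arbitrary Sylow subgroup. -/
theorem eq_one_of_fix_sylow [IsSimpleGroup H] (p : ℕ) [Fact p.Prime] (hπ : Function.Surjective π)
    (hker : π.ker ≤ P.B) (hN : ∀ t ∈ P.B ⊓ P.N, ∀ x ∈ U, t * x * t⁻¹ ∈ U)
    (hU : IsPGroup p U) (hne : ∃ x ∈ U, π x ≠ 1) (α : MulAut H) (hα : ¬ p ∣ orderOf α)
    (S : Sylow p H) (hfix : ∀ x ∈ (S : Subgroup H), α x = x) : α = 1 := by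
  haveI : Finite H := Finite.of_surjective π hπ
  obtain ⟨S₀, hS₀⟩ := (hU.map π).exists_le_sylow
  obtain ⟨h, hh⟩ := MulAction.exists_smul_eq H S S₀
  set β : MulAut H := MulAut.conj h * α * (MulAut.conj h)⁻¹ with hβ
  have hord : orderOf β = orderOf α :=
    MulEquiv.orderOf_eq (MulAut.conj (MulAut.conj h : MulAut H)) α
  have : β = 1 := by
    refine eq_one_of_fix P π R p hπ hker hN hU hne β (hord ▸ hα) fun x hx => ?_
    have hx₀ : π x ∈ (S₀ : Subgroup H) := hS₀ ⟨x, hx, rfl⟩
    rw [← hh] at hx₀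
    obtain ⟨y, hy, he⟩ := hx₀
    have he' : π x = MulAut.conj h y := he.symm
    rw [hβ, MulAut.mul_apply, MulAut.mul_apply, he', MulAut.inv_apply_self, hfix y hy]
  rw [hβ] at this
  exact conj_eq_one_iff.1 this

end Cfsg.Agent.BN
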