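import Cfsg.Agent.Lib.Lie.BNBigCell
import Mathlib.GroupTheory.Sylow

/-!
# Automorphisms fixing a Sylow subgroup of a split Tits system pointwise
-/

set_option autoImplicit false

namespace Cfsg.Agent.BN

variable {G H : Type*} [Group G] [Group H] [Finite G] (P : Cfsg.BNPair G) (π : G →* H)
  {U : Subgroup G} (R : BigRep P U)

/-- If `α` fixes `π U` pointwise and `π (c B)` setwise, it is trivial. -/
theorem eq_one_of_fix_big [IsSimpleGroup H] (hπ : Function.Surjective π) (hker : π.ker ≤ P.B)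
    (hN : ∀ t ∈ P.B ⊓ P.N, ∀ x ∈ U, t * x * t⁻¹ ∈ U) (α : MulAut H)
    (hfix : ∀ x ∈ U, α (π x) = π x) (hB : ∀ b ∈ P.B, ∃ b' ∈ P.B, α (π b) = π b')
    (hne : ∃ x ∈ U, π x ≠ 1) {b : G} (hb : b ∈ P.B) (hc : α (π R.c) = π (R.c * b)) :
    α = 1 := by
  classical
  let K₀ : Subgroup H := α.toMonoidHom.eqLocus (MonoidHom.id H)
  let K : Subgroup G := K₀.comap π
  have hU : U ≤ K := hfix
  have hmem : ∀ x, x ∈ K ↔ α (π x) = π x := fun x => Iff.rfl
  obtain ⟨u, hu, hv⟩ := R.exists_triple P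
  set v := R.c * u * R.c⁻¹ with hvdef
  have hbn : ∀ {b x : G}, b ∈ P.B → x ∈ U → b * x * b⁻¹ ∈ U := fun hb hx =>
    R.B_le_normalizer P hN hb hx
  have hV : ∀ x ∈ U, α (π (R.c * x * R.c⁻¹)) = π (R.c * (b * x * b⁻¹) * R.c⁻¹) := fun x hx => by
    simp only [map_mul, map_inv, hc, hfix x hx]
    group
  -- elements of the big cell: `α (π g) ∈ π (g B)`
  have hbig : ∀ g ∈ cell P (R.w P), ∃ b' ∈ P.B, α (π g) = π (g * b') := fun g hg => by
    obtain ⟨u', hu', b₁, hb₁, rfl⟩ := R.cell_w P hg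
    obtain ⟨b₂, hb₂', hb₂⟩ := hB b₁ hb₁
    refine ⟨b₁⁻¹ * b * b₂, P.B.mul_mem (P.B.mul_mem (P.B.inv_mem hb₁) hb) hb₂', ?_⟩
    simp only [map_mul, map_inv, hfix u' hu', hc, hb₂]
    group
  have hvK : v ∈ K := by
    obtain ⟨b', hb', he⟩ := hbig v hv
    have he2 : π (R.c * (b * u * b⁻¹) * R.c⁻¹) = π (v * b') := (hV u hu).symm.trans he
    have hmemB : v⁻¹ * (R.c * (b * u * b⁻¹) * R.c⁻¹) ∈ P.B := by
      have : (v * b')⁻¹ * (R.c * (b * u * b⁻¹) * R.c⁻¹) ∈ π.ker := by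
        rw [MonoidHom.mem_ker, map_mul, he2, map_inv, inv_mul_cancel]
      have h2 := P.B.mul_mem hb' (hker this)
      rwa [show b' * ((v * b')⁻¹ * (R.c * (b * u * b⁻¹) * R.c⁻¹)) =
        v⁻¹ * (R.c * (b * u * b⁻¹) * R.c⁻¹) by group] at h2
    have h1 : u⁻¹ * (b * u * b⁻¹) = 1 := R.reg' P (U.mul_mem (U.inv_mem hu) (hbn hb hu)) (by
      rw [hvdef] at hmemB
      rwa [show R.c * (u⁻¹ * (b * u * b⁻¹)) * R.c⁻¹ =
        (R.c * u * R.c⁻¹)⁻¹ * (R.c * (b * u * b⁻¹) * R.c⁻¹) by group])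
    rw [hmem]
    show α (π (R.c * u * R.c⁻¹)) = π (R.c * u * R.c⁻¹)
    rw [hV u hu, ← inv_mul_eq_one.1 h1]
  have hcK : ∀ x ∈ U, R.c * x * R.c⁻¹ ∈ K := by
    obtain ⟨u₁, hu₁, b₁, hb₁, hve⟩ := R.cell_w P hv
    intro x hx
    have e : R.c * x * R.c⁻¹ = u₁⁻¹ * (v * (b₁⁻¹ * x * b₁) * v⁻¹) * u₁ := by
      rw [hve]; group
    rw [e]
    refine K.mul_mem (K.mul_mem (K.inv_mem (hU hu₁)) (K.mul_mem (K.mul_mem hvK ?_) (K.inv_mem hvK)))
      (hU hu₁)
    exact hU (by simpa using hbn (P.B.inv_mem hb₁) hx)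
  -- the subgroup generated by the fixed Sylow subgroups
  let L : Subgroup G := Subgroup.closure
    ((U : Set G) ∪ {y | ∃ d ∈ cell P (R.w P), ∃ x ∈ U, y = d * x * d⁻¹})
  have hUL : U ≤ L := fun x hx => Subgroup.subset_closure (Or.inl hx)
  have hLK : L ≤ K := by
    refine (Subgroup.closure_le _).2 ?_
    rintro y (hy | ⟨d, hd, x, hx, rfl⟩)
    · exact hU hy
    · obtain ⟨u', hu', b₁, hb₁, rfl⟩ := R.cell_w P hd
      show u' * R.c * b₁ * x * (u' * R.c * b₁)⁻¹ ∈ K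
      rw [show u' * R.c * b₁ * x * (u' * R.c * b₁)⁻¹ = u' * (R.c * (b₁ * x * b₁⁻¹) * R.c⁻¹) * u'⁻¹
        by group]
      exact K.mul_mem (K.mul_mem (hU hu') (hcK _ (hbn hb₁ hx))) (K.inv_mem (hU hu'))
  have hBL : P.B ≤ Subgroup.normalizer (L : Set G) := by
    suffices h : ∀ b ∈ P.B, ∀ y ∈ L, b * y * b⁻¹ ∈ L from fun b hb =>
      Subgroup.mem_normalizer_iff.2 fun y => ⟨h b hb y, fun hy => by
        have := h b⁻¹ (P.B.inv_mem hb) _ hy
        rwa [show b⁻¹ * (b * y * b⁻¹) * b⁻¹⁻¹ = y by group] at this⟩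
    intro b hb y hy
    have hle : L.map (MulAut.conj b).toMonoidHom ≤ L := by
      rw [MonoidHom.map_closure, Subgroup.closure_le]
      rintro _ ⟨z, (hz | ⟨d, hd, x, hx, rfl⟩), rfl⟩
      · exact hUL (hbn hb hz)
      · refine Subgroup.subset_closure (Or.inr ⟨b * d, cell_mul_left P hb hd, x, hx, ?_⟩)
        simp only [MulEquiv.coe_toMonoidHom, MulAut.conj_apply]
        group
    exact hle ⟨y, hy, rfl⟩
  have hall : Subgroup.normalizer (L : Set G) = ⊤ := by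
    set M := Subgroup.normalizer (L : Set G) with hM
    have hcM : R.c ∈ M := by
      obtain ⟨u₁, hu₁, b₁, hb₁, hve⟩ := R.cell_w P hv
      have hvM : v ∈ M := Subgroup.le_normalizer (Subgroup.subset_closure (Or.inr ⟨R.c, by
        rw [BigRep.w, cell_mk]; exact self_mem_dc P _, u, hu, rfl⟩))
      have e : R.c = u₁⁻¹ * v * b₁⁻¹ := by rw [hve]; group
      rw [e]
      exact M.mul_mem (M.mul_mem (M.inv_mem (hBL (R.le hu₁))) hvM) (M.inv_mem (hBL hb₁))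
    have hS : P.S ⊆ (M : Set G) := by
      intro s hs
      obtain ⟨b', hb', hbc⟩ := exists_mem_of_lt P ⟨s, hs⟩ _ (R.noAsc P ⟨s, hs⟩)
        (show R.c ∈ cell P (R.w P) by rw [BigRep.w, cell_mk]; exact self_mem_dc P _)
      rw [BigRep.w, cell_mk] at hbc
      have h1 := dc_subset P hBL hcM hbc
      have h2 := M.mul_mem (M.mul_mem h1 (M.inv_mem hcM)) (M.inv_mem (hBL hb'))
      simpa [mul_assoc] using h2
    rw [eq_top_iff, ← P.sup_eq_top, sup_le_iff]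
    refine ⟨hBL, ?_⟩
    rw [← P.closure_sup]
    exact sup_le ((Subgroup.closure_le _).2 hS) (inf_le_left.trans hBL)
  haveI : L.Normal := Subgroup.normalizer_eq_top_iff.1 hall
  haveI : (L.map π).Normal := Subgroup.Normal.map inferInstance π hπ
  have hfixL : ∀ y ∈ L.map π, α y = y := by
    rintro _ ⟨x, hx, rfl⟩
    exact hLK hx
  rcases Subgroup.Normal.eq_bot_or_eq_top (inferInstance : (L.map π).Normal) with h | h
  · exfalso
    obtain ⟨x, hx, hx1⟩ := hne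
    have : π x ∈ L.map π := ⟨x, hUL hx, rfl⟩
    rw [h, Subgroup.mem_bot] at this
    exact hx1 this
  · exact MulEquiv.ext fun y => hfixL y (h ▸ Subgroup.mem_top y)

end Cfsg.Agent.BN
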