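import Cfsg.Agent.Lib.Lie.ChevBlocks

/-!
# A Chevalley group without centre has two blocks in its own characteristic
-/

set_option autoImplicit false
set_option linter.style.haveILetI false

namespace Cfsg.Agent.Chev

open Cfsg Cfsg.Lie Cfsg.Agent.Blocks

namespace Tab

universe v

variable {T : Tab} {K : List (List ℕ)} {F : Type v} [Field F] [Fintype F]
variable (p : ℕ) [Fact p.Prime] [CharP F p] {M : Ideal AlgInt}

theorem outJ_empty (g : T.Good) : T.outJ (∅ : Set ℕ) = Set.Ico T.N T.n := by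
  refine Set.Subset.antisymm (fun r hr => ⟨hr.1, hr.2.1⟩) fun r hr => ⟨hr.1, hr.2, ?_⟩
  obtain ⟨k, hk, hne⟩ := g.exists_c_ne_zero hr.2 ℚ
  exact ⟨k, hk, Set.notMem_empty k, fun h => hne (by rw [h]; norm_num)⟩

variable [Fintype ↥(T.D.group F)]

/-- There is one block of full defect. -/
theorem card_blocks_full (g : T.GoodK K)
    (hconn : ∀ S : Set ℕ, (∃ i < T.l, i ∈ S) → (∃ i < T.l, i ∉ S) →
      ∃ a < T.l, ∃ b < T.l, a ∈ S ∧ b ∉ S ∧ T.A a (T.smp b) ≠ 0)
    (hl : 0 < T.l) (hM : IsPModular p M) (P : Sylow p ↥(T.D.group F))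
    (hP : (P : Subgroup ↥(T.D.group F)) = (T.D.posUnipotent F).subgroupOf (T.D.group F)) :
    Nat.card {B : Set (IrrCharacter ↥(T.D.group F)) //
      IsPBlock M B ∧ IsDefectGroup p M B (P : Subgroup ↥(T.D.group F))} = 1 := by
  classical
  haveI : M.IsPrime := hM.2.1.isPrime
  have hg := g.toGood
  rw [card_blocks_sylow_defect hM P]
  rw [posUnipotent_eq hg] at hP
  have key : ∀ n : Subgroup.normalizer ((P : Subgroup ↥(T.D.group F)) : Set ↥(T.D.group F)),
      ¬ p ∣ orderOf n → (n : ↥(T.D.group F)) ∈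
        Subgroup.centralizer ((P : Subgroup ↥(T.D.group F)) : Set ↥(T.D.group F)) → n = 1 := by
    intro n hreg hn
    have hc : ∀ y ∈ genS hg F (Set.Ico T.N T.n),
        y * ((n : ↥(T.D.group F)) : GL T.D.Idx F) = ((n : ↥(T.D.group F)) : GL T.D.Idx F) * y := by
      intro y hy
      exact congrArg Subtype.val (Subgroup.mem_centralizer_iff.1 hn ⟨y, posU_le_group hg hy⟩
        (by rw [SetLike.mem_coe, hP, Subgroup.mem_subgroupOf]; exact hy))
    set x : GL T.D.Idx F := ((n : ↥(T.D.group F)) : GL T.D.Idx F) with hx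
    have hxc : x ∈ Subgroup.centralizer (genS hg F (Set.Ico T.N T.n) : Set (GL T.D.Idx F)) :=
      Subgroup.mem_centralizer_iff.2 hc
    have hxN := Subgroup.centralizer_le_normalizer _ hxc
    have hB := mem_borel_of_normalizes g.toGoodA (n : ↥(T.D.group F)).2 hxN
    have hrad := ChevAut.centralizer_radical (F := F) g hconn (J := ∅) hl (Set.notMem_empty 0)
    rw [outJ_empty hg] at hrad
    have hxU := hrad (Subgroup.mem_inf.2 ⟨Subgroup.mem_sup_left hB, hxc⟩)
    obtain ⟨j, hj⟩ := IsPGroup.iff_orderOf.1 (posU_isPGroup (F := F) hg p) ⟨x, hxU⟩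
    rw [Subgroup.orderOf_mk, hx, Subgroup.orderOf_coe, Subgroup.orderOf_coe] at hj
    rcases Nat.eq_zero_or_pos j with rfl | hjpos
    · exact orderOf_eq_one_iff.1 (by rw [hj, pow_zero])
    · exact absurd (hj ▸ dvd_pow_self p hjpos.ne') hreg
  rw [Nat.card_eq_one_iff_unique]
  refine ⟨⟨fun C C' => ?_⟩, ⟨⟨ConjClasses.mk 1, fun n hn => ?_⟩⟩⟩
  · obtain ⟨a, ha⟩ := ConjClasses.exists_rep C.1
    obtain ⟨b, hb⟩ := ConjClasses.exists_rep C'.1
    have h1 := key a (C.2 a ha).1 (C.2 a ha).2
    have h2 := key b (C'.2 b hb).1 (C'.2 b hb).2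
    exact Subtype.ext (by rw [← ha, ← hb, h1, h2])
  · obtain rfl : n = 1 := isConj_one_right.1 (ConjClasses.mk_eq_mk_iff_isConj.1 hn.symm)
    refine ⟨?_, ?_⟩
    · rw [orderOf_one]; exact (Fact.out : p.Prime).not_dvd_one
    · rw [OneMemClass.coe_one]; exact one_mem _

/-- There is one block of defect zero. -/
theorem card_blocks_zero (g : T.GoodA) (hM : IsPModular p M) :
    Nat.card {B : Set (IrrCharacter ↥(T.D.group F)) //
      IsPBlock M B ∧ blockDefect p B = 0} = 1 := by
  classical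
  haveI : M.IsPrime := hM.2.1.isPrime
  set st : IrrCharacter ↥(T.D.group F) := ⟨_, steinberg_irr (F := F) g⟩ with hst
  have hdeg : (charDegree (st : ↥(T.D.group F) → ℂ)).factorization p =
      (Nat.card ↥(T.D.group F)).factorization p := by
    have h : (charDegree (st : ↥(T.D.group F) → ℂ) : ℂ) = ((Fintype.card F ^ T.N : ℕ) : ℂ) := by
      rw [← irr_one_eq_charDegree, hst, Nat.cast_pow]
      exact steinberg_one g
    rw [Nat.cast_inj.1 h, ← sylow_pow g p, Nat.Prime.factorization_pow Fact.out, Finsupp.single_eq_same]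
  have hsingle := blockOf_eq_singleton hM st hdeg
  have hblock : IsPBlock M ({st} : Set (IrrCharacter ↥(T.D.group F))) :=
    hsingle ▸ isPBlock_blockOf st
  rw [Nat.card_eq_one_iff_unique]
  refine ⟨⟨fun B B' => ?_⟩, ⟨⟨{st}, hblock, ?_⟩⟩⟩
  · have key : ∀ B : Set (IrrCharacter ↥(T.D.group F)), IsPBlock M B → blockDefect p B = 0 →
        B = {st} := by
      intro B hB h0
      obtain ⟨χ, rfl⟩ := hB
      have hge := degExp_ge hM (isPBlock_blockOf χ) (self_mem_blockOf χ)
      rw [show blockDefect p (blockOf M (χ : ↥(T.D.group F) → ℂ)) = 0 from h0, Nat.sub_zero] at hge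
      have hχ : χ = st := Subtype.ext (unique_defect_zero g p χ.2 ⟨_, irr_one_eq_charDegree χ,
        ((Fact.out : p.Prime).pow_dvd_iff_le_factorization (charDegree_pos χ).ne').2 hge⟩)
      rw [hχ]; exact hsingle
    exact Subtype.ext ((key _ B.2.1 B.2.2).trans (key _ B'.2.1 B'.2.2).symm)
  · rw [blockDefect, Set.image_singleton, csInf_singleton, hdeg, Nat.sub_self]

/-- The number of blocks. -/
theorem card_blocks (g : T.GoodK K)
    (hconn : ∀ S : Set ℕ, (∃ i < T.l, i ∈ S) → (∃ i < T.l, i ∉ S) →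
      ∃ a < T.l, ∃ b < T.l, a ∈ S ∧ b ∉ S ∧ T.A a (T.smp b) ≠ 0)
    (hl : 0 < T.l) (hM : IsPModular p M) :
    Nat.card {B : Set (IrrCharacter ↥(T.D.group F)) // IsPBlock M B} = 2 := by
  classical
  haveI : M.IsPrime := hM.2.1.isPrime
  obtain ⟨P, hP⟩ := exists_sylow_posU (F := F) g.toGoodA p
  have hN : 0 < T.N := (by
    have := g.toGood.smp_lt hl
    have := g.toGood.smp_ge hl
    have := n_def (T := T)
    omega)
  have hpos : 0 < (Nat.card ↥(T.D.group F)).factorization p := Nat.pos_iff_ne_zero.2 fun h => by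
    have h1 := sylow_pow (F := F) g.toGoodA p
    rw [h, pow_zero] at h1
    exact (Nat.one_lt_pow hN.ne' Fintype.one_lt_card).ne' h1.symm
  haveI : Finite {B : Set (IrrCharacter ↥(T.D.group F)) // IsPBlock M B} := Subtype.finite
  rw [← Nat.card_congr (Equiv.sumCompl fun B : {B : Set (IrrCharacter ↥(T.D.group F)) //
      IsPBlock M B} => blockDefect p B.1 = 0), Nat.card_sum]
  have h1 := card_blocks_zero (F := F) p g.toGoodA hM
  have h2 := card_blocks_full (F := F) p g hconn hl hM P hP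
  rw [Nat.card_congr (Equiv.subtypeSubtypeEquivSubtypeInter _ (fun B => blockDefect p B = 0)), h1,
    Nat.card_congr ((Equiv.subtypeSubtypeEquivSubtypeInter _
      (fun B => ¬ blockDefect p B = 0)).trans (Equiv.subtypeEquivRight fun B =>
        and_congr_right fun hB => ?_)), h2]
  constructor
  · intro h0
    exact (chev_defect_cases p g hconn hM P hP hB).resolve_left h0
  · intro h h0
    have hc := card_defectGroup hM hB h
    rw [h0, Sylow.card_eq_multiplicity] at hc
    exact hpos.ne' (Nat.pow_right_injective (Fact.out : p.Prime).two_le hc)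

end Tab

end Cfsg.Agent.Chev
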