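import Cfsg.Agent.Lib.Lie.ChevLink

/-! Soundness of the sparse engine: it computes the matrices of the datum. -/

set_option autoImplicit false

namespace Cfsg.Agent.Chev

open Cfsg.Lie Matrix

namespace Tab

variable {T : Tab} {F : Type*} [Field F]

/-- the position of a basis vector -/
def code (T : Tab) : T.D.Idx → ℕ
  | Sum.inl i => i.val
  | Sum.inr s => T.l + s.val

theorem code_injective (g : T.Good) : Function.Injective T.code := by
  have hl := g.rank_eq
  rintro (⟨i, hi⟩ | ⟨s, hs⟩) (⟨j, hj⟩ | ⟨u, hu⟩) h <;> simp only [code] at h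
  · subst h; rfl
  · omega
  · omega
  · obtain rfl : s = u := by omega
    rfl

theorem code_lt (g : T.Good) (i : T.D.Idx) : T.code i < T.l + T.n := by
  rcases i with ⟨i, hi⟩ | ⟨s, hs⟩ <;> simp only [code]
  · rw [g.rank_eq] at hi; omega
  · rw [g.nroots_eq] at hs; omega

theorem exists_code (g : T.Good) {j : ℕ} (h : j < T.l + T.n) : ∃ i, T.code i = j := by
  by_cases hj : j < T.l
  · exact ⟨Sum.inl ⟨j, by rw [g.rank_eq]; exact hj⟩, rfl⟩
  · exact ⟨Sum.inr ⟨j - T.l, by rw [g.nroots_eq]; omega⟩, by simp [code]; omega⟩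

variable (T F) in
/-- the `j`-th basis vector (zero out of range) -/
def bas (j : ℕ) : T.D.Idx → F := fun i => if T.code i = j then 1 else 0

theorem bas_code (g : T.Good) (i : T.D.Idx) : bas T F (T.code i) = Pi.single i 1 := by
  funext k
  simp [bas, Pi.single_apply, (code_injective g).eq_iff]

theorem bas_eq_zero (g : T.Good) {j : ℕ} (h : ¬ j < T.l + T.n) : bas T F j = 0 := by
  funext k
  have := code_lt g k
  simp [bas]
  omega

theorem ext_col (g : T.Good) {M M' : Matrix T.D.Idx T.D.Idx F}
    (h : ∀ j < T.l + T.n, M *ᵥ bas T F j = M' *ᵥ bas T F j) : M = M' := by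
  ext a b
  have := congrFun (h (T.code b) (code_lt g b)) a
  simpa [bas_code g, Matrix.mulVec_single] using this

variable (T) in
/-- semantic of a list of `(row, coefficient, degree)` -/
def colVal (t : F) (L : List (ℕ × ℤ × ℕ)) : T.D.Idx → F :=
  (L.map fun q => ((q.2.1 : F) * t ^ q.2.2) • bas T F q.1).sum

theorem colVal_apply (t : F) (L : List (ℕ × ℤ × ℕ)) (a : T.D.Idx) :
    colVal T t L a = (L.map fun q => if T.code a = q.1 then (q.2.1 : F) * t ^ q.2.2 else 0).sum := by
  induction L with
  | nil => rfl
  | cons q L ih =>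
    simp only [colVal, List.map_cons, List.sum_cons, Pi.add_apply, Pi.smul_apply, smul_eq_mul] at ih ⊢
    rw [ih, bas]
    split_ifs <;> simp

theorem sum_map_ite_range {M : Type*} [AddCommMonoid M] (f : ℕ → M) (k a : ℕ) :
    ((List.range k).map fun i => if a = i then f i else 0).sum = if a < k then f a else 0 := by
  induction k with
  | zero => simp
  | succ k ih =>
    rw [List.range_succ, List.map_append, List.sum_append, ih]
    rcases lt_trichotomy a k with h | h | h
    · simp [h, h.ne, Nat.lt_succ_of_lt h]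
    · subst h; simp
    · simp [Nat.not_lt.2 h.le, h.ne', Nat.not_lt.2 (Nat.succ_le_of_lt h)]

theorem sum_filter_map {α M : Type*} [AddCommMonoid M] (L : List α) (p : α → Prop) [DecidablePred p]
    (f : α → M) :
    ((L.filter fun a => decide (p a)).map f).sum = (L.map fun a => if p a then f a else 0).sum := by
  induction L with
  | nil => simp
  | cons a L ih => by_cases h : p a <;> simp [List.filter_cons, h, ih]

/-- The columns of a root element are those listed by `xcol`. -/
theorem x_mulVec_bas (g : T.Good) {r : ℕ} (hr : r < T.n) (t : F) (j : ℕ) :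
    T.D.x F r t *ᵥ bas T F j = colVal T t (T.xcol r j) := by
  by_cases hj : j < T.l + T.n
  swap
  · rw [bas_eq_zero g hj, mulVec_zero, xcol]
    have h0 : ¬ j < T.l := by omega
    have h1 : j ≠ T.ix r := by show j ≠ T.l + r; omega
    have h2 : j ≠ T.ix (T.neg r) := by
      have := neg_lt hr
      show j ≠ T.l + T.neg r; omega
    rw [nat_blt_false.2 (not_lt.1 h0), cond_false, nat_beq_false.2 h1, cond_false,
      nat_beq_false.2 h2, cond_false]
    rw [show Nat.blt j (Nat.add T.l T.n) = false from nat_blt_false.2 (not_lt.1 hj), cond_false]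
    rfl
  obtain ⟨col, rfl⟩ := exists_code g hj
  funext row
  have hr' : r < T.D.nroots := by rw [g.nroots_eq]; exact hr
  rw [bas_code g, Matrix.mulVec_single_one, colVal_apply, ChevalleyDatum.x, dif_pos hr']
  show T.D.xMat F ⟨r, hr'⟩ t row col = _
  rcases col with ⟨i, hi⟩ | ⟨s, hs⟩
  · have hi' : i < T.l := by rwa [g.rank_eq] at hi
    have hA : (T.D.cartanSR.getD i #[]).getD r 0 = T.A i r := g.cartan_eq hi' hr
    rw [xcol, show Nat.blt (T.code (Sum.inl ⟨i, hi⟩)) T.l = true from nat_blt.2 hi', cond_true]
    rcases row with ⟨i', hi2⟩ | ⟨u, hu⟩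
    · have hne : i' ≠ T.l + r := by rw [g.rank_eq] at hi2; omega
      simp [ChevalleyDatum.xMat, -Array.getD_eq_getD_getElem?, code, ix, hne, Fin.ext_iff]
    · have hne : T.l + u ≠ i := by omega
      simp [ChevalleyDatum.xMat, -Array.getD_eq_getD_getElem?, code, ix, hne, Fin.ext_iff, hA]
  · have hs' : s < T.n := by rwa [g.nroots_eq] at hs
    rw [xcol, show Nat.blt (T.code (Sum.inr ⟨s, hs⟩)) T.l = false from
      nat_blt_false.2 (by simp [code]), cond_false]
    by_cases hsr : s = r
    · subst hsr
      rw [show Nat.beq (T.code (Sum.inr ⟨s, hs⟩)) (T.ix s) = true from nat_beq.2 rfl, cond_true]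
      rcases row with ⟨i', hi2⟩ | ⟨u, hu⟩
      · have hne : i' ≠ T.l + s := by rw [g.rank_eq] at hi2; omega
        simp [ChevalleyDatum.xMat, -Array.getD_eq_getD_getElem?, code, hne]
      · simp [ChevalleyDatum.xMat, -Array.getD_eq_getD_getElem?, code, Fin.ext_iff]
    rw [show Nat.beq (T.code (Sum.inr ⟨s, hs⟩)) (T.ix r) = false from
      nat_beq_false.2 (by show T.l + s ≠ T.l + r; omega), cond_false]
    have hneg : T.D.negIdx.getD r 0 = T.neg r := g.neg_eq hr
    by_cases hsn : s = T.neg r
    · rw [show Nat.beq (T.code (Sum.inr ⟨s, hs⟩)) (T.ix (T.neg r)) = true from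
        nat_beq.2 (by show T.l + s = T.l + T.neg r; omega), cond_true]
      rw [listBelow_eq]
      simp only [List.map_cons, List.map_map, List.sum_cons, Function.comp_def, pow_zero, pow_one,
        mul_one, Int.cast_one, Int.cast_neg]
      rcases row with ⟨i', hi2⟩ | ⟨u, hu⟩
      · have hi3 : i' < T.l := by rwa [g.rank_eq] at hi2
        rw [sum_map_ite_range (fun i => (T.c r i : F) * t) T.l]
        simp [ChevalleyDatum.xMat, -Array.getD_eq_getD_getElem?, code, ix, Fin.ext_iff, hsr, hneg, hsn, hi3, g.coroot_eq hr hi3,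
          show T.neg r ≠ r from neg_ne hr, show i' ≠ T.l + r by omega,
          show i' ≠ T.l + T.neg r by omega]
      · rw [sum_map_ite_range (fun i => (T.c r i : F) * t) T.l]
        have h1 : ¬ T.l + u < T.l := by omega
        by_cases hus : u = T.neg r
        · simp [ChevalleyDatum.xMat, -Array.getD_eq_getD_getElem?, code, ix, Fin.ext_iff, hneg, hsn, hus,
            show T.neg r ≠ r from neg_ne hr, h1]
        · by_cases hur : u = r <;>
            simp [ChevalleyDatum.xMat, -Array.getD_eq_getD_getElem?, code, ix, Fin.ext_iff, hneg, hsn, hus, hur,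
              show T.neg r ≠ r from neg_ne hr, h1, (neg_ne hr).symm]
    rw [show Nat.beq (T.code (Sum.inr ⟨s, hs⟩)) (T.ix (T.neg r)) = false from
      nat_beq_false.2 (by show T.l + s ≠ T.l + T.neg r; omega), cond_false]
    rw [show Nat.blt (T.code (Sum.inr ⟨s, hs⟩)) (Nat.add T.l T.n) = true from
      nat_blt.2 (by show T.l + s < T.l + T.n; omega), cond_true]
    have hsub : Nat.sub (T.code (Sum.inr ⟨s, hs⟩)) T.l = s := by show T.l + s - T.l = s; omega
    rw [hsub]
    simp only [List.map_cons, List.map_map, List.sum_cons, Function.comp_def, pow_zero, mul_one,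
      Int.cast_one]
    rcases row with ⟨i', hi2⟩ | ⟨u, hu⟩
    · have hi3 : i' < T.l := by rwa [g.rank_eq] at hi2
      have hne : i' ≠ T.l + s := by omega
      have : ((T.ch r s).zipIdx.map fun q =>
          if i' = T.ix q.1.1 then ((q.1.2 : ℤ) : F) * t ^ (q.2 + 1) else 0).sum = 0 := by
        apply List.sum_eq_zero
        intro x hx
        obtain ⟨q, _, rfl⟩ := List.mem_map.1 hx
        rw [if_neg]
        show i' ≠ T.l + q.1.1
        omega
      simp [ChevalleyDatum.xMat, -Array.getD_eq_getD_getElem?, code, Fin.ext_iff, hsr, hneg, hsn, hne, eq_comm (a := (0 : F))]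
      exact this
    · have hcc := g.chainCoeff_eq hr hs' u
      simp [ChevalleyDatum.xMat, -Array.getD_eq_getD_getElem?, code, ix, Fin.ext_iff, hsr, Ne.symm hsr, hneg, hsn, hcc, List.map_map,
        Function.comp_def, sum_filter_map, eq_comm]

/-! ### Semantics -/

variable (τ υ : Fˣ)

/-- value of a monomial -/
def monVal (m : Mono) : F := (m.1 : F) * ((τ ^ m.2.1 * υ ^ m.2.2 : Fˣ) : F)

/-- value of a polynomial -/
def pval (p : List Mono) : F := (p.map (monVal τ υ)).sum

variable (T) in
/-- value of a sparse vector -/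
def sem (v : SVec) : T.D.Idx → F := (v.map fun e => monVal τ υ e.2 • bas T F e.1).sum

theorem monVal_mmul (x y : Mono) : monVal τ υ (mmul x y) = monVal τ υ x * monVal τ υ y := by
  simp only [monVal, mmul, _root_.zpow_add, Units.val_mul, Int.cast_mul]
  ring

theorem monVal_one : monVal τ υ (1, 0, 0) = 1 := by simp [monVal]

theorem monVal_const (c : ℤ) : monVal τ υ (c, 0, 0) = (c : F) := by simp [monVal]

theorem pval_flatMap (p q : List Mono) :
    pval τ υ (p.flatMap fun m => q.map fun m' => mmul m m') = pval τ υ p * pval τ υ q := by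
  induction p with
  | nil => simp [pval]
  | cons m p ih =>
    simp only [pval, List.flatMap_cons, List.map_append, List.sum_append, List.map_cons,
      List.sum_cons, List.map_map] at ih ⊢
    rw [ih, add_mul]
    congr 1
    clear ih
    induction q with
    | nil => simp
    | cons m' q ih2 =>
      simp only [List.map_cons, List.sum_cons, Function.comp_apply, monVal_mmul, mul_add] at ih2 ⊢
      rw [ih2]

theorem pval_ppow (p : List Mono) (d : ℕ) : pval τ υ (ppow p d) = pval τ υ p ^ d := by
  induction d with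
  | zero => simp [ppow, pval, monVal_one]
  | succ d ih =>
    show pval τ υ ((ppow p d).flatMap fun m => p.map fun m' => mmul m m') = _
    rw [pval_flatMap, ih, pow_succ]

@[simp] theorem sem_nil : sem T τ υ [] = 0 := rfl

theorem sem_cons (e : ℕ × Mono) (v : SVec) :
    sem T τ υ (e :: v) = monVal τ υ e.2 • bas T F e.1 + sem T τ υ v := by simp [sem]

theorem sem_append (v w : SVec) : sem T τ υ (v ++ w) = sem T τ υ v + sem T τ υ w := by simp [sem]

theorem sem_one (j : ℕ) : sem T τ υ [(j, (1, 0, 0))] = bas T F j := by simp [sem, monVal_one]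

theorem sem_vneg (v : SVec) : sem T τ υ (vneg v) = -sem T τ υ v := by
  induction v with
  | nil => simp [vneg]
  | cons e v ih =>
    show sem T τ υ ((e.1, (-e.2.1, e.2.2)) :: vneg v) = _
    simp [sem_cons, ih, monVal, add_comm]

theorem sem_insEntry (x : ℕ × Mono) :
    ∀ v : SVec, sem T τ υ (insEntry x v) = monVal τ υ x.2 • bas T F x.1 + sem T τ υ v
  | [] => by simp [insEntry, sem_cons]
  | y :: v => by
    rw [insEntry]
    cases h : keyEq x y with
    | true =>
      simp only [keyEq, Bool.and_eq_true, beq_iff_eq, nat_beq] at h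
      obtain ⟨⟨h1, h2⟩, h3⟩ := h
      simp only [cond_true, sem_cons, h1]
      rw [← add_assoc, ← add_smul]
      congr 2
      simp only [monVal, Int.cast_add, add_mul, h2, h3]
    | false =>
      simp only [cond_false, sem_cons, sem_insEntry x v]
      abel

theorem sem_collect (v : SVec) : sem T τ υ (collect v) = sem T τ υ v := by
  induction v with
  | nil => rfl
  | cons x v ih =>
    show sem T τ υ (insEntry x (collect v)) = _
    rw [sem_insEntry, ih, sem_cons]

theorem sem_simplify (v : SVec) : sem T τ υ (simplify v) = sem T τ υ v := by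
  rw [simplify, ← sem_collect τ υ v]
  induction collect v with
  | nil => rfl
  | cons x w ih =>
    by_cases h : x.2.1 = 0
    · simp [List.filter_cons, h, sem_cons, ih, monVal]
    · simp [List.filter_cons, h, sem_cons, ih]

theorem sem_eq_of_vecEq {v w : SVec} (h : vecEq v w = true) : sem T τ υ v = sem T τ υ w := by
  rw [vecEq, isZero, List.all_eq_true] at h
  rw [← sub_eq_zero, sub_eq_add_neg, ← sem_vneg, ← sem_append, ← sem_collect]
  apply List.sum_eq_zero
  intro x hx
  obtain ⟨e, he, rfl⟩ := List.mem_map.1 hx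
  simp [monVal, beq_iff_eq.1 (h e he)]

theorem sem_xapply (g : T.Good) {r : ℕ} (hr : r < T.n) (p : List Mono) (v : SVec) :
    sem T τ υ (T.xapply r p v) = T.D.x F r (pval τ υ p) *ᵥ sem T τ υ v := by
  induction v with
  | nil => simp [xapply]
  | cons e v ih =>
    rw [xapply, List.flatMap_cons, sem_append, sem_cons, mulVec_add, mulVec_smul,
      x_mulVec_bas g hr]
    rw [xapply] at ih
    rw [ih]
    congr 1
    induction T.xcol r e.1 with
    | nil => simp [colVal]
    | cons q L ih2 =>
      simp only [List.flatMap_cons, sem_append, ih2, colVal, List.map_cons, List.sum_cons,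
        smul_add, add_left_inj, smul_smul]
      rw [← pval_ppow, pval]
      induction ppow p q.2.2 with
      | nil => simp
      | cons m P ih3 =>
        simp only [List.map_cons, List.sum_cons, sem_cons, ih3, ← add_smul, monVal_mmul,
          monVal_const]
        congr 1
        ring

/-- the matrix of a word with polynomial parameters -/
theorem sem_wapply (g : T.Good) :
    ∀ (w : List (ℕ × List Mono)) (v : SVec), (∀ e ∈ w, e.1 < T.n) →
      sem T τ υ (T.wapply w v) =
        T.D.wordMat F (w.map fun e => (e.1, pval τ υ e.2)) *ᵥ sem T τ υ v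
  | [], v, _ => by simp [wapply, ChevalleyDatum.wordMat]
  | e :: w, v, h => by
    have ih := sem_wapply g w v fun x hx => h x (List.mem_cons_of_mem _ hx)
    show sem T τ υ (simplify (T.xapply e.1 e.2 (T.wapply w v))) = _
    rw [sem_simplify, sem_xapply τ υ g (h e List.mem_cons_self), ih]
    simp only [List.map_cons, ChevalleyDatum.wordMat, List.prod_cons, mulVec_mulVec]

theorem colsEq_spec {f f' : ℕ → SVec} (h : T.colsEq f f' = true) {j : ℕ} (hj : j < T.l + T.n) :
    sem T τ υ (f j) = sem T τ υ (f' j) :=
  sem_eq_of_vecEq τ υ (allBelow_eq_true.1 h j hj)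

/-- Equality of two checked words. -/
theorem wordMat_eq_of_colsEq (g : T.Good) {w w' : List (ℕ × List Mono)}
    (hw : ∀ e ∈ w, e.1 < T.n) (hw' : ∀ e ∈ w', e.1 < T.n)
    (h : T.colsEq (fun j => T.wapply w [(j, (1, 0, 0))]) (fun j => T.wapply w' [(j, (1, 0, 0))]) = true) :
    T.D.wordMat F (w.map fun e => (e.1, pval τ υ e.2)) =
      T.D.wordMat F (w'.map fun e => (e.1, pval τ υ e.2)) :=
  ext_col g fun j hj => by
    have := colsEq_spec τ υ h hj
    rwa [sem_wapply τ υ g w _ hw, sem_wapply τ υ g w' _ hw', sem_one] at this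

end Tab

end Cfsg.Agent.Chev
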