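import Cfsg.Agent.Lib.Lie.ChevSylow
import Cfsg.Prelude.Def_LieTwisted

/-!
Root heights: positive root elements are unitriangular for the height filtration, so the exponent of
`U` is bounded by the number of levels.
-/

set_option autoImplicit false

namespace Cfsg.Agent.Chev

open Cfsg.Lie
open Matrix hiding zpow_mul inv_zpow mul_inv_rev zpow_add zpow_neg one_zpow

namespace Tab

variable {T : Tab} {F : Type*} [Field F]

/-- sum of the coroots of the positive roots, coordinate `j` -/
def htW (T : Tab) (j : ℕ) : ℤ := sumBelow (fun k => T.c (T.N + k) j) T.N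

/-- twice the height of a root -/
def ht2 (T : Tab) (s : ℕ) : ℤ := sumBelow (fun j => T.htW j * T.A j s) T.l

/-- the checks on the height function, with bound `B` -/
def checkHeight (T : Tab) (B : ℕ) : Bool :=
  allBelow (fun s => decide (T.ht2 (T.neg s) = -(T.ht2 s)) && decide (T.ht2 s % 2 = 0) &&
    decide (T.ht2 s ≤ 2 * (B : ℤ)) && decide (-(2 * (B : ℤ)) ≤ T.ht2 s) &&
    (bif Nat.ble T.N s then decide (2 ≤ T.ht2 s) else true)) T.n

/-- the height on the basis -/
def hgt (T : Tab) : T.D.Idx → ℤ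
  | Sum.inl _ => 0
  | Sum.inr s => T.ht2 s.val / 2

theorem checkHeight_spec {B : ℕ} (h : T.checkHeight B = true) {s : ℕ} (hs : s < T.n) :
    T.ht2 (T.neg s) = -(T.ht2 s) ∧ T.ht2 s % 2 = 0 ∧ T.ht2 s ≤ 2 * (B : ℤ) ∧
      -(2 * (B : ℤ)) ≤ T.ht2 s ∧ (T.N ≤ s → 2 ≤ T.ht2 s) := by
  have := allBelow_eq_true.1 h s hs
  simp only [Bool.and_eq_true, decide_eq_true_eq] at this
  obtain ⟨⟨⟨⟨h1, h2⟩, h3⟩, h4⟩, h5⟩ := this
  refine ⟨h1, h2, h3, h4, fun hN => ?_⟩
  rw [nat_ble.2 hN, cond_true, decide_eq_true_eq] at h5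
  exact h5

theorem ht2_chain (g : T.Good) {r s : ℕ} {q : (ℕ × ℤ) × ℕ}
    (hA : ∀ j < T.l, T.A j q.1.1 = T.A j s + (q.2 : ℤ) * T.A j r) :
    T.ht2 q.1.1 = T.ht2 s + (q.2 : ℤ) * T.ht2 r := by
  simp only [ht2, sumBelow_eq_sum]
  rw [Finset.mul_sum, ← Finset.sum_add_distrib]
  exact Finset.sum_congr rfl fun j hj => by rw [hA j (Finset.mem_range.1 hj)]; ring

theorem xg_UT_hgt (g : T.Good) {B : ℕ} (hB : T.checkHeight B = true) {r : ℕ} (hrN : T.N ≤ r)
    (hr : r < T.n) (t : F) : UT T.hgt (T.D.x F r t) := by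
  obtain ⟨hneg, heven, -, -, hpos⟩ := checkHeight_spec hB hr
  have hpos := hpos hrN
  have hl := g.rank_eq
  intro a b hab
  rw [apply_eq_col g (T.D.x F r t) a b, one_apply_bas g a b]
  rcases b with ⟨v, hv⟩ | ⟨s, hs⟩
  · have hv' : v < T.l := by omega
    rw [show T.code (Sum.inl ⟨v, hv⟩) = v from rfl, col_h g hr hv']
    by_cases ha : T.code a = T.l + r
    · exfalso
      rcases a with ⟨u, hu⟩ | ⟨u, hu⟩ <;> simp only [code] at ha
      · omega
      · obtain rfl : u = r := by omega
        simp only [hgt] at hab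
        omega
    · simp [bas_ne ha]
  · have hs' : s < T.n := by rw [g.nroots_eq] at hs; exact hs
    rw [show T.code (Sum.inr ⟨s, hs⟩) = T.l + s from rfl]
    by_cases h1 : s = r
    · subst h1; rw [col_self g hr]
    by_cases h2 : s = T.neg r
    · subst h2
      rw [col_neg g hr]
      by_cases ha : T.code a = T.l + r
      · exfalso
        rcases a with ⟨u, hu⟩ | ⟨u, hu⟩ <;> simp only [code] at ha
        · omega
        · obtain rfl : u = r := by omega
          simp only [hgt, hneg] at hab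
          omega
      · by_cases ha' : T.code a < T.l
        · exfalso
          rcases a with ⟨u, hu⟩ | ⟨u, hu⟩ <;> simp only [code] at ha'
          · simp only [hgt, hneg] at hab
            omega
          · omega
        · simp only [Pi.add_apply, Pi.sub_apply, Pi.smul_apply, Finset.sum_apply, bas_ne ha,
            smul_zero, sub_zero, add_eq_left]
          rw [Finset.sum_eq_zero, smul_zero]
          intro j hj
          rw [bas_ne (by have := Finset.mem_range.1 hj; omega), smul_zero]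
    · rw [col_other g hr hs' h1 h2]
      by_cases ha : ∃ q ∈ (T.ch r s).zipIdx, T.code a = T.l + q.1.1
      · exfalso
        obtain ⟨q, hq, ha⟩ := ha
        have hne : T.ch r s ≠ [] := fun e => by simp [e] at hq
        have hq' : (q.1, q.2 + 1) ∈ (T.ch r s).zipIdx 1 := by
          rw [List.mk_mem_zipIdx_iff_le_and_getElem?_sub]
          exact ⟨by omega, by rw [Nat.add_sub_cancel]; exact (List.mk_mem_zipIdx_iff_getElem?).1 hq⟩
        obtain ⟨htn, -, -, hA, -, -⟩ :=
          chainOK_spec r s 1 _ (g.chain' hr hs' hne).2.2.1 _ hq'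
        have e := ht2_chain g (q := (q.1, q.2 + 1)) hA
        dsimp only at htn e
        obtain ⟨-, hse, -, -, -⟩ := checkHeight_spec hB hs'
        obtain ⟨-, hte, -, -, -⟩ := checkHeight_spec hB htn
        rcases a with ⟨u, hu⟩ | ⟨u, hu⟩ <;> simp only [code] at ha
        · omega
        · obtain rfl : u = q.1.1 := by omega
          simp only [hgt] at hab
          have : 2 ≤ ((q.2 + 1 : ℕ) : ℤ) * T.ht2 r := le_trans hpos (le_mul_of_one_le_left (by omega) (by omega))
          omega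
      · push Not at ha
        rw [Pi.add_apply, add_eq_left, list_sum_apply]
        refine List.sum_eq_zero fun x hx => ?_
        simp only [List.mem_map] at hx
        obtain ⟨q, hq, rfl⟩ := hx
        simp [bas_ne (ha q hq)]

theorem pos_pow_hgt (g : T.Good) {B : ℕ} (hB : T.checkHeight B = true) {x : GL T.D.Idx F}
    (hx : x ∈ genS g F (Set.Ico T.N T.n)) {m : ℕ} (hm : 2 * B < m) :
    ((x : Matrix T.D.Idx T.D.Idx F) - 1) ^ m = 0 := by
  have hUT : UT T.hgt (x : Matrix T.D.Idx T.D.Idx F) :=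
    genS_UT g (fun r hr t => xg_UT_hgt g hB hr.1 hr.2 t) hx
  have hb : ∀ a : T.D.Idx, -(B : ℤ) ≤ T.hgt a ∧ T.hgt a ≤ (B : ℤ) := by
    rintro (⟨i, hi⟩ | ⟨s, hs⟩) <;> simp only [hgt]
    · omega
    · obtain ⟨-, -, h3, h4, -⟩ := checkHeight_spec hB (s := s) (by rw [g.nroots_eq] at hs; exact hs)
      omega
  ext a b
  rw [hUT.sub_one_pow m a b (by have := (hb a).2; have := (hb b).1; omega), Matrix.zero_apply]

theorem genSubgroup_le_group (g : T.Good) (S : Set (List (ℕ × F))) :
    T.D.genSubgroup F S ≤ T.D.group F := by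
  refine (Subgroup.closure_le _).2 ?_
  rintro y ⟨w, -, hy⟩
  have hp : ∀ L : List (ℕ × F),
      (((L.map fun e => xg g e.1 e.2).prod : GL T.D.Idx F) : Matrix T.D.Idx T.D.Idx F) =
        T.D.wordMat F L := by
    intro L
    induction L with
    | nil => rfl
    | cons e L ih =>
      rw [List.map_cons, List.prod_cons, Units.val_mul, ih, xg_val]
      simp [ChevalleyDatum.wordMat]
  rw [show y = (w.map fun e => xg g e.1 e.2).prod from Units.ext (hy.trans (hp w).symm)]
  refine Subgroup.list_prod_mem _ fun z hz => ?_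
  obtain ⟨e, -, rfl⟩ := List.mem_map.1 hz
  exact xg_mem_group g _ _

theorem pow_eq_one_of_two_element [Fintype F] [CharP F 2] (g : T.GoodA) {B k : ℕ}
    (hB : T.checkHeight B = true) (hk : 2 * B < 2 ^ k) {x : GL T.D.Idx F}
    (hx : x ∈ T.D.group F) {j : ℕ} (hj : orderOf x = 2 ^ j) : x ^ 2 ^ k = 1 := by
  obtain ⟨P, hP⟩ := exists_sylow_posU g 2 (F := F)
  rw [posUnipotent_eq g.toGood] at hP
  set y : ↥(T.D.group F) := ⟨x, hx⟩
  have hy : IsPGroup 2 (Subgroup.zpowers y) := IsPGroup.of_card (n := j) (by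
    rw [Nat.card_zpowers, ← Subgroup.orderOf_coe]; exact hj)
  obtain ⟨Q, hQ⟩ := hy.exists_le_sylow
  obtain ⟨h, hh⟩ := MulAction.exists_smul_eq ↥(T.D.group F) Q P
  have hu : h * y * h⁻¹ ∈ (P : Subgroup ↥(T.D.group F)) := by
    rw [← hh]
    exact ⟨y, hQ (Subgroup.mem_zpowers y), rfl⟩
  rw [hP, Subgroup.mem_subgroupOf] at hu
  rcases isEmpty_or_nonempty T.D.Idx with h' | h'
  · exact Units.ext (Matrix.ext fun a => isEmptyElim a)
  haveI := Matrix.charP (n := T.D.Idx) (R := F) 2
  have h0 := pos_pow_hgt g.toGood hB hu hk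
  rw [sub_pow_char_pow_of_commute 2 k (Commute.one_right _), one_pow, sub_eq_zero] at h0
  have h1 : (h * y * h⁻¹) ^ 2 ^ k = 1 := Subtype.ext (Units.ext (by
    rw [Subgroup.coe_pow, Units.val_pow_eq_pow_val]; exact h0))
  rw [conj_pow, mul_inv_eq_one, mul_eq_left] at h1
  exact congrArg Subtype.val h1

end Tab

theorem order_two_element_twistedF4 {K : Type*} [Field K] [Fintype K] [CharP K 2] (e : ℕ)
    (x : ↥(twistedF4 K e)) (hx : ∃ j : ℕ, orderOf x = 2 ^ j) : orderOf x ≤ 32 := by
  obtain ⟨j, hj⟩ := hx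
  have g : F4Data.tab.GoodA := ⟨F4Data.good, by decide +kernel⟩
  have hmem : (x : GL chevF4.Idx K) ∈ chevF4.group K :=
    Tab.genSubgroup_le_group (T := F4Data.tab) g.toGood _ x.2
  have h := Tab.pow_eq_one_of_two_element (T := F4Data.tab) g (B := 11) (k := 5)
    (by decide +kernel) (by norm_num) hmem (j := j) ((Subgroup.orderOf_coe x).trans hj)
  have hd : orderOf x ∣ 2 ^ 5 := by
    rw [← Subgroup.orderOf_coe]; exact orderOf_dvd_of_pow_eq_one h
  exact Nat.le_of_dvd (by norm_num) hd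

end Cfsg.Agent.Chev
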