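import Cfsg.Agent.Lib.Lie.ChevUnip
import Mathlib.GroupTheory.Nilpotent
import Mathlib.GroupTheory.Abelianization.Defs
import Mathlib.GroupTheory.Solvable

/-! Consequences for `U` and `B`: coordinates, nilpotency, solvability; `U` without a simple root group. -/

set_option autoImplicit false

namespace Cfsg.Agent.Chev

open Cfsg.Lie
open Matrix hiding zpow_mul inv_zpow mul_inv_rev zpow_add zpow_neg
open scoped commutatorElement

namespace Tab

variable {T : Tab} {F : Type*} [Field F]

theorem posRoots_eq (g : T.Good) : T.D.posRoots = List.range' T.N (T.n - T.N) := by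
  have hn := n_def (T := T)
  rw [ChevalleyDatum.posRoots, g.nroots_eq,
    show List.range T.n = List.range T.N ++ List.range' T.N (T.n - T.N) by
      rw [List.range_eq_range', List.range_eq_range']
      conv_rhs => arg 2; arg 1; rw [show T.N = 0 + T.N from (Nat.zero_add _).symm]
      rw [List.range'_append_1]
      congr 1; omega,
    List.filter_append, List.filter_eq_nil_iff.2, List.filter_eq_self.2, List.nil_append]
  · intro r hr
    rw [List.mem_range'_1] at hr
    simp [g.isPosRoot_iff]; omega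
  · intro r hr
    rw [List.mem_range] at hr
    simp [g.isPosRoot_iff]; omega

theorem ordProd_val (g : T.Good) (t : ℕ → F) :
    ((ordProd g T.N t : GL T.D.Idx F) : Matrix T.D.Idx T.D.Idx F) =
      T.D.wordMat F (T.D.posRoots.map fun r => (r, t r)) := by
  rw [posRoots_eq g, ordProd]
  induction List.range' T.N (T.n - T.N) with
  | nil => rfl
  | cons e L ih =>
    simp only [List.map_cons, List.prod_cons, Units.val_mul, ih, xg_val, wordMat_cons]

/-- `U` is in bijection with `F^N`. -/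
theorem card_pos (g : T.GoodA) [Fintype F] :
    Nat.card (genS g.toGood F (Set.Ico T.N T.n)) = Fintype.card F ^ T.N := by
  have hn := n_def (T := T)
  let ext : (Fin T.N → F) → ℕ → F := fun t r =>
    if h : r - T.N < T.N then t ⟨r - T.N, h⟩ else 0
  have hb : Function.Bijective (fun t : Fin T.N → F =>
      (⟨ordProd g.toGood T.N (ext t), ordProd_mem _ _ _⟩ : genS g.toGood F (Set.Ico T.N T.n))) := by
    constructor
    · intro t u h
      funext j
      have := (ordProd_spec g T.n T.N le_rfl (by omega)).2 _ _ (Subtype.ext_iff.1 h) (T.N + j)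
        (by omega) (by omega)
      simpa [ext, j.isLt] using this
    · rintro ⟨x, hx⟩
      obtain ⟨t, rfl⟩ := (ordProd_spec g T.n T.N le_rfl (by omega)).1 x hx
      refine ⟨fun j => t (T.N + j), Subtype.ext (ordProd_congr _ fun r h1 h2 => ?_)⟩
      simp [ext, show r - T.N < T.N by omega, show T.N + (r - T.N) = r by omega]
  rw [← Nat.card_eq_of_bijective _ hb, Nat.card_eq_fintype_card]
  simp

/-! ### The filtration `W_k` is central -/

theorem genS_Ico_normal (g : T.GoodA) {k : ℕ} (hk : T.N ≤ k) :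
    genS g.toGood F (Set.Ico T.N T.n) ≤
      Subgroup.normalizer (genS g.toGood F (Set.Ico k T.n) : Set (GL T.D.Idx F)) :=
  genS_le g.toGood fun _ hr t => xg_normalizes_Ico g hk hr.2 hr.1 t

theorem commutator_step (g : T.GoodA) {k : ℕ} (hk : T.N ≤ k) :
    ⁅genS g.toGood F (Set.Ico k T.n), genS g.toGood F (Set.Ico T.N T.n)⁆ ≤
      genS g.toGood F (Set.Ico (k + 1) T.n) := by
  let W := genS g.toGood F (Set.Ico (k + 1) T.n)
  have hN : ∀ x ∈ genS g.toGood F (Set.Ico T.N T.n), ∀ y ∈ W, x * y * x⁻¹ ∈ W := fun x hx y hy =>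
    (Subgroup.mem_normalizer_iff.1 (genS_Ico_normal g (k := k + 1) (by omega) hx) y).1 hy
  have hle : genS g.toGood F (Set.Ico k T.n) ≤ genS g.toGood F (Set.Ico T.N T.n) :=
    genS_mono g.toGood fun _ hr => ⟨hk.trans hr.1, hr.2⟩
  have hgen : ∀ r ∈ Set.Ico k T.n, ∀ t : F, ∀ s ∈ Set.Ico T.N T.n, ∀ u : F,
      ⁅xg g.toGood r t, xg g.toGood s u⁆ ∈ W := by
    intro r hr t s hs u
    by_cases h1 : s = r
    · subst h1
      rw [commutatorElement_def, xg_inv, xg_inv, xg_add, xg_add, xg_add]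
      convert one_mem W using 1
      convert xg_zero g.toGood s using 2
      ring
    have hne : r ≠ T.neg s := by
      have := (neg_lt_N_iff hs.2).2 hs.1
      have := hr.1
      omega
    rw [commutatorElement_def, xg_comm g hs.2 hr.2 (Ne.symm h1) hne u t]
    set P := ((cVal T F s r u t).map fun e => xg g.toGood e.1 e.2).prod with hP
    have hPW : P ∈ W := by
      refine Subgroup.list_prod_mem _ fun y hy => ?_
      simp only [cVal, List.map_map, List.mem_map, Function.comp_apply] at hy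
      obtain ⟨c, hc, rfl⟩ := hy
      obtain ⟨q1, -, -, -, q5⟩ := cTerms_mem g.toGood hs.2 hr.2 hc
      have := (q5 hs.1 (hk.trans hr.1)).2
      exact xg_mem_genS g.toGood (S := Set.Ico (k + 1) T.n) (r := c.1)
        ⟨by have := hr.1; omega, q1⟩ _
    have hsr : xg g.toGood s u * xg g.toGood r t ∈ genS g.toGood F (Set.Ico T.N T.n) :=
      mul_mem (xg_mem_genS g.toGood hs u) (hle (xg_mem_genS g.toGood hr t))
    have e : xg g.toGood s u * xg g.toGood r t * P * (xg g.toGood r t)⁻¹ * (xg g.toGood s u)⁻¹ =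
        xg g.toGood s u * xg g.toGood r t * P * (xg g.toGood s u * xg g.toGood r t)⁻¹ := by group
    rw [e]
    exact hN _ hsr P hPW
  refine Subgroup.commutator_le.2 fun a ha b hb => ?_
  refine genS_induction g.toGood (p := fun a => ∀ b ∈ genS g.toGood F (Set.Ico T.N T.n), ⁅a, b⁆ ∈ W)
    (fun b _ => by simp [commutatorElement_one_left]) ?_ ha b hb
  intro r hr t y hy b hb
  have e : ⁅xg g.toGood r t * y, b⁆ =
      xg g.toGood r t * ⁅y, b⁆ * (xg g.toGood r t)⁻¹ * ⁅xg g.toGood r t, b⁆ := by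
    simp only [commutatorElement_def]; group
  rw [e]
  refine mul_mem (hN _ (hle (xg_mem_genS g.toGood hr t)) _ (hy b hb)) ?_
  refine genS_induction g.toGood (p := fun b => ⁅xg g.toGood r t, b⁆ ∈ W)
    (by simp [commutatorElement_one_right]) ?_ hb
  intro s hs u z hz
  have e : ⁅xg g.toGood r t, xg g.toGood s u * z⁆ =
      ⁅xg g.toGood r t, xg g.toGood s u⁆ *
        (xg g.toGood s u * ⁅xg g.toGood r t, z⁆ * (xg g.toGood s u)⁻¹) := by
    simp only [commutatorElement_def]; group
  rw [e]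
  exact mul_mem (hgen r hr t s hs u) (hN _ (xg_mem_genS g.toGood hs u) _ hz)

theorem pos_nilpotent (g : T.GoodA) : Group.IsNilpotent (genS g.toGood F (Set.Ico T.N T.n)) := by
  rw [Subgroup.isNilpotent_iff_lowerCentralSeries]
  refine ⟨T.N, le_bot_iff.1 ?_⟩
  have h : ∀ m, (genS g.toGood F (Set.Ico T.N T.n)).lowerCentralSeries m ≤
      genS g.toGood F (Set.Ico (T.N + m) T.n) := by
    intro m
    induction m with
    | zero => exact le_rfl
    | succ m ih =>
      rw [Subgroup.lowerCentralSeries_succ]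
      exact (Subgroup.commutator_mono ih le_rfl).trans (commutator_step g (by omega))
  refine (h T.N).trans (genS_le g.toGood fun r hr t => ?_)
  have := n_def (T := T)
  have := hr.1
  have := hr.2
  omega

theorem borel_commutator (g : T.Good) :
    ⁅T.D.borelSubgroup F, T.D.borelSubgroup F⁆ ≤ genS g F (Set.Ico T.N T.n) := by
  refine Subgroup.commutator_le.2 fun a ha b hb => ?_
  obtain ⟨u, hu, c, rfl⟩ := (mem_borel_iff g).1 ha
  obtain ⟨v, hv, d, rfl⟩ := (mem_borel_iff g).1 hb
  have hN : ∀ c : ℕ → Fˣ, ∀ x ∈ genS g F (Set.Ico T.N T.n),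
      tor T F c * x * (tor T F c)⁻¹ ∈ genS g F (Set.Ico T.N T.n) := fun c x hx =>
    (Subgroup.mem_normalizer_iff.1 (tor_normalizes g (fun r hr => hr.2) c) x).1 hx
  have e : ⁅u * tor T F c, v * tor T F d⁆ =
      u * (tor T F c * v * (tor T F c)⁻¹) *
        (tor T F d * u⁻¹ * (tor T F d)⁻¹) * v⁻¹ := by
    rw [commutatorElement_def]
    have hcd : tor T F d * (tor T F c)⁻¹ = (tor T F c)⁻¹ * tor T F d := by
      rw [← map_inv, ← map_mul, ← map_mul, mul_comm]
    calc _ = u * (tor T F c * v) * (tor T F d * (tor T F c)⁻¹) * u⁻¹ * (tor T F d)⁻¹ * v⁻¹ := by group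
      _ = _ := by rw [hcd]; group
  rw [e]
  exact mul_mem (mul_mem (mul_mem hu (hN c v hv)) (hN d _ (inv_mem hu))) (inv_mem hv)

theorem borel_solvable (g : T.GoodA) : Group.IsSolvable ↥(T.D.borelSubgroup F) := by
  have hU : genS g.toGood F (Set.Ico T.N T.n) ≤ T.D.borelSubgroup F := by
    rw [← posUnipotent_eq g.toGood]; exact le_sup_left
  haveI := pos_nilpotent (F := F) g
  refine Group.isSolvable_of_ker_le_range (Subgroup.inclusion hU) Abelianization.of ?_
  rw [Abelianization.ker_of, Subgroup.inclusion_range]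
  intro x hx
  rw [Subgroup.mem_subgroupOf]
  refine borel_commutator g.toGood ?_
  have := Subgroup.mem_map_of_mem (T.D.borelSubgroup F).subtype hx
  rwa [map_commutator_eq, Subgroup.range_subtype] at this

/-! ### `U` without the root group of a simple root -/

theorem genS_conj_ref (g : T.Good) {i : ℕ} (hi : i < T.l) {S : Set ℕ} (hS : ∀ r ∈ S, r < T.n)
    {x : GL T.D.Idx F} (hx : x ∈ genS g F S) :
    nG g F i * x * (nG g F i)⁻¹ ∈ genS g F ((T.ref i) '' S) := by
  have e : genS g F S ≤ (genS g F ((T.ref i) '' S)).comap (MulAut.conj (nG g F i)).toMonoidHom := by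
    refine genS_le g fun s hs u => ?_
    simp only [Subgroup.mem_comap, MulEquiv.coe_toMonoidHom, MulAut.conj_apply, nG_conj g hi (hS s hs)]
    exact xg_mem_genS g (Set.mem_image_of_mem _ hs) _
  simpa using e hx

theorem nG_normalizes (g : T.Good) {i : ℕ} (hi : i < T.l) {S : Set ℕ} (hS : ∀ r ∈ S, r < T.n)
    (hinv : ∀ r ∈ S, T.ref i r ∈ S) :
    nG g F i ∈ Subgroup.normalizer (genS g F S : Set (GL T.D.Idx F)) := by
  have h1 : ∀ x ∈ genS g F S, nG g F i * x * (nG g F i)⁻¹ ∈ genS g F S := fun x hx =>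
    genS_mono g (by rintro _ ⟨r, hr, rfl⟩; exact hinv r hr) (genS_conj_ref g hi hS hx)
  have h2 : ∀ x ∈ genS g F S, (nG g F i)⁻¹ * x * nG g F i ∈ genS g F S := by
    intro x hx
    have e : genS g F S ≤ (genS g F S).comap (MulAut.conj (nG g F i)⁻¹).toMonoidHom := by
      refine genS_le g fun s hs u => ?_
      simp only [Subgroup.mem_comap, MulEquiv.coe_toMonoidHom, MulAut.conj_apply, inv_inv]
      have h := nG_conj g hi (g.ref_lt hi (hS s hs)) ((T.eta i (T.ref i s) : F) * u)
      rw [g.ref_ref hi (hS s hs), ← mul_assoc, eta_sq, one_mul] at h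
      rw [← h]
      simp [mul_assoc, xg_mem_genS g (hinv s hs)]
    simpa using e hx
  rw [Subgroup.mem_normalizer_iff]
  refine fun x => ⟨h1 x, fun hx => ?_⟩
  simpa [mul_assoc] using h2 _ hx

/-- the positive roots other than `p_i` -/
def posExc (T : Tab) (i : ℕ) : Set ℕ := {r | T.N ≤ r ∧ r < T.n ∧ r ≠ T.smp i}

theorem ref_posExc (g : T.Good) {i : ℕ} (hi : i < T.l) {r : ℕ} (hr : r ∈ T.posExc i) :
    T.ref i r ∈ T.posExc i := by
  obtain ⟨h1, h2, h3⟩ := hr
  refine ⟨g.ref_pos hi h2 h1 h3, g.ref_lt hi h2, fun e => ?_⟩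
  have h4 : T.ref i (T.ref i r) = T.ref i (T.smp i) := by rw [e]
  rw [g.ref_ref hi h2, g.ref_smp hi] at h4
  have := (neg_lt_N_iff (g.smp_lt hi)).2 (g.smp_ge hi)
  omega

theorem cTerms_posExc (g : T.GoodA) {i : ℕ} (hi : i < T.l) {r s : ℕ} (hr : T.N ≤ r) (hrn : r < T.n)
    (hs : s ∈ T.posExc i) {c : ℕ × ℤ × ℕ × ℕ} (hc : c ∈ T.cTerms r s) : c.1 ∈ T.posExc i := by
  obtain ⟨hs1, hs2, hs3⟩ := hs
  obtain ⟨q1, -, -, -, q5⟩ := cTerms_mem g.toGood hrn hs2 hc
  obtain ⟨hrc, hsc⟩ := q5 hr hs1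
  refine ⟨by omega, q1, fun e => ?_⟩
  have hr' : r ≠ T.smp i := by omega
  have hc' : mapTerm T i r s c ∈ T.cTerms (T.ref i r) (T.ref i s) := by
    rw [cTerms_ref g hi hrn hs2]; exact List.mem_map_of_mem hc
  obtain ⟨-, -, -, -, w5⟩ := cTerms_mem g.toGood (g.toGood.ref_lt hi hrn) (g.toGood.ref_lt hi hs2) hc'
  have h1 := g.toGood.ref_pos hi hrn hr hr'
  have h2 := (w5 h1 (g.toGood.ref_pos hi hs2 hs1 hs3)).1
  simp only [mapTerm, e, g.toGood.ref_smp hi] at h2
  have := (neg_lt_N_iff (g.smp_lt hi)).2 (g.smp_ge hi)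
  omega

theorem posExc_normalized (g : T.GoodA) {i : ℕ} (hi : i < T.l) {r : ℕ} (hr : T.N ≤ r) (hrn : r < T.n)
    (t : F) :
    xg g.toGood r t ∈ Subgroup.normalizer (genS g.toGood F (T.posExc i) : Set (GL T.D.Idx F)) := by
  refine xg_normalizes g hrn (fun s hs => ⟨hs.2.1, ?_, fun _ c hc => cTerms_posExc g hi hr hrn hs hc⟩) t
  have := (neg_lt_N_iff hrn).2 hr
  have := hs.1
  omega

theorem posExc_normalized_neg (g : T.GoodA) {i : ℕ} (hi : i < T.l) (t : F) :
    xg g.toGood (T.neg (T.smp i)) t ∈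
      Subgroup.normalizer (genS g.toGood F (T.posExc i) : Set (GL T.D.Idx F)) := by
  have hn := nG_normalizes (F := F) g.toGood hi (S := T.posExc i) (fun r hr => hr.2.1)
    (fun r hr => ref_posExc g.toGood hi hr)
  have h := nG_conj (F := F) g.toGood hi (g.smp_lt hi) (-t)
  rw [g.toGood.ref_smp hi, g.toGood.eta_smp hi] at h
  push_cast at h
  rw [show (-1 : F) * -t = t by ring] at h
  rw [← h]
  exact mul_mem (mul_mem hn (posExc_normalized g hi (g.smp_ge hi) (g.smp_lt hi) _)) (inv_mem hn)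

end Tab

end Cfsg.Agent.Chev
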