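import Cfsg.Agent.Lib.Lie.ChevLong
import Cfsg.Agent.Lib.Lie.ChevUnip2

/-!
# The intersection of `U` with its conjugate by a Weyl group representative
-/

set_option autoImplicit false

namespace Cfsg.Agent.Chev

open Cfsg.Lie Matrix

namespace Tab

variable {T : Tab} {F : Type*} [Field F]

/-- the positive roots kept positive by `w⁻¹` -/
def psi (T : Tab) (L : List ℕ) : Set ℕ := {r | T.N ≤ r ∧ r < T.n ∧ T.N ≤ T.rw' L.reverse r}

theorem psi_subset (L : List ℕ) : T.psi L ⊆ Set.Ico T.N T.n := fun _ h => ⟨h.1, h.2.1⟩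

/-- `U ∩ n U n⁻¹` has no leading term at an inverted root. -/
theorem lead_eq_zero (g : T.GoodA) {L : List ℕ} (hL : T.Wd L) {k : ℕ} (hk : T.N ≤ k) (hkn : k < T.n)
    (hinv : T.rw' L.reverse k < T.N) {t : F} {y : GL T.D.Idx F}
    (hy : y ∈ genS g.toGood F (Set.Ico (k + 1) T.n))
    (hconj : (nWd g.toGood F L)⁻¹ * (xg g.toGood k t * y) * nWd g.toGood F L ∈
      genS g.toGood F (Set.Ico T.N T.n)) :
    t = 0 := by
  have hg := g.toGood
  have hn := n_def (T := T)
  have hl := hg.rank_eq
  let P : (T.D.Idx → F) → Prop := fun v => ∀ a, T.code a < T.l + T.N → v a = 0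
  have hP : ∀ r, T.N ≤ r → r < T.n → ∀ (u : F) (v : T.D.Idx → F), P v → P (T.D.x F r u *ᵥ v) := by
    intro r hrN hr u v hv a ha
    rw [Matrix.mulVec, dotProduct]
    refine Finset.sum_eq_zero fun c _ => ?_
    by_cases hc : T.code c < T.l + T.N
    · rw [hv c hc, mul_zero]
    · rw [(xg_UT hg hr u).1 hrN a c, Matrix.one_apply_ne, zero_mul]
      · intro e; subst e; omega
      · rcases a with ⟨i, hi⟩ | ⟨i, hi⟩ <;> rcases c with ⟨j, hj⟩ | ⟨j, hj⟩ <;>
          simp only [code, rho] at * <;> (try split_ifs) <;> omega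
  let e : T.D.Idx → F := bas T F (T.l + T.neg k)
  have hfix : ∀ x ∈ genS hg F (Set.Ico (k + 1) T.n),
      P ((x : Matrix T.D.Idx T.D.Idx F) *ᵥ e - e) := by
    intro x hx
    refine genS_induction hg (p := fun x : GL T.D.Idx F => P ((x : Matrix T.D.Idx T.D.Idx F) *ᵥ e - e))
      (by intro a _; simp) ?_ hx
    intro r hr u y hy
    have hr1 : k < r := hr.1
    have hrN : T.N ≤ r := by omega
    have h1 : P (T.D.x F r u *ᵥ e - e) := by
      have hne1 : T.neg k ≠ r := by have := (neg_lt_N_iff hkn).2 hk; omega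
      have hne2 : T.neg k ≠ T.neg r := fun he => by
        have := congrArg T.neg he; rw [neg_neg hkn, neg_neg hr.2] at this; omega
      intro a ha
      simp only [e, col_other hg hr.2 (neg_lt hkn) hne1 hne2, add_sub_cancel_left]
      rw [list_sum_apply]
      refine List.sum_eq_zero fun z hz => ?_
      simp only [List.mem_map] at hz
      obtain ⟨q, hq, rfl⟩ := hz
      have hne : T.ch r (T.neg k) ≠ [] := fun e' => by simp [e'] at hq
      have hq' : (q.1, q.2 + 1) ∈ (T.ch r (T.neg k)).zipIdx 1 := by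
        rw [List.mk_mem_zipIdx_iff_le_and_getElem?_sub]
        exact ⟨by omega, by rw [Nat.add_sub_cancel]; exact (List.mk_mem_zipIdx_iff_getElem?).1 hq⟩
      obtain ⟨-, -, -, -, h5, -⟩ := chainOK_spec r _ 1 _ (hg.chain' hr.2 (neg_lt hkn) hne).2.2.1 _ hq'
      have := (h5 hrN).2.2 ((neg_lt_N_iff hkn).2 hk) (by rw [neg_neg hkn]; omega)
      dsimp only at this
      simp [bas_ne (show T.code a ≠ T.l + q.1.1 by omega)]
    intro a ha
    rw [Units.val_mul, xg_val, ← mulVec_mulVec,
      show (y : Matrix T.D.Idx T.D.Idx F) *ᵥ e =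
        ((y : Matrix T.D.Idx T.D.Idx F) *ᵥ e - e) + e by simp, mulVec_add, add_sub_assoc,
      Pi.add_apply, hP r hrN hr.2 u _ hy a ha, h1 a ha, add_zero]
  obtain ⟨j, hj, hc⟩ := hg.exists_c_ne_zero hkn F
  obtain ⟨a, rfl⟩ := exists_code hg (show j < T.l + T.n by omega)
  set x := xg hg k t * y with hx
  set n := nWd hg F L with hnW
  set x' := n⁻¹ * x * n with hx'
  -- the value on the Cartan part from the leading term
  have hleft : ((x : Matrix T.D.Idx T.D.Idx F) *ᵥ e - e) a =
      (T.D.x F k t *ᵥ e - e) a := by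
    rw [hx, Units.val_mul, xg_val, ← mulVec_mulVec,
      show (y : Matrix T.D.Idx T.D.Idx F) *ᵥ e =
        ((y : Matrix T.D.Idx T.D.Idx F) *ᵥ e - e) + e by simp, mulVec_add, add_sub_assoc,
      Pi.add_apply, hP k hk hkn t _ (hfix y hy) a (by omega), zero_add]
  -- the value from the conjugate
  have hright : ((x : Matrix T.D.Idx T.D.Idx F) *ᵥ e - e) a = 0 := by
    set k' := T.rw' L.reverse k with hk'
    have hk'n : k' < T.n := rw'_lt hg hL.reverse hkn
    have hs : T.N ≤ T.neg k' := (N_le_neg_iff hk'n).2 hinv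
    obtain ⟨u, hu⟩ := nWd_col (F := F) hg hL (neg_lt hk'n)
    rw [rw'_neg hg hL hk'n, hk', rw'_rev' hg hL hkn] at hu
    set e' : T.D.Idx → F := bas T F (T.l + T.neg k') with he'
    set v := (x' : Matrix T.D.Idx T.D.Idx F) *ᵥ e' - e' with hv
    have hv0 : ∀ b, T.code b < T.l → v b = 0 := by
      intro b hb
      obtain ⟨c, hc⟩ := exists_code hg (show T.l + T.neg k' < T.l + T.n by
        have := neg_lt (T := T) hk'n; omega)
      have hrho : T.rho b ≤ T.rho c := by
        rcases b with ⟨i, hi⟩ | ⟨i, hi⟩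
        · rcases c with ⟨i', hi'⟩ | ⟨i', hi'⟩ <;> simp only [code, rho] at * <;>
            (try split_ifs) <;> omega
        · simp only [code] at hb; omega
      rw [hv, he', ← hc, Pi.sub_apply, ← apply_eq_col hg, pos_UT hg hconj b c hrho,
        one_apply_bas hg, sub_self]
    have hxe : (u : F) • ((x : Matrix T.D.Idx T.D.Idx F) *ᵥ e - e) =
        (n : Matrix T.D.Idx T.D.Idx F) *ᵥ v := by
      have hu' : (n : Matrix T.D.Idx T.D.Idx F) *ᵥ e' = (u : F) • e := hu
      rw [hv, mulVec_sub, mulVec_mulVec, ← Units.val_mul, show n * x' = x * n by rw [hx']; group,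
        Units.val_mul x n, ← mulVec_mulVec, hu', mulVec_smul, smul_sub]
    have hzero : ((n : Matrix T.D.Idx T.D.Idx F) *ᵥ v) a = 0 := by
      rw [Matrix.mulVec, dotProduct]
      refine Finset.sum_eq_zero fun b _ => ?_
      by_cases hb : T.code b < T.l
      · rw [hv0 b hb, mul_zero]
      · obtain ⟨s, hs'⟩ : ∃ s, T.code b = T.l + s := ⟨T.code b - T.l, by omega⟩
        have hsn : s < T.n := by
          rcases b with ⟨i, hi⟩ | ⟨i, hi⟩ <;> simp only [code] at * <;>
            (have := hg.nroots_eq; omega)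
        obtain ⟨w, hw⟩ := nWd_col (F := F) hg hL hsn
        rw [apply_eq_col hg (n : Matrix T.D.Idx T.D.Idx F) a b, hs', hnW, hw, Pi.smul_apply,
          bas_ne (show T.code a ≠ T.l + T.rw' L s by omega), smul_zero, zero_mul]
    have h := congrFun hxe a
    rw [Pi.smul_apply, hzero, smul_eq_mul] at h
    exact (mul_eq_zero.1 h).resolve_left u.ne_zero
  rw [hleft] at hright
  simp only [e, col_neg hg hkn, Pi.sub_apply, Pi.add_apply, Pi.smul_apply, Finset.sum_apply,
    bas, show T.code a ≠ T.l + T.neg k by omega, show T.code a ≠ T.l + k by omega, if_false,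
    smul_eq_mul, mul_ite, mul_one, mul_zero, Finset.sum_ite_eq, Finset.mem_range.2 hj, if_true,
    sub_zero, zero_add] at hright
  exact (mul_eq_zero.1 hright).resolve_right hc

/-- the conjugate of a generator of the intersection -/
theorem xg_psi_conj (g : T.GoodA) {L : List ℕ} (hL : T.Wd L) {r : ℕ} (hr : r < T.n) (t : F) :
    ∃ ε : Fˣ, (nWd g.toGood F L)⁻¹ * xg g.toGood r t * nWd g.toGood F L =
      xg g.toGood (T.rw' L.reverse r) ((ε : F) * t) := by
  have hg := g.toGood
  obtain ⟨ε, hε, h⟩ := nWd_conj (F := F) hg hL (rw'_lt hg hL.reverse hr)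
  refine ⟨ε, ?_⟩
  have h' := (h ((ε : F) * t)).1
  rw [rw'_rev' hg hL hr, ← mul_assoc, ← Units.val_mul, hε, Units.val_one, one_mul] at h'
  rw [← h']
  group

theorem genS_psi_conj (g : T.GoodA) {L : List ℕ} (hL : T.Wd L) {x : GL T.D.Idx F}
    (hx : x ∈ genS g.toGood F (T.psi L)) :
    (nWd g.toGood F L)⁻¹ * x * nWd g.toGood F L ∈ genS g.toGood F (Set.Ico T.N T.n) := by
  have e : genS g.toGood F (T.psi L) ≤ (genS g.toGood F (Set.Ico T.N T.n)).comap
      (MulAut.conj (nWd g.toGood F L)⁻¹).toMonoidHom := by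
    refine genS_le g.toGood fun r hr t => ?_
    obtain ⟨ε, hε⟩ := xg_psi_conj (F := F) g hL hr.2.1 t
    simp only [Subgroup.mem_comap, MulEquiv.coe_toMonoidHom, MulAut.conj_apply, inv_inv, hε]
    exact xg_mem_genS g.toGood (show _ ∈ Set.Ico T.N T.n from
      ⟨hr.2.2, rw'_lt g.toGood hL.reverse hr.2.1⟩) _
  simpa using e hx

/-- `U ∩ n U n⁻¹` is generated by its root subgroups. -/
theorem inter_eq_genS_psi (g : T.GoodA) {L : List ℕ} (hL : T.Wd L) :
    genS g.toGood F (Set.Ico T.N T.n) ⊓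
        (genS g.toGood F (Set.Ico T.N T.n)).map (MulAut.conj (nWd g.toGood F L)).toMonoidHom =
      genS g.toGood F (T.psi L) := by
  have hg := g.toGood
  refine le_antisymm ?_ fun x hx => ⟨genS_mono hg (psi_subset L) hx,
    (nWd hg F L)⁻¹ * x * nWd hg F L, genS_psi_conj g hL hx, by simp [mul_assoc]⟩
  have key : ∀ m k, T.N ≤ k → T.n ≤ k + m → ∀ x ∈ genS hg F (Set.Ico k T.n),
      (nWd hg F L)⁻¹ * x * nWd hg F L ∈ genS hg F (Set.Ico T.N T.n) → x ∈ genS hg F (T.psi L) := by
    intro m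
    induction m with
    | zero =>
      intro k _ hle x hx _
      exact genS_mono hg (S := Set.Ico k T.n) (fun r hr => absurd hr.2 (by have := hr.1; omega)) hx
    | succ m ih =>
      intro k hk hle x hx hc
      by_cases hkn : k < T.n
      swap
      · exact ih k hk (by omega) x hx hc
      obtain ⟨t, y, hy, rfl⟩ := exists_split g hk hx
      by_cases hinv : T.rw' L.reverse k < T.N
      · obtain rfl := lead_eq_zero g hL hk hkn hinv hy hc
        rw [xg_zero hg, one_mul] at hc ⊢
        exact ih (k + 1) (by omega) (by omega) y hy hc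
      · have hkpsi : k ∈ T.psi L := ⟨hk, hkn, not_lt.1 hinv⟩
        refine mul_mem (xg_mem_genS hg hkpsi t) (ih (k + 1) (by omega) (by omega) y hy ?_)
        have h2 := genS_psi_conj g hL (xg_mem_genS hg hkpsi t (F := F))
        have := mul_mem (inv_mem h2) hc
        simpa [mul_assoc] using this
  rintro x ⟨hxU, u, hu, rfl⟩
  refine key T.n T.N le_rfl (by omega) _ hxU ?_
  simpa [mul_assoc] using hu

end Tab

end Cfsg.Agent.Chev
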