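import Cfsg.Agent.Lib.Lie.ChevTab

/-! Reading the checks of `Tab.Good` as propositions, and the link with the tables of the datum. -/

set_option autoImplicit false

namespace Cfsg.Agent.Chev

open Cfsg.Lie

theorem array_getD_toList {α : Type} (a : Array α) (i : ℕ) (d : α) : a.getD i d = a.toList.getD i d := by
  rw [Array.getD_eq_getD_getElem?, List.getD_eq_getElem?_getD, Array.getElem?_toList]

theorem listBelow_getD {α : Type} (f : ℕ → α) {k i : ℕ} (h : i < k) (d : α) :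
    (listBelow f k).getD i d = f i := by
  simp [listBelow_eq, List.getD_eq_getElem?_getD, List.getElem?_range h]

theorem getD_getD_of_map {α : Type} (a : Array (Array α)) (f : ℕ → ℕ → α) {k m i s : ℕ} (d : α)
    (h : a.toList.map Array.toList = listBelow (fun i => listBelow (f i) m) k)
    (hi : i < k) (hs : s < m) : (a.getD i #[]).getD s d = f i s := by
  rw [array_getD_toList _ s, array_getD_toList a i]
  have : (a.toList.getD i #[]).toList = (a.toList.map Array.toList).getD i [] := by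
    simp only [List.getD_eq_getElem?_getD, List.getElem?_map]
    cases a.toList[i]? <;> rfl
  rw [this, h, listBelow_getD _ hi, listBelow_getD _ hs]

variable {T : Tab}

theorem mem_decide {p : Prop} [Decidable p] (h : decide p = true) : p := of_decide_eq_true h

theorem nat_beq {a b : ℕ} : Nat.beq a b = true ↔ a = b :=
  ⟨Nat.eq_of_beq_eq_true, fun h => h ▸ Nat.beq_refl _⟩

theorem nat_beq_false {a b : ℕ} : Nat.beq a b = false ↔ a ≠ b := by
  rw [← Bool.not_eq_true, nat_beq]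

theorem nat_ble {a b : ℕ} : Nat.ble a b = true ↔ a ≤ b :=
  ⟨Nat.le_of_ble_eq_true, Nat.ble_eq_true_of_le⟩

theorem nat_blt {a b : ℕ} : Nat.blt a b = true ↔ a < b := nat_ble

theorem nat_blt_false {a b : ℕ} : Nat.blt a b = false ↔ b ≤ a := by
  rw [← Bool.not_eq_true, nat_blt, Nat.not_lt]

theorem nat_ble_false {a b : ℕ} : Nat.ble a b = false ↔ b < a := by
  rw [← Bool.not_eq_true, nat_ble, Nat.not_le]

namespace Tab

theorem neg_def (r : ℕ) : T.neg r = T.n - 1 - r := rfl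

theorem n_def : T.n = 2 * T.N := rfl

namespace Good

variable (g : T.Good)
include g

theorem shape' :
    T.D.rank = T.l ∧ T.D.nroots = T.n ∧ 1 ≤ T.N ∧ T.D.negIdx.toList = listBelow T.neg T.n ∧
    T.D.simpleIdx.toList = listBelow T.smp T.l ∧
    ∀ i < T.l, T.N ≤ T.smp i ∧ T.smp i < T.n ∧ ∀ j < T.l, T.smp i = T.smp j → i = j := by
  have h := g.shape
  simp only [checkShape, Bool.and_eq_true, allBelow_eq_true, Bool.or_eq_true, Bool.not_eq_true',
    decide_eq_true_eq, nat_beq, nat_beq_false, nat_ble, nat_blt] at h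
  obtain ⟨⟨⟨⟨⟨h1, h2⟩, h3⟩, h4⟩, h5⟩, h6⟩ := h
  exact ⟨h1, h2, h3, h4, h5, fun i hi => ⟨(h6 i hi).1.1, (h6 i hi).1.2, fun j hj he =>
    ((h6 i hi).2 j hj).resolve_right fun hne => hne he⟩⟩

theorem rank_eq : T.D.rank = T.l := g.shape'.1
theorem nroots_eq : T.D.nroots = T.n := g.shape'.2.1
theorem N_pos : 1 ≤ T.N := g.shape'.2.2.1

theorem smp_ge {i : ℕ} (hi : i < T.l) : T.N ≤ T.smp i := (g.shape'.2.2.2.2.2 i hi).1
theorem smp_lt {i : ℕ} (hi : i < T.l) : T.smp i < T.n := (g.shape'.2.2.2.2.2 i hi).2.1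
theorem smp_inj {i j : ℕ} (hi : i < T.l) (hj : j < T.l) (h : T.smp i = T.smp j) : i = j :=
  (g.shape'.2.2.2.2.2 i hi).2.2 j hj h

theorem simple_eq {i : ℕ} (hi : i < T.l) : T.D.simple i = T.smp i := by
  rw [ChevalleyDatum.simple, array_getD_toList, g.shape'.2.2.2.2.1, listBelow_getD _ hi]

theorem neg_eq {r : ℕ} (hr : r < T.n) : T.D.neg r = T.neg r := by
  rw [ChevalleyDatum.neg, array_getD_toList, g.shape'.2.2.2.1, listBelow_getD _ hr]

theorem cartan_eq {i s : ℕ} (hi : i < T.l) (hs : s < T.n) : T.D.cartan i s = T.A i s := by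
  rw [ChevalleyDatum.cartan]
  exact getD_getD_of_map _ T.A 0 (mem_decide g.cartanT) hi hs

theorem coroot_eq {s i : ℕ} (hs : s < T.n) (hi : i < T.l) :
    (T.D.coroot.getD s #[]).getD i 0 = T.c s i :=
  getD_getD_of_map _ T.c 0 (mem_decide g.corootT) hs hi

theorem coroot_toList {s : ℕ} (hs : s < T.n) :
    (T.D.coroot.getD s #[]).toList = listBelow (T.c s) T.l := by
  have h := mem_decide g.corootT
  rw [array_getD_toList]
  have : (T.D.coroot.toList.getD s #[]).toList = (T.D.coroot.toList.map Array.toList).getD s [] := by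
    simp only [List.getD_eq_getElem?_getD, List.getElem?_map]
    cases T.D.coroot.toList[s]? <;> rfl
  rw [this, h, listBelow_getD _ hs]

end Good

theorem neg_lt {r : ℕ} (hr : r < T.n) : T.neg r < T.n := by rw [neg_def]; omega

theorem neg_neg {r : ℕ} (hr : r < T.n) : T.neg (T.neg r) = r := by simp only [neg_def]; omega

theorem neg_ne {r : ℕ} (hr : r < T.n) : T.neg r ≠ r := by
  have := n_def (T := T); simp only [neg_def]; omega

theorem N_le_neg_iff {r : ℕ} (hr : r < T.n) : T.N ≤ T.neg r ↔ r < T.N := by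
  have := n_def (T := T); simp only [neg_def]; omega

theorem neg_lt_N_iff {r : ℕ} (hr : r < T.n) : T.neg r < T.N ↔ T.N ≤ r := by
  have := n_def (T := T); simp only [neg_def]; omega

theorem walk_spec (r : ℕ) : ∀ (fuel s : ℕ) (row : List (ℕ × Array (ℕ × ℤ))),
    T.walk r fuel s row = true →
    (∀ k, s ≤ k → k < s + fuel →
      (T.ch r k = [] ∧ row.filter (fun e => e.1 = k) = []) ∨
      (T.ch r k ≠ [] ∧ ∃ arr, arr.toList = T.ch r k ∧ row.filter (fun e => e.1 = k) = [(k, arr)])) ∧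
    ∀ e ∈ row, s ≤ e.1 ∧ e.1 < s + fuel
  | 0, s, [], _ => ⟨fun k h1 h2 => absurd h2 (by omega), by simp⟩
  | 0, s, _ :: _, h => by simp [walk] at h
  | fuel + 1, s, [], h => by
    simp only [walk, Bool.and_eq_true, chainBeq_iff] at h
    obtain ⟨ih, _⟩ := walk_spec r fuel (s + 1) [] h.2
    refine ⟨fun k h1 h2 => ?_, by simp⟩
    rcases eq_or_lt_of_le h1 with rfl | hlt
    · exact Or.inl ⟨h.1, rfl⟩
    · exact ih k hlt (by omega)
  | fuel + 1, s, e :: row, h => by
    simp only [walk] at h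
    cases hb : Nat.beq e.1 s with
    | true =>
      simp only [hb, cond_true, Bool.and_eq_true, chainBeq_iff, Bool.not_eq_true'] at h
      obtain ⟨⟨h1, h2⟩, h3⟩ := h
      obtain ⟨ih, hmem⟩ := walk_spec r fuel (s + 1) row h3
      have he := nat_beq.1 hb
      refine ⟨fun k hk1 hk2 => ?_, fun x hx => ?_⟩
      · rcases eq_or_lt_of_le hk1 with rfl | hlt
        · refine Or.inr ⟨?_, e.2, h1.symm, ?_⟩
          · rw [h1]; intro h'; simp [h'] at h2
          · have : row.filter (fun x => decide (x.1 = s)) = [] := by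
              rw [List.filter_eq_nil_iff]
              intro x hx
              have := (hmem x hx).1
              simp; omega
            simp [he, this]
            exact Prod.ext he rfl
        · have hne : e.1 ≠ k := by omega
          rcases ih k hlt (by omega) with ⟨a, b⟩ | ⟨a, arr, b, c⟩
          · exact Or.inl ⟨a, by simp [hne, b]⟩
          · exact Or.inr ⟨a, arr, b, by simp [hne, c]⟩
      · rcases List.mem_cons.1 hx with rfl | hx
        · omega
        · have := hmem x hx; omega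
    | false =>
      simp only [hb, cond_false, Bool.and_eq_true, chainBeq_iff] at h
      obtain ⟨ih, hmem⟩ := walk_spec r fuel (s + 1) (e :: row) h.2
      refine ⟨fun k hk1 hk2 => ?_, fun x hx => by have := hmem x hx; omega⟩
      rcases eq_or_lt_of_le hk1 with rfl | hlt
      · refine Or.inl ⟨h.1, ?_⟩
        rw [List.filter_eq_nil_iff]
        intro x hx
        have := (hmem x hx).1
        simp; omega
      · exact ih k hlt (by omega)

namespace Good

variable (g : T.Good)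
include g

theorem chain_getD {r : ℕ} (hr : r < T.n) : T.D.chain.getD r #[] = T.rowA r := by
  rw [g.chainT, array_getD_toList, List.toList_toArray, listBelow_getD _ hr]

theorem row_spec {r : ℕ} (hr : r < T.n) :
    (∀ k < T.n, (T.ch r k = [] ∧ (T.rowL r).filter (fun e => e.1 = k) = []) ∨
      (T.ch r k ≠ [] ∧ ∃ arr, arr.toList = T.ch r k ∧
        (T.rowL r).filter (fun e => e.1 = k) = [(k, arr)])) ∧
    ∀ e ∈ T.rowL r, e.1 < T.n := by
  obtain ⟨h, h'⟩ := walk_spec r T.n 0 (T.rowL r) (allBelow_eq_true.1 g.walkT r hr)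
  exact ⟨fun k hk => h k (Nat.zero_le k) (by omega), fun e he => by have := (h' e he).2; omega⟩

theorem mem_rowL {r s : ℕ} (hr : r < T.n) (hs : s < T.n) (h : T.ch r s ≠ []) :
    ∃ arr, (s, arr) ∈ T.rowL r ∧ arr.toList = T.ch r s := by
  rcases (g.row_spec hr).1 s hs with ⟨a, _⟩ | ⟨_, arr, a, b⟩
  · exact absurd a h
  · refine ⟨arr, (List.mem_filter.1 (b ▸ List.mem_cons_self : (s, arr) ∈ _)).1, a⟩

theorem chainEntry_eq {r s : ℕ} (hr : r < T.n) (hs : s < T.n) :
    T.D.chainEntry r s = T.ch r s := by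
  rw [ChevalleyDatum.chainEntry, g.chain_getD hr]
  change (match (T.rowL r).find? (fun e => e.1 = s) with
    | none => []
    | some e => e.2.toList) = _
  rw [← List.head?_filter]
  rcases (g.row_spec hr).1 s hs with ⟨a, b⟩ | ⟨_, arr, a, b⟩ <;> rw [b]
  · exact a.symm
  · exact a

theorem chainCoeff_eq {r s : ℕ} (hr : r < T.n) (hs : s < T.n) (u : ℕ) :
    T.D.chainCoeff r s u =
      ((T.ch r s).zipIdx.filter (fun q => q.1.1 = u)).map fun q => (q.2 + 1, q.1.2) := by
  rw [ChevalleyDatum.chainCoeff, g.chain_getD hr]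
  change (((T.rowL r).filter (fun e => e.1 = s)).flatMap fun e => _) = _
  rcases (g.row_spec hr).1 s hs with ⟨a, b⟩ | ⟨_, arr, a, b⟩ <;> rw [b]
  · simp [a]
  · simp [a]

theorem chainRoot_eq {r s : ℕ} (hr : r < T.n) (hs : s < T.n) (i : ℕ) :
    T.D.chainRoot r s i = T.chRoot r s i := by
  rw [ChevalleyDatum.chainRoot, g.chainEntry_eq hr hs]; rfl

theorem chainM_eq {r s : ℕ} (hr : r < T.n) (hs : s < T.n) (i : ℕ) :
    T.D.chainM r s i = T.chM r s i := by
  rw [ChevalleyDatum.chainM, g.chainEntry_eq hr hs]; rfl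

/-! #### sign conventions -/

theorem sign' {r : ℕ} (hr : r < T.n) :
    (∀ j < T.l, (T.N ≤ r → 0 ≤ T.c r j) ∧ (r < T.N → T.c r j ≤ 0) ∧
      T.c (T.neg r) j = -T.c r j ∧ T.A j (T.neg r) = -T.A j r) ∧
    (∑ j ∈ Finset.range T.l, T.c r j * T.A j r = 2) ∧
    Nat.rec (motive := fun _ => ℕ) 0 (fun j v => Nat.gcd v (T.c r j).natAbs) T.l = 1 := by
  have h := allBelow_eq_true.1 g.sign r hr
  simp only [Bool.and_eq_true, allBelow_eq_true, beq_iff_eq, decide_eq_true_eq, sumBelow_eq_sum] at h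
  refine ⟨fun j hj => ⟨fun hN => ?_, fun hN => ?_, (h.1.1 j hj).1.2, (h.1.1 j hj).2⟩, h.1.2, h.2⟩
  · have := (h.1.1 j hj).1.1
    rw [nat_ble.2 hN, cond_true] at this
    exact mem_decide this
  · have := (h.1.1 j hj).1.1
    rw [nat_ble_false.2 hN, cond_false] at this
    exact mem_decide this

theorem exists_c_ne_zero {r : ℕ} (hr : r < T.n) (F : Type*) [Field F] :
    ∃ j < T.l, ((T.c r j : ℤ) : F) ≠ 0 := by
  by_contra hc
  push Not at hc
  obtain ⟨p, hp⟩ := CharP.exists F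
  have : ∀ k ≤ T.l,
      p ∣ Nat.rec (motive := fun _ => ℕ) 0 (fun j v => Nat.gcd v (T.c r j).natAbs) k := by
    intro k
    induction k with
    | zero => exact fun _ => dvd_zero p
    | succ k ih =>
      intro hk
      exact Nat.dvd_gcd (ih (by omega))
        (Int.natCast_dvd.1 ((CharP.intCast_eq_zero_iff F p _).1 (hc k (by omega))))
  have h1 := this T.l le_rfl
  rw [(g.sign' hr).2.2, Nat.dvd_one] at h1
  exact CharP.ringChar_ne_one (R := F) (by rw [ringChar.eq F p, h1])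

theorem isPosRoot_iff (r : ℕ) : T.D.IsPosRoot r ↔ T.N ≤ r ∧ r < T.n := by
  rw [ChevalleyDatum.IsPosRoot, g.nroots_eq]
  constructor
  · rintro ⟨hr, h⟩
    refine ⟨le_of_not_gt fun hN => ?_, hr⟩
    obtain ⟨j, hj, hj0⟩ := g.exists_c_ne_zero hr ℚ
    have h1 := h (T.c r j) (by rw [g.coroot_toList hr, listBelow_eq]; exact List.mem_map.2 ⟨j, List.mem_range.2 hj, rfl⟩)
    have h2 := ((g.sign' hr).1 j hj).2.1 hN
    exact hj0 (by simp [show T.c r j = 0 by omega])
  · rintro ⟨hN, hr⟩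
    refine ⟨hr, fun c hc => ?_⟩
    rw [g.coroot_toList hr, listBelow_eq, List.mem_map] at hc
    obtain ⟨j, hj, rfl⟩ := hc
    exact ((g.sign' hr).1 j (List.mem_range.1 hj)).1 hN

theorem isNegRoot_iff (r : ℕ) : T.D.IsNegRoot r ↔ r < T.N := by
  have := n_def (T := T)
  rw [ChevalleyDatum.IsNegRoot, g.nroots_eq]
  constructor
  · rintro ⟨hr, h⟩
    refine lt_of_not_ge fun hN => ?_
    obtain ⟨j, hj, hj0⟩ := g.exists_c_ne_zero hr ℚ
    have h1 := h (T.c r j) (by rw [g.coroot_toList hr, listBelow_eq]; exact List.mem_map.2 ⟨j, List.mem_range.2 hj, rfl⟩)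
    have h2 := ((g.sign' hr).1 j hj).1 hN
    exact hj0 (by simp [show T.c r j = 0 by omega])
  · intro hN
    have hr : r < T.n := by omega
    refine ⟨hr, fun c hc => ?_⟩
    rw [g.coroot_toList hr, listBelow_eq, List.mem_map] at hc
    obtain ⟨j, hj, rfl⟩ := hc
    exact ((g.sign' hr).1 j (List.mem_range.1 hj)).2.1 hN

theorem inRootSub_iff (J : Set ℕ) (r : ℕ) :
    T.D.InRootSub J r ↔ r < T.n ∧ ∀ i < T.l, i ∉ J → T.c r i = 0 := by
  rw [ChevalleyDatum.InRootSub, g.nroots_eq, g.rank_eq]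
  constructor <;> rintro ⟨hr, h⟩ <;> refine ⟨hr, fun i hi hiJ => ?_⟩
  · rw [← g.coroot_eq hr hi]; exact h i hi hiJ
  · rw [g.coroot_eq hr hi]; exact h i hi hiJ

/-! #### reflections -/

theorem refl' {i s : ℕ} (hi : i < T.l) (hs : s < T.n) :
    T.ref i s < T.n ∧ T.ref i (T.ref i s) = s ∧ T.ref i (T.neg s) = T.neg (T.ref i s) ∧
    T.eta i (T.neg s) = T.eta i s ∧ T.ref i s = T.refSpec i s ∧
    T.eta i s * T.eta i (T.ref i s) = (-1) ^ (T.A i s).natAbs ∧
    (s = T.smp i → T.ref i s = T.neg s ∧ T.eta i s = -1) ∧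
    (T.N ≤ s → s ≠ T.smp i → T.N ≤ T.ref i s) ∧
    ∀ j < T.l, T.A j (T.ref i s) - T.A j (T.smp i) * T.A i (T.ref i s) = T.A j s ∧
      T.c (T.ref i s) j =
        if j = i then T.c s j - ∑ k ∈ Finset.range T.l, T.c s k * T.A k (T.smp i) else T.c s j := by
  have h := allBelow_eq_true.1 (allBelow_eq_true.1 g.refl i hi) s hs
  simp only [Bool.and_eq_true, allBelow_eq_true, beq_iff_eq, nat_blt, nat_beq,
    sumBelow_eq_sum] at h
  obtain ⟨⟨⟨⟨⟨⟨⟨h1, h2⟩, h3⟩, h4⟩, h5⟩, h6⟩, h7⟩, h8⟩ := h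
  refine ⟨h1, h2, h3, h4, h5, ?_, fun he => ?_, fun hN hne => ?_, fun j hj => ⟨(h8 j hj).1, ?_⟩⟩
  · rw [h6]
    rcases Nat.mod_two_eq_zero_or_one (T.A i s).natAbs with h' | h' <;> simp only [h']
    · rw [(Nat.even_iff.2 h').neg_one_pow]; rfl
    · rw [(Nat.odd_iff.2 h').neg_one_pow]; rfl
  · rw [nat_beq.2 he, cond_true, Bool.and_eq_true, nat_beq, beq_iff_eq] at h7
    exact h7
  · rw [nat_beq_false.2 hne, cond_false, nat_ble.2 hN, cond_true, nat_ble] at h7
    exact h7
  · have := (h8 j hj).2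
    by_cases hji : j = i
    · rw [nat_beq.2 hji, cond_true] at this
      rw [this, if_pos hji]
    · rw [nat_beq_false.2 hji, cond_false] at this
      rw [this, if_neg hji]

theorem ref_lt {i s : ℕ} (hi : i < T.l) (hs : s < T.n) : T.ref i s < T.n := (g.refl' hi hs).1
theorem ref_ref {i s : ℕ} (hi : i < T.l) (hs : s < T.n) : T.ref i (T.ref i s) = s :=
  (g.refl' hi hs).2.1
theorem ref_neg {i s : ℕ} (hi : i < T.l) (hs : s < T.n) :
    T.ref i (T.neg s) = T.neg (T.ref i s) := (g.refl' hi hs).2.2.1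
theorem eta_neg {i s : ℕ} (hi : i < T.l) (hs : s < T.n) : T.eta i (T.neg s) = T.eta i s :=
  (g.refl' hi hs).2.2.2.1
theorem ref_smp {i : ℕ} (hi : i < T.l) : T.ref i (T.smp i) = T.neg (T.smp i) :=
  ((g.refl' hi (g.smp_lt hi)).2.2.2.2.2.2.1 rfl).1
theorem eta_smp {i : ℕ} (hi : i < T.l) : T.eta i (T.smp i) = -1 :=
  ((g.refl' hi (g.smp_lt hi)).2.2.2.2.2.2.1 rfl).2
theorem ref_pos {i s : ℕ} (hi : i < T.l) (hs : s < T.n) (hN : T.N ≤ s) (hne : s ≠ T.smp i) :
    T.N ≤ T.ref i s := (g.refl' hi hs).2.2.2.2.2.2.2.1 hN hne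

theorem ref_inj {i s s' : ℕ} (hi : i < T.l) (hs : s < T.n) (hs' : s' < T.n)
    (h : T.ref i s = T.ref i s') : s = s' := by
  rw [← g.ref_ref hi hs, h, g.ref_ref hi hs']

theorem reflectRoot_eq {i s : ℕ} (hi : i < T.l) (hs : s < T.n) :
    T.D.reflectRoot i s = T.ref i s := by
  rw [(g.refl' hi hs).2.2.2.2.1, ChevalleyDatum.reflectRoot, refSpec]
  simp only [g.simple_eq hi, g.cartan_eq hi hs, g.neg_eq (g.smp_lt hi),
    g.chainRoot_eq (neg_lt (g.smp_lt hi)) hs, g.chainRoot_eq (g.smp_lt hi) hs]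

/-! #### chains -/

theorem chain' {r s : ℕ} (hr : r < T.n) (hs : s < T.n) (h : T.ch r s ≠ []) :
    s ≠ r ∧ s ≠ T.neg r ∧ T.chainOK r s 1 (T.ch r s) = true ∧
      ((T.ch r s).length < 3 ∨ ∀ k M l, T.ch r s = (k, M) :: l → 3 ∣ T.chM k r 2) := by
  obtain ⟨arr, hmem, harr⟩ := g.mem_rowL hr hs h
  have hh := List.all_eq_true.1 (allBelow_eq_true.1 g.chains r hr) _ hmem
  simp only [Bool.and_eq_true, Bool.or_eq_true, Bool.not_eq_true', nat_blt, nat_beq_false] at hh
  rw [harr] at hh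
  refine ⟨hh.1.1.1.2, hh.1.1.2, hh.1.2, hh.2.imp id fun h' k M l e => ?_⟩
  rw [e] at h'
  exact mem_decide h'

theorem equiv' {i r s : ℕ} (hi : i < T.l) (hr : r < T.n) (hs : s < T.n) (h : T.ch r s ≠ []) :
    T.ch (T.ref i r) (T.ref i s) = T.mapChain i (T.eta i r) (T.eta i s) (T.ch r s) := by
  obtain ⟨arr, hmem, harr⟩ := g.mem_rowL hr hs h
  have hh := List.all_eq_true.1 (allBelow_eq_true.1 (allBelow_eq_true.1 g.equiv i hi) r hr) _ hmem
  rw [chainBeq_iff, harr] at hh
  exact hh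

/-- The chain table is equivariant under each reflection. -/
theorem ch_ref {i r s : ℕ} (hi : i < T.l) (hr : r < T.n) (hs : s < T.n) :
    T.ch (T.ref i r) (T.ref i s) = T.mapChain i (T.eta i r) (T.eta i s) (T.ch r s) := by
  by_cases h : T.ch r s = []
  · rw [h]
    show _ = []
    by_contra hne
    have := g.equiv' hi (g.ref_lt hi hr) (g.ref_lt hi hs) hne
    rw [g.ref_ref hi hr, g.ref_ref hi hs, h] at this
    cases hc : T.ch (T.ref i r) (T.ref i s) with
    | nil => exact hne hc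
    | cons e l => rw [hc] at this; exact List.cons_ne_nil _ _ this.symm
  · exact g.equiv' hi hr hs h

end Good

theorem chainOK_spec (r s : ℕ) : ∀ (k : ℕ) (l : List (ℕ × ℤ)), T.chainOK r s k l = true →
    ∀ q ∈ l.zipIdx k, q.1.1 < T.n ∧ q.1.1 ≠ s ∧ q.1.1 ≠ T.neg r ∧
      (∀ j < T.l, T.A j q.1.1 = T.A j s + (q.2 : ℤ) * T.A j r) ∧
      (T.N ≤ r → s < q.1.1 ∧ (T.N ≤ s → r < q.1.1) ∧ (s < T.N → T.neg s < r → T.N ≤ q.1.1)) ∧
      (r < T.N → q.1.1 < s ∧ (s < T.N → q.1.1 < r) ∧ (T.N ≤ s → r < T.neg s → q.1.1 < T.N))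
  | _, [], _ => by simp
  | k, (t, M) :: l, h => by
    simp only [chainOK, Bool.and_eq_true, Bool.not_eq_true', nat_blt, nat_beq_false,
      allBelow_eq_true, beq_iff_eq] at h
    obtain ⟨⟨⟨⟨⟨⟨h1, h2⟩, h3⟩, h4⟩, h5⟩, h6⟩, h7⟩ := h
    intro q hq
    rcases List.mem_cons.1 (List.zipIdx_cons ▸ hq : q ∈ ((t, M), k) :: l.zipIdx (k + 1)) with rfl | hq
    · refine ⟨h1, h2, h3, h4, fun hN => ?_, fun hN => ?_⟩
      · rw [nat_ble.2 hN, cond_true, Bool.and_eq_true, nat_blt] at h5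
        refine ⟨h5.1, fun hs => ?_, fun hs hlt => ?_⟩
        · have := h5.2; rwa [nat_ble.2 hs, cond_true, nat_blt] at this
        · have := h5.2
          rwa [nat_ble_false.2 hs, cond_false, nat_blt.2 hlt, cond_true, nat_ble] at this
      · rw [nat_blt.2 hN, cond_true, Bool.and_eq_true, nat_blt] at h6
        refine ⟨h6.1, fun hs => ?_, fun hs hlt => ?_⟩
        · have := h6.2; rwa [nat_blt.2 hs, cond_true, nat_blt] at this
        · have := h6.2
          rwa [nat_blt_false.2 hs, cond_false, nat_blt.2 hlt, cond_true, nat_blt] at this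
    · exact chainOK_spec r s (k + 1) l h7 q hq

end Tab

end Cfsg.Agent.Chev
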