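import Cfsg.Prelude.Def_ChevStructure

/-!
# Fast tables for Chevalley data and the integer checks on them

A `Tab` packs the tables of a `Cfsg.Lie.ChevalleyDatum` in natural number literals (cheap to look up
in the kernel).  `Tab.Good` lists the finitely many table facts used by the general theory; each is a
Boolean computation.  Roots `0 … N-1` are negative, `N … 2N-1` positive and `-r = 2N-1-r`.
-/

set_option autoImplicit false

namespace Cfsg.Agent.Chev

open Cfsg.Lie

/-- `f (k-1) && … && f 0`, by primitive recursion. -/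
def allBelow (f : ℕ → Bool) (k : ℕ) : Bool :=
  Nat.rec (motive := fun _ => Bool) true (fun j ih => f j && ih) k

theorem allBelow_eq_true {f : ℕ → Bool} {k : ℕ} :
    allBelow f k = true ↔ ∀ j < k, f j = true := by
  induction k with
  | zero => simp [allBelow]
  | succ k ih =>
    show (f k && allBelow f k) = true ↔ _
    rw [Bool.and_eq_true, ih]
    constructor
    · rintro ⟨h1, h2⟩ j hj
      rcases Nat.lt_succ_iff_lt_or_eq.1 hj with h | h
      · exact h2 j h
      · exact h ▸ h1
    · exact fun h => ⟨h k (Nat.lt_succ_self k), fun j hj => h j (Nat.lt_succ_of_lt hj)⟩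

/-- `f 0 || … || f (k-1)`. -/
def anyBelow (f : ℕ → Bool) (k : ℕ) : Bool :=
  Nat.rec (motive := fun _ => Bool) false (fun j ih => f j || ih) k

theorem anyBelow_eq_true {f : ℕ → Bool} {k : ℕ} :
    anyBelow f k = true ↔ ∃ j < k, f j = true := by
  induction k with
  | zero => simp [anyBelow]
  | succ k ih =>
    show (f k || anyBelow f k) = true ↔ _
    rw [Bool.or_eq_true, ih]
    constructor
    · rintro (h | ⟨j, hj, h⟩)
      · exact ⟨k, Nat.lt_succ_self k, h⟩
      · exact ⟨j, Nat.lt_succ_of_lt hj, h⟩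
    · rintro ⟨j, hj, h⟩
      rcases Nat.lt_succ_iff_lt_or_eq.1 hj with h' | h'
      · exact Or.inr ⟨j, h', h⟩
      · exact Or.inl (h' ▸ h)

/-- `f 0 + … + f (k-1)`. -/
def sumBelow (f : ℕ → ℤ) (k : ℕ) : ℤ :=
  Nat.rec (motive := fun _ => ℤ) 0 (fun j ih => ih + f j) k

theorem sumBelow_eq_sum (f : ℕ → ℤ) (k : ℕ) : sumBelow f k = ∑ j ∈ Finset.range k, f j := by
  induction k with
  | zero => simp [sumBelow]
  | succ k ih =>
    show sumBelow f k + f k = _
    rw [Finset.sum_range_succ, ih]

/-- `[f 0, …, f (k-1)]`. -/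
def listBelow {α : Type} (f : ℕ → α) (k : ℕ) : List α :=
  Nat.rec (motive := fun _ => List α → List α) id (fun j ih acc => ih (f j :: acc)) k []

theorem listBelow_eq {α : Type} (f : ℕ → α) (k : ℕ) : listBelow f k = (List.range k).map f := by
  have : ∀ (k : ℕ) (acc : List α),
      Nat.rec (motive := fun _ => List α → List α) id (fun j ih acc => ih (f j :: acc)) k acc =
        (List.range k).map f ++ acc := by
    intro k
    induction k with
    | zero => simp
    | succ k ih =>
      intro acc
      show Nat.rec (motive := fun _ => List α → List α) id (fun j ih acc => ih (f j :: acc)) k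
        (f k :: acc) = _
      rw [ih, List.range_succ, List.map_append, List.append_assoc]
      rfl
  simpa [listBelow] using this k []

/-- A bit field of a packed natural number. -/
def field (X w k : ℕ) : ℕ := Nat.land (Nat.shiftRight X (Nat.mul w k)) (Nat.sub (Nat.shiftLeft 1 w) 1)

/-- Decode a chain list: items of 11 bits, `t * 8 + (M + 4)`. -/
def decodeChain (X : ℕ) : List (ℕ × ℤ) :=
  Nat.rec (motive := fun _ => ℕ → List (ℕ × ℤ)) (fun _ => [])
    (fun _ ih X => bif Nat.beq X 0 then [] else
      (Nat.shiftRight (Nat.land X 2047) 3, (Int.ofNat (Nat.land X 7)) - 4) :: ih (Nat.shiftRight X 11))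
    4 X

/-- Boolean equality on chain lists. -/
def chainBeq : List (ℕ × ℤ) → List (ℕ × ℤ) → Bool
  | [], [] => true
  | a :: l, b :: m => Nat.beq a.1 b.1 && a.2 == b.2 && chainBeq l m
  | _, _ => false

theorem chainBeq_iff : ∀ {l m : List (ℕ × ℤ)}, chainBeq l m = true ↔ l = m
  | [], [] => by simp [chainBeq]
  | [], _ :: _ => by simp [chainBeq]
  | _ :: _, [] => by simp [chainBeq]
  | a :: l, b :: m => by
    simp only [chainBeq, Bool.and_eq_true, chainBeq_iff, beq_iff_eq, List.cons.injEq, Prod.ext_iff]
    rw [show Nat.beq a.1 b.1 = true ↔ a.1 = b.1 from ⟨Nat.eq_of_beq_eq_true, fun h => h ▸ Nat.beq_refl _⟩]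

/-- Packed tables for a datum. -/
structure Tab where
  /-- the datum -/
  D : ChevalleyDatum
  /-- the rank -/
  l : ℕ
  /-- the number of positive roots -/
  N : ℕ
  /-- width of a slot of `chPk` -/
  w : ℕ
  /-- the rows of the chain table -/
  rowA : ℕ → Array (ℕ × Array (ℕ × ℤ))
  /-- for each `r`, slot `s` encodes the chain of `(r, s)` -/
  chPk : ℕ → ℕ
  /-- for each `i`, 4 bits per root: `A(p_i, s) + 8` -/
  cartanPk : ℕ → ℕ
  /-- for each root, 4 bits per `i`: `c_i(s) + 8` -/
  corootPk : ℕ → ℕ
  /-- for each `i`, 9 bits per root: twice the reflected root plus one if the sign is negative -/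
  refPk : ℕ → ℕ
  /-- 8 bits per `i`: the simple root -/
  smpPk : ℕ
  /-- representatives of the orbits of pairs of roots -/
  reps : List (ℕ × ℕ)

namespace Tab

variable (T : Tab)

/-- the row of the chain table, as a list -/
def rowL (r : ℕ) : List (ℕ × Array (ℕ × ℤ)) := (T.rowA r).toList

/-- number of roots -/
def n : ℕ := 2 * T.N

/-- `-r` -/
def neg (r : ℕ) : ℕ := Nat.sub (Nat.sub T.n 1) r

/-- simple root -/
def smp (i : ℕ) : ℕ := field T.smpPk 8 i

/-- chain of `(r, s)` -/
def ch (r s : ℕ) : List (ℕ × ℤ) := decodeChain (field (T.chPk r) T.w s)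

/-- Cartan integer -/
def A (i s : ℕ) : ℤ := Int.ofNat (field (T.cartanPk i) 4 s) - 8

/-- coroot coefficient -/
def c (s i : ℕ) : ℤ := Int.ofNat (field (T.corootPk s) 4 i) - 8

/-- reflected root -/
def ref (i s : ℕ) : ℕ := Nat.shiftRight (field (T.refPk i) 9 s) 1

/-- sign attached to the reflection -/
def eta (i s : ℕ) : ℤ := bif Nat.beq (Nat.land (field (T.refPk i) 9 s) 1) 0 then 1 else -1

/-! ### The engine: evaluation of words in root elements on basis vectors -/

/-- A monomial `c T^a U^b`. -/
abbrev Mono := ℤ × ℤ × ℤ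

/-- A sparse vector with monomial coefficients. -/
abbrev SVec := List (ℕ × Mono)

/-- product of monomials -/
def mmul (x y : Mono) : Mono := (x.1 * y.1, x.2.1 + y.2.1, x.2.2 + y.2.2)

/-- power of a monomial -/
def mpow (x : Mono) (d : ℕ) : Mono :=
  Nat.rec (motive := fun _ => Mono) (1, 0, 0) (fun _ ih => mmul ih x) d

/-- powers of a polynomial (a list of monomials) -/
def ppow (p : List Mono) (d : ℕ) : List Mono :=
  Nat.rec (motive := fun _ => List Mono) [(1, 0, 0)]
    (fun _ ih => ih.flatMap fun m => p.map fun m' => mmul m m') d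

/-- index of the root vector in the basis -/
def ix (s : ℕ) : ℕ := Nat.add T.l s

/-- column `v` of `x_r(t)` as a list of (row, coefficient, degree in t). -/
def xcol (r v : ℕ) : List (ℕ × ℤ × ℕ) :=
  bif Nat.blt v T.l then [(v, 1, 0), (T.ix r, -(T.A v r), 1)]
  else bif Nat.beq v (T.ix r) then [(v, 1, 0)]
  else bif Nat.beq v (T.ix (T.neg r)) then
    (v, 1, 0) :: (T.ix r, -1, 2) :: listBelow (fun i => (i, T.c r i, 1)) T.l
  else bif Nat.blt v (Nat.add T.l T.n) then
    (v, 1, 0) :: (T.ch r (Nat.sub v T.l)).zipIdx.map (fun q => (T.ix q.1.1, q.1.2, q.2 + 1))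
  else []

/-- Apply `x_r(p)` to a sparse vector. -/
def xapply (r : ℕ) (p : List Mono) (v : SVec) : SVec :=
  v.flatMap fun e => (T.xcol r e.1).flatMap fun q =>
    (ppow p q.2.2).map fun m => (q.1, mmul (q.2.1, 0, 0) (mmul e.2 m))

/-- comparison of keys -/
def keyEq (x y : ℕ × Mono) : Bool := Nat.beq x.1 y.1 && x.2.2.1 == y.2.2.1 && x.2.2.2 == y.2.2.2

/-- add one entry to a normalised vector -/
def insEntry (x : ℕ × Mono) : SVec → SVec
  | [] => [x]
  | y :: v => bif keyEq x y then (y.1, (x.2.1 + y.2.1, y.2.2)) :: v else y :: insEntry x v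

/-- collect equal keys -/
def collect (v : SVec) : SVec := v.foldr insEntry []

/-- collect equal keys and drop zero coefficients -/
def simplify (v : SVec) : SVec := (collect v).filter fun x => !(x.2.1 == 0)

/-- Apply a word (leftmost factor applied last). -/
def wapply (w : List (ℕ × List Mono)) (v : SVec) : SVec :=
  w.foldr (fun e acc => simplify (T.xapply e.1 e.2 acc)) v

/-- all coefficients vanish -/
def isZero (v : SVec) : Bool := (collect v).all fun x => x.2.1 == 0

/-- negate a vector -/
def vneg (v : SVec) : SVec := v.map fun x => (x.1, (-x.2.1, x.2.2))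

/-- vectors are equal -/
def vecEq (v w : SVec) : Bool := isZero (v ++ vneg w)

/-- two linear maps given by columns agree -/
def colsEq (f g : ℕ → SVec) : Bool := allBelow (fun j => vecEq (f j) (g j)) (Nat.add T.l T.n)

/-- the word `n_r(c T^a)`, `c = ±1` -/
def nW (r : ℕ) (c a : ℤ) : List (ℕ × List Mono) :=
  [(r, [(c, a, 0)]), (T.neg r, [(-c, -a, 0)]), (r, [(c, a, 0)])]

/-- column of the monomial matrix of `n_{p_i}` -/
def nCol (i v : ℕ) : SVec :=
  bif Nat.blt v T.l then [(v, (1, 0, 0)), (i, (-(T.A v (T.smp i)), 0, 0))]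
  else [(T.ix (T.ref i (Nat.sub v T.l)), (T.eta i (Nat.sub v T.l), 0, 0))]

/-- column of the diagonal matrix of `h_{p_i}(T)` -/
def hCol (i v : ℕ) : SVec :=
  bif Nat.blt v T.l then [(v, (1, 0, 0))] else [(v, (1, T.A i (Nat.sub v T.l), 0))]

/-! ### Commutator terms and reflections, through the packed tables -/

/-- `chainRoot` -/
def chRoot (r s i : ℕ) : Option ℕ := ((T.ch r s)[i - 1]?).map Prod.fst

/-- `chainM` -/
def chM (r s i : ℕ) : ℤ := (((T.ch r s)[i - 1]?).map Prod.snd).getD 0

/-- `commTerms` -/
def cTerms (r s : ℕ) : List (ℕ × ℤ × ℕ × ℕ) :=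
  let rs := T.chRoot r s 1
  let cands : List (Option ℕ × ℤ × ℕ × ℕ) :=
    [ (T.chRoot r s 1, T.chM r s 1, 1, 1),
      (T.chRoot r s 2, T.chM r s 2, 2, 1),
      (T.chRoot s r 2, T.chM s r 2, 1, 2),
      (T.chRoot r s 3, T.chM r s 3, 3, 1),
      (T.chRoot s r 3, - T.chM s r 3, 1, 3),
      ((T.chRoot r s 3).bind fun k => T.chRoot k s 1, (rs.map fun k => T.chM k r 2 / 3).getD 0, 3, 2),
      ((T.chRoot s r 3).bind fun k => T.chRoot k r 1, (rs.map fun k => -2 * T.chM k s 2 / 3).getD 0, 2, 3) ]
  cands.filterMap fun c => c.1.map fun k => (k, c.2)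

/-- `commWord` with parameters `t = T`, `u = U` -/
def cWord (r s : ℕ) : List (ℕ × List Mono) :=
  (T.cTerms r s).map fun c =>
    (c.1, [((if c.2.2.1 % 2 = 0 then c.2.1 else -c.2.1), (c.2.2.1 : ℤ), (c.2.2.2 : ℤ))])

/-- `reflectRoot` -/
def refSpec (i s : ℕ) : ℕ :=
  let p := T.smp i
  let A := T.A i s
  if s = p then T.neg p
  else if s = T.neg p then p
  else if 0 < A then (T.chRoot (T.neg p) s A.toNat).getD s
  else if A < 0 then (T.chRoot p s (-A).toNat).getD s
  else s

/-- the image of a chain under the reflection `i` -/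
def mapChain (i : ℕ) (er es : ℤ) : List (ℕ × ℤ) → List (ℕ × ℤ)
  | [] => []
  | (t, M) :: l => (T.ref i t, M * er * es * T.eta i t) :: mapChain i er (er * es) l

/-! ### The checks -/

/-- sizes and the small tables -/
def checkShape : Bool :=
  decide (T.D.rank = T.l) && decide (T.D.nroots = T.n) && decide (1 ≤ T.N) &&
  decide (T.D.negIdx.toList = listBelow T.neg T.n) &&
  decide (T.D.simpleIdx.toList = listBelow T.smp T.l) &&
  allBelow (fun i => Nat.ble T.N (T.smp i) && Nat.blt (T.smp i) T.n &&
    allBelow (fun j => Nat.beq i j || !Nat.beq (T.smp i) (T.smp j)) T.l) T.l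

/-- Cartan and coroot tables -/
def checkCartan : Bool :=
  decide (T.D.cartanSR.toList.map Array.toList = listBelow (fun i => listBelow (T.A i) T.n) T.l)

/-- coroot table -/
def checkCoroot : Bool :=
  decide (T.D.coroot.toList.map Array.toList = listBelow (fun s => listBelow (T.c s) T.l) T.n)

/-- walk along a row -/
def walk (r : ℕ) : ℕ → ℕ → List (ℕ × Array (ℕ × ℤ)) → Bool
  | 0, _, row => row.isEmpty
  | fuel + 1, s, [] => chainBeq (T.ch r s) [] && walk r fuel (s + 1) []
  | fuel + 1, s, e :: row =>
    bif Nat.beq e.1 s then chainBeq (T.ch r s) e.2.toList && !e.2.toList.isEmpty && walk r fuel (s + 1) row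
    else chainBeq (T.ch r s) [] && walk r fuel (s + 1) (e :: row)

/-- the packed chains agree with the rows -/
def checkWalk : Bool := allBelow (fun r => T.walk r T.n 0 (T.rowL r)) T.n

/-- sign conventions of the roots -/
def checkSign : Bool :=
  allBelow (fun r =>
    allBelow (fun j => (bif Nat.ble T.N r then decide (0 ≤ T.c r j) else decide (T.c r j ≤ 0)) &&
      T.c (T.neg r) j == -(T.c r j) && T.A j (T.neg r) == -(T.A j r)) T.l &&
    sumBelow (fun j => T.c r j * T.A j r) T.l == 2 &&
    decide (Nat.rec (motive := fun _ => ℕ) 0 (fun j g => Nat.gcd g (T.c r j).natAbs) T.l = 1)) T.n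

/-- properties of the reflections -/
def checkRef : Bool :=
  allBelow (fun i => allBelow (fun s =>
    let u := T.ref i s
    Nat.blt u T.n && Nat.beq (T.ref i u) s && Nat.beq (T.ref i (T.neg s)) (T.neg u) &&
    T.eta i (T.neg s) == T.eta i s &&
    Nat.beq u (T.refSpec i s) &&
    (T.eta i s * T.eta i u == bif Nat.beq ((T.A i s).natAbs % 2) 0 then 1 else -1) &&
    (bif Nat.beq s (T.smp i) then Nat.beq u (T.neg s) && T.eta i s == -1
      else bif Nat.ble T.N s then Nat.ble T.N u else true) &&
    allBelow (fun j => T.A j u - T.A j (T.smp i) * T.A i u == T.A j s &&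
      (T.c u j == bif Nat.beq j i then
        T.c s j - sumBelow (fun k => T.c s k * T.A k (T.smp i)) T.l else T.c s j)) T.l) T.n) T.l

/-- the chain table is carried to itself by each reflection -/
def checkEquiv : Bool :=
  allBelow (fun i => allBelow (fun r => (T.rowL r).all fun e =>
    chainBeq (T.ch (T.ref i r) (T.ref i e.1)) (T.mapChain i (T.eta i r) (T.eta i e.1) e.2.toList)) T.n) T.l

/-- properties of a single chain -/
def chainOK (r s : ℕ) : ℕ → List (ℕ × ℤ) → Bool
  | _, [] => true
  | k, (t, _) :: l =>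
    Nat.blt t T.n && !Nat.beq t s && !Nat.beq t (T.neg r) &&
    allBelow (fun j => T.A j t == T.A j s + (k : ℤ) * T.A j r) T.l &&
    (bif Nat.ble T.N r then Nat.blt s t &&
      (bif Nat.ble T.N s then Nat.blt r t
        else bif Nat.blt (T.neg s) r then Nat.ble T.N t else true) else true) &&
    (bif Nat.blt r T.N then Nat.blt t s &&
      (bif Nat.blt s T.N then Nat.blt t r
        else bif Nat.blt r (T.neg s) then Nat.blt t T.N else true) else true) &&
    chainOK r s (k + 1) l

/-- properties of all chains -/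
def checkChains : Bool :=
  allBelow (fun r => (T.rowL r).all fun e =>
    Nat.blt e.1 T.n && !Nat.beq e.1 r && !Nat.beq e.1 (T.neg r) && T.chainOK r e.1 1 e.2.toList &&
    (Nat.blt e.2.toList.length 3 || match e.2.toList with
      | (k, _) :: _ => decide (3 ∣ T.chM k r 2)
      | [] => true)) T.n

/-- every root is reached from a simple one, every pair of roots from a representative -/
def checkDescent : Bool :=
  allBelow (fun s => anyBelow (fun i =>
      Nat.beq s (T.smp i) || Nat.beq s (T.neg (T.smp i)) ||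
      (bif Nat.ble T.N s then Nat.blt (T.ref i s) s && Nat.ble T.N (T.ref i s)
        else Nat.blt s (T.ref i s) && Nat.blt (T.ref i s) T.N)) T.l) T.n &&
  allBelow (fun r => anyBelow (fun i => Nat.blt r (T.ref i r)) T.l ||
    allBelow (fun s => Nat.beq s r || Nat.beq s (T.neg r) ||
      anyBelow (fun i => Nat.beq (T.ref i r) r && Nat.blt (T.ref i s) s) T.l ||
      T.reps.any (fun p => Nat.beq p.1 r && Nat.beq p.2 s)) T.n) T.n

/-- additivity of the simple root elements -/
def checkAdd : Bool :=
  allBelow (fun i => T.colsEq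
    (fun j => T.wapply [(T.smp i, [(1, 1, 0)]), (T.smp i, [(1, 0, 1)])] [(j, (1, 0, 0))])
    (fun j => T.wapply [(T.smp i, [(1, 1, 0), (1, 0, 1)])] [(j, (1, 0, 0))])) T.l

/-- `n_p` is monomial -/
def checkN : Bool :=
  allBelow (fun i => T.colsEq (fun j => T.wapply (T.nW (T.smp i) 1 0) [(j, (1, 0, 0))]) (T.nCol i)) T.l

/-- `h_p(T)` is diagonal -/
def checkH : Bool :=
  allBelow (fun i => T.colsEq
    (fun j => T.wapply (T.nW (T.smp i) 1 1 ++ T.nW (T.smp i) (-1) 0) [(j, (1, 0, 0))]) (T.hCol i)) T.l

/-- the commutator formula for the representative pairs -/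
def checkComm : Bool :=
  T.reps.all fun p => T.colsEq
    (fun j => T.wapply [(p.2, [(1, 0, 1)]), (p.1, [(1, 1, 0)])] [(j, (1, 0, 0))])
    (fun j => T.wapply ((p.1, [(1, 1, 0)]) :: (p.2, [(1, 0, 1)]) :: T.cWord p.1 p.2) [(j, (1, 0, 0))])

/-- All checks. -/
structure Good : Prop where
  shape : T.checkShape = true
  cartanT : T.checkCartan = true
  corootT : T.checkCoroot = true
  chainT : T.D.chain = (listBelow T.rowA T.n).toArray
  walkT : T.checkWalk = true
  sign : T.checkSign = true
  refl : T.checkRef = true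
  equiv : T.checkEquiv = true
  chains : T.checkChains = true
  descent : T.checkDescent = true
  add : T.checkAdd = true
  nMon : T.checkN = true
  hDiag : T.checkH = true
  comm : T.checkComm = true

end Tab

end Cfsg.Agent.Chev
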