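import Cfsg.Agent.Lib.Lie.ChevTwoGen

/-! Derivation certificates for two generation of the tabulated Chevalley groups. -/

set_option autoImplicit false
set_option maxRecDepth 8000

namespace Cfsg.Agent.Chev.TwoGenCert

open Tab

/-- derivation for `G2`: odd characteristic or unexceptional fields -/
def g2RootSteps : List GStep :=
  [.conj 3, .conj 5, .conj 7, .conj 10, .conj 9, .conj 11, .conj 8, .conj 6, .conj 4, .conj 1]

/-- derivation for `G2` from one short root -/
def g2ShortSteps : List GStep :=
  [.conj 3, .conj 7, .conj 9, .conj 8, .conj 4, .comm 3 7 5, .conj 5, .conj 10, .conj 11, .conj 6,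
    .conj 1]

/-- derivation for `B2`: odd characteristic or unexceptional fields -/
def b2RootSteps : List GStep :=
  [.conj 1, .conj 3, .conj 5, .conj 7, .conj 6, .conj 4]

/-- derivation for `B2` from one short root -/
def b2ShortSteps : List GStep :=
  [.conj 1, .conj 5, .conj 6, .comm 1 5 3, .conj 3, .conj 7, .conj 4]

/-- derivation for `D4`: odd characteristic or unexceptional fields -/
def d4RootSteps : List GStep :=
  [.conj 1, .conj 21, .conj 18, .conj 15, .conj 14, .conj 13, .conj 22, .conj 2, .conj 5, .conj 8,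
    .comm 1 21 11, .conj 11, .conj 20, .conj 16, .conj 12, .conj 3, .comm 1 18 6, .conj 6, .conj
    19, .conj 23, .conj 17, .conj 4]

/-- derivation for `D4` over two elements -/
def d4TwoSteps : List GStep :=
  [.conj 10, .conj 21, .conj 15, .conj 13, .conj 2, .comm 10 21 19, .conj 19, .conj 23, .conj 17,
    .conj 4, .conj 0, .zstep 2 7, .conj 7, .conj 11, .conj 20, .conj 16, .conj 12, .comm 7 13 9,
    .conj 9, .conj 1, .conj 18, .conj 14, .conj 22]

/-- derivation for `F4`: odd characteristic or unexceptional fields -/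
def f4RootSteps : List GStep :=
  [.conj 9, .conj 15, .conj 19, .conj 21, .conj 11, .conj 41, .conj 33, .conj 45, .conj 27, .conj
    46, .conj 35, .conj 47, .conj 38, .conj 32, .conj 28, .conj 26, .conj 36, .conj 6, .conj 14,
    .conj 2, .conj 20, .conj 1, .comm 9 19 7, .conj 7, .conj 8, .conj 18, .conj 34, .conj 37,
    .conj 44, .conj 40, .conj 39, .conj 29, .conj 13, .conj 10, .comm 9 45 23, .conj 23, .conj 42,
    .conj 30, .conj 43, .conj 31, .conj 25, .conj 24, .conj 5, .conj 17, .conj 4, .conj 16]

/-- derivation for `F4` over two elements -/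
def f4TwoSteps : List GStep :=
  [.conj 0, .conj 15, .conj 21, .conj 41, .conj 45, .conj 46, .conj 47, .conj 32, .conj 26, .conj 6,
    .conj 2, .comm 0 46 23, .conj 23, .conj 42, .conj 30, .conj 43, .conj 31, .conj 25, .conj 24,
    .conj 5, .conj 17, .conj 4, .conj 16, .zstep 15 8, .conj 8, .conj 18, .conj 34, .conj 37,
    .conj 44, .conj 40, .conj 39, .conj 29, .conj 13, .conj 10, .conj 3, .comm 8 25 9, .conj 9,
    .conj 19, .conj 11, .conj 33, .conj 27, .conj 35, .conj 38, .conj 28, .conj 36, .conj 14,
    .conj 20]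

/-- derivation for `E6`: odd characteristic or unexceptional fields -/
def e6RootSteps : List GStep :=
  [.conj 5, .conj 16, .conj 26, .conj 30, .conj 57, .conj 61, .conj 50, .conj 67, .conj 64, .conj
    71, .conj 69, .conj 70, .conj 54, .conj 55, .conj 40, .conj 41, .conj 38, .conj 10, .conj 9,
    .conj 4, .conj 3, .conj 0, .comm 5 64 33, .conj 33, .conj 62, .conj 68, .conj 53, .conj 66,
    .conj 45, .conj 14, .conj 21, .conj 7, .conj 2, .conj 17, .comm 5 69 42, .conj 42, .conj 47,
    .conj 59, .conj 52, .conj 39, .conj 37, .conj 36, .conj 8, .conj 28, .conj 23, .conj 11, .comm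
    5 70 43, .conj 43, .conj 48, .conj 60, .conj 15, .conj 29, .conj 24, .conj 12, .conj 19, .conj
    32, .conj 34, .conj 35, .comm 5 59 22, .conj 22, .conj 46, .conj 58, .conj 51, .conj 65, .conj
    44, .conj 49, .conj 25, .conj 13, .conj 20, .conj 6]

/-- derivation for `E6` over two elements -/
def e6TwoSteps : List GStep :=
  [.conj 2, .conj 17, .conj 31, .conj 33, .conj 62, .conj 68, .conj 53, .conj 66, .conj 45, .conj
    14, .conj 21, .comm 2 62 26, .conj 26, .conj 57, .conj 50, .conj 64, .conj 69, .conj 54, .conj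
    40, .conj 38, .conj 9, .conj 3, .conj 18, .comm 2 68 34, .conj 34, .conj 35, .conj 63, .conj
    43, .conj 48, .conj 60, .conj 15, .conj 29, .conj 24, .conj 12, .conj 19, .comm 2 57 16, .conj
    16, .conj 30, .conj 61, .conj 67, .conj 71, .conj 70, .conj 55, .conj 41, .conj 10, .conj 4,
    .conj 0, .comm 2 63 27, .conj 27, .conj 22, .conj 46, .conj 58, .conj 51, .conj 65, .conj 44,
    .conj 49, .conj 25, .conj 13, .conj 20, .comm 2 71 47, .conj 47, .conj 59, .conj 52, .conj 39,
    .conj 37, .conj 36, .conj 8, .conj 28, .conj 23, .conj 11, .conj 56]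

/-- derivation for `E7`: odd characteristic or unexceptional fields -/
def e7RootSteps : List GStep :=
  [.conj 18, .conj 33, .conj 49, .conj 53, .conj 43, .conj 99, .conj 78, .conj 109, .conj 95, .conj
    119, .conj 84, .conj 125, .conj 104, .conj 124, .conj 113, .conj 123, .conj 88, .conj 118,
    .conj 107, .conj 92, .conj 76, .conj 72, .conj 82, .conj 26, .conj 47, .conj 16, .conj 30,
    .conj 6, .conj 41, .conj 0, .conj 21, .conj 1, .conj 12, .conj 2, .comm 18 125 110, .conj 110,
    .conj 120, .conj 115, .conj 122, .conj 117, .conj 91, .conj 71, .conj 68, .conj 25, .conj 15,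
    .conj 5, .conj 10, .conj 3, .conj 8, .conj 34, .conj 54, .conj 57, .comm 18 113 73, .conj 73,
    .conj 79, .conj 96, .conj 85, .conj 105, .conj 75, .conj 81, .conj 98, .conj 32, .conj 52,
    .conj 46, .conj 29, .conj 40, .conj 20, .conj 50, .conj 44, .conj 27, .comm 18 120 83, .conj
    83, .conj 103, .conj 112, .conj 121, .conj 116, .conj 90, .conj 108, .conj 77, .conj 31, .conj
    42, .conj 22, .conj 13, .conj 4, .conj 9, .conj 35, .conj 17, .conj 48, .comm 18 105 59, .conj
    59, .conj 61, .conj 62, .conj 102, .conj 74, .conj 80, .conj 97, .conj 86, .conj 69, .conj 66,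
    .conj 64, .conj 63, .conj 23, .conj 51, .conj 45, .conj 28, .conj 39, .comm 18 102 55, .conj
    55, .conj 58, .conj 60, .conj 101, .conj 111, .conj 87, .conj 106, .conj 114, .conj 89, .conj
    70, .conj 67, .conj 65, .conj 24, .conj 14, .conj 38, .conj 19, .conj 11]

/-- derivation for `E7` over two elements -/
def e7TwoSteps : List GStep :=
  [.conj 3, .conj 8, .conj 34, .conj 54, .conj 57, .conj 100, .conj 110, .conj 120, .conj 115, .conj
    122, .conj 117, .conj 91, .conj 71, .conj 68, .conj 25, .conj 15, .conj 5, .comm 3 100 33,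
    .conj 33, .conj 53, .conj 99, .conj 109, .conj 119, .conj 125, .conj 124, .conj 123, .conj
    118, .conj 92, .conj 72, .conj 26, .conj 16, .conj 6, .conj 0, .conj 1, .conj 2, .comm 3 120
    58, .conj 58, .conj 60, .conj 101, .conj 111, .conj 87, .conj 106, .conj 114, .conj 89, .conj
    70, .conj 67, .conj 65, .conj 24, .conj 14, .conj 38, .conj 19, .conj 11, .conj 36, .comm 3
    125 95, .conj 95, .conj 84, .conj 104, .conj 113, .conj 88, .conj 107, .conj 76, .conj 82,
    .conj 47, .conj 30, .conj 41, .conj 21, .conj 12, .conj 37, .conj 18, .conj 49, .conj 43,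
    .comm 3 124 74, .conj 74, .conj 80, .conj 97, .conj 86, .conj 69, .conj 66, .conj 64, .conj
    63, .conj 23, .conj 51, .conj 45, .conj 28, .conj 39, .conj 56, .conj 59, .conj 61, .conj 62,
    .comm 3 84 17, .conj 17, .conj 48, .conj 94, .conj 83, .conj 103, .conj 112, .conj 121, .conj
    116, .conj 90, .conj 108, .conj 77, .conj 31, .conj 42, .conj 22, .conj 13, .conj 4, .conj 9,
    .comm 3 113 44, .conj 44, .conj 27, .conj 93, .conj 73, .conj 79, .conj 96, .conj 85, .conj
    105, .conj 75, .conj 81, .conj 98, .conj 32, .conj 52, .conj 46, .conj 29, .conj 40, .conj 20]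

/-- derivation for `E8`: odd characteristic or unexceptional fields -/
def e8RootSteps : List GStep :=
  [.conj 6, .conj 15, .conj 7, .conj 21, .conj 14, .conj 36, .conj 8, .conj 78, .conj 16, .conj 105,
    .conj 22, .conj 169, .conj 37, .conj 184, .conj 79, .conj 204, .conj 106, .conj 226, .conj
    110, .conj 234, .conj 170, .conj 235, .conj 185, .conj 236, .conj 205, .conj 237, .conj 227,
    .conj 238, .conj 219, .conj 239, .conj 233, .conj 224, .conj 232, .conj 218, .conj 225, .conj
    203, .conj 231, .conj 161, .conj 223, .conj 134, .conj 217, .conj 70, .conj 202, .conj 55,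
    .conj 160, .conj 35, .conj 133, .conj 13, .conj 129, .conj 5, .conj 69, .conj 4, .conj 54,
    .conj 3, .conj 34, .conj 2, .conj 12, .conj 1, .comm 6 204 56, .conj 56, .conj 99, .conj 163,
    .conj 147, .conj 174, .conj 188, .conj 207, .conj 228, .conj 220, .conj 214, .conj 230, .conj
    222, .conj 216, .conj 201, .conj 159, .conj 183, .conj 140, .conj 76, .conj 92, .conj 65,
    .conj 51, .conj 32, .conj 11, .conj 19, .conj 25, .conj 9, .conj 17, .conj 23, .conj 38, .comm
    6 226 93, .conj 93, .conj 141, .conj 164, .conj 148, .conj 175, .conj 189, .conj 208, .conj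
    195, .conj 211, .conj 197, .conj 212, .conj 198, .conj 157, .conj 182, .conj 139, .conj 146,
    .conj 98, .conj 75, .conj 91, .conj 64, .conj 50, .conj 31, .conj 44, .conj 28, .conj 42,
    .conj 27, .conj 41, .conj 82, .conj 57, .comm 6 234 135, .conj 135, .conj 142, .conj 165,
    .conj 149, .conj 176, .conj 190, .conj 153, .conj 179, .conj 192, .conj 154, .conj 180, .conj
    138, .conj 145, .conj 168, .conj 77, .conj 104, .conj 97, .conj 74, .conj 90, .conj 63, .conj
    49, .conj 86, .conj 60, .conj 47, .conj 85, .conj 59, .conj 101, .conj 94, .conj 71, .comm 6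
    235 136, .conj 136, .conj 143, .conj 166, .conj 150, .conj 177, .conj 137, .conj 144, .conj
    167, .conj 151, .conj 130, .conj 126, .conj 123, .conj 121, .conj 120, .conj 66, .conj 103,
    .conj 96, .conj 73, .conj 89, .conj 62, .conj 102, .conj 95, .conj 72, .conj 88, .conj 109,
    .conj 113, .conj 116, .conj 118, .conj 119, .comm 6 174 26, .conj 26, .conj 40, .conj 81,
    .conj 107, .conj 111, .conj 114, .conj 171, .conj 186, .conj 206, .conj 194, .conj 210, .conj
    229, .conj 221, .conj 215, .conj 200, .conj 213, .conj 199, .conj 158, .conj 132, .conj 128,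
    .conj 125, .conj 68, .conj 53, .conj 33, .conj 45, .conj 29, .conj 10, .conj 18, .conj 24,
    .comm 6 206 58, .conj 58, .conj 46, .conj 84, .conj 108, .conj 112, .conj 115, .conj 117,
    .conj 172, .conj 187, .conj 152, .conj 178, .conj 191, .conj 209, .conj 196, .conj 156, .conj
    181, .conj 193, .conj 155, .conj 131, .conj 127, .conj 124, .conj 122, .conj 67, .conj 52,
    .conj 87, .conj 61, .conj 48, .conj 30, .conj 43]

/-- derivation for `E8` over two elements -/
def e8TwoSteps : List GStep :=
  [.conj 0, .conj 15, .conj 21, .conj 36, .conj 78, .conj 105, .conj 169, .conj 184, .conj 204,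
    .conj 226, .conj 234, .conj 235, .conj 236, .conj 237, .conj 238, .conj 239, .conj 224, .conj
    218, .conj 203, .conj 161, .conj 134, .conj 70, .conj 55, .conj 35, .conj 13, .conj 5, .conj
    4, .conj 3, .conj 2, .comm 0 235 110, .conj 110, .conj 170, .conj 185, .conj 205, .conj 227,
    .conj 219, .conj 233, .conj 232, .conj 225, .conj 231, .conj 223, .conj 217, .conj 202, .conj
    160, .conj 133, .conj 129, .conj 69, .conj 54, .conj 34, .conj 12, .conj 20, .conj 6, .conj 7,
    .conj 14, .conj 8, .conj 16, .conj 22, .conj 37, .conj 79, .comm 0 236 114, .conj 114, .conj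
    171, .conj 186, .conj 206, .conj 194, .conj 210, .conj 229, .conj 221, .conj 215, .conj 200,
    .conj 213, .conj 199, .conj 158, .conj 132, .conj 128, .conj 125, .conj 68, .conj 53, .conj
    33, .conj 45, .conj 29, .conj 10, .conj 18, .conj 24, .conj 39, .conj 26, .conj 40, .conj 81,
    .conj 107, .comm 0 237 117, .conj 117, .conj 172, .conj 187, .conj 152, .conj 178, .conj 191,
    .conj 209, .conj 196, .conj 156, .conj 181, .conj 193, .conj 155, .conj 131, .conj 127, .conj
    124, .conj 122, .conj 67, .conj 52, .conj 87, .conj 61, .conj 48, .conj 30, .conj 43, .conj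
    83, .conj 58, .conj 46, .conj 84, .conj 108, .conj 112, .comm 0 238 119, .conj 119, .conj 173,
    .conj 136, .conj 143, .conj 166, .conj 150, .conj 177, .conj 137, .conj 144, .conj 167, .conj
    151, .conj 130, .conj 126, .conj 123, .conj 121, .conj 120, .conj 66, .conj 103, .conj 96,
    .conj 73, .conj 89, .conj 62, .conj 102, .conj 95, .conj 72, .conj 88, .conj 109, .conj 113,
    .conj 116, .comm 0 233 99, .conj 99, .conj 163, .conj 147, .conj 174, .conj 188, .conj 207,
    .conj 228, .conj 220, .conj 214, .conj 230, .conj 222, .conj 216, .conj 201, .conj 159, .conj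
    183, .conj 140, .conj 76, .conj 92, .conj 65, .conj 51, .conj 32, .conj 11, .conj 19, .conj
    25, .conj 9, .conj 17, .conj 23, .conj 38, .conj 80, .comm 0 232 93, .conj 93, .conj 141,
    .conj 164, .conj 148, .conj 175, .conj 189, .conj 208, .conj 195, .conj 211, .conj 197, .conj
    212, .conj 198, .conj 157, .conj 182, .conj 139, .conj 146, .conj 98, .conj 75, .conj 91,
    .conj 64, .conj 50, .conj 31, .conj 44, .conj 28, .conj 42, .conj 27, .conj 41, .conj 82,
    .conj 57, .comm 0 225 71, .conj 71, .conj 162, .conj 135, .conj 142, .conj 165, .conj 149,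
    .conj 176, .conj 190, .conj 153, .conj 179, .conj 192, .conj 154, .conj 180, .conj 138, .conj
    145, .conj 168, .conj 77, .conj 104, .conj 97, .conj 74, .conj 90, .conj 63, .conj 49, .conj
    86, .conj 60, .conj 47, .conj 85, .conj 59, .conj 101]

end Cfsg.Agent.Chev.TwoGenCert
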