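import Cfsg.Agent.Lib.Lie.ChevUnip2

/-!
# Words in the fundamental reflections and the monomial subgroup

`N = H · {n_w}`; a word fixing the positive roots lifts to an element of `H` (deletion argument), whence
`B ∩ N = H` and `U ∩ N = 1`.
-/

set_option autoImplicit false

namespace Cfsg.Agent.Chev

open Cfsg.Lie
open Matrix hiding zpow_mul inv_zpow mul_inv_rev zpow_add zpow_neg

namespace Tab

variable {T : Tab} {F : Type*} [Field F]

/-- The action of a word in the fundamental reflections on roots. -/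
def rw' (T : Tab) (L : List ℕ) (s : ℕ) : ℕ := L.foldr T.ref s

@[simp] theorem rw'_nil (s : ℕ) : T.rw' [] s = s := rfl

@[simp] theorem rw'_cons (i : ℕ) (L : List ℕ) (s : ℕ) : T.rw' (i :: L) s = T.ref i (T.rw' L s) := rfl

theorem rw'_append (A B : List ℕ) (s : ℕ) : T.rw' (A ++ B) s = T.rw' A (T.rw' B s) := by
  simp [rw', List.foldr_append]

/-- A word with letters below the rank. -/
def Wd (T : Tab) (L : List ℕ) : Prop := ∀ i ∈ L, i < T.l

theorem Wd.cons_iff {i : ℕ} {L : List ℕ} : T.Wd (i :: L) ↔ i < T.l ∧ T.Wd L := by simp [Wd]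

theorem Wd.append_iff {A B : List ℕ} : T.Wd (A ++ B) ↔ T.Wd A ∧ T.Wd B := by
  simp [Wd, or_imp, forall_and]

theorem Wd.reverse {L : List ℕ} (h : T.Wd L) : T.Wd L.reverse := fun i hi => h i (List.mem_reverse.1 hi)

theorem rw'_lt (g : T.Good) : ∀ {L : List ℕ}, T.Wd L → ∀ {s : ℕ}, s < T.n → T.rw' L s < T.n
  | [], _, _, hs => hs
  | i :: L, h, _, hs => g.ref_lt (Wd.cons_iff.1 h).1 (rw'_lt g (Wd.cons_iff.1 h).2 hs)

theorem rw'_neg (g : T.Good) : ∀ {L : List ℕ}, T.Wd L → ∀ {s : ℕ}, s < T.n →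
    T.rw' L (T.neg s) = T.neg (T.rw' L s)
  | [], _, _, _ => rfl
  | i :: L, h, _, hs => by
    obtain ⟨hi, hL⟩ := Wd.cons_iff.1 h
    rw [rw'_cons, rw'_neg g hL hs, g.ref_neg hi (rw'_lt g hL hs), rw'_cons]

theorem rw'_rev (g : T.Good) : ∀ {L : List ℕ}, T.Wd L → ∀ {s : ℕ}, s < T.n →
    T.rw' L.reverse (T.rw' L s) = s
  | [], _, _, _ => rfl
  | i :: L, h, s, hs => by
    obtain ⟨hi, hL⟩ := Wd.cons_iff.1 h
    rw [List.reverse_cons, rw'_append, rw'_cons, rw'_cons, rw'_nil,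
      g.ref_ref hi (rw'_lt g hL hs), rw'_rev g hL hs]

/-- The product `n_{i_1} ⋯ n_{i_k}`. -/
noncomputable def nWd (g : T.Good) (F : Type*) [Field F] (L : List ℕ) : GL T.D.Idx F :=
  (L.map fun i => nG g F i).prod

@[simp] theorem nWd_nil (g : T.Good) : nWd g F [] = 1 := rfl

theorem nWd_cons (g : T.Good) (i : ℕ) (L : List ℕ) : nWd g F (i :: L) = nG g F i * nWd g F L := by
  simp [nWd]

theorem nWd_append (g : T.Good) (A B : List ℕ) : nWd g F (A ++ B) = nWd g F A * nWd g F B := by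
  simp [nWd]

theorem nWd_mem_wSub (g : T.Good) {L : List ℕ} (h : T.Wd L) : nWd g F L ∈ wSub g F := by
  refine Subgroup.list_prod_mem _ fun y hy => ?_
  obtain ⟨i, hi, rfl⟩ := List.mem_map.1 hy
  exact nG_mem_wSub g (h i hi)

theorem nWd_conj (g : T.Good) : ∀ {L : List ℕ}, T.Wd L → ∀ {s : ℕ}, s < T.n →
    ∃ ε : Fˣ, ε * ε = 1 ∧ ∀ t : F,
      nWd g F L * xg g s t * (nWd g F L)⁻¹ = xg g (T.rw' L s) ((ε : F) * t) ∧
      nWd g F L * xg g (T.neg s) t * (nWd g F L)⁻¹ = xg g (T.neg (T.rw' L s)) ((ε : F) * t)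
  | [], _, s, _ => ⟨1, by simp, fun t => by simp⟩
  | i :: L, h, s, hs => by
    obtain ⟨hi, hL⟩ := Wd.cons_iff.1 h
    obtain ⟨ε, hε, ih⟩ := nWd_conj g hL hs
    have hu := rw'_lt g hL hs
    obtain ⟨η, hη⟩ : ∃ u : Fˣ, (u : F) = (T.eta i (T.rw' L s) : F) :=
      ⟨⟨_, _, eta_sq T i _, eta_sq T i _⟩, rfl⟩
    refine ⟨η * ε, ?_, fun t => ⟨?_, ?_⟩⟩
    · refine Units.ext ?_
      have h1 : (ε : F) * ε = 1 := by rw [← Units.val_mul, hε, Units.val_one]
      have h2 := eta_sq (F := F) T i (T.rw' L s)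
      simp only [Units.val_mul, Units.val_one, hη]
      linear_combination ((ε : F) * ε) * h2 + h1
    · rw [nWd_cons, show ∀ a b x : GL T.D.Idx F, a * b * x * (a * b)⁻¹ = a * (b * x * b⁻¹) * a⁻¹
        from fun a b x => by group, (ih t).1, nG_conj g hi hu, rw'_cons, Units.val_mul, hη, mul_assoc]
    · rw [nWd_cons, show ∀ a b x : GL T.D.Idx F, a * b * x * (a * b)⁻¹ = a * (b * x * b⁻¹) * a⁻¹
        from fun a b x => by group, (ih t).2, nG_conj g hi (neg_lt hu), g.eta_neg hi hu,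
        g.ref_neg hi hu, rw'_cons, Units.val_mul, hη, mul_assoc]

theorem nWd_col (g : T.Good) : ∀ {L : List ℕ}, T.Wd L → ∀ {s : ℕ}, s < T.n →
    ∃ u : Fˣ, (nWd g F L : Matrix T.D.Idx T.D.Idx F) *ᵥ bas T F (T.l + s) =
      (u : F) • bas T F (T.l + T.rw' L s)
  | [], _, s, _ => ⟨1, by simp⟩
  | i :: L, h, s, hs => by
    obtain ⟨hi, hL⟩ := Wd.cons_iff.1 h
    obtain ⟨u, ih⟩ := nWd_col g hL hs
    refine ⟨u * ⟨_, _, eta_sq T i (T.rw' L s), eta_sq T i (T.rw' L s)⟩, ?_⟩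
    rw [nWd_cons, Units.val_mul, ← mulVec_mulVec, ih, mulVec_smul,
      nG_col_root g hi (rw'_lt g hL hs), smul_smul, rw'_cons, Units.val_mul]

theorem torus_pass (g : T.Good) {ω : GL T.D.Idx F} (hω : ω ∈ wSub g F) (c : ℕ → Fˣ) :
    ∃ d, ω * tor T F c = tor T F d * ω := by
  obtain ⟨d, hd⟩ := wSub_conj_torus g hω c
  exact ⟨d, by rw [← hd]; group⟩

theorem hS_eq_tor (i : ℕ) (u : Fˣ) : hS T F i u = tor T F (Pi.mulSingle i u) := rfl

/-- Deletion: if `w` sends `p_i` to a negative root then `w s_i` is a shorter word. -/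
theorem deletion (g : T.Good) {L : List ℕ} (hL : T.Wd L) {i : ℕ} (hi : i < T.l)
    (h : T.rw' L (T.smp i) < T.N) :
    ∃ A j B, L = A ++ j :: B ∧ T.rw' B (T.smp i) = T.smp j ∧
      ∃ c, nWd g F L * nG g F i = tor T F c * nWd g F (A ++ B) := by
  induction L with
  | nil => exact absurd (g.smp_ge hi) (by simp only [rw'_nil] at h; omega)
  | cons k L ih =>
    obtain ⟨hk, hL'⟩ := Wd.cons_iff.1 hL
    by_cases h' : T.rw' L (T.smp i) < T.N
    · obtain ⟨A, j, B, rfl, hB, c, hc⟩ := ih hL' h'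
      obtain ⟨d, hd⟩ := torus_pass g (nG_mem_wSub (F := F) g hk) c
      refine ⟨k :: A, j, B, rfl, hB, d, ?_⟩
      rw [nWd_cons, mul_assoc, hc, ← mul_assoc, hd, mul_assoc, ← nWd_cons, List.cons_append]
    · have hu := rw'_lt g hL' (g.smp_lt hi)
      have he : T.rw' L (T.smp i) = T.smp k := by
        by_contra hne
        have := g.ref_pos hk hu (not_lt.1 h') hne
        rw [rw'_cons] at h
        omega
      refine ⟨[], k, L, rfl, he, ?_⟩
      obtain ⟨ε, hε, hconj⟩ := nWd_conj (F := F) g hL' (g.smp_lt hi)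
      have hε' : (ε : F) * ε = 1 := by rw [← Units.val_mul, hε, Units.val_one]
      have hmove : nWd g F L * nG g F i = hS T F k ε * nG g F k * nWd g F L := by
        rw [← nE_simple g hk ε, ← mul_inv_eq_iff_eq_mul, nG,
          show ∀ a x y z : GL T.D.Idx F, a * (x * y * z) * a⁻¹ = (a * x * a⁻¹) * (a * y * a⁻¹) *
            (a * z * a⁻¹) from fun a x y z => by group, (hconj 1).1, (hconj (-1)).2, he, mul_one]
        congr 3
        rw [mul_neg_one, neg_inj]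
        exact eq_inv_of_mul_eq_one_left hε'
      rw [nWd_cons, mul_assoc, hmove, ← mul_assoc, ← mul_assoc, nG_hS g hk, mul_assoc (hS T F k ε⁻¹),
        nG_sq g hk, ← hS_mul, hS_eq_tor]
      exact ⟨_, by rw [List.nil_append]⟩

theorem rw'_of_nWd_eq (g : T.Good) {L M : List ℕ} (hL : T.Wd L) (hM : T.Wd M) {c d : ℕ → Fˣ}
    (h : tor T F c * nWd g F L = tor T F d * nWd g F M) {s : ℕ} (hs : s < T.n) :
    T.rw' L s = T.rw' M s := by
  obtain ⟨u, hu⟩ := nWd_col (F := F) g hL hs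
  obtain ⟨v, hv⟩ := nWd_col (F := F) g hM hs
  have h' := congrArg (fun X : GL T.D.Idx F =>
    (X : Matrix T.D.Idx T.D.Idx F) *ᵥ bas T F (T.l + s)) h
  simp only [Units.val_mul, ← mulVec_mulVec, hu, hv, mulVec_smul, tor_apply, dg_col_root g,
    smul_smul] at h'
  obtain ⟨a, ha⟩ := exists_code g (show T.l + T.rw' L s < T.l + T.n by
    have := rw'_lt g hL hs; omega)
  have h'' := congrFun h' a
  simp only [Pi.smul_apply, smul_eq_mul, bas, ha, if_true, mul_one] at h''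
  by_contra hne
  rw [if_neg (by omega), mul_zero] at h''
  exact mul_ne_zero (Units.ne_zero _) (Units.ne_zero _) h''

/-- A word fixing the set of positive roots lifts to an element of `H` and fixes every root. -/
theorem nWd_torus_of_pos (g : T.Good) : ∀ (m : ℕ) {L : List ℕ}, L.length ≤ m → T.Wd L →
    (∀ s, T.N ≤ s → s < T.n → T.N ≤ T.rw' L s) →
    (∃ c, nWd g F L = tor T F c) ∧ ∀ s < T.n, T.rw' L s = s := by
  intro m
  induction m with
  | zero =>
    intro L hlen _ _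
    obtain rfl := List.length_eq_zero_iff.1 (Nat.le_zero.1 hlen)
    exact ⟨⟨1, by simp⟩, fun s _ => rfl⟩
  | succ m ih =>
    intro L hlen hL hpos
    rcases List.eq_nil_or_concat L with rfl | ⟨L', i, hLe⟩
    · exact ⟨⟨1, by simp⟩, fun s _ => rfl⟩
    rw [List.concat_eq_append] at hLe
    subst hLe
    obtain ⟨hL', hi'⟩ := Wd.append_iff.1 hL
    have hi : i < T.l := hi' i List.mem_cons_self
    have hneg : T.rw' L' (T.smp i) < T.N := by
      have h1 := hpos _ (g.smp_ge hi) (g.smp_lt hi)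
      rw [rw'_append, rw'_cons, rw'_nil, g.ref_smp hi, rw'_neg g hL' (g.smp_lt hi),
        N_le_neg_iff (rw'_lt g hL' (g.smp_lt hi))] at h1
      exact h1
    obtain ⟨A, j, B, rfl, -, c, hc⟩ := deletion (F := F) g hL' hi hneg
    obtain ⟨hA, hjB⟩ := Wd.append_iff.1 hL'
    have hAB : T.Wd (A ++ B) := Wd.append_iff.2 ⟨hA, (Wd.cons_iff.1 hjB).2⟩
    have e : nWd g F (A ++ j :: B ++ [i]) = tor T F c * nWd g F (A ++ B) := by
      rw [nWd_append, nWd_cons, nWd_nil, mul_one, hc]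
    have hrw : ∀ s < T.n, T.rw' (A ++ j :: B ++ [i]) s = T.rw' (A ++ B) s := fun s hs =>
      rw'_of_nWd_eq g hL hAB (c := 1) (d := c) (by rw [map_one, one_mul, e]) hs
    obtain ⟨⟨d, hd⟩, hfix⟩ := ih (L := A ++ B)
      (by simp only [List.length_append, List.length_cons, List.length_nil] at hlen ⊢; omega) hAB
      (fun s h1 h2 => hrw s h2 ▸ hpos s h1 h2)
    exact ⟨⟨c * d, by rw [e, hd, map_mul]⟩, fun s hs => (hrw s hs).trans (hfix s hs)⟩

/-- The elements of `N`. -/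
theorem mem_monomial_iff (g : T.Good) {x : GL T.D.Idx F} :
    x ∈ T.D.monomialSubgroup F ↔ ∃ L, T.Wd L ∧ ∃ c, x = tor T F c * nWd g F L := by
  rw [monomialSubgroup_eq g]
  constructor
  · intro hx
    rw [← Subgroup.closure_eq (tor T F).range, wSub, ← Subgroup.closure_union] at hx
    refine Subgroup.closure_induction_left (p := fun x _ => ∃ L, T.Wd L ∧ ∃ c, x = tor T F c * nWd g F L)
      ⟨[], by simp [Wd], 1, by simp⟩ ?_ ?_ hx
    · rintro y hy z _ ⟨L, hL, c, rfl⟩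
      rcases hy with ⟨d, rfl⟩ | ⟨i, hi, rfl⟩
      · exact ⟨L, hL, d * c, by rw [map_mul, mul_assoc]⟩
      · obtain ⟨d, hd⟩ := torus_pass g (nG_mem_wSub (F := F) g hi) c
        exact ⟨i :: L, Wd.cons_iff.2 ⟨hi, hL⟩, d, by rw [nWd_cons, ← mul_assoc, hd, mul_assoc]⟩
    · rintro y hy z _ ⟨L, hL, c, rfl⟩
      rcases hy with ⟨d, rfl⟩ | ⟨i, hi, rfl⟩
      · exact ⟨L, hL, d⁻¹ * c, by rw [map_mul, map_inv, mul_assoc]⟩
      · have e : (nG g F i)⁻¹ = tor T F (Pi.mulSingle i (-1)) * nG g F i := by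
          rw [← hS_eq_tor]
          refine inv_eq_of_mul_eq_one_left ?_
          rw [mul_assoc, nG_sq g hi, ← hS_mul]
          simp [hS_one]
        obtain ⟨d, hd⟩ := torus_pass g (nG_mem_wSub (F := F) g hi) c
        refine ⟨i :: L, Wd.cons_iff.2 ⟨hi, hL⟩, Pi.mulSingle i (-1) * d, ?_⟩
        rw [e, nWd_cons, map_mul]
        simp only [mul_assoc]
        rw [← mul_assoc (nG g F i), hd, mul_assoc]
  · rintro ⟨L, hL, c, rfl⟩
    exact mul_mem (Subgroup.mem_sup_left ⟨c, rfl⟩) (Subgroup.mem_sup_right (nWd_mem_wSub g hL))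

theorem mono_conj (g : T.Good) {L : List ℕ} (hL : T.Wd L) (c : ℕ → Fˣ) {s : ℕ} (hs : s < T.n) :
    ∃ v : Fˣ, ∀ t : F, (tor T F c * nWd g F L) * xg g s t * (tor T F c * nWd g F L)⁻¹ =
      xg g (T.rw' L s) ((v : F) * t) := by
  obtain ⟨ε, -, h⟩ := nWd_conj (F := F) g hL hs
  refine ⟨wt T F c (T.rw' L s) * ε, fun t => ?_⟩
  rw [show ∀ a b x : GL T.D.Idx F, a * b * x * (a * b)⁻¹ = a * (b * x * b⁻¹) * a⁻¹ from
    fun a b x => by group, (h t).1, tor_xg g c (rw'_lt g hL hs), Units.val_mul, mul_assoc]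

theorem borel_diag_ne_zero (g : T.Good) {x : GL T.D.Idx F} (hx : x ∈ T.D.borelSubgroup F)
    (b : T.D.Idx) : (x : Matrix T.D.Idx T.D.Idx F) b b ≠ 0 := by
  obtain ⟨u, hu, c, rfl⟩ := (mem_borel_iff g).1 hx
  rw [Units.val_mul, tor_apply, dg_val, Matrix.mul_diagonal, pos_UT g hu b b le_rfl,
    Matrix.one_apply_eq, one_mul]
  rcases b with b | b <;> simp [dgv]

theorem borel_inf_monomial (g : T.Good) {x : GL T.D.Idx F} (hx : x ∈ T.D.borelSubgroup F)
    (hx' : x ∈ T.D.monomialSubgroup F) : x ∈ T.D.diagonalSubgroup F := by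
  obtain ⟨L, hL, c, rfl⟩ := (mem_monomial_iff g).1 hx'
  have hfix : ∀ s < T.n, T.rw' L s = s := by
    intro s hs
    obtain ⟨u, hu⟩ := nWd_col (F := F) g hL hs
    obtain ⟨a, ha⟩ := exists_code g (show T.l + s < T.l + T.n by omega)
    have h := borel_diag_ne_zero g hx a
    rw [apply_eq_col g ((tor T F c * nWd g F L : GL T.D.Idx F) : Matrix T.D.Idx T.D.Idx F) a a, ha,
      Units.val_mul, ← mulVec_mulVec, hu, mulVec_smul, tor_apply, dg_col_root g] at h
    by_contra hne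
    exact h (by simp [bas, ha, show s ≠ T.rw' L s from fun e => hne e.symm])
  obtain ⟨⟨d, hd⟩, -⟩ := nWd_torus_of_pos (F := F) g L.length le_rfl hL
    (fun s h1 h2 => by rw [hfix s h2]; exact h1)
  rw [diagonalSubgroup_eq g]
  exact ⟨c * d, by rw [map_mul, hd]⟩

theorem pos_inf_monomial (g : T.Good) {x : GL T.D.Idx F} (hx : x ∈ genS g F (Set.Ico T.N T.n))
    (hx' : x ∈ T.D.monomialSubgroup F) : x = 1 := by
  refine pos_inf_torus g hx (borel_inf_monomial g ?_ hx')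
  exact Subgroup.mem_sup_left (by rw [posUnipotent_eq g]; exact hx)

end Tab

end Cfsg.Agent.Chev
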