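/-
Multipliers of types E6, E7, E8.
-/
import Cfsg.Agent.Lib.Lie.CovCenter
import Cfsg.Agent.Lib.Lie.CovSimplyLaced
import Cfsg.Agent.Lib.Schur.PerfectQuot

set_option autoImplicit false
set_option maxRecDepth 8000

namespace Cfsg.Agent.Chev

open Cfsg.Lie

/-- The multiplier of `E₈(q)`. -/
theorem mult_group_e8 {F : Type*} [Field F] [Finite F] :
    Cfsg.HasCyclicSchurMultiplier ↥(chevE8.group F) 1 := by
  obtain ⟨e⟩ := exists_cover_equiv_group (F := F) (D := chevE8) (by simp)
  exact mult_one_of_lift e fun X _ ξ hξ hc => exists_cover_lift_sl (by simp) ξ hξ hc e.toMonoidHom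

theorem finite_steinberg_e67 {F : Type*} [Field F] [Finite F] {p : ChevalleyDatum × ℕ}
    (hp : p ∈ [(chevE6, 3), (chevE7, 2)]) : Finite (p.1.SteinbergGroup F) := by
  obtain ⟨T, K, W, g, hT, U, C, P, -, h⟩ := exists_center_data hp
  rw [← hT]
  exact Tab.finite_steinbergGroup g h

/-- The universal groups of types E6 and E7 have trivial multiplier. -/
theorem mult_steinberg_e67 {F : Type*} [Field F] [Finite F] {p : ChevalleyDatum × ℕ}
    (hp : p ∈ [(chevE6, 3), (chevE7, 2)]) : Cfsg.HasCyclicSchurMultiplier (p.1.SteinbergGroup F) 1 := by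
  have := finite_steinberg_e67 (F := F) hp
  obtain ⟨T, K, W, g, hT, -⟩ := exists_center_data hp
  have hD : p.1 ∈ [chevE6, chevE7, chevE8] := by
    simp only [List.mem_cons, List.not_mem_nil, or_false] at hp
    rcases hp with rfl | rfl <;> simp
  rw [← hT] at hD this ⊢
  exact mult_one_of_lift (MulEquiv.ofBijective (Tab.Cov.proj T F) (Tab.Cov.proj_bijective g))
    fun X _ ξ hξ hc => exists_cover_lift_sl hD ξ hξ hc _

/-- The multipliers of `E₆(q)` and `E₇(q)`. -/
theorem mult_group_e67 {F : Type*} [Field F] [Fintype F] {p : ChevalleyDatum × ℕ}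
    (hp : p ∈ [(chevE6, 3), (chevE7, 2)]) :
    Cfsg.HasCyclicSchurMultiplier ↥(p.1.group F) (Nat.gcd p.2 (Fintype.card F - 1)) := by
  have hfin := finite_steinberg_e67 (F := F) hp
  have h1 := mult_steinberg_e67 (F := F) hp
  have hD : p.1 ∈ [chevG2, chevB2, chevD4, chevF4, chevE6, chevE7, chevE8] := by
    simp only [List.mem_cons, List.not_mem_nil, or_false] at hp
    rcases hp with rfl | rfl <;> simp
  have hperfC := cover_perfect (F := F) hD (fun h => by
    simp only [List.mem_cons, List.not_mem_nil, or_false] at hp h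
    rcases hp with rfl | rfl <;> rcases h with h | h <;>
      exact absurd (congrArg ChevalleyDatum.rank h) (by decide +kernel))
  obtain ⟨T, K, W, g, hT, U, C, P, hCd, hc⟩ := exists_center_data hp
  rw [← hT] at hperfC h1 hfin ⊢
  have hperf : commutator (T.D.SteinbergGroup F) = ⊤ := by
    rw [← Subgroup.map_top_of_surjective _ (Tab.Cov.proj_surjective (T := T) (F := F)), ← hperfC,
      commutator_def, commutator_def, Subgroup.map_commutator,
      Subgroup.map_top_of_surjective _ (Tab.Cov.proj_surjective (T := T) (F := F))]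
  have hker : (Tab.θG g.toGoodA F).ker = Subgroup.center (T.D.SteinbergGroup F) := by
    rw [Tab.θG_ker, Tab.ker_eq_center g]
  obtain ⟨hcyc, hcard⟩ := Tab.center_cyclic (F := F) g hc
  rw [← hker] at hcyc hcard
  rw [hCd, Nat.gcd_comm] at hcard
  refine Schur.hasSchurMultiplier_of_perfect hperf h1 (Tab.θG g.toGoodA F)
    (Tab.θG_surjective g.toGoodA) hker.le (mulEquivOfCyclicCardEq ?_)
  rw [hcard]
  rw [Nat.card_congr (Multiplicative.toAdd), Nat.card_zmod]

end Cfsg.Agent.Chev
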