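/-
The multiplier of `F₄(q)` for `q ≥ 3`.
-/
import Cfsg.Agent.Lib.Lie.CovUniversalGen
import Cfsg.Agent.Lib.Lie.CovMult

set_option autoImplicit false
set_option maxRecDepth 8000

namespace Cfsg.Agent.Chev

open Cfsg.Lie

/-- certificate for pairs of roots: moved by the torus, or reached by a commutator formula -/
def Tab.checkPairF4 (T : Tab) : Bool :=
  allBelow (fun i => allBelow (fun s =>
    Nat.beq s (T.smp i) || Nat.beq s (T.neg (T.smp i)) || T.movedK 1 i s ||
      anyBelow (fun p => anyBelow (fun q =>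
        T.offRoot (T.smp i) p && T.offRoot (T.smp i) q && !Nat.beq q p && !Nat.beq q (T.neg p) &&
        anyBelow (fun m =>
          match (T.cTerms p q).drop m with
          | (k, C, a, b) :: rest =>
            Nat.beq k s && Nat.beq C.natAbs 1 && (Nat.beq a 1 || Nat.beq b 1) &&
              ((T.cTerms p q).take m ++ rest).all fun d => T.offRoot (T.smp i) d.1 && T.movedK 1 i d.1
          | [] => false) 4) T.n) T.n) T.n) T.l

theorem exists_f4_checks : ∃ T : Tab, ∃ K W, T.GoodW K W ∧ T.D = chevF4 ∧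
    T.checkPairF4 = true ∧
    allBelow (fun i => anyBelow (fun j => Nat.beq (T.A j (T.smp i)).natAbs 1) T.l) T.l = true ∧
    allBelow (fun i => anyBelow (fun p => anyBelow (fun q =>
      T.offRoot (T.smp i) p && T.offRoot (T.smp i) q && !Nat.beq q p && !Nat.beq q (T.neg p) &&
      anyBelow (fun m =>
        match (T.cTerms p q).drop m with
        | (k, C, a, b) :: rest =>
          Nat.beq k (T.smp i) && Nat.beq C.natAbs 1 && (Nat.beq a 1 || Nat.beq b 1) &&
            ((T.cTerms p q).take m ++ rest).all fun d => T.offRoot (T.smp i) d.1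
        | [] => false) 4) T.n) T.n) T.l = true :=
  ⟨F4Data.tab, [[2, 3, 4, 2], [3, 6, 8, 4], [2, 4, 6, 3], [1, 2, 3, 2]],
    [(7, 44, 0), (3, 45, 0), (0, 39, 1), (1, 47, 0)],
    ⟨⟨⟨F4Data.good, by decide +kernel⟩, by decide +kernel⟩, by decide +kernel⟩, rfl,
    by decide +kernel, by decide +kernel, by decide +kernel⟩

/-- universality for type F4 over a field with more than two elements -/
theorem exists_cover_lift_f4 {F : Type*} [Field F] (hF : ∃ x : F, x ≠ 0 ∧ x ≠ 1) {G₁ E : Type*}
    [Group G₁] [Group E] (π₁ : E →* G₁) (hπ : Function.Surjective π₁) (hc : π₁.ker ≤ Subgroup.center E)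
    (σ : chevF4.SteinbergCover F →* G₁) : ∃ τ : chevF4.SteinbergCover F →* E, π₁.comp τ = σ := by
  have hperf := cover_perfect (F := F) (D := chevF4) (by simp) (fun _ => hF)
  obtain ⟨T, K, W, g, hT, hmv, hodd, hwit⟩ := exists_f4_checks
  revert σ hperf
  rw [← hT]
  intro σ hperf
  refine exists_lift_of_lifts g hperf π₁ hπ hc σ fun P π X => ?_
  have hp := Tab.Cov.powNe_one hF
  have hpair := Tab.Cov.pairMove_all X g fun i hi s hs h1 h2 => by
    have hg := g.toGood
    have h := allBelow_eq_true.1 (allBelow_eq_true.1 hmv i hi) s hs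
    simp only [Bool.or_eq_true, nat_beq] at h
    rcases h with ((h | h) | h) | h
    · exact absurd h h1
    · exact absurd h h2
    · exact Tab.Cov.pairMove_of_moved X g hp hi hs h
    obtain ⟨p, hpn, h⟩ := anyBelow_eq_true.1 h
    obtain ⟨q, hqn, h⟩ := anyBelow_eq_true.1 h
    simp only [Bool.and_eq_true, Bool.not_eq_true', nat_beq_false] at h
    obtain ⟨⟨⟨⟨e1, e2⟩, e3⟩, e4⟩, h⟩ := h
    obtain ⟨m, -, h⟩ := anyBelow_eq_true.1 h
    split at h
    swap
    · simp at h
    rename_i k C a b rest hdrop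
    simp only [Bool.and_eq_true, nat_beq, Bool.or_eq_true, List.all_eq_true] at h
    obtain ⟨⟨⟨hk, hC⟩, hlin⟩, hrest⟩ := h
    have he : T.cTerms p q = (T.cTerms p q).take m ++ (k, C, a, b) :: rest := by
      rw [← hdrop, List.take_append_drop]
    have hr := hg.smp_lt hi
    refine Or.inr fun t u => Tab.Cov.cm_witG X g hpn hqn e3 e4 he hk hC hlin
      (Tab.Cov.offRoot_commute hg hr hpn e1).2.2 (Tab.Cov.offRoot_commute hg hr hqn e2).2.2 (fun d hd => ?_) t u
    obtain ⟨hd1, hd2⟩ := hrest d hd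
    have hdn : d.1 < T.n := (Tab.cTerms_mem hg hpn hqn (c := d) (by
      rw [he]; rcases List.mem_append.1 hd with h | h <;> simp [h])).1
    exact Tab.Cov.cm_eq_one_of_move X hg (Tab.Cov.pairMove_of_moved X g hp hi hdn hd2)
      (Tab.Cov.offRoot_commute hg hr hdn hd1).2.2
  have hsc := Tab.Cov.selfComm_of_check X g hpair T.offRoot
    (fun r hr p hp' h => Tab.Cov.offRoot_commute g.toGood hr hp' h) hwit
  have htm := Tab.Cov.torMove_one g hp hodd
  exact ⟨_, Tab.Cov.lifts_psiG X g htm hsc hpair⟩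

/-- The multiplier of `F₄(q)`. -/
theorem mult_group_f4 {F : Type*} [Field F] [Finite F] (hF : ∃ x : F, x ≠ 0 ∧ x ≠ 1) :
    Cfsg.HasCyclicSchurMultiplier ↥(chevF4.group F) 1 := by
  obtain ⟨e⟩ := exists_cover_equiv_group (F := F) (D := chevF4) (by simp)
  exact mult_one_of_lift e fun X _ ξ hξ hc => exists_cover_lift_f4 hF ξ hξ hc e.toMonoidHom

end Cfsg.Agent.Chev
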