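/-
Lifting projective representations of the cover in the natural characteristic.
-/
import Cfsg.Agent.Lib.Lie.CovExtension
import Mathlib.LinearAlgebra.Matrix.GeneralLinearGroup.Basic

set_option autoImplicit false

namespace Cfsg.Agent.Chev

open Cfsg.Lie
open scoped commutatorElement MatrixGroups

namespace ProjLift

/-- some power `p ^ N` kills `x` -/
def IsPEl (p : ℕ) {G : Type*} [Monoid G] (x : G) : Prop := ∃ N : ℕ, x ^ p ^ N = 1

theorem IsPEl.map {p : ℕ} {G H : Type*} [Monoid G] [Monoid H] (f : G →* H) {x : G} (hx : IsPEl p x) :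
    IsPEl p (f x) := by
  obtain ⟨N, h⟩ := hx
  exact ⟨N, by rw [← map_pow, h, map_one]⟩

theorem IsPEl.mul {p : ℕ} {G : Type*} [Monoid G] {x y : G} (h : Commute x y) (hx : IsPEl p x)
    (hy : IsPEl p y) : IsPEl p (x * y) := by
  obtain ⟨N, hN⟩ := hx
  obtain ⟨M, hM⟩ := hy
  refine ⟨N + M, ?_⟩
  rw [h.mul_pow]
  nth_rw 1 [pow_add]
  rw [pow_mul, hN, one_pow, one_mul, add_comm N M, pow_add, pow_mul, hM, one_pow]

theorem IsPEl.inv {p : ℕ} {G : Type*} [Group G] {x : G} (hx : IsPEl p x) : IsPEl p x⁻¹ := by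
  obtain ⟨N, h⟩ := hx
  exact ⟨N, by rw [inv_pow, h, inv_one]⟩

theorem IsPEl.conj {p : ℕ} {G : Type*} [Group G] {x : G} (hx : IsPEl p x) (e : G) :
    IsPEl p (e * x * e⁻¹) := hx.map (MulAut.conj e).toMonoidHom

theorem pow_mem_mul {G : Type*} [Group G] {H : Subgroup G} {a y : G}
    (ha : a ∈ Subgroup.normalizer (H : Set G)) (hy : y ∈ H) :
    ∀ j : ℕ, ∃ h ∈ H, (a * y) ^ j = a ^ j * h
  | 0 => ⟨1, one_mem _, by simp⟩
  | j + 1 => by
    obtain ⟨h, hh, e⟩ := pow_mem_mul ha hy j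
    refine ⟨a⁻¹ * h * a * y, mul_mem ?_ hy, ?_⟩
    · have := (Subgroup.mem_normalizer_iff.1 (inv_mem ha) h).1 hh
      simpa using this
    · rw [pow_succ, e, pow_succ]
      group

variable {n : ℕ} {L : Type*} [Field L] {p : ℕ} [Fact p.Prime] [CharP L p]

theorem central_pel {z : GL (Fin n) L} (hz : z ∈ Subgroup.center (GL (Fin n) L)) (h : IsPEl p z) :
    z = 1 := by
  rcases isEmpty_or_nonempty (Fin n) with hn | hn
  · exact Subsingleton.elim _ _
  rw [Matrix.GeneralLinearGroup.center_eq_range_scalar] at hz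
  obtain ⟨a, rfl⟩ := hz
  obtain ⟨N, hN⟩ := h
  have h1 : ((a : L) ^ p ^ N) = 1 := by
    have := congrArg (fun g : GL (Fin n) L => (g : Matrix (Fin n) (Fin n) L)
      (Classical.arbitrary _) (Classical.arbitrary _)) hN
    rw [← map_pow] at this
    simpa [Matrix.diagonal_pow] using this
  have ha : a = 1 := Units.ext (by
    rw [Units.val_one, ← sub_eq_zero]
    refine eq_zero_of_pow_eq_zero (n := p ^ N) ?_
    rw [sub_pow_char_pow, h1, one_pow, sub_self])
  rw [ha, map_one]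

theorem pel_unique {a b : GL (Fin n) L} (ha : IsPEl p a) (hb : IsPEl p b)
    (h : QuotientGroup.mk' (Subgroup.center (GL (Fin n) L)) a =
      QuotientGroup.mk' (Subgroup.center (GL (Fin n) L)) b) : a = b := by
  have hz : a * b⁻¹ ∈ Subgroup.center (GL (Fin n) L) := by
    rw [← QuotientGroup.ker_mk' (Subgroup.center (GL (Fin n) L)), MonoidHom.mem_ker, map_mul, map_inv,
      h, mul_inv_cancel]
  have hc : Commute a b⁻¹ := by
    have := Subgroup.mem_center_iff.1 hz b⁻¹
    rw [mul_assoc] at this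
    show a * b⁻¹ = b⁻¹ * a
    exact (mul_right_cancel (b := b⁻¹) (by rw [mul_assoc, mul_assoc]; exact this)).symm
  exact mul_inv_eq_one.1 (central_pel hz (ha.mul hc hb.inv))

theorem exists_pel_lift {X : Type*} [Group X] (hX : commutator X = ⊤)
    (σ : X →* GL (Fin n) L ⧸ Subgroup.center (GL (Fin n) L)) {x : X} (hx : IsPEl p x) :
    ∃ e : GL (Fin n) L, IsPEl p e ∧ QuotientGroup.mk' (Subgroup.center (GL (Fin n) L)) e = σ x := by
  rcases isEmpty_or_nonempty (Fin n) with hn | hn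
  · obtain ⟨e, he⟩ := QuotientGroup.mk'_surjective _ (σ x)
    exact ⟨e, ⟨0, Subsingleton.elim _ _⟩, he⟩
  obtain ⟨N, hN⟩ := hx
  have hmem : σ x ∈ (commutator (GL (Fin n) L)).map
      (QuotientGroup.mk' (Subgroup.center (GL (Fin n) L))) := by
    have h1 : σ x ∈ (commutator X).map σ := ⟨x, hX ▸ Subgroup.mem_top x, rfl⟩
    rw [commutator_def, Subgroup.map_commutator] at h1
    rw [commutator_def, Subgroup.map_commutator, Subgroup.map_top_of_surjective _
      (QuotientGroup.mk'_surjective _)]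
    exact Subgroup.commutator_mono le_top le_top h1
  obtain ⟨e, he, hex⟩ := hmem
  have hdet : Matrix.GeneralLinearGroup.det e = 1 :=
    MonoidHom.mem_ker.1 (Abelianization.commutator_subset_ker
      (Matrix.GeneralLinearGroup.det : GL (Fin n) L →* Lˣ) he)
  have hc : e ^ p ^ N ∈ Subgroup.center (GL (Fin n) L) := by
    rw [← QuotientGroup.ker_mk' (Subgroup.center (GL (Fin n) L)), MonoidHom.mem_ker, map_pow, hex,
      ← map_pow, hN, map_one]
  rw [Matrix.GeneralLinearGroup.center_eq_range_scalar] at hc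
  obtain ⟨a, ha⟩ := hc
  have han : a ^ n = 1 := by
    refine Units.ext ?_
    have := congrArg (fun g => ((Matrix.GeneralLinearGroup.det g : Lˣ) : L)) ha
    rw [map_pow, hdet, one_pow] at this
    simpa using this
  have hn0 : n ≠ 0 := by
    rintro rfl
    exact hn.elim fun i => i.elim0
  have hpos : 0 < orderOf a :=
    orderOf_pos_iff.2 (isOfFinOrder_iff_pow_eq_one.2 ⟨n, Nat.pos_of_ne_zero hn0, han⟩)
  have hp : p.Prime := Fact.out
  have hco : Nat.Coprime (p ^ N) (orderOf a) := by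
    refine Nat.Coprime.pow_left _ (hp.coprime_iff_not_dvd.2 fun ⟨k, hk⟩ => ?_)
    have hk1 : a ^ k = 1 := by
      have h1 : ((a : L) ^ k) ^ p = 1 := by
        rw [← pow_mul, mul_comm, ← hk, ← Units.val_pow_eq_pow_val, pow_orderOf_eq_one, Units.val_one]
      refine Units.ext ?_
      rw [Units.val_pow_eq_pow_val, Units.val_one, ← sub_eq_zero]
      refine eq_zero_of_pow_eq_zero (n := p) ?_
      rw [sub_pow_char, h1, one_pow, sub_self]
    have hdvd := orderOf_dvd_of_pow_eq_one hk1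
    rw [hk] at hdvd hpos
    have hk0 : 0 < k := Nat.pos_of_mul_pos_left hpos
    have h2 := Nat.le_of_dvd hk0 hdvd
    have h3 := hp.two_le
    nlinarith
  obtain ⟨m, hm⟩ := exists_pow_eq_self_of_coprime hco
  have hcen : Matrix.GeneralLinearGroup.scalar (Fin n) (a ^ m)⁻¹ ∈
      Subgroup.center (GL (Fin n) L) := by
    rw [Matrix.GeneralLinearGroup.center_eq_range_scalar]
    exact ⟨_, rfl⟩
  refine ⟨Matrix.GeneralLinearGroup.scalar (Fin n) (a ^ m)⁻¹ * e, ⟨N, ?_⟩, ?_⟩
  · rw [(Commute.symm (Subgroup.mem_center_iff.1 hcen e)).mul_pow, ← ha, ← map_pow, ← map_mul,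
      inv_pow, ← pow_mul, mul_comm m, pow_mul, hm, inv_mul_cancel, map_one]
  · rw [map_mul, (QuotientGroup.eq_one_iff _).2 hcen |> fun h =>
      (show QuotientGroup.mk' (Subgroup.center (GL (Fin n) L)) _ = 1 from h), one_mul, hex]

end ProjLift

namespace Tab

namespace Cov

open ProjLift

variable {T : Tab} {F : Type*} [Field F] {p : ℕ} [Fact p.Prime] [CharP F p]

theorem sx_pow (g : T.Good) (r : ℕ) (t : F) : ∀ j : ℕ, sx T F r t ^ j = sx T F r ((j : F) * t)
  | 0 => by simp [sx_zero g]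
  | j + 1 => by rw [pow_succ, sx_pow g r t j, sx_add g, Nat.cast_succ, add_mul, one_mul]

theorem sx_pel (g : T.Good) (r : ℕ) (t : F) : IsPEl p (sx T F r t) :=
  ⟨1, by rw [pow_one, sx_pow g, CharP.cast_eq_zero, zero_mul, sx_zero g]⟩

theorem sGen_pel (g : T.Good) : ∀ m k, T.N ≤ k → T.n ≤ k + m →
    ∀ x ∈ sGen T F (Set.Ico k T.n), IsPEl p x
  | 0, k, _, hle, x, hx =>
    sGen_induction g (p := fun x => IsPEl p x) ⟨0, one_pow _⟩
      (fun r hr => absurd hr.2 (by have := hr.1; omega)) hx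
  | m + 1, k, hk, hle, x, hx => by
    by_cases hkn : k < T.n
    swap
    · exact sGen_pel g m k hk (by omega) x hx
    obtain ⟨t, y, hy, rfl⟩ := sx_split g hk hx
    obtain ⟨h, hh, e⟩ := pow_mem_mul
      (sx_normalizes_Ico (F := F) g (k := k + 1) (r := k) (by omega) hkn hk t) hy p
    rw [sx_pow g, CharP.cast_eq_zero, zero_mul, sx_zero g, one_mul] at e
    obtain ⟨M, hM⟩ := sGen_pel g m (k + 1) (by omega) (by omega) h hh
    exact ⟨M + 1, by rw [pow_succ', pow_mul, e, hM]⟩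

end Cov

end Tab

open ProjLift in
/-- projective representations lift -/
theorem exists_proj_lift {F : Type*} [Field F] {D : ChevalleyDatum}
    (hD : D ∈ [chevG2, chevB2, chevD4, chevF4, chevE6, chevE7, chevE8])
    (hK : D ∈ [chevB2, chevG2] → ∃ x : F, x ≠ 0 ∧ x ≠ 1)
    {L : Type*} [Field L] (hL : ringChar L = ringChar F) {n : ℕ}
    (σ : D.SteinbergCover F →* GL (Fin n) L ⧸ Subgroup.center (GL (Fin n) L)) :
    ∃ ψ : D.SteinbergCover F →* GL (Fin n) L,
      (QuotientGroup.mk' (Subgroup.center (GL (Fin n) L))).comp ψ = σ := by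
  by_cases h0 : ringChar F = 0
  · have : CharP F 0 := h0 ▸ ringChar.charP F
    have : CharZero F := CharP.charP_to_charZero F
    obtain ⟨s, hs⟩ := Infinite.exists_subset_card_eq F 5
    exact exists_cover_lift (s := s) (by omega) hD _ (QuotientGroup.mk'_surjective _)
      (QuotientGroup.ker_mk' _).le σ
  obtain ⟨p, hpF⟩ : ∃ p, ringChar F = p := ⟨_, rfl⟩
  rw [hpF] at h0 hL
  have : CharP F p := hpF ▸ ringChar.charP F
  have : CharP L p := hL ▸ ringChar.charP L
  have : Fact p.Prime := ⟨(CharP.char_is_prime_or_zero F p).resolve_right h0⟩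
  have hperf := cover_perfect hD hK
  obtain ⟨T, K, W, g, rfl⟩ := exists_goodW hD
  have hg := g.toGood
  let q := QuotientGroup.mk' (Subgroup.center (GL (Fin n) L))
  have hlift : ∀ r t, ∃ e : GL (Fin n) L, IsPEl p e ∧ q e = σ (Tab.Cov.sx T F r t) := fun r t =>
    exists_pel_lift hperf σ (Tab.Cov.sx_pel hg r t)
  choose ψ hψp hψσ using hlift
  let P : Subgroup (GL (Fin n) L × T.D.SteinbergCover F) :=
    MonoidHom.eqLocus (q.comp (MonoidHom.fst _ _)) (σ.comp (MonoidHom.snd _ _))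
  let π : P →* T.D.SteinbergCover F := (MonoidHom.snd _ _).comp P.subtype
  let fst' : P →* GL (Fin n) L := (MonoidHom.fst _ _).comp P.subtype
  let ψ' : ℕ → F → P := fun r t => ⟨(ψ r t, Tab.Cov.sx T F r t), hψσ r t⟩
  have hq : ∀ x : P, q (fst' x) = σ (π x) := fun x => x.2
  have hext : ∀ x y : P, π x = π y → IsPEl p (fst' x) → IsPEl p (fst' y) → x = y := by
    intro x y h hx hy
    refine Subtype.ext (Prod.ext ?_ h)
    exact pel_unique hx hy (by show q (fst' x) = q (fst' y); rw [hq, hq, h])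
  have hL' : Tab.Cov.Lifts T π ψ' := by
    refine ⟨fun r _ t => rfl, fun r hr a b => ?_, fun i hi => ?_, fun k hk hkn hI s hks hsn t u => ?_⟩
    · have hc : Commute (ψ r a) (ψ r b) := by
        have h := hext (ψ' r b * ψ' r a * (ψ' r b)⁻¹) (ψ' r a)
          (by show Tab.Cov.sx T F r b * Tab.Cov.sx T F r a * (Tab.Cov.sx T F r b)⁻¹ = Tab.Cov.sx T F r a
              rw [Tab.Cov.sx_inv hg, Tab.Cov.sx_add hg, Tab.Cov.sx_add hg, add_neg_cancel_comm])
          ((hψp r a).conj (ψ r b)) (hψp r a)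
        have h' : ψ r b * ψ r a * (ψ r b)⁻¹ = ψ r a := congrArg fst' h
        exact (mul_inv_eq_iff_eq_mul.1 h').symm
      exact hext _ _ (Tab.Cov.sx_add hg r a b) ((hψp r a).mul hc (hψp r b)) (hψp r (a + b))
    · obtain ⟨e, he⟩ := QuotientGroup.mk'_surjective _ (σ (Tab.Cov.sn T F (T.smp i) (1 : F)))
      refine ⟨⟨(e, Tab.Cov.sn T F (T.smp i) (1 : F)), he⟩, fun s hs t => hext _ _ ?_
        ((hψp s t).conj e) (hψp _ _)⟩
      exact Tab.Cov.sn_one_conj g hi hs t
    · have hP : ∀ x ∈ Tab.Cov.lGen T ψ' (k + 1), IsPEl p (fst' x) := by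
        intro x hx
        have hπx : π x ∈ Tab.Cov.sGen T F (Set.Ico (k + 1) T.n) := by
          induction hx using Subgroup.closure_induction with
          | mem y hy =>
            obtain ⟨r, hr, a, rfl⟩ := hy
            exact Tab.Cov.sx_mem_sGen hr a
          | one => rw [map_one]; exact one_mem _
          | mul a b _ _ ha hb => rw [map_mul]; exact mul_mem ha hb
          | inv a _ ha => rw [map_inv]; exact inv_mem ha
        obtain ⟨M, hM⟩ := Tab.Cov.sGen_pel (p := p) hg T.n (k + 1) (by omega) (by omega) _ hπx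
        refine IsPEl.map fst' ⟨M, hI _ (pow_mem hx _) (by rw [map_pow, hM])⟩
      have hmem : Tab.Cov.sx T F k t * Tab.Cov.sx T F s u * (Tab.Cov.sx T F k t)⁻¹ ∈
          Tab.Cov.sGen T F (Set.Ico (k + 1) T.n) :=
        (Subgroup.mem_normalizer_iff.1 (Tab.Cov.sx_normalizes_Ico (F := F) hg (k := k + 1) (r := k)
          (by omega) hkn hk t) _).1 (Tab.Cov.sx_mem_sGen (S := Set.Ico (k + 1) T.n) ⟨hks, hsn⟩ _)
      obtain ⟨m, hm, hπm⟩ : ∃ m ∈ Tab.Cov.lGen T ψ' (k + 1),
          π m = Tab.Cov.sx T F k t * Tab.Cov.sx T F s u * (Tab.Cov.sx T F k t)⁻¹ := by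
        refine Tab.Cov.sGen_induction hg (p := fun x => ∃ m ∈ Tab.Cov.lGen T ψ' (k + 1), π m = x)
          ⟨1, one_mem _, map_one π⟩ (fun r hr a x ⟨m, hm, e⟩ =>
            ⟨ψ' r a * m, mul_mem (Tab.Cov.mem_lGen hr.1 hr.2 a) hm, ?_⟩) hmem
        rw [map_mul, e]
        rfl
      rw [hext (ψ' k t * ψ' s u * (ψ' k t)⁻¹) m hπm.symm ((hψp s u).conj (ψ k t)) (hP m hm)]
      exact hm
  obtain ⟨τ, hτ, -⟩ := hL'.exists_splitting g.toGoodA
  refine ⟨fst'.comp τ, MonoidHom.ext fun x => ?_⟩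
  have h1 := hq (τ x)
  rwa [show π (τ x) = x from DFunLike.congr_fun hτ x] at h1

end Cfsg.Agent.Chev
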