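import Cfsg.Agent.Lib.Lie.ChevPoincare

/-!
# Poincaré sums over the group generated by given words

The letters are indices of words `w b`; exponents are inversion numbers divided by `d`.
-/

set_option autoImplicit false

namespace Cfsg.Agent.Chev

open Cfsg.Lie

namespace Tab

/-- the word of a list of letters -/
def flatW (w : ℕ → List ℕ) (Ls : List ℕ) : List ℕ := Ls.flatMap w

theorem flatW_nil (w : ℕ → List ℕ) : flatW w [] = [] := rfl

theorem flatW_append (w : ℕ → List ℕ) (A B : List ℕ) : flatW w (A ++ B) = flatW w A ++ flatW w B :=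
  List.flatMap_append

theorem flatW_singleton (w : ℕ → List ℕ) (b : ℕ) : flatW w [b] = w b := by simp [flatW]

theorem flatW_cons (w : ℕ → List ℕ) (b : ℕ) (L : List ℕ) : flatW w (b :: L) = w b ++ flatW w L :=
  List.flatMap_cons

theorem mem_flatW {w : ℕ → List ℕ} {L J : List ℕ} (h : ∀ b ∈ L, b ∈ J) {i : ℕ}
    (hi : i ∈ flatW w L) : i ∈ flatW w J := by
  obtain ⟨b, hb, hib⟩ := List.mem_flatMap.1 hi
  exact List.mem_flatMap.2 ⟨b, h b hb, hib⟩

variable (T : Tab)

/-- checks on one representative -/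
def checkRepB (w : ℕ → List ℕ) (d : ℕ) (J J' : List ℕ) (D : List Rep) (r : Rep) : Bool :=
  r.word.all (fun i => memB i J') &&
  Nat.beq r.tag (keyCode (T.keyL (flatW w r.word))) &&
  Nat.beq (r.len * d)
    ((List.range' T.N (T.n - T.N)).countP fun s => Nat.blt (T.rw' (flatW w r.word) s) T.N) &&
  (List.range' T.N (T.n - T.N)).all (fun s => !T.inPhiB (flatW w J) s ||
    Nat.ble T.N (T.rw' (flatW w r.word).reverse s)) &&
  Nat.beq r.next.length J'.length &&
  (J'.zip r.next).all fun p =>
    bif p.2.1 then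
      (match D[p.2.2]? with
        | some e => listBeq (T.keyL (flatW w (r.word ++ [p.1]))) (T.keyL (flatW w e.word))
        | none => false)
    else memB p.2.2 J &&
      listBeq (T.keyL (flatW w (r.word ++ [p.1]))) (T.keyL (flatW w (p.2.2 :: r.word)))

/-- check of a step `J ⊆ J'` -/
def checkStepB (w : ℕ → List ℕ) (d : ℕ) (J J' : List ℕ) (D : List Rep) : Bool :=
  J'.all (fun b => (w b).all fun i => Nat.blt i T.l) && J.all (fun i => memB i J') &&
  D.any (fun r => r.word.isEmpty) && incB (D.map Rep.tag) && D.all (T.checkRepB w d J J' D)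

variable {T}

open scoped Classical in
/-- the elements spelled by letters in `J` -/
noncomputable def wBJ (g : T.Good) (w : ℕ → List ℕ) (J : List ℕ) : Finset (Equiv.Perm (Fin T.n)) :=
  Finset.univ.filter fun p => ∃ L, (∀ b ∈ L, b ∈ J) ∧ pL g (flatW w L) = p

theorem mem_wBJ_iff (g : T.Good) {w : ℕ → List ℕ} {J : List ℕ} {p : Equiv.Perm (Fin T.n)} :
    p ∈ wBJ g w J ↔ ∃ L, (∀ b ∈ L, b ∈ J) ∧ pL g (flatW w L) = p := by
  simp [wBJ]

/-- `Σ q^(inv/d)` -/
noncomputable def poincB (g : T.Good) (w : ℕ → List ℕ) (d : ℕ) (J : List ℕ) (q : ℕ) : ℕ :=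
  ∑ p ∈ wBJ g w J, q ^ (T.wInv p / d)

theorem poincB_nil (g : T.Good) (w : ℕ → List ℕ) (d q : ℕ) : poincB g w d [] q = 1 := by
  have e : wBJ g w [] = {pL g []} := by
    ext p
    rw [mem_wBJ_iff, Finset.mem_singleton]
    constructor
    · rintro ⟨L, hL, rfl⟩
      obtain rfl : L = [] := List.eq_nil_iff_forall_not_mem.2 fun i hi => by simpa using hL i hi
      rfl
    · rintro rfl
      exact ⟨[], by simp, rfl⟩
  rw [poincB, e, Finset.sum_singleton, wInv_pL g (by simp [Wd]),
    Finset.card_eq_zero.2, Nat.zero_div, pow_zero]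
  rw [Finset.eq_empty_iff_forall_notMem]
  intro s hs
  rw [invSet, Finset.mem_filter, Finset.mem_Ico, rw'_nil] at hs
  omega

theorem poincB_step (g : T.Good) {w : ℕ → List ℕ} {e₀ : ℕ} (he₀ : 0 < e₀) {J J' : List ℕ}
    {D : List Rep} (h : T.checkStepB w e₀ J J' D = true) (q : ℕ) :
    poincB g w e₀ J' q = (D.map fun d => q ^ d.len).sum * poincB g w e₀ J q := by
  simp only [checkStepB, Bool.and_eq_true, List.all_eq_true, nat_blt, memB_iff, List.any_eq_true]
    at h
  obtain ⟨⟨⟨⟨hl, hsub⟩, ⟨d0, hd0, hd0e⟩⟩, hinc⟩, hrep⟩ := h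
  have hd0' : d0.word = [] := List.isEmpty_iff.1 hd0e
  have hchk : ∀ d ∈ D, (∀ i ∈ d.word, i ∈ J') ∧ d.tag = keyCode (T.keyL (flatW w d.word)) ∧
      d.len * e₀ = (T.invSet (flatW w d.word)).card ∧
      (∀ s, T.N ≤ s → s < T.n → T.inPhiB (flatW w J) s = true →
        T.N ≤ T.rw' (flatW w d.word).reverse s) ∧
      ∀ i ∈ J', (∃ e ∈ D, T.keyL (flatW w (d.word ++ [i])) = T.keyL (flatW w e.word)) ∨
        ∃ j ∈ J, T.keyL (flatW w (d.word ++ [i])) = T.keyL (flatW w (j :: d.word)) := by
    intro d hd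
    have h := hrep d hd
    simp only [checkRepB, Bool.and_eq_true, List.all_eq_true, memB_iff, nat_beq] at h
    obtain ⟨⟨⟨⟨⟨h1, h2⟩, h3⟩, h4⟩, h5⟩, h6⟩ := h
    refine ⟨h1, h2, ?_, fun s a b c => ?_, fun i hi => ?_⟩
    · rw [h3, List.countP_eq_length_filter,
        ← List.toFinset_card_of_nodup (List.Nodup.filter _ List.nodup_range')]
      congr 1
      ext s
      simp only [List.mem_toFinset, List.mem_filter, List.mem_range'_1, nat_blt, invSet,
        Finset.mem_filter, Finset.mem_Ico]
      have := n_def (T := T)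
      constructor <;> rintro ⟨⟨a, b⟩, c⟩ <;> exact ⟨⟨a, by omega⟩, c⟩
    · have := h4 s (by rw [List.mem_range'_1]; omega)
      simpa [c, nat_ble] using this
    · obtain ⟨m, hm, rfl⟩ := List.getElem_of_mem hi
      have hmem : (J'[m], d.next[m]'(h5 ▸ hm)) ∈ J'.zip d.next := by
        rw [List.mem_iff_getElem]
        exact ⟨m, by simp [List.length_zip, h5, hm], by simp⟩
      have := h6 _ hmem
      dsimp only at this
      cases hb : (d.next[m]'(h5 ▸ hm)).1 with
      | true =>
        rw [hb, cond_true] at this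
        rcases he : D[(d.next[m]'(h5 ▸ hm)).2]? with _ | e <;> rw [he] at this
        · exact absurd this Bool.false_ne_true
        · exact Or.inl ⟨e, List.mem_of_getElem? he, listBeq_iff.1 this⟩
      | false =>
        rw [hb, cond_false, Bool.and_eq_true, memB_iff] at this
        exact Or.inr ⟨_, this.1, listBeq_iff.1 this.2⟩
  have hwd : ∀ L : List ℕ, (∀ i ∈ L, i ∈ J') → T.Wd (flatW w L) := fun L h i hi => by
    obtain ⟨b, hb, hib⟩ := List.mem_flatMap.1 hi
    exact hl b (h b hb) i hib
  have hDJ : ∀ d ∈ D, T.Wd (flatW w d.word) := fun d hd => hwd _ (hchk d hd).1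
  classical
  haveI : Nonempty (Equiv.Perm (Fin T.n) × Rep) := ⟨(1, d0)⟩
  have hnodup : (D.map Rep.tag).Nodup := (incB_pairwise hinc).imp fun hab => hab.ne
  have hDnd : D.Nodup := List.Nodup.of_map _ hnodup
  have e1 : (D.map fun d => q ^ d.len).sum = ∑ d ∈ D.toFinset, q ^ d.len :=
    (List.sum_toFinset _ hDnd).symm
  rw [e1, poincB, poincB, mul_comm, Finset.sum_mul_sum, ← Finset.sum_product']
  symm
  refine Finset.sum_bij' (fun x _ => x.1 * pL g (flatW w x.2.word))
    (fun p hp => Classical.epsilon fun x : Equiv.Perm (Fin T.n) × Rep =>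
      (x.1 ∈ wBJ g w J ∧ x.2 ∈ D) ∧ x.1 * pL g (flatW w x.2.word) = p) ?_ ?_ ?_ ?_ ?_
  all_goals
    have hex : ∀ L, (∀ i ∈ L, i ∈ J') → ∃ x : Equiv.Perm (Fin T.n) × Rep,
        (x.1 ∈ wBJ g w J ∧ x.2 ∈ D) ∧ x.1 * pL g (flatW w x.2.word) = pL g (flatW w L) := by
      intro L
      induction L using List.reverseRecOn with
      | nil =>
        intro _
        exact ⟨(1, d0), ⟨(mem_wBJ_iff g).2 ⟨[], by simp, rfl⟩, hd0⟩, by
          simp [hd0', flatW_nil, pL_nil]⟩
      | append_singleton L i ih =>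
        intro hL
        obtain ⟨⟨p, d⟩, ⟨hp, hd⟩, e⟩ := ih fun x hx => hL x (List.mem_append_left _ hx)
        have hi : i ∈ J' := hL i (by simp)
        obtain ⟨u, huJ, rfl⟩ := (mem_wBJ_iff g).1 hp
        dsimp only at e hd
        have hwi : T.Wd (flatW w (d.word ++ [i])) := hwd _ fun x hx => by
          rcases List.mem_append.1 hx with hx | hx
          · exact (hchk d hd).1 x hx
          · simp at hx; exact hx ▸ hi
        rcases (hchk d hd).2.2.2.2 i hi with ⟨e', he', hk⟩ | ⟨j, hj, hk⟩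
        · refine ⟨(pL g (flatW w u), e'), ⟨hp, he'⟩, ?_⟩
          show pL g (flatW w u) * pL g (flatW w e'.word) = pL g (flatW w (L ++ [i]))
          rw [flatW_append w L, pL_append g (flatW w L), ← e, mul_assoc,
            ← pL_append g (flatW w d.word), ← flatW_append,
            pL_eq_of_simple g hwi (hDJ e' he') (keyL_eq.1 hk)]
        · have hwj : T.Wd (flatW w (j :: d.word)) := hwd _ fun x hx => by
            rcases List.mem_cons.1 hx with rfl | hx
            · exact hsub _ hj
            · exact (hchk d hd).1 x hx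
          refine ⟨(pL g (flatW w (u ++ [j])), d), ⟨(mem_wBJ_iff g).2 ⟨u ++ [j], ?_, rfl⟩, hd⟩, ?_⟩
          · intro x hx
            rcases List.mem_append.1 hx with hx | hx
            · exact huJ x hx
            · simp at hx; exact hx ▸ hj
          · show pL g (flatW w (u ++ [j])) * pL g (flatW w d.word) = _
            rw [flatW_append w u, flatW_append w L, pL_append g (flatW w u),
              pL_append g (flatW w L), ← e, mul_assoc, mul_assoc, ← pL_append g (flatW w [j]),
              ← pL_append g (flatW w d.word), ← flatW_append, ← flatW_append, List.singleton_append,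
              pL_eq_of_simple g hwi hwj (keyL_eq.1 hk)]
    have huniq : ∀ x y : Equiv.Perm (Fin T.n) × Rep, x.1 ∈ wBJ g w J → x.2 ∈ D → y.1 ∈ wBJ g w J →
        y.2 ∈ D → x.1 * pL g (flatW w x.2.word) = y.1 * pL g (flatW w y.2.word) → x = y := by
      rintro ⟨p, d⟩ ⟨p', d'⟩ hp hd hp' hd' e
      dsimp only at hp hd hp' hd' e
      obtain ⟨u, huJ, rfl⟩ := (mem_wBJ_iff g).1 hp
      obtain ⟨u', huJ', rfl⟩ := (mem_wBJ_iff g).1 hp'
      have hu : T.Wd (flatW w u) := hwd _ fun x hx => hsub _ (huJ x hx)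
      have hu' : T.Wd (flatW w u') := hwd _ fun x hx => hsub _ (huJ' x hx)
      have hv : T.Wd ((flatW w u').reverse ++ flatW w u) := Wd.append_iff.2 ⟨hu'.reverse, hu⟩
      have hvJ : ∀ i ∈ (flatW w u').reverse ++ flatW w u, i ∈ flatW w J := by
        intro i hi
        rcases List.mem_append.1 hi with hi | hi
        · exact mem_flatW huJ' (List.mem_reverse.1 hi)
        · exact mem_flatW huJ hi
      have e2 : pL g (((flatW w u').reverse ++ flatW w u) ++ flatW w d.word) = pL g (flatW w d'.word) := by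
        rw [pL_append, pL_append, ← pL_inv, mul_assoc, e, inv_mul_cancel_left]
      have a1 := invSet_add g hv (hDJ d hd) hvJ (hchk d hd).2.2.2.1
      rw [← wInv_pL g (Wd.append_iff.2 ⟨hv, hDJ d hd⟩), e2, wInv_pL g (hDJ d' hd')] at a1
      have e3 : pL g (((flatW w u').reverse ++ flatW w u).reverse ++ (flatW w d'.word)) = pL g (flatW w d.word) := by
        rw [pL_append _ (List.reverse _) (flatW w d'.word), ← pL_inv, ← e2, pL_append _ _ (flatW w d.word),
          inv_mul_cancel_left]
      have a2 := invSet_add g hv.reverse (hDJ d' hd')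
        (fun i hi => hvJ i (List.mem_reverse.1 hi)) (hchk d' hd').2.2.2.1
      rw [← wInv_pL g (Wd.append_iff.2 ⟨hv.reverse, hDJ d' hd'⟩), e3,
        wInv_pL g (hDJ d hd)] at a2
      have hpos : ∀ s, T.N ≤ s → s < T.n → T.N ≤ T.rw' ((flatW w u').reverse ++ flatW w u) s := by
        intro s h1 h2
        by_contra hc
        have hmem : s ∈ T.invSet ((flatW w u').reverse ++ flatW w u) := by simp [invSet, h1, h2, not_le.1 hc]
        have h0 : (T.invSet ((flatW w u').reverse ++ flatW w u)).card = 0 := by omega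
        rw [Finset.card_eq_zero.1 h0] at hmem
        exact Finset.notMem_empty _ hmem
      have hid := (nWd_torus_of_pos (F := ℚ) g _ le_rfl hv hpos).2
      have hvone : pL g ((flatW w u').reverse ++ flatW w u) = 1 := by
        rw [← pL_nil g, pL_eq_iff g hv (by simp [Wd])]
        exact hid
      have hpp : pL g (flatW w u) = pL g (flatW w u') := by
        rw [pL_append, ← pL_inv, inv_mul_eq_one] at hvone
        exact hvone.symm
      rw [hpp] at e
      have hdd : pL g (flatW w d.word) = pL g (flatW w d'.word) := mul_left_cancel e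
      have htag : d.tag = d'.tag := by
        rw [(hchk d hd).2.1, (hchk d' hd').2.1]
        congr 1
        exact keyL_eq.2 fun i hi => (pL_eq_iff g (hDJ d hd) (hDJ d' hd')).1 hdd _ (g.smp_lt hi)
      exact Prod.ext hpp (List.inj_on_of_nodup_map hnodup hd hd' htag)
  · intro x hx
    simp only [Finset.mem_product, List.mem_toFinset] at hx
    obtain ⟨u, huJ, hx1⟩ := (mem_wBJ_iff g).1 hx.1
    refine (mem_wBJ_iff g).2 ⟨u ++ x.2.word, ?_, ?_⟩
    · intro i hi
      rcases List.mem_append.1 hi with hi | hi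
      · exact hsub i (huJ i hi)
      · exact (hchk _ hx.2).1 i hi
    · rw [flatW_append, pL_append, hx1]
  · intro p hp
    obtain ⟨L, hLJ, rfl⟩ := (mem_wBJ_iff g).1 hp
    have := Classical.epsilon_spec (hex L hLJ)
    simp only [Finset.mem_product, List.mem_toFinset]
    exact this.1
  · intro x hx
    simp only [Finset.mem_product, List.mem_toFinset] at hx
    have := Classical.epsilon_spec (p := fun y : Equiv.Perm (Fin T.n) × Rep =>
      (y.1 ∈ wBJ g w J ∧ y.2 ∈ D) ∧ y.1 * pL g (flatW w y.2.word) = x.1 * pL g (flatW w x.2.word))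
      ⟨x, hx, rfl⟩
    exact huniq _ _ this.1.1 this.1.2 hx.1 hx.2 this.2
  · intro p hp
    obtain ⟨L, hLJ, rfl⟩ := (mem_wBJ_iff g).1 hp
    exact (Classical.epsilon_spec (hex L hLJ)).2
  · intro x hx
    simp only [Finset.mem_product, List.mem_toFinset] at hx
    obtain ⟨u, huJ, hx1⟩ := (mem_wBJ_iff g).1 hx.1
    have hu : T.Wd (flatW w u) := hwd _ fun x hx => hsub _ (huJ x hx)
    rw [← hx1, ← pL_append, wInv_pL g hu, wInv_pL g (Wd.append_iff.2 ⟨hu, hDJ _ hx.2⟩),
      invSet_add g hu (hDJ _ hx.2) (fun i hi => mem_flatW huJ hi) (hchk _ hx.2).2.2.2.1,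
      ← (hchk _ hx.2).2.2.1, Nat.add_mul_div_right _ _ he₀, pow_add]

/-- all steps of a chain starting from `J` -/
def checkChainB (T : Tab) (w : ℕ → List ℕ) (d nb : ℕ) : List ℕ → List (ℕ × List Rep) → Bool
  | J, [] => allBelow (fun i => memB i J) nb && J.all fun i => Nat.blt i nb
  | J, e :: rest => T.checkStepB w d J (J ++ [e.1]) e.2 && checkChainB T w d nb (J ++ [e.1]) rest

theorem checkChainB_spec (g : T.Good) (q : ℕ) {w : ℕ → List ℕ} {d : ℕ} (hd : 0 < d) {nb : ℕ} :
    ∀ (steps : List (ℕ × List Rep)) (J : List ℕ), T.checkChainB w d nb J steps = true →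
      ∃ Jtop, (∀ i, i ∈ Jtop ↔ i < nb) ∧
        poincB g w d Jtop q =
          (steps.map fun e => (e.2.map fun r => q ^ r.len).sum).prod * poincB g w d J q
  | [], J, h => by
    simp only [checkChainB, Bool.and_eq_true, allBelow_eq_true, memB_iff, List.all_eq_true,
      nat_blt] at h
    exact ⟨J, fun i => ⟨h.2 i, h.1 i⟩, by simp⟩
  | e :: rest, J, h => by
    simp only [checkChainB, Bool.and_eq_true] at h
    obtain ⟨Jt, hJt, e'⟩ := checkChainB_spec g q hd rest _ h.2
    refine ⟨Jt, hJt, ?_⟩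
    rw [e', poincB_step g hd h.1, List.map_cons, List.prod_cons]
    ring

end Tab

end Cfsg.Agent.Chev
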