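import Cfsg.Agent.Lib.Lie.TwCount
import Cfsg.Agent.Lib.Lie.TwPoinc

/-!
# Twisted groups: the Weyl group, the torus, the order

The Weyl group elements commuting with `π` are spelled by the orbit words; each has a lift in the
twisted group, whose order is the sum over them of the sizes of the cells.
-/

set_option autoImplicit false

namespace Cfsg.Agent.Chev

open Cfsg.Lie
open Matrix hiding zpow_mul inv_zpow mul_inv_rev zpow_add zpow_neg

namespace Tab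

variable {T : Tab} {K : List (List ℕ)} {F : Type*} [Field F]

theorem nWd_same_perm (g : T.Good) {A B : List ℕ} (hA : T.Wd A) (hB : T.Wd B)
    (h : pL g A = pL g B) : ∃ d, nWd g F A = tor T F d * nWd g F B := by
  let x : ↥(T.D.monomialSubgroup F) :=
    ⟨tor T F 1 * nWd g F A, (mem_monomial_iff g).2 ⟨A, hA, 1, rfl⟩⟩
  let y : ↥(T.D.monomialSubgroup F) :=
    ⟨tor T F 1 * nWd g F B, (mem_monomial_iff g).2 ⟨B, hB, 1, rfl⟩⟩
  have hk : x * y⁻¹ ∈ (toPerm g (F := F)).ker := by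
    rw [MonoidHom.mem_ker, map_mul, map_inv, toPerm_eq g hA (x := x) (c := 1) rfl,
      toPerm_eq g hB (x := y) (c := 1) rfl, h, mul_inv_cancel]
  rw [toPerm_ker, Subgroup.mem_subgroupOf, diagonalSubgroup_eq g] at hk
  obtain ⟨d, hd⟩ := hk
  refine ⟨d, ?_⟩
  rw [hd]
  simp [x, y]

theorem nWd_rev_conj (g : T.Good) {L : List ℕ} (hL : T.Wd L) (c : ℕ → Fˣ) {S : Set ℕ}
    (hS : ∀ r ∈ S, r < T.n) {x : GL T.D.Idx F} (hx : x ∈ genS g F S) :
    (tor T F c * nWd g F L)⁻¹ * x * (tor T F c * nWd g F L) ∈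
      genS g F ((T.rw' L.reverse) '' S) := by
  have h1 : (tor T F c)⁻¹ * x * tor T F c ∈ genS g F S := by
    have := (Subgroup.mem_normalizer_iff.1 (inv_mem (tor_normalizes (F := F) g hS c)) x).1 hx
    rwa [inv_inv] at this
  have hS' : ∀ r ∈ (T.rw' L.reverse) '' S, r < T.n := by
    rintro _ ⟨r, hr, rfl⟩
    exact rw'_lt g hL.reverse (hS r hr)
  have e : (T.rw' L) '' ((T.rw' L.reverse) '' S) = S := by
    ext r
    constructor
    · rintro ⟨_, ⟨s, hs, rfl⟩, rfl⟩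
      rwa [rw'_rev' g hL (hS s hs)]
    · exact fun hr => ⟨_, ⟨r, hr, rfl⟩, rw'_rev' g hL (hS r hr)⟩
  rw [← e, ← genS_map_nWd g hL hS'] at h1
  obtain ⟨z, hz, e'⟩ := h1
  have e'' : (tor T F c)⁻¹ * x * tor T F c = nWd g F L * z * (nWd g F L)⁻¹ := e'.symm
  have : (tor T F c * nWd g F L)⁻¹ * x * (tor T F c * nWd g F L) = z := by
    calc _ = (nWd g F L)⁻¹ * ((tor T F c)⁻¹ * x * tor T F c) * nWd g F L := by group
      _ = z := by rw [e'']; group
  rw [this]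
  exact hz

/-- The check on orbit words. -/
def checkBlk (T : Tab) (w : ℕ → List ℕ) (nb : ℕ) : Bool :=
  allBelow (fun b => listBeq (T.keyL (w b ++ w b)) (T.keyL []) &&
    anyBelow (fun i => Nat.blt (T.rw' (w b) (T.smp i)) T.N) T.l &&
    allBelow (fun b' => Nat.beq b b' || !listBeq (T.keyL (w b)) (T.keyL (w b'))) nb) nb

namespace Twist

variable {g : T.GoodK K} (X : Twist g F)

/-- facts on the orbit words -/
structure Blocks : Prop where
  sq : ∀ b < X.nb, pL g.toGood (X.w b ++ X.w b) = 1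
  ne : ∀ b < X.nb, ∀ b' < X.nb, pL g.toGood (X.w b) = pL g.toGood (X.w b') → b = b'
  pos : ∀ b < X.nb, (T.invSet (X.w b)).Nonempty

theorem blocks_of_check (h : T.checkBlk X.w X.nb = true) : X.Blocks := by
  have hg := g.toGood
  simp only [checkBlk, allBelow_eq_true, Bool.and_eq_true, listBeq_iff, anyBelow_eq_true, nat_blt,
    Bool.or_eq_true, nat_beq, Bool.not_eq_true'] at h
  refine ⟨fun b hb => ?_, fun b hb b' hb' e => ?_, fun b hb => ?_⟩
  · rw [← pL_nil hg]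
    exact pL_eq_of_simple hg (Wd.append_iff.2 ⟨X.w_wd hb, X.w_wd hb⟩) (by simp [Wd])
      (keyL_eq.1 (h b hb).1.1)
  · rcases (h b hb).2 b' hb' with h' | h'
    · exact h'
    · have := (listBeq_iff (l := T.keyL (X.w b)) (m := T.keyL (X.w b'))).2
        (keyL_eq.2 fun i hi => (pL_eq_iff hg (X.w_wd hb) (X.w_wd hb')).1 e _ (g.smp_lt hi))
      rw [h'] at this
      exact Bool.noConfusion this
  · obtain ⟨i, hi, hn⟩ := (h b hb).1.2
    exact ⟨T.smp i, by simp [invSet, hg.smp_ge hi, hg.smp_lt hi, hn]⟩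

/-- `n b` is monomial -/
theorem n_mem_monomial {b : ℕ} (hb : b < X.nb) : X.n b ∈ T.D.monomialSubgroup F := by
  obtain ⟨c, hc⟩ := X.n_eq b hb
  exact (mem_monomial_iff g.toGood).2 ⟨_, X.w_wd hb, c, hc⟩

open scoped Classical in
/-- the Weyl group elements commuting with `π` -/
noncomputable def w1 : Finset (Equiv.Perm (Fin T.n)) :=
  Finset.univ.filter fun p => ∃ L, T.Wd L ∧ X.Comm L ∧ pL g.toGood L = p

theorem mem_w1_iff {p : Equiv.Perm (Fin T.n)} :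
    p ∈ X.w1 ↔ ∃ L, T.Wd L ∧ X.Comm L ∧ pL g.toGood L = p := by
  simp [w1]

theorem flat_wd : ∀ {Ls : List ℕ}, (∀ b ∈ Ls, b < X.nb) → T.Wd (flatW X.w Ls) := by
  intro Ls h i hi
  obtain ⟨b, hb, hib⟩ := List.mem_flatMap.1 hi
  exact X.w_wd (h b hb) i hib

theorem flat_comm : ∀ {Ls : List ℕ}, (∀ b ∈ Ls, b < X.nb) → X.Comm (flatW X.w Ls)
  | [], _ => fun s _ => rfl
  | b :: Ls, h => by
    rw [flatW_cons]
    exact X.comm_append (X.w_comm (h b List.mem_cons_self))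
      (X.flat_wd fun c hc => h c (List.mem_cons_of_mem _ hc))
      (flat_comm fun c hc => h c (List.mem_cons_of_mem _ hc))

theorem exists_flat : ∀ (m : ℕ) {L : List ℕ}, T.Wd L → X.Comm L → (T.invSet L).card ≤ m →
    ∃ Ls, (∀ b ∈ Ls, b < X.nb) ∧ pL g.toGood L = pL g.toGood (flatW X.w Ls) := by
  intro m
  have base : ∀ {L : List ℕ}, T.Wd L → (T.invSet L).card = 0 →
      ∃ Ls, (∀ b ∈ Ls, b < X.nb) ∧ pL g.toGood L = pL g.toGood (flatW X.w Ls) := by
    intro L hL h0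
    refine ⟨[], by simp, ?_⟩
    rw [flatW_nil, pL_eq_iff g.toGood hL (by simp [Wd])]
    exact (nWd_torus_of_pos (F := ℚ) g.toGood _ le_rfl hL (invSet_empty g.toGood h0)).2
  induction m with
  | zero => exact fun hL _ h => base hL (Nat.le_zero.1 h)
  | succ m ih =>
    intro L hL hc hle
    rcases Nat.eq_zero_or_eq_sub_one_add_one (n := (T.invSet L).card) with h0 | hs
    · exact base hL h0
    obtain ⟨b, hb, -, hw', hc', -, hlt⟩ := X.comm_peel hL hc hs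
    obtain ⟨Ls, hLs, e⟩ := ih hw' hc' (by omega)
    refine ⟨Ls ++ [b], fun c hc => ?_, ?_⟩
    · rcases List.mem_append.1 hc with hc | hc
      · exact hLs c hc
      · simp at hc; exact hc ▸ hb
    · rw [flatW_append, flatW_singleton, pL_append, ← e, pL_append, ← pL_inv,
        inv_mul_cancel_right]

theorem flat_lift : ∀ {Ls : List ℕ}, (∀ b ∈ Ls, b < X.nb) →
    ∃ c, (Ls.map X.n).prod = tor T F c * nWd g.toGood F (flatW X.w Ls) ∧ (Ls.map X.n).prod ∈ X.G1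
  | [], _ => ⟨1, by simp [flatW_nil, nWd_nil], by simp⟩
  | b :: Ls, h => by
    obtain ⟨c, hc, hmem⟩ := flat_lift (Ls := Ls) fun x hx => h x (List.mem_cons_of_mem _ hx)
    have hb := h b List.mem_cons_self
    obtain ⟨a, ha⟩ := X.n_eq b hb
    obtain ⟨e, he⟩ := torus_pass g.toGood (nWd_mem_wSub (F := F) g.toGood (X.w_wd hb)) c
    refine ⟨a * e, ?_, by rw [List.map_cons, List.prod_cons]; exact mul_mem (X.n_mem b hb) hmem⟩
    rw [List.map_cons, List.prod_cons, hc, ha, flatW_cons, nWd_append, map_mul]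
    simp only [mul_assoc]
    rw [← mul_assoc (nWd g.toGood F (X.w b)), he, mul_assoc]

/-- every commuting element has a lift -/
theorem exists_lift {L : List ℕ} (hL : T.Wd L) (hc : X.Comm L) :
    ∃ c, tor T F c * nWd g.toGood F L ∈ X.G1 := by
  obtain ⟨Ls, hLs, e⟩ := X.exists_flat _ hL hc le_rfl
  obtain ⟨c, hc', hmem⟩ := X.flat_lift hLs
  obtain ⟨d, hd⟩ := nWd_same_perm (F := F) g.toGood (X.flat_wd hLs) hL e.symm
  refine ⟨c * d, ?_⟩
  rw [hc', hd] at hmem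
  rwa [map_mul, mul_assoc]

theorem w1_eq_wBJ {J : List ℕ} (hJ : ∀ i, i ∈ J ↔ i < X.nb) : X.w1 = wBJ g.toGood X.w J := by
  ext p
  rw [mem_w1_iff, mem_wBJ_iff]
  constructor
  · rintro ⟨L, hL, hc, rfl⟩
    obtain ⟨Ls, hLs, e⟩ := X.exists_flat _ hL hc le_rfl
    exact ⟨Ls, fun b hb => (hJ b).2 (hLs b hb), e.symm⟩
  · rintro ⟨Ls, hLs, rfl⟩
    exact ⟨_, X.flat_wd fun b hb => (hJ b).1 (hLs b hb),
      X.flat_comm fun b hb => (hJ b).1 (hLs b hb), rfl⟩

/-- `H¹` -/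
theorem torus_fixed {c : ℕ → Fˣ} (h : tor T F c ∈ X.G1) :
    tor T F c ∈ T.D.diagonalSubgroup F ⊓ X.G1 :=
  Subgroup.mem_inf.2 ⟨by rw [diagonalSubgroup_eq g.toGood]; exact ⟨c, rfl⟩, h⟩

/-- `B¹ = U¹ H¹` -/
theorem borel_fixed {x : GL T.D.Idx F} (hx : x ∈ T.D.borelSubgroup F) (hx1 : x ∈ X.G1) :
    ∃ v ∈ genS g.toGood F (Set.Ico T.N T.n), v ∈ X.G1 ∧
      ∃ c, tor T F c ∈ X.G1 ∧ x = v * tor T F c := by
  have hg := g.toGood
  obtain ⟨v, hv, c, rfl⟩ := (mem_borel_iff hg).1 hx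
  obtain ⟨-, hσ⟩ := X.G1_le _ hx1
  rw [X.σ_mul _ (genS_le_group hg hv) _ (tor_mem_group hg c)] at hσ
  have htd : tor T F c ∈ T.D.diagonalSubgroup F := by rw [diagonalSubgroup_eq hg]; exact ⟨c, rfl⟩
  have e : v⁻¹ * X.σ v = tor T F c * (X.σ (tor T F c))⁻¹ := by
    rw [inv_mul_eq_iff_eq_mul, ← mul_assoc, eq_mul_inv_iff_mul_eq]
    exact hσ
  have h1 : v⁻¹ * X.σ v = 1 := pos_inf_torus hg (mul_mem (inv_mem hv) (X.σ_pos hv))
    (by rw [e]; exact mul_mem htd (inv_mem (X.σ_torus htd)))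
  have hv1 := X.pos_fixed_mem hv (inv_mul_eq_one.1 h1).symm
  refine ⟨v, hv, hv1, c, ?_, rfl⟩
  have : tor T F c = v⁻¹ * (v * tor T F c) := by group
  rw [this]
  exact mul_mem (inv_mem hv1) hx1

theorem card_borel_fixed [Finite F] :
    Nat.card ↥(T.D.borelSubgroup F ⊓ X.G1) =
      Nat.card ↥(T.D.posUnipotent F ⊓ X.G1) * Nat.card ↥(T.D.diagonalSubgroup F ⊓ X.G1) := by
  have hg := g.toGood
  have hpB : ∀ u ∈ T.D.posUnipotent F, u ∈ T.D.borelSubgroup F := fun u hu =>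
    Subgroup.mem_sup_left hu
  let f : ↥(T.D.posUnipotent F ⊓ X.G1) × ↥(T.D.diagonalSubgroup F ⊓ X.G1) →
      ↥(T.D.borelSubgroup F ⊓ X.G1) := fun p =>
    ⟨(p.1 : GL T.D.Idx F) * p.2, Subgroup.mem_inf.2
      ⟨mul_mem (hpB _ p.1.2.1) (Subgroup.mem_sup_right p.2.2.1), X.G1.mul_mem p.1.2.2 p.2.2.2⟩⟩
  have hf : Function.Bijective f := by
    constructor
    · rintro ⟨⟨u, hu⟩, ⟨h, hh⟩⟩ ⟨⟨u', hu'⟩, ⟨h', hh'⟩⟩ e
      have e' : u * h = u' * h' := congrArg Subtype.val e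
      have hu1 : u ∈ genS hg F (Set.Ico T.N T.n) := posUnipotent_eq (F := F) hg ▸ hu.1
      have hu1' : u' ∈ genS hg F (Set.Ico T.N T.n) := posUnipotent_eq (F := F) hg ▸ hu'.1
      have h1 : u'⁻¹ * u = 1 := pos_inf_torus hg (mul_mem (inv_mem hu1') hu1) (by
        have : u'⁻¹ * u = h' * h⁻¹ := by
          calc u'⁻¹ * u = u'⁻¹ * (u * h) * h⁻¹ := by group
            _ = _ := by rw [e']; group
        rw [this]
        exact mul_mem hh'.1 (inv_mem hh.1))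
      obtain rfl := inv_mul_eq_one.1 h1
      exact Prod.ext rfl (Subtype.ext (mul_left_cancel e'))
    · rintro ⟨x, hx⟩
      obtain ⟨v, hv, hv1, c, hc, rfl⟩ := X.borel_fixed hx.1 hx.2
      exact ⟨(⟨v, Subgroup.mem_inf.2 ⟨(posUnipotent_eq (F := F) hg).symm ▸ hv, hv1⟩⟩,
        ⟨tor T F c, X.torus_fixed hc⟩), rfl⟩
  rw [← Nat.card_eq_of_bijective f hf, Nat.card_prod]

/-- `|G¹| = |B¹| Σ q^(inv/d)` -/
theorem card_G1 [Finite F] {q d : ℕ} (hd : 0 < d)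
    (hblk : ∀ b < X.nb, ∃ k, Nat.card ↥(uMinus g.toGood F (X.w b) ⊓ X.G1) = q ^ k ∧
      k * d = (T.invSet (X.w b)).card) :
    Nat.card ↥X.G1 = Nat.card ↥(T.D.borelSubgroup F ⊓ X.G1) *
      ∑ p ∈ X.w1, q ^ (T.wInv p / d) := by
  classical
  have hg := g.toGood
  let Lw : ↥X.w1 → List ℕ := fun w => (X.mem_w1_iff.1 w.2).choose
  have hLw : ∀ w : ↥X.w1, T.Wd (Lw w) ∧ X.Comm (Lw w) ∧ pL hg (Lw w) = w :=
    fun w => (X.mem_w1_iff.1 w.2).choose_spec
  let cw : ↥X.w1 → ℕ → Fˣ := fun w => (X.exists_lift (hLw w).1 (hLw w).2.1).choose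
  have hcw : ∀ w, tor T F (cw w) * nWd hg F (Lw w) ∈ X.G1 :=
    fun w => (X.exists_lift (hLw w).1 (hLw w).2.1).choose_spec
  let f : (Σ w : ↥X.w1,
      ↥(T.D.borelSubgroup F ⊓ X.G1) × ↥(uMinus hg F (Lw w) ⊓ X.G1)) → ↥X.G1 := fun p =>
    ⟨(p.2.1 : GL T.D.Idx F) * (tor T F (cw p.1) * nWd hg F (Lw p.1)) * p.2.2,
      X.G1.mul_mem (X.G1.mul_mem p.2.1.2.2 (hcw p.1)) p.2.2.2.2⟩
  have hf : Function.Bijective f := by
    constructor
    · rintro ⟨w, ⟨b, hb⟩, ⟨u, hu⟩⟩ ⟨w', ⟨b', hb'⟩, ⟨u', hu'⟩⟩ h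
      have hn := (mem_monomial_iff (F := F) hg).2 ⟨Lw w, (hLw w).1, cw w, rfl⟩
      have hn' := (mem_monomial_iff (F := F) hg).2 ⟨Lw w', (hLw w').1, cw w', rfl⟩
      have h' : b * (tor T F (cw w) * nWd hg F (Lw w)) * u =
          b' * (tor T F (cw w') * nWd hg F (Lw w')) * u' := congrArg Subtype.val h
      obtain ⟨hd', hsame⟩ := bruhat_unique g.toGoodA hb.1 hb'.1 hn hn' (hLw w).1 rfl hu.1 hu'.1 h'
      obtain rfl : w = w' := Subtype.ext (by
        have hk : (⟨_, hn⟩ : ↥(T.D.monomialSubgroup F))⁻¹ * ⟨_, hn'⟩ ∈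
            (toPerm hg (F := F)).ker := by
          rw [toPerm_ker, Subgroup.mem_subgroupOf]
          exact hd'
        rw [MonoidHom.mem_ker, map_mul, map_inv, toPerm_eq hg (hLw w).1 (x := ⟨_, hn⟩) (c := cw w) rfl,
          toPerm_eq hg (hLw w').1 (x := ⟨_, hn'⟩) (c := cw w') rfl, inv_mul_eq_one] at hk
        rw [← (hLw w).2.2, ← (hLw w').2.2, hk])
      obtain ⟨rfl, rfl⟩ := hsame rfl rfl
      rfl
    · rintro ⟨x, hx⟩
      obtain ⟨v, hv, hv1, L, hL, hc, c, hm, u, hu, hu1, e⟩ := X.g1_decomp hx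
      let w : ↥X.w1 := ⟨pL hg L, X.mem_w1_iff.2 ⟨L, hL, hc, rfl⟩⟩
      have hp : pL hg L = pL hg (Lw w) := (hLw w).2.2.symm
      obtain ⟨d', hd'⟩ := nWd_same_perm (F := F) hg hL (hLw w).1 hp
      set t := tor T F c * tor T F d' * (tor T F (cw w))⁻¹ with ht
      have e1 : tor T F c * nWd hg F L = t * (tor T F (cw w) * nWd hg F (Lw w)) := by
        rw [ht, hd']; group
      have htB : t ∈ T.D.borelSubgroup F :=
        mul_mem (mul_mem (torus_le_borel hg _) (torus_le_borel hg _)) (inv_mem (torus_le_borel hg _))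
      have ht1 : t ∈ X.G1 := by
        have : t = tor T F c * nWd hg F L * (tor T F (cw w) * nWd hg F (Lw w))⁻¹ := by
          rw [e1]; group
        rw [this]
        exact X.G1.mul_mem hm (X.G1.inv_mem (hcw w))
      have hu' : u ∈ uMinus hg F (Lw w) := by
        rwa [uMinus_congr hg ((pL_eq_iff hg (hLw w).1 hL).1 hp.symm)]
      refine ⟨⟨w, ⟨v * t, Subgroup.mem_inf.2 ⟨mul_mem (genS_pos_le_borel hg (fun r hr => hr) hv) htB,
        X.G1.mul_mem hv1 ht1⟩⟩, ⟨u, Subgroup.mem_inf.2 ⟨hu', hu1⟩⟩⟩, Subtype.ext ?_⟩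
      show v * t * (tor T F (cw w) * nWd hg F (Lw w)) * u = x
      rw [e, e1]
      group
  rw [← Nat.card_eq_of_bijective f hf, Nat.card_sigma, Finset.mul_sum,
    ← Finset.sum_coe_sort X.w1]
  refine Finset.sum_congr rfl fun w _ => ?_
  obtain ⟨k, hk, hk'⟩ := X.card_fixed hblk _ (hLw w).1 (hLw w).2.1 le_rfl
  rw [Nat.card_prod, hk]
  congr 2
  rw [← (hLw w).2.2, wInv_pL hg (hLw w).1, ← hk', Nat.mul_div_cancel _ hd]

/-- the order from a Poincaré certificate -/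
theorem card_G1_formula [Finite F] {q d M : ℕ} (hd : 0 < d)
    (hblk : ∀ b < X.nb, ∃ k, Nat.card ↥(uMinus g.toGood F (X.w b) ⊓ X.G1) = q ^ k ∧
      k * d = (T.invSet (X.w b)).card) (hM : M * d = T.N)
    {steps : List (ℕ × List Rep)} (hS : T.checkChainB X.w d X.nb [] steps = true) :
    Nat.card ↥X.G1 = q ^ M * Nat.card ↥(T.D.diagonalSubgroup F ⊓ X.G1) *
      (steps.map fun e => (e.2.map fun r => q ^ r.len).sum).prod := by
  obtain ⟨J, hJ, e⟩ := checkChainB_spec g.toGood q hd steps [] hS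
  rw [poincB_nil, mul_one] at e
  rw [X.card_G1 hd hblk, X.card_borel_fixed, X.card_pos_fixed hd hblk hM, X.w1_eq_wBJ hJ]
  exact congrArg _ e

end Twist

end Tab

end Cfsg.Agent.Chev
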