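import Mathlib

/-!
# Elements of order `p` in `GL₇(q)` with `q` of order six modulo `p`
-/

set_option autoImplicit false

namespace Cfsg.Agent.GLCyclic

open Matrix Polynomial

variable {F : Type*} [Field F] [Fintype F]

local notation "V7" K => (Fin 7 → K)

/-- an eigenline with six distinct conjugates -/
structure Line (M : Matrix (Fin 7) (Fin 7) F) (p : ℕ) where
  v : Fin 7 → AlgebraicClosure F
  ζ : AlgebraicClosure F
  v_ne : v ≠ 0
  ζ_pow : ζ ^ p = 1
  ζ_ne : ζ ≠ 1
  eig : M.map (algebraMap F _) *ᵥ v = ζ • v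
  uniq : ∀ u, M.map (algebraMap F _) *ᵥ u = ζ • u → ∃ c : AlgebraicClosure F, u = c • v

variable (F) in
/-- the Frobenius of the closure -/
noncomputable abbrev Fr : AlgebraicClosure F ≃ₐ[F] AlgebraicClosure F :=
  FiniteField.frobeniusAlgEquivOfAlgebraic F (AlgebraicClosure F)

theorem Fr_pow (i : ℕ) (x : AlgebraicClosure F) : (Fr F)^[i] x = x ^ Fintype.card F ^ i := by
  rw [FiniteField.coe_frobeniusAlgEquivOfAlgebraic_iterate]

theorem conj_eig {M : Matrix (Fin 7) (Fin 7) F} {u : Fin 7 → AlgebraicClosure F}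
    {ξ : AlgebraicClosure F} (h : M.map (algebraMap F _) *ᵥ u = ξ • u) (i : ℕ) :
    M.map (algebraMap F _) *ᵥ (fun j => u j ^ Fintype.card F ^ i) =
      (ξ ^ Fintype.card F ^ i) • fun j => u j ^ Fintype.card F ^ i := by
  induction i with
  | zero => simpa using h
  | succ i ih =>
    have e : ∀ x : AlgebraicClosure F, x ^ Fintype.card F ^ (i + 1) = Fr F (x ^ Fintype.card F ^ i) :=
      fun x => by
        rw [FiniteField.coe_frobeniusAlgEquivOfAlgebraic]
        show _ = (x ^ Fintype.card F ^ i) ^ Fintype.card F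
        rw [← pow_mul, pow_succ]
    funext k
    have hk := congrArg (Fr F) (congrFun ih k)
    simp only [mulVec, dotProduct, map_apply, Pi.smul_apply, smul_eq_mul, map_sum, map_mul,
      AlgEquiv.commutes, ← e] at hk ⊢
    exact hk

theorem exists_ne_one_root {M : Matrix (Fin 7) (Fin 7) F} {p : ℕ} (hp : (p : F) ≠ 0) (hM : M ^ p = 1)
    (hne : M ≠ 1) :
    ∃ ζ : AlgebraicClosure F, ζ ≠ 1 ∧
      (minpoly (AlgebraicClosure F) (M.map (algebraMap F (AlgebraicClosure F)))).IsRoot ζ := by
  classical
  set K := AlgebraicClosure F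
  set N := M.map (algebraMap F K) with hN
  have hNp : N ^ p = 1 := by
    rw [hN, ← Matrix.map_pow, hM, Matrix.map_one _ (map_zero _) (map_one _)]
  have hpK : (p : K) ≠ 0 := by
    rw [← map_natCast (algebraMap F K)]
    exact (map_ne_zero_iff _ (algebraMap F K).injective).2 hp
  have hdvd : minpoly K N ∣ X ^ p - 1 := minpoly.dvd K N (by simp [hNp])
  have hsep : (minpoly K N).Separable := (X_pow_sub_one_separable_iff.2 hpK).of_dvd hdvd
  by_contra hno
  push Not at hno
  have hroots : ∀ x ∈ (minpoly K N).roots, x = 1 := fun x hx => by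
    by_contra hx1
    exact hno x hx1 (mem_roots'.1 hx).2
  have hle : (minpoly K N).roots.card ≤ 1 := by
    have hnd := nodup_roots hsep
    rw [← Multiset.toFinset_card_of_nodup hnd]
    exact Finset.card_le_one.2 fun a ha b hb => by
      rw [hroots a (Multiset.mem_toFinset.1 ha), hroots b (Multiset.mem_toFinset.1 hb)]
  have hmonic : (minpoly K N).Monic := minpoly.monic (Matrix.isIntegral N)
  rw [← (IsAlgClosed.splits (minpoly K N)).natDegree_eq_card_roots] at hle
  have hpos := minpoly.natDegree_pos (Matrix.isIntegral (R := K) N)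
  have hdeg : (minpoly K N).natDegree = 1 := by omega
  have hform := hmonic.eq_X_add_C hdeg
  have hroot : (minpoly K N).IsRoot (-(minpoly K N).coeff 0) := by
    rw [hform]; simp
  have h1 : -(minpoly K N).coeff 0 = 1 := by
    by_contra h; exact hno _ h hroot
  have h0 := minpoly.aeval K N
  rw [hform, show (minpoly K N).coeff 0 = -1 from neg_eq_iff_eq_neg.1 h1] at h0
  simp at h0
  have hN1 : N = 1 := by
    rw [add_neg_eq_zero] at h0; exact h0
  exact hne (Matrix.map_injective (algebraMap F K).injective (by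
    show M.map (algebraMap F K) = (1 : Matrix (Fin 7) (Fin 7) F).map (algebraMap F K)
    rw [Matrix.map_one _ (map_zero _) (map_one _)]; exact hN1))

theorem orbit_inj {p : ℕ} [Fact p.Prime] (hord : orderOf (Fintype.card F : ZMod p) = 6)
    {ζ : AlgebraicClosure F} (hζ : ζ ^ p = 1) (h1 : ζ ≠ 1) (k : ℕ) (hk : (k : ZMod p) ≠ 0)
    {i j : ℕ} (hi : i < 6) (hj : j < 6) :
    (ζ ^ k) ^ Fintype.card F ^ i = (ζ ^ k) ^ Fintype.card F ^ j → i = j := by
  intro h
  have ho : orderOf ζ = p := orderOf_eq_prime hζ h1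
  have h' : ((k * Fintype.card F ^ i : ℕ) : ZMod p) = ((k * Fintype.card F ^ j : ℕ) : ZMod p) := by
    rw [ZMod.natCast_eq_natCast_iff]
    rw [← pow_mul, ← pow_mul, (isOfFinOrder_iff_pow_eq_one.2 ⟨p, (Fact.out : p.Prime).pos, hζ⟩).pow_eq_pow_iff_modEq,
      ho] at h
    exact h
  push_cast at h'
  exact pow_injOn_Iio_orderOf (by simpa [hord] using hi) (by simpa [hord] using hj)
    (mul_left_cancel₀ hk h')

/-- all eigenvalues different from one lie in one orbit -/
theorem exists_line {M : Matrix (Fin 7) (Fin 7) F} {p : ℕ} [Fact p.Prime] (hp : (p : F) ≠ 0)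
    (hord : orderOf (Fintype.card F : ZMod p) = 6) (hM : M ^ p = 1) (hne : M ≠ 1) :
    ∃ L : Line M p, ∀ j : ℕ, (∃ u : Fin 7 → AlgebraicClosure F, u ≠ 0 ∧ M.map (algebraMap F _) *ᵥ u = (L.ζ ^ j) • u) →
      (j : ZMod p) ≠ 0 → ∃ i < 6, (j : ZMod p) = (Fintype.card F : ZMod p) ^ i := by
  classical
  set K := AlgebraicClosure F
  set N := M.map (algebraMap F K) with hN
  obtain ⟨ζ, hζ1, hroot⟩ := exists_ne_one_root hp hM hne
  obtain ⟨v, hv⟩ := (Module.End.hasEigenvalue_of_isRoot (f := Matrix.toLin' N) (μ := ζ)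
    (by rw [Matrix.minpoly_toLin']; exact hroot)).exists_hasEigenvector
  have hve : N *ᵥ v = ζ • v := Module.End.mem_eigenspace_iff.1 hv.1
  have hNp : N ^ p = 1 := by
    rw [hN, ← Matrix.map_pow, hM, Matrix.map_one _ (map_zero _) (map_one _)]
  have hζp : ζ ^ p = 1 := by
    have : ∀ n : ℕ, (N ^ n) *ᵥ v = ζ ^ n • v := by
      intro n
      induction n with
      | zero => simp
      | succ n ih => rw [pow_succ, ← mulVec_mulVec, hve, mulVec_smul, ih, smul_smul, ← pow_succ']
    have h := this p
    rw [hNp, one_mulVec] at h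
    exact (smul_left_injective K hv.2 (show (1 : K) • v = ζ ^ p • v by rw [one_smul]; exact h)).symm
  set P := M.charpoly
  have hchar : N.charpoly = P.map (algebraMap F K) := Matrix.charpoly_map M _
  have hP0 : N.charpoly ≠ 0 := (Matrix.charpoly_monic N).ne_zero
  have hdeg : N.charpoly.roots.card ≤ 7 := by
    refine (Polynomial.card_roots' _).trans ?_
    rw [Matrix.charpoly_natDegree_eq_dim, Fintype.card_fin]
  have hmult : ∀ ξ : K, ∀ i : ℕ, N.charpoly.roots.count (ξ ^ Fintype.card F ^ i) = N.charpoly.roots.count ξ := by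
    intro ξ i
    induction i with
    | zero => simp
    | succ i ih =>
      rw [pow_succ, pow_mul]
      generalize ξ ^ Fintype.card F ^ i = η at ih ⊢
      rw [← ih, count_roots, count_roots]
      have h := eq_rootMultiplicity_map (p := N.charpoly) (f := ((Fr F : K →ₐ[F] K) : K →+* K))
        (Fr F).injective η
      rw [hchar, Polynomial.map_map, AlgHom.comp_algebraMap] at h
      rw [hchar]
      convert h.symm using 2
      exact (congrFun (FiniteField.coe_frobeniusAlgEquivOfAlgebraic F K) η).symm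
  have hcount : ∀ (ξ : K) (u : Fin 7 → K), u ≠ 0 → N *ᵥ u = ξ • u → 1 ≤ N.charpoly.roots.count ξ := by
    intro ξ u hu he
    rw [Multiset.one_le_count_iff_mem, mem_roots hP0, ← Matrix.charpoly_toLin',
      ← Module.End.hasEigenvalue_iff_isRoot_charpoly]
    exact Module.End.hasEigenvalue_of_hasEigenvector ⟨Module.End.mem_eigenspace_iff.2 he, hu⟩
  have hinj : ∀ k : ℕ, (k : ZMod p) ≠ 0 →
      Set.InjOn (fun i : ℕ => (ζ ^ k) ^ Fintype.card F ^ i) (Finset.range 6) := fun k hk i hi j hj =>
    orbit_inj hord hζp hζ1 k hk (Finset.mem_range.1 hi) (Finset.mem_range.1 hj)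
  have hone : N.charpoly.roots.count ζ ≤ 1 := by
    have h := (Finset.sum_le_sum_of_subset (f := fun x => N.charpoly.roots.count x)
      (s := (Finset.range 6).image fun i => ζ ^ Fintype.card F ^ i)
      (t := ((Finset.range 6).image fun i => ζ ^ Fintype.card F ^ i) ∪ N.charpoly.roots.toFinset)
      Finset.subset_union_left)
    rw [Finset.sum_image (by simpa using hinj 1 (by simp)), Multiset.sum_count_eq_card
      (fun a ha => Finset.mem_union_right _ (Multiset.mem_toFinset.2 ha))] at h
    simp only [hmult, Finset.sum_const, Finset.card_range, smul_eq_mul] at h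
    omega
  refine ⟨⟨v, ζ, hv.2, hζp, hζ1, hve, fun u hu => ?_⟩, fun j hju hj => ?_⟩
  · have hle : Module.finrank K (Module.End.eigenspace (Matrix.toLin' N) ζ) ≤ 1 := by
      refine (LinearMap.finrank_eigenspace_le _ _).trans ?_
      rw [Matrix.charpoly_toLin', ← count_roots]; exact hone
    obtain ⟨w, hw⟩ := finrank_le_one_iff.1 hle
    obtain ⟨a, ha⟩ := hw ⟨v, Module.End.mem_eigenspace_iff.2 hve⟩
    obtain ⟨b, hb⟩ := hw ⟨u, Module.End.mem_eigenspace_iff.2 hu⟩
    have ha' : a • (w : Fin 7 → K) = v := congrArg Subtype.val ha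
    have hb' : b • (w : Fin 7 → K) = u := congrArg Subtype.val hb
    have ha0 : a ≠ 0 := fun h => hv.2 (by rw [← ha', h, zero_smul])
    exact ⟨b / a, by rw [← ha', smul_smul, div_mul_cancel₀ b ha0, hb']⟩
  · obtain ⟨u, hu0, hu⟩ := hju
    by_contra hno
    push Not at hno
    set A := (Finset.range 6).image fun i => ζ ^ Fintype.card F ^ i
    set B := (Finset.range 6).image fun i => (ζ ^ j) ^ Fintype.card F ^ i
    have hdisj : Disjoint A B := by
      rw [Finset.disjoint_left]
      intro x hxA hxB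
      obtain ⟨a, ha, rfl⟩ := Finset.mem_image.1 hxA
      obtain ⟨b, hb, e⟩ := Finset.mem_image.1 hxB
      have ho : orderOf ζ = p := orderOf_eq_prime hζp hζ1
      rw [← pow_mul, (isOfFinOrder_iff_pow_eq_one.2 ⟨p, (Fact.out : p.Prime).pos, hζp⟩).pow_eq_pow_iff_modEq,
        ho, ← ZMod.natCast_eq_natCast_iff] at e
      push_cast at e
      have ha' := Finset.mem_range.1 ha
      have hb' := Finset.mem_range.1 hb
      refine hno ((a + 6 - b) % 6) (Nat.mod_lt _ (by norm_num)) ?_
      have hq6 : (Fintype.card F : ZMod p) ^ 6 = 1 := by rw [← hord, pow_orderOf_eq_one]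
      rw [← hord, pow_mod_orderOf, hord]
      calc (j : ZMod p) = j * (Fintype.card F : ZMod p) ^ b * (Fintype.card F : ZMod p) ^ (6 - b) := by
            rw [mul_assoc, ← pow_add, Nat.add_sub_cancel' hb'.le, hq6, mul_one]
        _ = _ := by rw [e, ← pow_add, show a + (6 - b) = a + 6 - b by omega]
    have hA : ∀ x ∈ A, 1 ≤ N.charpoly.roots.count x := fun x hx => by
      obtain ⟨i, -, rfl⟩ := Finset.mem_image.1 hx
      rw [hmult]; exact hcount ζ v hv.2 hve
    have hB : ∀ x ∈ B, 1 ≤ N.charpoly.roots.count x := fun x hx => by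
      obtain ⟨i, -, rfl⟩ := Finset.mem_image.1 hx
      rw [hmult]; exact hcount _ u hu0 hu
    have hcard : A.card + B.card ≤ N.charpoly.roots.toFinset.card := by
      rw [← Finset.card_union_of_disjoint hdisj]
      refine Finset.card_le_card fun x hx => Multiset.mem_toFinset.2 (Multiset.one_le_count_iff_mem.1 ?_)
      rcases Finset.mem_union.1 hx with h | h
      · exact hA x h
      · exact hB x h
    rw [Finset.card_image_of_injOn (by simpa using hinj 1 (by simp)),
      Finset.card_image_of_injOn (hinj j hj), Finset.card_range] at hcard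
    have := (Multiset.toFinset_card_le N.charpoly.roots).trans hdeg
    omega

variable {G : Type*} [Group G]

/-- A subgroup of the centraliser, of order prime to `p₀ (q - 1)`, is cyclic. -/
theorem isCyclic_of_le (ρ : G →* GL (Fin 7) F) (hρ : Function.Injective ρ) {z : G} {p : ℕ}
    [Fact p.Prime] (hp : (p : F) ≠ 0) (hord : orderOf (Fintype.card F : ZMod p) = 6)
    (hz : z ^ p = 1) (hz1 : z ≠ 1) (H : Subgroup G) [Finite H]
    (hH : H ≤ Subgroup.centralizer {z}) (h0 : (Nat.card H : F) ≠ 0)
    (hq : Nat.Coprime (Nat.card H) (Fintype.card F - 1)) : IsCyclic H := by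
  classical
  set K := AlgebraicClosure F
  set M : Matrix (Fin 7) (Fin 7) F := (ρ z).val with hM
  obtain ⟨L, -⟩ := exists_line (M := M) hp hord (by rw [hM, ← Units.val_pow_eq_pow_val, ← map_pow, hz, map_one]; rfl)
    (fun h => hz1 (hρ (Units.ext (by rw [map_one]; exact h))))
  let R : G → Matrix (Fin 7) (Fin 7) K := fun g => (ρ g).val.map (algebraMap F K)
  have hR : ∀ g h, R (g * h) = R g * R h := fun g h => by
    simp only [R, map_mul, Units.val_mul, Matrix.map_mul]
  have hex : ∀ g : H, ∃ c : K, R g *ᵥ L.v = c • L.v := by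
    intro g
    have hc : z * (g : G) = (g : G) * z := Subgroup.mem_centralizer_singleton_iff.1 (hH g.2) |>.symm
    refine L.uniq _ ?_
    rw [show M.map (algebraMap F K) = R z from rfl, mulVec_mulVec, ← hR, hc, hR, ← mulVec_mulVec]
    rw [show R z *ᵥ L.v = L.ζ • L.v from L.eig, mulVec_smul]
  choose χ hχ using hex
  have hcancel : ∀ a b : K, a • L.v = b • L.v → a = b := fun a b h => smul_left_injective K L.v_ne h
  let f : H →* K :=
    { toFun := χ
      map_one' := hcancel _ _ (by rw [← hχ, one_smul]; simp [R])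
      map_mul' := fun a b => hcancel _ _ (by
        rw [← hχ, Subgroup.coe_mul, hR, ← mulVec_mulVec, hχ, mulVec_smul, hχ, smul_smul, mul_comm]) }
  have hinj : Function.Injective f := by
    intro a b hab
    suffices h1 : ∀ g : H, χ g = 1 → g = 1 by
      refine mul_inv_eq_one.1 (h1 _ ?_)
      have : f (a * b⁻¹) = 1 := by rw [map_mul, hab, ← map_mul, mul_inv_cancel, map_one]
      exact this
    intro g hg
    have hfix : ∀ i : ℕ, R g *ᵥ (fun j => L.v j ^ Fintype.card F ^ i) = fun j => L.v j ^ Fintype.card F ^ i := by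
      intro i
      have h := conj_eig (M := (ρ g).val) (ξ := 1) (u := L.v) (by
        show R g *ᵥ L.v = _
        rw [hχ, hg]) i
      rwa [one_pow, one_smul] at h
    set D : Matrix (Fin 7) (Fin 7) F := (ρ g).val - 1 with hD
    set DK := D.map (algebraMap F K) with hDK
    have hli : LinearIndependent K (fun i : Fin 6 => fun j => L.v j ^ Fintype.card F ^ (i : ℕ)) := by
      refine Module.End.eigenvectors_linearIndependent' (Matrix.toLin' (M.map (algebraMap F K)))
        (fun i : Fin 6 => L.ζ ^ Fintype.card F ^ (i : ℕ)) ?_ _ fun i => ?_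
      · intro a b e
        exact Fin.ext (orbit_inj hord L.ζ_pow L.ζ_ne 1 (by simp) a.2 b.2 (by simpa using e))
      · refine ⟨Module.End.mem_eigenspace_iff.2 (conj_eig L.eig i), fun h => L.v_ne (funext fun j => ?_)⟩
        exact pow_eq_zero_iff (pow_ne_zero _ Fintype.card_ne_zero) |>.1 (congrFun h j)
    have hker : Submodule.span K (Set.range fun i : Fin 6 => fun j => L.v j ^ Fintype.card F ^ (i : ℕ)) ≤
        LinearMap.ker (Matrix.toLin' DK) := by
      rw [Submodule.span_le]
      rintro _ ⟨i, rfl⟩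
      rw [SetLike.mem_coe, LinearMap.mem_ker, Matrix.toLin'_apply, hDK, hD,
        Matrix.map_sub _ (map_sub _), Matrix.map_one _ (map_zero _) (map_one _), sub_mulVec, one_mulVec]
      exact sub_eq_zero.2 (hfix i)
    have h6 := Submodule.finrank_mono hker
    rw [finrank_span_eq_card hli, Fintype.card_fin] at h6
    have hrn := LinearMap.finrank_range_add_finrank_ker (Matrix.toLin' DK)
    rw [Module.finrank_fin_fun] at hrn
    have hr : Module.finrank K (LinearMap.range (Matrix.toLin' DK)) ≤ 1 :=
      Nat.le_of_add_le_add_right ((Nat.add_le_add_left h6 _).trans hrn.le)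
    obtain ⟨⟨r, hrm⟩, hr'⟩ := finrank_le_one_iff.1 hr
    by_contra hg1
    have hD0 : D ≠ 0 := fun h => hg1 (Subtype.ext (hρ (Units.ext (by
      rw [OneMemClass.coe_one, map_one]; exact sub_eq_zero.1 h))))
    -- `D * D = c • D`
    obtain ⟨c, hc⟩ : ∃ c : K, DK * DK = c • DK := by
      obtain ⟨c, hc⟩ := hr' ⟨_, LinearMap.mem_range_self _ r⟩
      have hc' : c • r = DK *ᵥ r := congrArg Subtype.val hc
      refine ⟨c, Matrix.ext_of_mulVec_single fun i => ?_⟩
      obtain ⟨b, hb⟩ := hr' ⟨_, LinearMap.mem_range_self _ (Pi.single i 1)⟩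
      have hb' : b • r = DK *ᵥ Pi.single i 1 := congrArg Subtype.val hb
      rw [← mulVec_mulVec, smul_mulVec, ← hb', mulVec_smul, ← hc', smul_smul, smul_smul, mul_comm]
    obtain ⟨i, j, hij⟩ : ∃ i j, D i j ≠ 0 := by
      by_contra h; push Not at h; exact hD0 (Matrix.ext h)
    set d : F := (D * D) i j / D i j
    have hcd : c = algebraMap F K d := by
      have h := congrFun (congrFun hc i) j
      rw [hDK, ← Matrix.map_mul] at h
      simp only [Matrix.map_apply, Matrix.smul_apply, smul_eq_mul] at h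
      rw [map_div₀, h, mul_div_cancel_right₀ _ ((map_ne_zero_iff _ (algebraMap F K).injective).2 hij)]
    have hDD : D * D = d • D := by
      refine Matrix.map_injective (algebraMap F K).injective ?_
      show (D * D).map (algebraMap F K) = (d • D).map (algebraMap F K)
      rw [Matrix.map_mul]
      show DK * DK = _
      rw [hc, hcd]
      ext a b
      simp [hDK]
    have hn : (1 + D) ^ Nat.card H = 1 := by
      rw [hD, add_sub_cancel, ← Units.val_pow_eq_pow_val, ← map_pow]
      have : (g : G) ^ Nat.card H = 1 := congrArg Subtype.val (pow_card_eq_one' (x := g))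
      rw [this, map_one]; rfl
    have hmul : ∀ n : ℕ, (1 + D) ^ n * D = (1 + d) ^ n • D := by
      intro n
      induction n with
      | zero => simp
      | succ n ih =>
        rw [pow_succ, mul_assoc, add_mul, one_mul, hDD, mul_add, mul_smul_comm, ih, smul_smul,
          ← add_smul, pow_succ]
        congr 1; ring
    have h1 := hmul (Nat.card H)
    rw [hn, one_mul] at h1
    have hd1 : (1 + d) ^ Nat.card H = 1 := by
      have h := congrFun (congrFun h1 i) j
      simp only [Matrix.smul_apply, smul_eq_mul] at h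
      exact (mul_eq_right₀ hij).1 h.symm
    have hd0 : d = 0 := by
      have hne : 1 + d ≠ 0 := fun h => by
        rw [h, zero_pow Nat.card_pos.ne'] at hd1; exact zero_ne_one hd1
      have h := pow_gcd_eq_one.2 (⟨hd1, FiniteField.pow_card_sub_one_eq_one _ hne⟩ : (1 + d) ^ Nat.card H = 1 ∧ (1 + d) ^ (Fintype.card F - 1) = 1)
      rw [hq.gcd_eq_one, pow_one] at h
      exact left_eq_add.1 h.symm |> id
    have hlin : ∀ n : ℕ, (1 + D) ^ n = 1 + (n : F) • D := by
      intro n
      induction n with
      | zero => simp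
      | succ n ih =>
        rw [pow_succ, ih, add_mul, one_mul, mul_add, mul_one, smul_mul_assoc, hDD, hd0]
        push_cast
        rw [add_smul, one_smul, zero_smul, smul_zero, add_zero]; abel
    rw [hlin, add_eq_left, smul_eq_zero] at hn
    exact hn.elim h0 hD0
  exact isCyclic_of_subgroup_isDomain f hinj

/-- The automiser of `⟨z⟩` is generated by powers of `q`. -/
theorem conj_power (ρ : G →* GL (Fin 7) F) (hρ : Function.Injective ρ) {z : G} {p : ℕ}
    [Fact p.Prime] (hp : (p : F) ≠ 0) (hord : orderOf (Fintype.card F : ZMod p) = 6)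
    (hz : z ^ p = 1) (hz1 : z ≠ 1) {g : G} {k : ℕ} (hg : g * z * g⁻¹ = z ^ k) :
    ∃ i, (k : ZMod p) = (Fintype.card F : ZMod p) ^ i := by
  classical
  set K := AlgebraicClosure F
  set M : Matrix (Fin 7) (Fin 7) F := (ρ z).val with hM
  obtain ⟨L, hL⟩ := exists_line (M := M) hp hord (by rw [hM, ← Units.val_pow_eq_pow_val, ← map_pow, hz, map_one]; rfl)
    (fun h => hz1 (hρ (Units.ext (by rw [map_one]; exact h))))
  have ho : orderOf z = p := orderOf_eq_prime hz hz1
  have hk : (k : ZMod p) ≠ 0 := fun h => hz1 (by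
    rw [ZMod.natCast_eq_zero_iff] at h
    rw [← ho] at h
    rw [orderOf_dvd_iff_pow_eq_one.1 h] at hg
    exact conj_eq_one_iff.1 hg)
  -- the inverse exponent
  set j := ((k : ZMod p)⁻¹).val with hj
  have hjk : (j : ZMod p) = (k : ZMod p)⁻¹ := ZMod.natCast_zmod_val _
  have hzj : z * g = g * z ^ j := by
    have h1 : g * z ^ j * g⁻¹ = z := by
      rw [← conj_pow, hg, ← pow_mul]
      have : ((k * j : ℕ) : ZMod p) = ((1 : ℕ) : ZMod p) := by
        push_cast; rw [hjk, mul_inv_cancel₀ hk]
      rw [pow_eq_pow_iff_modEq.2 (ho ▸ (ZMod.natCast_eq_natCast_iff _ _ _).1 this), pow_one]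
    calc z * g = (g * z ^ j * g⁻¹) * g := by rw [h1]
      _ = g * z ^ j := inv_mul_cancel_right _ _
  let R : G → Matrix (Fin 7) (Fin 7) K := fun g => (ρ g).val.map (algebraMap F K)
  have hR : ∀ g h, R (g * h) = R g * R h := fun g h => by
    simp only [R, map_mul, Units.val_mul, Matrix.map_mul]
  have hpow : ∀ n : ℕ, R (z ^ n) *ᵥ L.v = L.ζ ^ n • L.v := by
    intro n
    induction n with
    | zero => simp [R]
    | succ n ih =>
      rw [pow_succ, hR, ← mulVec_mulVec, show R z *ᵥ L.v = L.ζ • L.v from L.eig, mulVec_smul, ih,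
        smul_smul, ← pow_succ']
  obtain ⟨i, hi, e⟩ := hL j ⟨R g *ᵥ L.v, fun h => L.v_ne (by
      have := congrArg (fun w => R g⁻¹ *ᵥ w) h
      simp only [mulVec_mulVec, ← hR, inv_mul_cancel, mulVec_zero] at this
      simpa [R] using this), by
    rw [show M.map (algebraMap F K) = R z from rfl, mulVec_mulVec, ← hR, hzj, hR, ← mulVec_mulVec,
      hpow, mulVec_smul]⟩ (by rw [hjk]; exact inv_ne_zero hk)
  · refine ⟨6 - i, ?_⟩
    rw [hjk] at e
    rw [← inv_inv (k : ZMod p), e]
    refine inv_eq_of_mul_eq_one_right ?_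
    rw [← pow_add, Nat.add_sub_cancel' hi.le, ← hord, pow_orderOf_eq_one]

end Cfsg.Agent.GLCyclic
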