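import Cfsg.Agent.Lib.Lie.GoodA
import Cfsg.Agent.Lib.Lie.ChevUnip
import Mathlib.Algebra.CharP.Two
import Mathlib.Data.Nat.Bitwise
import Mathlib.LinearAlgebra.FiniteDimensional.Lemmas
import Mathlib.LinearAlgebra.Matrix.ToLin

/-!
# A conjugacy invariant in characteristic two

For a set of coordinates spanning a subspace stable under the group, the rank of `y - 1` on that
subspace, computed from bit vectors.
-/

set_option autoImplicit false

namespace Cfsg.Agent.Chev

open Cfsg.Lie Matrix

namespace Tab

namespace InvR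

variable {T : Tab} {F : Type*} [Field F]

/-- the coordinates in the mask -/
def coordSub (T : Tab) (F : Type*) [Field F] (mask : ℕ) : Submodule F (T.D.Idx → F) where
  carrier := {f | ∀ a, mask.testBit (T.code a) = false → f a = 0}
  add_mem' := fun hf hg a ha => by rw [Pi.add_apply, hf a ha, hg a ha, add_zero]
  zero_mem' := fun _ _ => rfl
  smul_mem' := fun c f hf a ha => by rw [Pi.smul_apply, hf a ha, smul_zero]

theorem mem_coordSub {mask : ℕ} {f : T.D.Idx → F} :
    f ∈ coordSub T F mask ↔ ∀ a, mask.testBit (T.code a) = false → f a = 0 := Iff.rfl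

/-- a bit vector as a vector over `F` -/
def bv (T : Tab) (F : Type*) [Field F] (b : ℕ) : T.D.Idx → F :=
  fun a => if b.testBit (T.code a) then 1 else 0

theorem bv_zero : bv T F 0 = 0 := by funext a; simp [bv]

theorem bv_shift (j : ℕ) : bv T F (1 <<< j) = bas T F j := by
  funext a
  simp only [bv, bas, Nat.shiftLeft_eq, one_mul, Nat.testBit_two_pow, decide_eq_true_eq]
  by_cases h : j = T.code a
  · simp [h]
  · rw [if_neg h, if_neg (Ne.symm h)]

theorem bv_xor [CharP F 2] (b c : ℕ) : bv T F (b ^^^ c) = bv T F b + bv T F c := by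
  funext a
  simp only [bv, Pi.add_apply, Nat.testBit_xor]
  cases b.testBit (T.code a) <;> cases c.testBit (T.code a) <;> simp [CharTwo.add_self_eq_zero]

/-- parity of a sparse vector, as a bit vector -/
def par : SVec → ℕ
  | [] => 0
  | e :: v => if e.2.1 % 2 = 0 then par v else par v ^^^ (1 <<< e.1)

theorem cast_par [CharP F 2] (z : ℤ) : (z : F) = if z % 2 = 0 then 0 else 1 := by
  rcases Int.even_or_odd z with ⟨k, rfl⟩ | ⟨k, rfl⟩
  · rw [if_pos (by omega)]; push_cast; exact CharTwo.add_self_eq_zero _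
  · rw [if_neg (by omega)]; push_cast; rw [CharTwo.two_eq_zero, zero_mul, zero_add]

theorem sem_par [CharP F 2] : ∀ v : SVec, sem T (1 : Fˣ) (1 : Fˣ) v = bv T F (par v)
  | [] => by simp [sem, par, bv_zero]
  | e :: v => by
    rw [sem_cons, sem_par v, par]
    simp only [monVal, _root_.one_zpow, mul_one, Units.val_one, cast_par (F := F) e.2.1]
    by_cases h : e.2.1 % 2 = 0
    · simp [h]
    · rw [if_neg h, if_neg h, one_smul, bv_xor, bv_shift, add_comm]

/-- the word of root elements with parameter one -/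
def oneWord (w : List ℕ) : List (ℕ × List Mono) := w.map fun r => (r, [(1, 0, 0)])

/-- column `j` of `y - 1` -/
def colBits (T : Tab) (w : List ℕ) (j : ℕ) : ℕ :=
  par (T.wapply (oneWord w) [(j, (1, 0, 0))]) ^^^ (1 <<< j)

/-- the product of root elements with parameter one -/
noncomputable def pv (g : T.Good) (F : Type*) [Field F] (w : List ℕ) : GL T.D.Idx F :=
  (w.map fun r => xg g r (1 : F)).prod

@[simp] theorem pv_nil (g : T.Good) : pv g F [] = 1 := rfl

theorem pv_cons (g : T.Good) (r : ℕ) (w : List ℕ) : pv g F (r :: w) = xg g r 1 * pv g F w := by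
  simp [pv]

theorem pv_append (g : T.Good) (v w : List ℕ) : pv g F (v ++ w) = pv g F v * pv g F w := by
  simp [pv]

theorem pv_val (g : T.Good) : ∀ w : List ℕ, ((pv g F w : GL T.D.Idx F) : Matrix T.D.Idx T.D.Idx F) =
    T.D.wordMat F (w.map fun r => (r, (1 : F)))
  | [] => by simp [ChevalleyDatum.wordMat]
  | r :: w => by
    rw [pv_cons, Units.val_mul, pv_val g w, xg_val]
    simp [ChevalleyDatum.wordMat]

theorem colBits_spec [CharP F 2] (g : T.Good) {w : List ℕ} (hw : ∀ r ∈ w, r < T.n) (j : ℕ) :
    ((pv g F w : GL T.D.Idx F) - 1 : Matrix T.D.Idx T.D.Idx F) *ᵥ bas T F j =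
      bv T F (colBits T w j) := by
  have h : ∀ e ∈ oneWord w, e.1 < T.n := by
    simp only [oneWord, List.mem_map]
    rintro e ⟨r, hr, rfl⟩
    exact hw r hr
  have := sem_wapply (T := T) (1 : Fˣ) (1 : Fˣ) g (oneWord w) [(j, (1, 0, 0))] h
  rw [sem_one, sem_par] at this
  rw [sub_mulVec, one_mulVec, colBits, bv_xor, bv_shift, pv_val, sub_eq_add_neg,
    show -(bas T F j) = bas T F j from funext fun a => CharTwo.neg_eq (bas T F j a), this]
  congr 3
  simp [oneWord, pval, monVal, Function.comp_def]

/-! ### Stability -/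

/-- the coordinates of the mask are stable under all root elements -/
def checkStable (T : Tab) (mask : ℕ) : Bool :=
  (mask == 2 ^ (T.l + T.n) - 1) || allBelow (fun r => allBelow (fun v => !mask.testBit v ||
    (T.wapply [(r, [(1, 1, 0)])] [(v, (1, 0, 0))]).all fun e => e.2.1 % 2 == 0 || mask.testBit e.1)
    (T.l + T.n)) T.n

/-- stability of the subspace under a matrix -/
def Stab (T : Tab) (mask : ℕ) (M : Matrix T.D.Idx T.D.Idx F) : Prop :=
  ∀ a b, mask.testBit (T.code a) = false → mask.testBit (T.code b) = true → M a b = 0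

theorem Stab.mem {mask : ℕ} {M : Matrix T.D.Idx T.D.Idx F} (h : Stab T mask M) {f : T.D.Idx → F}
    (hf : f ∈ coordSub T F mask) : M *ᵥ f ∈ coordSub T F mask := by
  intro a ha
  rw [Matrix.mulVec, dotProduct]
  refine Finset.sum_eq_zero fun b _ => ?_
  by_cases hb : mask.testBit (T.code b) = true
  · rw [h a b ha hb, zero_mul]
  · rw [hf b (Bool.not_eq_true _ ▸ hb), mul_zero]

theorem Stab.mul {mask : ℕ} {M N : Matrix T.D.Idx T.D.Idx F} (h : Stab T mask M)
    (h' : Stab T mask N) : Stab T mask (M * N) := by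
  intro a b ha hb
  rw [Matrix.mul_apply]
  refine Finset.sum_eq_zero fun c _ => ?_
  by_cases hc : mask.testBit (T.code c) = true
  · rw [h a c ha hc, zero_mul]
  · rw [h' c b (Bool.not_eq_true _ ▸ hc) hb, mul_zero]

theorem stab_one (g : T.Good) {mask : ℕ} : Stab T mask (1 : Matrix T.D.Idx T.D.Idx F) := by
  intro a b ha hb
  refine Matrix.one_apply_ne fun h => ?_
  rw [h, hb] at ha
  exact Bool.noConfusion ha

theorem stab_root [CharP F 2] (g : T.Good) {mask : ℕ} (h : checkStable T mask = true) {r : ℕ}
    (hr : r < T.n) (t : F) : Stab T mask (T.D.x F r t) := by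
  by_cases ht : t = 0
  · subst ht
    rw [← xg_val g, xg_zero, Units.val_one]
    exact stab_one g
  intro a b ha hb
  have hj := code_lt g b
  rw [checkStable, Bool.or_eq_true, beq_iff_eq] at h
  rcases h with h | h
  · rw [h, Nat.testBit_two_pow_sub_one] at ha
    have := code_lt g a
    simp [this] at ha
  have hh := allBelow_eq_true.1 (allBelow_eq_true.1 h r hr) _ hj
  rw [hb, Bool.not_true, Bool.false_or, List.all_eq_true] at hh
  have hs := sem_wapply (T := T) (Units.mk0 t ht) (1 : Fˣ) g [(r, [(1, 1, 0)])]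
    [(T.code b, (1, 0, 0))] (by simp [hr])
  rw [sem_one] at hs
  have e : T.D.wordMat F ([(r, [((1 : ℤ), (1 : ℤ), (0 : ℤ))])].map
      fun e => (e.1, pval (Units.mk0 t ht) (1 : Fˣ) e.2)) = T.D.x F r t := by
    simp [ChevalleyDatum.wordMat, pval, monVal]
  rw [e] at hs
  have hz : ∀ v : SVec, (∀ e ∈ v, e.2.1 % 2 == 0 || mask.testBit e.1) →
      sem T (Units.mk0 t ht) (1 : Fˣ) v a = 0 := by
    intro v
    induction v with
    | nil => intro _; simp [sem]
    | cons x v ih =>
      intro hv
      rw [sem_cons, Pi.add_apply, ih fun e he => hv e (List.mem_cons_of_mem _ he), add_zero,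
        Pi.smul_apply]
      have hx := hv x List.mem_cons_self
      rw [Bool.or_eq_true, beq_iff_eq] at hx
      rcases hx with hx | hx
      · rw [monVal, cast_par, if_pos hx, zero_mul, zero_smul]
      · rw [bas, if_neg (fun e => by rw [e, hx] at ha; exact Bool.noConfusion ha), smul_zero]
  have := hz _ hh
  rw [hs, bas_code g, Matrix.mulVec_single] at this
  simpa using this

theorem stab_group [CharP F 2] (g : T.Good) {mask : ℕ} (h : checkStable T mask = true)
    {x : GL T.D.Idx F} (hx : x ∈ T.D.group F) :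
    Stab T mask (x : Matrix T.D.Idx T.D.Idx F) ∧ Stab T mask ((x⁻¹ : GL T.D.Idx F) : Matrix T.D.Idx T.D.Idx F) := by
  induction hx using Subgroup.closure_induction with
  | mem x hx =>
    obtain ⟨⟨r, hr⟩, t, hx⟩ := hx
    have hr' : r < T.n := by rwa [← g.nroots_eq]
    have hx' : x = xg g r t := eq_xg g (by rw [hx, ChevalleyDatum.x, dif_pos hr])
    subst hx'
    rw [xg_inv, xg_val, xg_val]
    exact ⟨stab_root g h hr' t, stab_root g h hr' (-t)⟩
  | one => simp [stab_one g]
  | mul x y _ _ hx hy =>
    rw [_root_.mul_inv_rev, Units.val_mul, Units.val_mul]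
    exact ⟨hx.1.mul hy.1, hy.2.mul hx.2⟩
  | inv x _ hx => rw [inv_inv]; exact hx.symm

/-! ### The invariant -/

/-- rank of `y - 1` on the subspace of the mask -/
noncomputable def rk (T : Tab) (F : Type*) [Field F] (mask : ℕ) (y : GL T.D.Idx F) : ℕ :=
  Module.finrank F ((coordSub T F mask).map
    (Matrix.mulVecLin ((y : Matrix T.D.Idx T.D.Idx F) - 1)))

theorem rk_one (mask : ℕ) : rk T F mask 1 = 0 := by
  simp [rk, Units.val_one, sub_self]

theorem rk_conj [CharP F 2] (g : T.Good) {mask : ℕ} (hs : checkStable T mask = true)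
    {y h : GL T.D.Idx F} (hh : h ∈ T.D.group F) :
    rk T F mask (h * y * h⁻¹) = rk T F mask y := by
  obtain ⟨h1, h2⟩ := stab_group g hs hh
  set M : Matrix T.D.Idx T.D.Idx F := (h : Matrix T.D.Idx T.D.Idx F)
  set M' : Matrix T.D.Idx T.D.Idx F := ((h⁻¹ : GL T.D.Idx F) : Matrix T.D.Idx T.D.Idx F)
  have hMM : M * M' = 1 := Units.mul_inv h
  have hM'M : M' * M = 1 := Units.inv_mul h
  have e : ((h * y * h⁻¹ : GL T.D.Idx F) : Matrix T.D.Idx T.D.Idx F) - 1 =
      M * ((y : Matrix T.D.Idx T.D.Idx F) - 1) * M' := by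
    rw [Matrix.mul_sub, Matrix.sub_mul, Matrix.mul_one, hMM, Units.val_mul, Units.val_mul]
  have hW : (coordSub T F mask).map (Matrix.mulVecLin M') = coordSub T F mask := by
    refine le_antisymm ?_ fun f hf => ⟨M *ᵥ f, h1.mem hf, ?_⟩
    · rintro _ ⟨f, hf, rfl⟩
      exact h2.mem hf
    · rw [Matrix.mulVecLin_apply, Matrix.mulVec_mulVec, hM'M, Matrix.one_mulVec]
  have hinj : Function.Injective (Matrix.mulVecLin M) := by
    intro a b hab
    have := congrArg (Matrix.mulVec M') hab
    simpa [Matrix.mulVec_mulVec, hM'M] using this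
  rw [rk, rk, e, Matrix.mulVecLin_mul, Matrix.mulVecLin_mul, Submodule.map_comp, hW,
    Submodule.map_comp]
  exact (Submodule.equivMapOfInjective _ hinj _).finrank_eq.symm

/-! ### Rank certificates -/

/-- xor of the selected entries -/
def selXor : List ℕ → ℕ → ℕ
  | [], _ => 0
  | b :: L, e => (if e % 2 = 1 then b else 0) ^^^ selXor L (e / 2)

theorem selXor_mem [CharP F 2] {S : Submodule F (T.D.Idx → F)} : ∀ (L : List ℕ) (e : ℕ),
    (∀ k < L.length, e.testBit k = true → bv T F (L.getD k 0) ∈ S) → bv T F (selXor L e) ∈ S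
  | [], e, _ => by simp [selXor, bv_zero]
  | b :: L, e, h => by
    rw [selXor, bv_xor]
    refine add_mem ?_ (selXor_mem L (e / 2) fun k hk hb => ?_)
    · split_ifs with h'
      · exact h 0 (by simp) (by simp [Nat.testBit_zero, h'])
      · rw [bv_zero]; exact zero_mem _
    · have := h (k + 1) (by simpa using hk) (by rw [Nat.testBit_succ]; exact hb)
      simpa using this

/-- triangular basis: each pivot occurs in its vector and in no later one -/
def checkTri (T : Tab) : List (ℕ × ℕ) → Bool
  | [] => true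
  | e :: L => decide (e.2 < T.l + T.n) && e.1.testBit e.2 &&
      (L.all fun f => !f.1.testBit e.2) && checkTri T L

theorem tri_finrank (g : T.Good) : ∀ L : List (ℕ × ℕ), checkTri T L = true →
    Module.finrank F ↥(Submodule.span F {f | ∃ e ∈ L, f = bv T F e.1}) = L.length
  | [], _ => by
    rw [show {f : T.D.Idx → F | ∃ e ∈ ([] : List (ℕ × ℕ)), f = bv T F e.1} = ∅ by ext; simp,
      Submodule.span_empty]
    simp
  | e :: L, h => by
    simp only [checkTri, Bool.and_eq_true, decide_eq_true_eq, List.all_eq_true,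
      Bool.not_eq_true'] at h
    obtain ⟨⟨⟨hp, hb⟩, hL⟩, hrest⟩ := h
    have ih := tri_finrank g L hrest
    obtain ⟨a, ha⟩ := exists_code g hp
    set S := Submodule.span F {f : T.D.Idx → F | ∃ e ∈ L, f = bv T F e.1}
    have hset : {f : T.D.Idx → F | ∃ x ∈ e :: L, f = bv T F x.1} =
        {bv T F e.1} ∪ {f | ∃ x ∈ L, f = bv T F x.1} := by
      ext f; simp
    have hS : ∀ f ∈ S, f a = 0 := fun f hf => by
      induction hf using Submodule.span_induction with
      | mem x hx => obtain ⟨z, hz, rfl⟩ := hx; simp [bv, ha, hL z hz]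
      | zero => rfl
      | add x y _ _ hx hy => rw [Pi.add_apply, hx, hy, add_zero]
      | smul c x _ hx => rw [Pi.smul_apply, hx, smul_zero]
    have he : bv T F e.1 a = 1 := by simp [bv, ha, hb]
    have hne : bv T F e.1 ≠ 0 := fun h0 => one_ne_zero (he.symm.trans (congrFun h0 a))
    have hinf : (F ∙ bv T F e.1) ⊓ S = ⊥ := by
      rw [Submodule.eq_bot_iff]
      rintro x ⟨hx1, hx2⟩
      obtain ⟨c, rfl⟩ := Submodule.mem_span_singleton.1 hx1
      have := hS _ hx2
      rw [Pi.smul_apply, he, smul_eq_mul, mul_one] at this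
      rw [this, zero_smul]
    rw [hset, Submodule.span_union]
    have := Submodule.finrank_sup_add_finrank_inf_eq (F ∙ bv T F e.1) S
    rw [hinf, finrank_bot, add_zero, finrank_span_singleton hne, ih] at this
    rw [this, List.length_cons, add_comm]

/-- certificate for the rank: columns, basis with pivots, and both expressions -/
structure RkCert where
  /-- the columns -/
  cols : List ℕ
  /-- the basis with pivots -/
  basis : List (ℕ × ℕ)
  /-- columns in the basis -/
  colExp : List ℕ
  /-- the basis in the columns -/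
  basExp : List ℕ

/-- check a rank certificate -/
def checkRk (T : Tab) (mask : ℕ) (w : List ℕ) (c : RkCert) : Bool :=
  w.all (fun r => Nat.blt r T.n) && checkTri T c.basis &&
  allBelow (fun j => !mask.testBit j || (c.cols.getD j 0 == colBits T w j &&
    c.cols.getD j 0 == selXor (c.basis.map Prod.fst) (c.colExp.getD j 0))) (T.l + T.n) &&
  allBelow (fun k => selXor c.cols (c.basExp.getD k 0) == (c.basis.getD k (0, 0)).1 &&
    (c.basExp.getD k 0 &&& mask) == c.basExp.getD k 0 &&
    decide (c.cols.length ≤ T.l + T.n)) c.basis.length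

theorem rk_eq [CharP F 2] (g : T.Good) {mask : ℕ} {w : List ℕ} {c : RkCert}
    (h : checkRk T mask w c = true) : rk T F mask (pv g F w) = c.basis.length := by
  simp only [checkRk, Bool.and_eq_true, List.all_eq_true, nat_blt, allBelow_eq_true, Bool.or_eq_true,
    Bool.not_eq_true', beq_iff_eq, decide_eq_true_eq] at h
  obtain ⟨⟨⟨hw, htri⟩, hcol⟩, hbas⟩ := h
  rw [rk, ← tri_finrank (F := F) g c.basis htri]
  set A := Matrix.mulVecLin (((pv g F w : GL T.D.Idx F) : Matrix T.D.Idx T.D.Idx F) - 1) with hA
  set S := Submodule.span F {f : T.D.Idx → F | ∃ e ∈ c.basis, f = bv T F e.1} with hS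
  have hc : ∀ j < T.l + T.n, mask.testBit j = true → A (bas T F j) = bv T F (c.cols.getD j 0) :=
    fun j hj hb => by
      rcases hcol j hj with h | h
      · rw [hb] at h; exact Bool.noConfusion h
      · rw [hA, Matrix.mulVecLin_apply, colBits_spec g hw, h.1]
  suffices (coordSub T F mask).map A = S by rw [this]
  refine le_antisymm ?_ (Submodule.span_le.2 ?_)
  · rintro _ ⟨f, hf, rfl⟩
    have hsum : f = ∑ a, f a • bas T F (T.code a) := by
      simp only [bas_code g]
      exact pi_eq_sum_univ' f
    rw [hsum, map_sum]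
    refine Submodule.sum_mem _ fun a _ => ?_
    rw [map_smul]
    by_cases ha : mask.testBit (T.code a) = true
    · refine Submodule.smul_mem _ _ ?_
      rw [hc _ (code_lt g a) ha]
      rcases hcol _ (code_lt g a) with h | h
      · rw [ha] at h; exact Bool.noConfusion h
      rw [h.2]
      refine selXor_mem _ _ fun k hk _ => Submodule.subset_span ?_
      rw [List.length_map] at hk
      exact ⟨c.basis[k], List.getElem_mem hk, by simp [List.getD, hk]⟩
    · rw [hf a (Bool.not_eq_true _ ▸ ha), zero_smul]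
      exact zero_mem _
  · rintro _ ⟨e, he, rfl⟩
    obtain ⟨k, hk, rfl⟩ := List.getElem_of_mem he
    obtain ⟨⟨h1, h2⟩, h3⟩ := hbas k hk
    have e1 : c.basis.getD k (0, 0) = c.basis[k] := by simp [List.getD, hk]
    rw [e1] at h1
    rw [SetLike.mem_coe, ← h1]
    refine selXor_mem _ _ fun j hj hb => ?_
    have hb' : mask.testBit j = true := by
      rw [← h2, Nat.testBit_and, Bool.and_eq_true] at hb
      exact hb.2
    rw [← hc j (by omega) hb']
    refine ⟨bas T F j, fun a ha => ?_, rfl⟩
    rw [bas, if_neg]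
    intro e'
    rw [e', hb'] at ha
    exact Bool.noConfusion ha

end InvR

end Tab

end Cfsg.Agent.Chev
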