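import Cfsg.Agent.Lib.Lie.InvCell
import Cfsg.Agent.Lib.Lie.InvRank
import Cfsg.Agent.Lib.Lie.Collect2
import Mathlib.GroupTheory.OrderOfElement
import Mathlib.Algebra.Group.Conj
import Mathlib.Data.Set.Card

/-!
# Certified lists of involution classes in characteristic two
-/

set_option autoImplicit false

namespace Cfsg.Agent.Chev

open Cfsg.Lie

namespace Tab

namespace InvK

open InvR InvC

variable {T : Tab} {K : List (List ℕ)} {F : Type*} [Field F]

/-! ### Paths of conjugations -/

/-- an elementary conjugation: relabel by a word, conjugate by root elements, collect -/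
structure Step where
  /-- the word -/
  rel : List ℕ
  /-- the conjugating roots -/
  by' : List ℕ
  /-- the result -/
  res : List ℕ

/-- atoms with parameter one -/
def atoms (w : List ℕ) : List Mon := w.map fun r => (r, 0, 0)

/-- a step is correct -/
def checkStep (T : Tab) (w : List ℕ) (s : Step) : Bool :=
  w.all (fun r => Nat.blt r T.n) && s.rel.all (fun i => Nat.blt i T.l) &&
    mEqB T (atoms (s.by' ++ w.map (T.rw' s.rel) ++ s.by'.reverse)) (atoms s.res)

/-- a path is correct and ends at `z` -/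
def checkPath (T : Tab) (z : List ℕ) : List ℕ → List Step → Bool
  | w, [] => w == z
  | w, s :: p => checkStep T w s && checkPath T z s.res p

theorem atoms_val (g : T.Good) (w : List ℕ) : mWord g (1 : F) 1 (atoms w) = pv g F w := by
  simp [mWord, atoms, mVal, pv, Function.comp_def]

theorem pv_mem_group (g : T.Good) (w : List ℕ) : pv g F w ∈ T.D.group F :=
  Subgroup.list_prod_mem _ fun x hx => by
    obtain ⟨r, -, rfl⟩ := List.mem_map.1 hx
    exact xg_mem_group g r 1

section CharTwo

variable [CharP F 2]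

theorem pv_inv (g : T.Good) : ∀ w : List ℕ, (pv g F w)⁻¹ = pv g F w.reverse
  | [] => by simp
  | r :: w => by
    rw [pv_cons, _root_.mul_inv_rev, pv_inv g w, List.reverse_cons, pv_append, pv_cons, pv_nil,
      mul_one, xg_inv, CharTwo.neg_eq]

theorem pv_rel (g : T.Good) {M : List ℕ} (hM : T.Wd M) :
    ∀ w : List ℕ, (∀ r ∈ w, r < T.n) →
      nWd g F M * pv g F w * (nWd g F M)⁻¹ = pv g F (w.map (T.rw' M))
  | [], _ => by simp
  | r :: w, h => by
    rw [pv_cons, List.map_cons, pv_cons, ← pv_rel g hM w fun s hs => h s (List.mem_cons_of_mem _ hs),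
      ← nWd_conj_two g hM (h r List.mem_cons_self)]
    group

theorem step_conj (g : T.GoodA) {w : List ℕ} {s : Step} (h : checkStep T w s = true) :
    ∃ h ∈ T.D.group F, h * pv g.toGood F w * h⁻¹ = pv g.toGood F s.res := by
  simp only [checkStep, Bool.and_eq_true, List.all_eq_true, nat_blt] at h
  obtain ⟨⟨hw, hM⟩, he⟩ := h
  refine ⟨pv g.toGood F s.by' * nWd g.toGood F s.rel,
    mul_mem (pv_mem_group g.toGood _) (monomial_le_group g.toGood
      ((mem_monomial_iff g.toGood).2 ⟨s.rel, hM, 1, by simp⟩)), ?_⟩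
  have e := mEqB_val g (1 : F) 1 he
  rw [atoms_val, atoms_val, pv_append, pv_append, ← pv_inv, ← pv_rel g.toGood hM w hw] at e
  rw [← e]
  group

theorem path_conj (g : T.GoodA) {z : List ℕ} : ∀ (w : List ℕ) (p : List Step),
    checkPath T z w p = true → ∃ h ∈ T.D.group F, h * pv g.toGood F w * h⁻¹ = pv g.toGood F z
  | w, [], h => by
    simp only [checkPath, beq_iff_eq] at h
    subst h
    exact ⟨1, one_mem _, by simp⟩
  | w, s :: p, h => by
    simp only [checkPath, Bool.and_eq_true] at h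
    exact conj_trans _ (step_conj g h.1) (path_conj g s.res p h.2)

/-! ### Products of reflections in orthogonal roots -/

/-- a root `β` with a word sending the fundamental root `p_i` to it -/
structure Ref where
  /-- the root -/
  root : ℕ
  /-- the word -/
  word : List ℕ
  /-- the index -/
  idx : ℕ

/-- the word of the reflection -/
def Ref.refl (b : Ref) : List ℕ := b.word ++ [b.idx] ++ b.word.reverse

/-- the roots and their negatives -/
def pairs (T : Tab) (O : List Ref) : List ℕ := O.flatMap fun b => [b.root, T.neg b.root]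

/-- the reflection data are correct and commute pairwise -/
def checkRefs (T : Tab) : List Ref → Bool
  | [] => true
  | b :: O => Nat.blt b.idx T.l && b.word.all (fun i => Nat.blt i T.l) &&
      T.rw' b.word (T.smp b.idx) == b.root && T.checkComPair [b.root, T.neg b.root] (pairs T O) &&
      checkRefs T O

omit [CharP F 2] in
theorem refs_wd : ∀ {O : List Ref}, checkRefs T O = true → T.Wd (O.flatMap Ref.refl)
  | [], _ => by simp [Wd]
  | b :: O, h => by
    simp only [checkRefs, Bool.and_eq_true, List.all_eq_true, nat_blt] at h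
    rw [List.flatMap_cons]
    refine Wd.append_iff.2 ⟨Wd.append_iff.2 ⟨Wd.append_iff.2 ⟨h.1.1.1.2, ?_⟩, Wd.reverse h.1.1.1.2⟩,
      refs_wd h.2⟩
    simp [Wd, h.1.1.1.1]

theorem refl_conj (g : T.GoodA) : ∀ {O : List Ref}, checkRefs T O = true →
    nWd g.toGood F (O.flatMap Ref.refl) ∈ genS g.toGood F {r | r ∈ pairs T O} ∧
      ∃ h ∈ genS g.toGood F {r | r ∈ pairs T O},
        h * nWd g.toGood F (O.flatMap Ref.refl) * h⁻¹ =
          pv g.toGood F (O.map fun b => T.neg b.root)
  | [], _ => ⟨by simp [one_mem], 1, one_mem _, by simp⟩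
  | b :: O, h => by
    have hg := g.toGood
    simp only [checkRefs, Bool.and_eq_true, List.all_eq_true, nat_blt, beq_iff_eq] at h
    obtain ⟨⟨⟨⟨hi, hw⟩, hb⟩, hc⟩, hO⟩ := h
    obtain ⟨ihm, h', hh', e'⟩ := refl_conj g hO
    set x : GL T.D.Idx F := xg hg b.root 1 with hx
    set x' : GL T.D.Idx F := xg hg (T.neg b.root) 1 with hx'
    have hin : ∀ r ∈ [b.root, T.neg b.root], ∀ t : F,
        xg hg r t ∈ genS hg F {r | r ∈ [b.root, T.neg b.root]} := fun r hr t =>
      xg_mem_genS hg (S := {r | r ∈ [b.root, T.neg b.root]}) hr t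
    have hn : nWd hg F b.refl = x * x' * x := by
      rw [Ref.refl, nWd_append, nWd_append, nWd_single, ← nWd_rev hg hw]
      have hnG : nG hg F b.idx =
          xg hg (T.smp b.idx) 1 * xg hg (T.neg (T.smp b.idx)) (-1) * xg hg (T.smp b.idx) 1 := rfl
      have e : ∀ ω u v y : GL T.D.Idx F, ω * (u * v * y) * ω⁻¹ =
          (ω * u * ω⁻¹) * (ω * v * ω⁻¹) * (ω * y * ω⁻¹) := fun ω u v y => by group
      rw [hnG, e, nWd_conj_two hg hw (hg.smp_lt hi), nWd_conj_two hg hw (neg_lt (hg.smp_lt hi)),
        rw'_neg hg hw (hg.smp_lt hi), hb, CharTwo.neg_eq]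
    have hxx : x * x = 1 := by rw [hx, xg_add, CharTwo.add_self_eq_zero, xg_zero]
    have hmem : x ∈ genS hg F {r | r ∈ [b.root, T.neg b.root]} := hin _ (by simp) _
    have hnmem : nWd hg F b.refl ∈ genS hg F {r | r ∈ [b.root, T.neg b.root]} := by
      rw [hn]
      exact mul_mem (mul_mem hmem (hin _ (by simp) _)) hmem
    have hsub1 : genS hg F {r | r ∈ [b.root, T.neg b.root]} ≤ genS hg F {r | r ∈ pairs T (b :: O)} :=
      genS_mono hg fun r hr => by
        simp only [pairs, List.flatMap_cons, Set.mem_setOf_eq, List.mem_append]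
        exact Or.inl hr
    have hsub2 : genS hg F {r | r ∈ pairs T O} ≤ genS hg F {r | r ∈ pairs T (b :: O)} :=
      genS_mono hg fun r hr => by
        simp only [pairs, List.flatMap_cons, Set.mem_setOf_eq, List.mem_append]
        exact Or.inr hr
    refine ⟨?_, x * h', mul_mem (hsub1 hmem) (hsub2 hh'), ?_⟩
    · rw [List.flatMap_cons, nWd_append]
      exact mul_mem (hsub1 hnmem) (hsub2 ihm)
    rw [List.flatMap_cons, nWd_append, List.map_cons, pv_cons, ← hx', ← e']
    have c1 : Commute (nWd hg F b.refl) h' := genS_commute g hc hnmem hh'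
    have c2 : Commute x (h' * nWd hg F (O.flatMap Ref.refl) * h'⁻¹) :=
      genS_commute g hc hmem (mul_mem (mul_mem hh' ihm) (inv_mem hh'))
    calc x * h' * (nWd hg F b.refl * nWd hg F (O.flatMap Ref.refl)) * (x * h')⁻¹
        = x * (h' * nWd hg F b.refl) * nWd hg F (O.flatMap Ref.refl) * h'⁻¹ * x⁻¹ := by group
      _ = x * (x * x' * x) * (h' * nWd hg F (O.flatMap Ref.refl) * h'⁻¹) * x⁻¹ := by
        rw [← c1.eq, hn]; group
      _ = (x * x) * x' * (x * (h' * nWd hg F (O.flatMap Ref.refl) * h'⁻¹) * x⁻¹) := by group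
      _ = _ := by rw [hxx, c2.eq, one_mul]; group

/-! ### The certificates -/

/-- the certificate of one mask -/
inductive MCert where
  /-- the mask does not occur: the fundamental root `i` is not fixed -/
  | bad (i : ℕ)
  /-- orthogonal reflections and a path -/
  | good (O : List Ref) (target : List ℕ) (path : List Step)

/-- the check of one mask -/
def checkMask (T : Tab) (reps : List (List ℕ)) (w₀ : List ℕ) (m : ℕ) (wI : List ℕ) : MCert → Bool
  | .bad i => Nat.blt i T.l && m.testBit i &&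
      !(T.rw' (w₀ ++ wI.reverse) (T.smp i) == T.smp i)
  | .good O z p => checkRefs T O &&
      allBelow (fun i => T.rw' (w₀ ++ wI.reverse) (T.smp i) ==
        T.rw' (O.flatMap Ref.refl) (T.smp i)) T.l &&
      (z.isEmpty || reps.contains z) && checkPath T z (O.map fun b => T.neg b.root) p

/-- the whole certificate of completeness -/
def checkCls (T : Tab) (reps : List (List ℕ)) (w₀ : List ℕ) (C : List (List ℕ × MCert)) : Bool :=
  w₀.all (fun i => Nat.blt i T.l) &&
  allBelow (fun i => Nat.blt (T.rw' w₀.reverse (T.smp i)) T.N) T.l &&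
  allBelow (fun m => let e := C.getD m ([], .bad T.l)
    e.1.all (fun i => Nat.blt i T.l && m.testBit i) &&
      allBelow (fun i => !m.testBit i || Nat.blt (T.rw' e.1 (T.smp i)) T.N) T.l &&
      checkMask T reps w₀ m e.1 e.2) (2 ^ T.l)

theorem cls_cover [Fintype F] (g : T.GoodK K) {reps : List (List ℕ)} {w₀ : List ℕ}
    {C : List (List ℕ × MCert)} (h : checkCls T reps w₀ C = true) {x : GL T.D.Idx F}
    (hx : x ∈ T.D.group F) (hx2 : x * x = 1) (hx1 : x ≠ 1) :
    ∃ w ∈ reps, ∃ h ∈ T.D.group F, h * x * h⁻¹ = pv g.toGood F w := by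
  simp only [checkCls, Bool.and_eq_true, List.all_eq_true, nat_blt, allBelow_eq_true, Bool.or_eq_true,
    Bool.not_eq_true'] at h
  obtain ⟨⟨hw, hw₀⟩, hC⟩ := h
  obtain ⟨m, hm, hfix, hconj⟩ := exists_conj_mask g (w₀ := w₀) hw hw₀
    (fun m => (C.getD m ([], .bad T.l)).1) (fun m hm => ⟨(hC m hm).1.1, fun i hi hb => by
      rcases (hC m hm).1.2 i hi with h | h
      · rw [hb] at h; exact Bool.noConfusion h
      · exact h⟩) hx hx2
  have hW : T.Wd (C.getD m ([], .bad T.l)).1 := fun i hi => ((hC m hm).1.1 i hi).1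
  have hmask := (hC m hm).2
  cases hc : (C.getD m ([], MCert.bad T.l)).2 with
  | bad i =>
    rw [hc] at hmask
    simp only [checkMask, Bool.and_eq_true, nat_blt, Bool.not_eq_true', beq_eq_false_iff_ne] at hmask
    exact absurd (hfix i hmask.1.1 hmask.1.2) hmask.2
  | good O z p =>
    rw [hc] at hmask
    simp only [checkMask, Bool.and_eq_true, allBelow_eq_true, beq_iff_eq, Bool.or_eq_true,
      List.isEmpty_iff, List.contains_iff_mem] at hmask
    obtain ⟨⟨⟨hO, hperm⟩, hz⟩, hp⟩ := hmask
    have hV := Wd.append_iff.2 ⟨hw, hW.reverse⟩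
    have e := nWd_congr (F := F) g.toGood hV (refs_wd hO)
      ((pL_eq_iff g.toGood hV (refs_wd hO)).1 (pL_eq_of_simple g.toGood hV (refs_wd hO) hperm))
    rw [e] at hconj
    obtain ⟨-, h₁, hh₁, e₁⟩ := refl_conj (F := F) g.toGoodA hO
    have hgrp : genS g.toGood F {r | r ∈ pairs T O} ≤ T.D.group F :=
      genS_le g.toGood fun r _ t => xg_mem_group g.toGood r t
    obtain ⟨h₂, hh₂, e₂⟩ := conj_trans _ hconj
      (conj_trans _ ⟨h₁, hgrp hh₁, e₁⟩ (path_conj g.toGoodA _ p hp))
    rcases hz with rfl | hz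
    · exfalso
      rw [pv_nil, conj_eq_one_iff] at e₂
      exact hx1 e₂
    · exact ⟨z, hz, h₂, hh₂, e₂⟩

/-- the check of the representatives -/
def checkReps (T : Tab) (masks : List ℕ) (reps : List (List ℕ)) (R : List (List RkCert)) : Bool :=
  masks.all (checkStable T) &&
  allBelow (fun k => mEqB T (atoms (reps.getD k [] ++ reps.getD k [])) [] &&
    allBelow (fun j => checkRk T (masks.getD j 0) (reps.getD k [])
      ((R.getD k []).getD j ⟨[], [], [], []⟩)) masks.length &&
    anyBelow (fun j => !((R.getD k []).getD j ⟨[], [], [], []⟩).basis.length == 0) masks.length &&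
    allBelow (fun k' => anyBelow (fun j =>
      !(((R.getD k []).getD j ⟨[], [], [], []⟩).basis.length ==
        ((R.getD k' []).getD j ⟨[], [], [], []⟩).basis.length)) masks.length) k) reps.length

variable {masks : List ℕ} {reps : List (List ℕ)} {R : List (List RkCert)}

theorem reps_rk (g : T.GoodA) (h : checkReps T masks reps R = true) {k : ℕ} (hk : k < reps.length)
    {j : ℕ} (hj : j < masks.length) :
    rk T F (masks.getD j 0) (pv g.toGood F (reps.getD k [])) =
      ((R.getD k []).getD j ⟨[], [], [], []⟩).basis.length := by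
  simp only [checkReps, Bool.and_eq_true, allBelow_eq_true] at h
  exact rk_eq g.toGood ((h.2 k hk).1.1.2 j hj)

theorem reps_sep (g : T.GoodA) (h : checkReps T masks reps R = true) {k k' : ℕ}
    (hk : k < reps.length) (hk' : k' < k) {y : GL T.D.Idx F} (hy : y ∈ T.D.group F) :
    y * pv g.toGood F (reps.getD k []) * y⁻¹ ≠ pv g.toGood F (reps.getD k' []) := by
  intro e
  have h' := h
  simp only [checkReps, Bool.and_eq_true, allBelow_eq_true, anyBelow_eq_true, List.all_eq_true,
    Bool.not_eq_true', beq_eq_false_iff_ne] at h'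
  obtain ⟨j, hj, hne⟩ := (h'.2 k hk).2 k' hk'
  apply hne
  have hs : checkStable T (masks.getD j 0) = true :=
    h'.1 _ (by simp [List.getD, hj])
  rw [← reps_rk g h hk hj (F := F), ← reps_rk g h (by omega : k' < reps.length) hj (F := F), ← e,
    rk_conj g.toGood hs hy]

theorem reps_order (g : T.GoodA) (h : checkReps T masks reps R = true) {k : ℕ}
    (hk : k < reps.length) : orderOf (pv g.toGood F (reps.getD k [])) = 2 := by
  have h' := h
  simp only [checkReps, Bool.and_eq_true, allBelow_eq_true, anyBelow_eq_true, Bool.not_eq_true',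
    beq_eq_false_iff_ne] at h'
  obtain ⟨⟨⟨h1, -⟩, j, hj, h3⟩, -⟩ := h'.2 k hk
  refine orderOf_eq_prime ?_ fun e => h3 ?_
  · have := mEqB_val g (1 : F) 1 h1
    rw [atoms_val, pv_append] at this
    rw [pow_two, this]
    simp [mWord]
  · rw [← reps_rk g h hk hj (F := F), e, rk_one]

/-- the matrix of a representative -/
def mat (T : Tab) (F : Type*) [Field F] (w : List ℕ) : Matrix T.D.Idx T.D.Idx F :=
  (w.map fun r => T.D.x F r 1).prod

omit [CharP F 2] in
theorem eq_pv_of_mat (g : T.Good) {y : GL T.D.Idx F} {w : List ℕ}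
    (h : (y : Matrix T.D.Idx T.D.Idx F) = mat T F w) : y = pv g F w := by
  refine Units.ext ?_
  rw [h, pv_val, mat, ChevalleyDatum.wordMat, List.map_map]
  rfl

/-- three part classification statement -/
theorem classify [Fintype F] (g : T.GoodK K) {w₀ : List ℕ} {C : List (List ℕ × MCert)}
    (hC : checkCls T reps w₀ C = true) (hR : checkReps T masks reps R = true) :
    (∀ y : GL T.D.Idx F, (y : Matrix T.D.Idx T.D.Idx F) ∈ reps.map (mat T F) →
      y ∈ T.D.group F ∧ orderOf y = 2) ∧
    (∀ x ∈ T.D.group F, orderOf x = 2 → ∃ y ∈ T.D.group F,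
      (y : Matrix T.D.Idx T.D.Idx F) ∈ reps.map (mat T F) ∧ ∃ h ∈ T.D.group F, h * x * h⁻¹ = y) ∧
    (∀ y₁ ∈ T.D.group F, ∀ y₂ ∈ T.D.group F,
      (y₁ : Matrix T.D.Idx T.D.Idx F) ∈ reps.map (mat T F) →
      (y₂ : Matrix T.D.Idx T.D.Idx F) ∈ reps.map (mat T F) →
      (∃ h ∈ T.D.group F, h * y₁ * h⁻¹ = y₂) →
      (y₁ : Matrix T.D.Idx T.D.Idx F) = (y₂ : Matrix T.D.Idx T.D.Idx F)) := by
  have getk : ∀ {y : GL T.D.Idx F}, (y : Matrix T.D.Idx T.D.Idx F) ∈ reps.map (mat T F) →
      ∃ k < reps.length, y = pv g.toGood F (reps.getD k []) := by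
    intro y hy
    obtain ⟨w, hw, e⟩ := List.mem_map.1 hy
    obtain ⟨k, hk, rfl⟩ := List.getElem_of_mem hw
    exact ⟨k, hk, by rw [eq_pv_of_mat g.toGood e.symm]; simp [List.getD, hk]⟩
  refine ⟨fun y hy => ?_, fun x hx hx2 => ?_, fun y₁ _ y₂ _ h₁ h₂ hh => ?_⟩
  · obtain ⟨k, hk, rfl⟩ := getk hy
    exact ⟨pv_mem_group g.toGood _, reps_order g.toGoodA hR hk⟩
  · have hxx : x * x = 1 := by rw [← pow_two, ← hx2, pow_orderOf_eq_one]
    have hne : x ≠ 1 := fun e => by rw [e, orderOf_one] at hx2; omega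
    obtain ⟨w, hw, h, hh, e⟩ := cls_cover g hC hx hxx hne
    refine ⟨pv g.toGood F w, pv_mem_group g.toGood w, List.mem_map.2 ⟨w, hw, ?_⟩, h, hh, e⟩
    rw [pv_val, mat, ChevalleyDatum.wordMat, List.map_map]
    rfl
  · obtain ⟨k, hk, rfl⟩ := getk h₁
    obtain ⟨k', hk', rfl⟩ := getk h₂
    obtain ⟨h, hh, e⟩ := hh
    rcases lt_trichotomy k k' with hlt | rfl | hlt
    · refine absurd ?_ (reps_sep g.toGoodA hR hk' hlt (inv_mem hh))
      rw [← e]; group
    · rfl
    · exact absurd e (reps_sep g.toGoodA hR hk hlt hh)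

/-- the number of classes -/
theorem count [Fintype F] (g : T.GoodK K) {w₀ : List ℕ} {C : List (List ℕ × MCert)}
    (hC : checkCls T reps w₀ C = true) (hR : checkReps T masks reps R = true) :
    (ConjClasses.mk '' {x : ↥(T.D.group F) | orderOf x = 2}).ncard = reps.length := by
  let f : Fin reps.length → ConjClasses ↥(T.D.group F) := fun k =>
    ConjClasses.mk ⟨pv g.toGood F (reps.getD k []), pv_mem_group g.toGood _⟩
  have he : ConjClasses.mk '' {x : ↥(T.D.group F) | orderOf x = 2} = Set.range f := by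
    ext c
    constructor
    · rintro ⟨⟨x, hx⟩, hx2, rfl⟩
      rw [Set.mem_setOf_eq, Subgroup.orderOf_mk] at hx2
      have hxx : x * x = 1 := by rw [← pow_two, ← hx2, pow_orderOf_eq_one]
      have hne : x ≠ 1 := fun e => by rw [e, orderOf_one] at hx2; omega
      obtain ⟨w, hw, h, hh, e⟩ := cls_cover g hC hx hxx hne
      obtain ⟨k, hk, rfl⟩ := List.getElem_of_mem hw
      refine ⟨⟨k, hk⟩, (ConjClasses.mk_eq_mk_iff_isConj.2 (isConj_iff.2 ⟨⟨h, hh⟩, ?_⟩)).symm⟩
      refine Subtype.ext ?_
      show h * x * h⁻¹ = _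
      rw [e]
      simp [List.getD, hk]
    · rintro ⟨k, rfl⟩
      exact ⟨_, by rw [Set.mem_setOf_eq, Subgroup.orderOf_mk]; exact reps_order g.toGoodA hR k.2,
        rfl⟩
  have hinj : Function.Injective f := by
    intro a b hab
    obtain ⟨c, hc⟩ := isConj_iff.1 (ConjClasses.mk_eq_mk_iff_isConj.1 hab)
    have e : (c : GL T.D.Idx F) * pv g.toGood F (reps.getD a []) * (c : GL T.D.Idx F)⁻¹ =
        pv g.toGood F (reps.getD b []) := congrArg Subtype.val hc
    rcases lt_trichotomy (a : ℕ) b with hlt | heq | hlt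
    · refine absurd ?_ (reps_sep g.toGoodA hR b.2 hlt (inv_mem c.2))
      rw [← e]; group
    · exact Fin.ext heq
    · exact absurd e (reps_sep g.toGoodA hR a.2 hlt c.2)
  rw [he, Set.ncard_range_of_injective hinj, Nat.card_fin]

end CharTwo

end InvK

end Tab

end Cfsg.Agent.Chev
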