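import Cfsg.Agent.Lib.Lie.TwG2
import Cfsg.Agent.Lib.Lie.ChevSylow
import Mathlib.GroupTheory.SpecificGroups.Cyclic
import Mathlib.GroupTheory.Sylow
import Mathlib.GroupTheory.GroupAction.Quotient

/-!
# The Borel subgroup of the small Ree groups
-/

set_option autoImplicit false

namespace Cfsg.Agent.Chev.Ree

open Cfsg.Lie TwG2 Tab

variable {F : Type*} [Field F]

/-! ### the multiplication of the unipotent subgroup -/

theorem cTerms_vals :
    ([6, 7] : List ℕ).map (fun r => ([8, 9, 10, 11] : List ℕ).map fun s => G2Data.tab.cTerms r s) =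
      [[[], [], [(11, 1, 1, 1)], []],
        [[(9, -2, 1, 1), (10, -3, 2, 1), (11, 3, 1, 2)], [(10, 3, 1, 1)], [], []]] := by
  decide +kernel

theorem c_lt : ∀ r ∈ ([6, 7, 8, 9, 10, 11] : List ℕ), r < G2Data.tab.n ∧ G2Data.tab.N ≤ r := by
  decide +kernel

theorem c_ne : ∀ r ∈ ([6, 7] : List ℕ), ∀ s ∈ ([8, 9, 10, 11] : List ℕ),
    s ≠ G2Data.tab.neg r := by decide +kernel

variable [CharP F 3]

theorem hi6 (C D E G t : F) :
    xg g0 8 C * xg g0 9 D * xg g0 10 E * xg g0 11 G * xg g0 6 t =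
      xg g0 6 t * (xg g0 8 C * xg g0 9 D * xg g0 10 E * xg g0 11 (G - t * E)) := by
  have h := cTerms_vals
  simp only [List.map_cons, List.map_nil, List.cons.injEq, and_true] at h
  obtain ⟨⟨e8, e9, e10, e11⟩, -⟩ := h
  have hlt := fun r hr => (c_lt r hr).1
  have c8 : ∀ u, xg g0 8 u * xg g0 6 t = xg g0 6 t * xg g0 8 u := fun u => by
    rw [xg_comm gA (hlt 6 (by simp)) (hlt 8 (by simp)) (by decide) (c_ne 6 (by simp) 8 (by simp)) t u]
    simp [cVal, e8]
  have c9 : ∀ u, xg g0 9 u * xg g0 6 t = xg g0 6 t * xg g0 9 u := fun u => by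
    rw [xg_comm gA (hlt 6 (by simp)) (hlt 9 (by simp)) (by decide) (c_ne 6 (by simp) 9 (by simp)) t u]
    simp [cVal, e9]
  have c11 : ∀ u, xg g0 11 u * xg g0 6 t = xg g0 6 t * xg g0 11 u := fun u => by
    rw [xg_comm gA (hlt 6 (by simp)) (hlt 11 (by simp)) (by decide) (c_ne 6 (by simp) 11 (by simp)) t u]
    simp [cVal, e11]
  have c10 : ∀ u, xg g0 10 u * xg g0 6 t = xg g0 6 t * (xg g0 10 u * xg g0 11 (-(t * u))) := fun u => by
    rw [xg_comm gA (hlt 6 (by simp)) (hlt 10 (by simp)) (by decide) (c_ne 6 (by simp) 10 (by simp)) t u]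
    simp [cVal, e10, mul_assoc]
  calc xg g0 8 C * xg g0 9 D * xg g0 10 E * xg g0 11 G * xg g0 6 t
      = xg g0 8 C * xg g0 9 D * (xg g0 10 E * xg g0 6 t) * xg g0 11 G := by
        rw [mul_assoc _ (xg g0 11 G), c11]; simp only [mul_assoc]
    _ = xg g0 8 C * (xg g0 9 D * xg g0 6 t) * (xg g0 10 E * xg g0 11 (-(t * E))) * xg g0 11 G := by
        rw [c10]; simp only [mul_assoc]
    _ = (xg g0 8 C * xg g0 6 t) * xg g0 9 D * (xg g0 10 E * xg g0 11 (-(t * E))) * xg g0 11 G := by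
        rw [c9]; simp only [mul_assoc]
    _ = xg g0 6 t * (xg g0 8 C * xg g0 9 D * xg g0 10 E * (xg g0 11 (-(t * E)) * xg g0 11 G)) := by
        rw [c8]; simp only [mul_assoc]
    _ = _ := by rw [xg_add, show -(t * E) + G = G - t * E by ring]

theorem hi7 (C D E G t : F) :
    xg g0 8 C * xg g0 9 D * xg g0 10 E * xg g0 11 G * xg g0 7 t =
      xg g0 7 t * (xg g0 8 C * xg g0 9 (D - t * C) * xg g0 10 E * xg g0 11 G) := by
  have h := cTerms_vals
  simp only [List.map_cons, List.map_nil, List.cons.injEq, and_true] at h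
  obtain ⟨-, e8, e9, e10, e11⟩ := h
  have hlt := fun r hr => (c_lt r hr).1
  have h3 : (3 : F) = 0 := three_zero
  have h2 : (2 : F) = -1 := by linear_combination h3
  have c9 : ∀ u, xg g0 9 u * xg g0 7 t = xg g0 7 t * xg g0 9 u := fun u => by
    rw [xg_comm gA (hlt 7 (by simp)) (hlt 9 (by simp)) (by decide) (c_ne 7 (by simp) 9 (by simp)) t u]
    simp [cVal, e9, h3]
  have c10 : ∀ u, xg g0 10 u * xg g0 7 t = xg g0 7 t * xg g0 10 u := fun u => by
    rw [xg_comm gA (hlt 7 (by simp)) (hlt 10 (by simp)) (by decide) (c_ne 7 (by simp) 10 (by simp)) t u]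
    simp [cVal, e10]
  have c11 : ∀ u, xg g0 11 u * xg g0 7 t = xg g0 7 t * xg g0 11 u := fun u => by
    rw [xg_comm gA (hlt 7 (by simp)) (hlt 11 (by simp)) (by decide) (c_ne 7 (by simp) 11 (by simp)) t u]
    simp [cVal, e11]
  have c8 : ∀ u, xg g0 8 u * xg g0 7 t = xg g0 7 t * (xg g0 8 u * xg g0 9 (-(t * u))) := fun u => by
    rw [xg_comm gA (hlt 7 (by simp)) (hlt 8 (by simp)) (by decide) (c_ne 7 (by simp) 8 (by simp)) t u]
    simp [cVal, e8, h3, h2, mul_assoc]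
  calc xg g0 8 C * xg g0 9 D * xg g0 10 E * xg g0 11 G * xg g0 7 t
      = xg g0 8 C * xg g0 9 D * (xg g0 10 E * xg g0 7 t) * xg g0 11 G := by
        rw [mul_assoc _ (xg g0 11 G), c11]; simp only [mul_assoc]
    _ = xg g0 8 C * (xg g0 9 D * xg g0 7 t) * xg g0 10 E * xg g0 11 G := by
        rw [c10]; simp only [mul_assoc]
    _ = (xg g0 8 C * xg g0 7 t) * xg g0 9 D * xg g0 10 E * xg g0 11 G := by
        rw [c9]; simp only [mul_assoc]
    _ = xg g0 7 t * (xg g0 8 C * (xg g0 9 (-(t * C)) * xg g0 9 D) * xg g0 10 E * xg g0 11 G) := by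
        rw [c8]; simp only [mul_assoc]
    _ = _ := by rw [xg_add, show -(t * C) + D = D - t * C by ring]

/-- the multiplication -/
theorem uP_mul (A B C D E G A' B' C' D' E' G' : F) :
    uP A B C D E G * uP A' B' C' D' E' G' = uP (A + A') (B + B') (C - A' * B + C')
      (D - A' * B ^ 2 - B' * (C - A' * B) + D') (E + A' * B ^ 3 + E')
      (G - A' * E + A' ^ 2 * B ^ 3 + G') := by
  have hcomb : ∀ a b c d a' b' c' d' : F,
      (xg g0 8 a * xg g0 9 b * xg g0 10 c * xg g0 11 d) *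
        (xg g0 8 a' * xg g0 9 b' * xg g0 10 c' * xg g0 11 d') =
      xg g0 8 (a + a') * xg g0 9 (b + b') * xg g0 10 (c + c') * xg g0 11 (d + d') := by
    intro a b c d a' b' c' d'
    rw [regroup4, xg_add, xg_add, xg_add, xg_add]
    · exact ((comm_high (by simp) (by simp) _ _).mul_left (comm_high (by simp) (by simp) _ _)).mul_left
        (comm_high (by simp) (by simp) _ _)
    · exact (comm_high (by simp) (by simp) _ _).mul_left (comm_high (by simp) (by simp) _ _)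
    · exact comm_high (by simp) (by simp) _ _
  calc uP A B C D E G * uP A' B' C' D' E' G'
      = xg g0 6 A * xg g0 7 B * ((xg g0 8 C * xg g0 9 D * xg g0 10 E * xg g0 11 G) * xg g0 6 A') *
          xg g0 7 B' * (xg g0 8 C' * xg g0 9 D' * xg g0 10 E' * xg g0 11 G') := by
        simp only [uP, mul_assoc]
    _ = xg g0 6 A * (xg g0 7 B * xg g0 6 A') *
          ((xg g0 8 C * xg g0 9 D * xg g0 10 E * xg g0 11 (G - A' * E)) * xg g0 7 B') *
          (xg g0 8 C' * xg g0 9 D' * xg g0 10 E' * xg g0 11 G') := by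
        rw [hi6]; simp only [mul_assoc]
    _ = (xg g0 6 A * xg g0 6 A') * xg g0 7 B *
          (((xg g0 8 (-(A' * B)) * xg g0 9 (-(A' * B ^ 2)) * xg g0 10 (A' * B ^ 3) *
            xg g0 11 (A' ^ 2 * B ^ 3)) *
          (xg g0 8 C * xg g0 9 D * xg g0 10 E * xg g0 11 (G - A' * E))) * xg g0 7 B') *
          (xg g0 8 C' * xg g0 9 D' * xg g0 10 E' * xg g0 11 G') := by
        rw [swap67]; simp only [mul_assoc]
    _ = xg g0 6 (A + A') * (xg g0 7 B * xg g0 7 B') *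
          ((xg g0 8 (-(A' * B) + C) * xg g0 9 (-(A' * B ^ 2) + D - B' * (-(A' * B) + C)) *
            xg g0 10 (A' * B ^ 3 + E) * xg g0 11 (A' ^ 2 * B ^ 3 + (G - A' * E))) *
          (xg g0 8 C' * xg g0 9 D' * xg g0 10 E' * xg g0 11 G')) := by
        rw [hcomb, hi7, xg_add]; simp only [mul_assoc]
    _ = _ := by
        rw [hcomb, xg_add, uP]
        congr 1
        ring_nf

theorem uP_zero : uP (0 : F) 0 0 0 0 0 = 1 := by simp [uP]

theorem cube_low (C D E G : F) : uP 0 0 C D E G ^ 3 = 1 := by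
  have h3 : ∀ a : F, a + a + a = 0 := fun a => by linear_combination a * three_zero (F := F)
  rw [pow_succ, pow_two, uP_mul, uP_mul, ← uP_zero (F := F)]
  congr 1 <;> simp [h3]

theorem cube_high {A B : F} (hA : A ≠ 0) (hB : B ≠ 0) (C D E G : F) : uP A B C D E G ^ 3 ≠ 1 := by
  intro h
  rw [pow_succ, pow_two, uP_mul, uP_mul, ← uP_zero (F := F)] at h
  obtain ⟨-, -, -, hD, -, -⟩ := uP_inj h
  have : A * B ^ 2 = 0 := by
    linear_combination -hD + (D - B * C) * three_zero (F := F)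
  rcases mul_eq_zero.1 this with h | h
  · exact hA h
  · exact hB (pow_eq_zero_iff two_ne_zero |>.1 h)

variable [Fintype F] {m : ℕ} (hK : Fintype.card F = 3 ^ (2 * m + 1))

/-- coordinates of the fixed unipotent subgroup -/
noncomputable def uF (m : ℕ) (t u v : F) : GL G2Data.tab.D.Idx F :=
  uP t (t ^ 3 ^ m) (u ^ 3 ^ m) (v ^ 3 ^ m) (t * (t ^ 3 ^ m) ^ 3 + u) (t ^ 2 * (t ^ 3 ^ m) ^ 3 + v)

include hK in
theorem mem_U1_iff {z : GL G2Data.tab.D.Idx F} :
    z ∈ G2Data.tab.D.posUnipotent F ⊓ tw F (3 ^ m) ↔ ∃ t u v : F, z = uF m t u v := by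
  simp only [mem_pos_iff hK, uU_word, uF]

theorem uF_inj {t u v t' u' v' : F} (h : uF m t u v = uF m t' u' v') :
    t = t' ∧ u = u' ∧ v = v' := by
  obtain ⟨h1, -, h3, h4, -, -⟩ := uP_inj h
  have hinj := (psi (F := F) m).injective
  exact ⟨h1, hinj h3, hinj h4⟩

theorem uF_zero : uF m (0 : F) 0 0 = 1 := by
  have h : (0 : F) ^ 3 ^ m = 0 := zero_pow (by positivity)
  simp [uF, h, uP_zero]

include hK in
theorem card_order_three :
    Nat.card {u : ↥(G2Data.tab.D.posUnipotent F ⊓ tw F (3 ^ m)) // orderOf u = 3} =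
      (3 ^ (2 * m + 1)) ^ 2 - 1 := by
  classical
  have h0 : (0 : F) ^ 3 ^ m = 0 := zero_pow (by positivity)
  have hne : ∀ p : F × F, p ≠ 0 → orderOf (uF m 0 p.1 p.2) = 3 := by
    intro p hp
    refine orderOf_eq_prime (hp := ⟨Nat.prime_three⟩) ?_ ?_
    · simpa [uF, h0] using cube_low (p.1 ^ 3 ^ m) (p.2 ^ 3 ^ m) p.1 p.2
    · intro h
      obtain ⟨-, h1, h2⟩ := uF_inj (h.trans (uF_zero (m := m)).symm)
      exact hp (Prod.ext h1 h2)
  let f : {p : F × F // p ≠ 0} → {u : ↥(G2Data.tab.D.posUnipotent F ⊓ tw F (3 ^ m)) // orderOf u = 3} :=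
    fun p => ⟨⟨uF m 0 p.1.1 p.1.2, (mem_U1_iff hK).2 ⟨_, _, _, rfl⟩⟩,
      by rw [← Subgroup.orderOf_coe]; exact hne p.1 p.2⟩
  have hf : Function.Bijective f := by
    constructor
    · intro p p' e
      obtain ⟨-, h1, h2⟩ := uF_inj (congrArg (fun z => (z.1 : GL G2Data.tab.D.Idx F)) e)
      exact Subtype.ext (Prod.ext h1 h2)
    · rintro ⟨⟨z, hz⟩, ho⟩
      obtain ⟨t, u, v, rfl⟩ := (mem_U1_iff hK).1 hz
      rw [← Subgroup.orderOf_coe] at ho
      have ht : t = 0 := by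
        by_contra ht
        exact cube_high ht (pow_ne_zero (3 ^ m) ht) (u ^ 3 ^ m) (v ^ 3 ^ m) (t * (t ^ 3 ^ m) ^ 3 + u)
          (t ^ 2 * (t ^ 3 ^ m) ^ 3 + v) (orderOf_dvd_iff_pow_eq_one.1 (dvd_of_eq ho))
      subst ht
      refine ⟨⟨(u, v), fun h => ?_⟩, Subtype.ext (Subtype.ext rfl)⟩
      obtain ⟨rfl, rfl⟩ := Prod.ext_iff.1 h
      change orderOf (uF m (0 : F) 0 0) = 3 at ho
      rw [uF_zero, orderOf_one] at ho
      omega
  rw [← Nat.card_eq_of_bijective f hf, Nat.card_eq_fintype_card, Fintype.card_subtype_compl,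
    Fintype.card_subtype_eq, Fintype.card_prod, hK, sq]

/-! ### the torus -/

include hK in
/-- the torus as the multiplicative group -/
noncomputable def torEquiv : Fˣ ≃* ↥(G2Data.tab.D.diagonalSubgroup F ⊓ tw F (3 ^ m)) :=
  MulEquiv.ofBijective
    ({ toFun := fun t => ⟨tor G2Data.tab F (par m t), Subgroup.mem_inf.2
        ⟨by rw [diagonalSubgroup_eq g0]; exact ⟨_, rfl⟩, par_mem hK t⟩⟩
       map_one' := Subtype.ext (by
        show tor G2Data.tab F (par m 1) = 1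
        rw [show par (F := F) m 1 = 1 from funext fun j => by
          match j with
          | 0 => simp [par]
          | 1 => simp [par]
          | k + 2 => rfl, map_one])
       map_mul' := fun s t => Subtype.ext (by
        show tor G2Data.tab F (par m (s * t)) = tor G2Data.tab F (par m s) * tor G2Data.tab F (par m t)
        rw [← map_mul]
        congr 1
        funext j
        match j with
        | 0 => simp [par, mul_pow]
        | 1 => simp [par]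
        | k + 2 => simp [par]) } : Fˣ →* ↥(G2Data.tab.D.diagonalSubgroup F ⊓ tw F (3 ^ m)))
    ((Nat.bijective_iff_injective_and_card _).2 ⟨fun p p' e => by
        simpa [par] using tor_inj (congrArg Subtype.val e) 1 (by norm_num),
      by rw [card_torus hK, TwField.card_units (q := 3 ^ (2 * m + 1)) (k := 1) (by rw [hK, pow_one]),
        pow_one]⟩)

theorem torEquiv_val (t : Fˣ) :
    (torEquiv hK t : GL G2Data.tab.D.Idx F) = tor G2Data.tab F (par m t) := rfl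

include hK in
theorem torus_cyclic : IsCyclic ↥(G2Data.tab.D.diagonalSubgroup F ⊓ tw F (3 ^ m)) :=
  isCyclic_of_surjective (torEquiv hK).toMonoidHom (torEquiv hK).surjective

theorem half_odd : ∃ k, 3 ^ (2 * m + 1) - 1 = 2 * (2 * k + 1) := by
  induction m with
  | zero => exact ⟨0, rfl⟩
  | succ j ih =>
    obtain ⟨k, hk⟩ := ih
    refine ⟨9 * k + 6, ?_⟩
    have : 3 ^ (2 * (j + 1) + 1) = 9 * 3 ^ (2 * j + 1) := by ring
    omega

include hK in
theorem card_odd :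
    2 * Nat.card {h : ↥(G2Data.tab.D.diagonalSubgroup F ⊓ tw F (3 ^ m)) // Odd (orderOf h)} =
      3 ^ (2 * m + 1) - 1 := by
  classical
  obtain ⟨k, hk⟩ := half_odd (m := m)
  have hc : Nat.card Fˣ = 3 ^ (2 * m + 1) - 1 := by
    rw [TwField.card_units (q := 3 ^ (2 * m + 1)) (k := 1) (by rw [hK, pow_one]), pow_one]
  have hiff : ∀ t : Fˣ, Odd (orderOf t) ↔ t ∈ (powMonoidHom (2 * k + 1) : Fˣ →* Fˣ).ker := by
    intro t
    rw [MonoidHom.mem_ker, powMonoidHom_apply, ← orderOf_dvd_iff_pow_eq_one]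
    refine ⟨fun ho => ?_, fun h => Odd.of_dvd_nat ⟨k, rfl⟩ h⟩
    have h := orderOf_dvd_natCard t
    rw [hc, hk] at h
    exact (Nat.Coprime.dvd_of_dvd_mul_left (Nat.coprime_two_right.2 ho) h)
  have e : Nat.card {h : ↥(G2Data.tab.D.diagonalSubgroup F ⊓ tw F (3 ^ m)) // Odd (orderOf h)} =
      Nat.card (powMonoidHom (2 * k + 1) : Fˣ →* Fˣ).ker := by
    refine Nat.card_congr ((torEquiv hK).toEquiv.subtypeEquiv fun t => ?_).symm
    rw [← hiff, show (torEquiv hK).toEquiv t = torEquiv hK t from rfl, MulEquiv.orderOf_eq]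
  rw [e, IsCyclic.card_powMonoidHom_ker, hc, hk, Nat.gcd_mul_left_left]

theorem wt_vals : ([6, 8, 9, 10] : List ℕ).map (fun r => (List.range 2).map fun j =>
    G2Data.tab.A j r) = [[-3, 2], [-1, 1], [1, 0], [3, -1]] := by decide +kernel

theorem wt_par (s : Fˣ) (r : ℕ) : wt G2Data.tab F (par m s) r =
    s ^ ((3 ^ m : ℕ) * G2Data.tab.A 0 r + G2Data.tab.A 1 r : ℤ) := by
  simp only [wt, show G2Data.tab.l = 2 from rfl, Finset.prod_range_succ, par,
    Finset.prod_range_zero, one_mul, ← zpow_natCast, ← zpow_mul, ← _root_.zpow_add]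

theorem tor_uF (s : Fˣ) (t u v : F) :
    tor G2Data.tab F (par m s) * uF m t u v * (tor G2Data.tab F (par m s))⁻¹ =
      uP ((wt G2Data.tab F (par m s) 6 : F) * t) ((wt G2Data.tab F (par m s) 7 : F) * t ^ 3 ^ m)
        ((wt G2Data.tab F (par m s) 8 : F) * u ^ 3 ^ m) ((wt G2Data.tab F (par m s) 9 : F) * v ^ 3 ^ m)
        ((wt G2Data.tab F (par m s) 10 : F) * (t * (t ^ 3 ^ m) ^ 3 + u))
        ((wt G2Data.tab F (par m s) 11 : F) * (t ^ 2 * (t ^ 3 ^ m) ^ 3 + v)) := by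
  rw [uF, uP_eq, sProd_conj g0 _ (fun r hr => (c_lt r hr).1), sProd_uP]
  simp [crd]

include hK in
theorem fixed_imp {s : Fˣ} {z : GL G2Data.tab.D.Idx F}
    (hz : z ∈ G2Data.tab.D.posUnipotent F ⊓ tw F (3 ^ m))
    (h : tor G2Data.tab F (par m s) * z * (tor G2Data.tab F (par m s))⁻¹ = z) (hz1 : z ≠ 1) :
    s * s = 1 := by
  obtain ⟨t, u, v, rfl⟩ := (mem_U1_iff hK).1 hz
  rw [tor_uF, uF] at h
  obtain ⟨h6, -, h8, h9, -, -⟩ := uP_inj h
  have hth := units_theta hK s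
  have hw := wt_vals
  simp only [List.range_succ, List.range_zero, List.nil_append, List.cons_append, List.map_cons,
    List.map_nil, List.cons.injEq, and_true] at hw
  obtain ⟨⟨a6, b6⟩, ⟨a8, b8⟩, ⟨a9, b9⟩, -⟩ := hw
  have key : ∀ r, ∀ a : F, a ≠ 0 → (wt G2Data.tab F (par m s) r : F) * a = a →
      s ^ ((3 ^ m : ℕ) * G2Data.tab.A 0 r + G2Data.tab.A 1 r : ℤ) = 1 := fun r a ha e => by
    rw [← wt_par]
    exact Units.ext ((mul_eq_right₀ ha).1 e)
  by_cases ht : t = 0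
  · by_cases hu : u = 0
    · have hv : v ≠ 0 := fun hv => hz1 (by rw [ht, hu, hv, uF_zero])
      have h1 := key 9 _ (pow_ne_zero _ hv) h9
      rw [a9, b9, mul_one, add_zero, zpow_natCast] at h1
      rw [h1, one_pow] at hth
      rw [← hth, one_mul]
    · have h1 := key 8 _ (pow_ne_zero _ hu) h8
      rw [a8, b8, mul_neg, mul_one, ← sub_eq_neg_add, zpow_sub, zpow_one, zpow_natCast,
        mul_inv_eq_one] at h1
      rw [← h1, mul_comm 3, pow_mul, ← h1] at hth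
      have : s ^ 3 = s * 1 := by rw [mul_one]; exact hth
      rw [pow_succ', mul_right_inj, pow_two] at this
      exact this
  · have h1 := key 6 _ ht h6
    rw [a6, b6, show ((3 ^ m : ℕ) : ℤ) * -3 + 2 = ((2 : ℕ) : ℤ) - ((3 * 3 ^ m : ℕ) : ℤ) by
      push_cast; ring, zpow_sub, zpow_natCast, zpow_natCast, mul_inv_eq_one] at h1
    have h2 : s = (s ^ 3 ^ m) ^ 2 := by
      rw [← pow_mul, mul_comm, pow_mul, h1, ← pow_mul, mul_comm, pow_mul]
      exact hth.symm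
    have h3 : s ^ 3 = s ^ 4 := by
      conv_lhs => rw [h2, ← pow_mul, ← pow_mul, show 3 ^ m * (2 * 3) = 3 * 3 ^ m * 2 by ring, pow_mul,
        ← h1, ← pow_mul]
    rw [show s ^ 4 = s ^ 3 * s by rw [← pow_succ], left_eq_mul] at h3
    rw [h3, one_mul]

/-! ### decompositions -/

/-- the representative of the nontrivial coset of the torus -/
noncomputable def mRep (F : Type*) [Field F] : GL G2Data.tab.D.Idx F := (nWd g0 F (wd 0))⁻¹

include hK in
theorem mRep_mem : mRep F ∈ tw F (3 ^ m) := inv_mem ((X hK).n_mem 0 Nat.one_pos)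

include hK in
theorem borel_split {b : GL G2Data.tab.D.Idx F}
    (hb : b ∈ G2Data.tab.D.borelSubgroup F) (hb1 : b ∈ tw F (3 ^ m)) :
    ∃ u ∈ G2Data.tab.D.posUnipotent F ⊓ tw F (3 ^ m),
      ∃ h ∈ G2Data.tab.D.diagonalSubgroup F ⊓ tw F (3 ^ m), b = u * h := by
  obtain ⟨u, hu, c, rfl⟩ := (mem_borel_iff g0).1 hb
  have hd : tor G2Data.tab F c ∈ G2Data.tab.D.diagonalSubgroup F := by
    rw [diagonalSubgroup_eq g0]; exact ⟨c, rfl⟩
  have huG : u ∈ G2Data.tab.D.group F := posU_le_group g0 hu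
  have h := (twisted_fixed hK _ hb1).2
  rw [mul_grp huG (tor_mem_group g0 c)] at h
  have hu' : sigma m u ∈ genS g0 F (Set.Ico G2Data.tab.N G2Data.tab.n) := (X hK).σ_pos hu
  have ht' : sigma m (tor G2Data.tab F c) ∈ G2Data.tab.D.diagonalSubgroup F := (X hK).σ_torus hd
  have he : (sigma m u)⁻¹ * u = sigma m (tor G2Data.tab F c) * (tor G2Data.tab F c)⁻¹ := by
    rw [inv_mul_eq_iff_eq_mul, ← mul_assoc, h, mul_inv_cancel_right]
  have h1 := pos_inf_torus g0 (mul_mem (inv_mem hu') hu)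
    (by rw [he]; exact mul_mem ht' (inv_mem hd))
  rw [inv_mul_eq_one] at h1
  have hu1 : u ∈ G2Data.tab.D.posUnipotent F ⊓ tw F (3 ^ m) := (X hK).mem_pos_inf_iff.2 ⟨hu, h1⟩
  refine ⟨u, hu1, _, ⟨hd, ?_⟩, rfl⟩
  have h2 := mul_mem (inv_mem (Subgroup.mem_inf.1 hu1).2) hb1
  rwa [inv_mul_cancel_left] at h2

include hK in
theorem bruhat_cases {x : GL G2Data.tab.D.Idx F} (hx : x ∈ tw F (3 ^ m)) :
    x ∈ G2Data.tab.D.borelSubgroup F ∨
      ∃ u ∈ G2Data.tab.D.posUnipotent F ⊓ tw F (3 ^ m),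
        ∃ b ∈ G2Data.tab.D.borelSubgroup F ⊓ tw F (3 ^ m), x = u * mRep F * b := by
  set P := (X hK).bnPair (blocks hK) (hq (m := m)) (hblk hK) with hP
  have hnS : ∀ s : P.S, ((s : ↥(X hK).G1) : GL G2Data.tab.D.Idx F) = nWd g0 F (wd 0) := by
    rintro ⟨s, b, hb, e⟩
    change b < 1 at hb
    obtain rfl : b = 0 := by omega
    exact e
  obtain ⟨w, hw⟩ := BN.bruhat P ⟨x, hx⟩
  obtain ⟨s₀, hs₀⟩ : ∃ s : P.S, ((s : ↥(X hK).G1) : GL G2Data.tab.D.Idx F) = nWd g0 F (wd 0) :=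
    ⟨⟨⟨_, (X hK).n_mem 0 Nat.one_pos⟩, 0, Nat.one_pos, rfl⟩, rfl⟩
  have hall : ∀ s : P.S, BN.σ P s = BN.σ P s₀ := fun s =>
    congrArg (BN.σ P) (Subtype.ext (Subtype.ext ((hnS s).trans hs₀.symm)))
  have hw2 : w = 1 ∨ w = (BN.σ P s₀)⁻¹ := by
    obtain ⟨l, rfl⟩ := BN.exists_word P w
    induction l with
    | nil => exact Or.inl rfl
    | cons s l ih =>
      rw [BN.wp_cons, hall s, BN.σ_inv]
      obtain ⟨l', hl'⟩ : ∃ l', BN.wp P l' = BN.wp P l := ⟨l, rfl⟩
      have hl2 : BN.wp P l = 1 ∨ BN.wp P l = BN.σ P s₀ := by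
        clear ih hw l' hl'
        induction l with
        | nil => exact Or.inl rfl
        | cons t l ih =>
          rw [BN.wp_cons, hall t]
          rcases ih with h | h <;> rw [h]
          · exact Or.inr (mul_one _)
          · exact Or.inl (BN.σ_mul_self P s₀)
      rcases hl2 with h | h <;> rw [h]
      · exact Or.inr (mul_one _)
      · exact Or.inl (BN.σ_mul_self P s₀)
  rcases hw2 with rfl | rfl
  · left
    rw [BN.cell_one] at hw
    exact (Subgroup.mem_inf.1 (Subgroup.mem_subgroupOf.1 hw)).1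
  · right
    rw [BN.σ, ← BN.wmk_inv P, BN.cell_mk] at hw
    obtain ⟨b₁, h1, b₂, h2, e⟩ := DoubleCoset.mem_doubleCoset.1 hw
    have e' : x = (b₁ : GL G2Data.tab.D.Idx F) * mRep F * b₂ := by
      have := congrArg Subtype.val e
      simpa [mRep, hs₀] using this
    obtain ⟨u, hu, h, hh, hb⟩ := borel_split hK (Subgroup.mem_inf.1 (Subgroup.mem_subgroupOf.1 h1)).1
      b₁.2
    rw [diagonalSubgroup_eq g0] at hh
    obtain ⟨⟨c, rfl⟩, hh1⟩ := Subgroup.mem_inf.1 hh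
    refine ⟨u, hu, ((mRep F)⁻¹ * tor G2Data.tab F c * mRep F) * b₂, ?_, ?_⟩
    · refine mul_mem (Subgroup.mem_inf.2 ⟨?_, mul_mem (mul_mem (inv_mem (mRep_mem hK)) hh1) (mRep_mem hK)⟩)
        (Subgroup.mem_subgroupOf.1 h2)
      obtain ⟨d, hd⟩ := wSub_conj_torus g0 (nWd_mem_wSub (F := F) g0 (wd_wd 0)) c
      rw [mRep, inv_inv, hd]
      exact torus_le_borel g0 d
    · rw [e', hb]; group

include hK in
theorem U1_conj_eq_one {z : GL G2Data.tab.D.Idx F}
    (hz : z ∈ G2Data.tab.D.posUnipotent F ⊓ tw F (3 ^ m))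
    (h : (mRep F)⁻¹ * z * mRep F ∈ G2Data.tab.D.borelSubgroup F) : z = 1 := by
  have hu : z ∈ uMinus g0 F (wd 0) := by
    obtain ⟨h1, -⟩ := (X hK).mem_pos_inf_iff.1 hz
    have hall : ∀ r < G2Data.tab.n, G2Data.tab.N ≤ r →
        G2Data.tab.rw' (wd 0) r < G2Data.tab.N := by decide +kernel
    exact genS_mono g0 (S := Set.Ico G2Data.tab.N G2Data.tab.n)
      (S' := {r | G2Data.tab.N ≤ r ∧ r < G2Data.tab.n ∧ G2Data.tab.rw' (wd 0) r < G2Data.tab.N})
      (fun r hr => ⟨hr.1, hr.2, hall r hr.2 hr.1⟩) h1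
  rw [mRep, inv_inv] at h
  exact conj_eq_one_iff.1 (borel_inf_neg g0 h (uMinus_conj_neg g0 (wd_wd 0) hu))

include hK in
theorem sylow_three [Fact (Nat.Prime 3)] : ∃ S : Sylow 3 ↥(tw F (3 ^ m)),
    (S : Subgroup ↥(tw F (3 ^ m))) =
      (G2Data.tab.D.posUnipotent F ⊓ tw F (3 ^ m)).subgroupOf (tw F (3 ^ m)) := by
  have hU : Nat.card ((G2Data.tab.D.posUnipotent F ⊓ tw F (3 ^ m)).subgroupOf (tw F (3 ^ m))) =
      3 ^ (3 * (2 * m + 1)) := by
    rw [Nat.card_congr (Subgroup.subgroupOfEquivOfLe inf_le_right).toEquiv, card_pos hK, ← pow_mul,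
      mul_comm]
  refine ⟨Sylow.ofCard _ (le_of_eq hU |>.antisymm (le_of_eq hU.symm) |>.trans ?_), rfl⟩
  rw [card_twisted hK, mul_assoc]
  have hm1 : ¬ 3 ∣ (3 ^ (2 * m + 1) - 1) * ((3 ^ (2 * m + 1)) ^ 3 + 1) := by
    rw [Nat.Prime.dvd_mul Nat.prime_three]
    have h1 : 3 ∣ 3 ^ (2 * m + 1) := dvd_pow_self 3 (by omega)
    have h2 : 3 ∣ (3 ^ (2 * m + 1)) ^ 3 := dvd_pow h1 (by omega)
    have := Nat.one_le_pow (2 * m + 1) 3 (by norm_num)
    omega
  have hne : (3 ^ (2 * m + 1) - 1) * ((3 ^ (2 * m + 1)) ^ 3 + 1) ≠ 0 := fun h => hm1 (by rw [h]; exact dvd_zero 3)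
  rw [Nat.factorization_mul (by positivity) hne, Finsupp.add_apply,
    Nat.factorization_eq_zero_of_not_dvd hm1, add_zero, ← pow_mul,
    Nat.Prime.factorization_pow Nat.prime_three, Finsupp.single_eq_same, mul_comm]

include hK in
theorem sylow_ti [Fact (Nat.Prime 3)] (P Q : Sylow 3 ↥(tw F (3 ^ m))) (hPQ : P ≠ Q) :
    (P : Subgroup ↥(tw F (3 ^ m))) ⊓ (Q : Subgroup ↥(tw F (3 ^ m))) = ⊥ := by
  obtain ⟨S, hS⟩ := sylow_three hK
  obtain ⟨a, rfl⟩ := MulAction.exists_smul_eq ↥(tw F (3 ^ m)) S P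
  obtain ⟨c, rfl⟩ := MulAction.exists_smul_eq ↥(tw F (3 ^ m)) S Q
  have hmem : ∀ (a : ↥(tw F (3 ^ m))) (x : ↥(tw F (3 ^ m))),
      x ∈ ((a • S : Sylow 3 ↥(tw F (3 ^ m))) : Subgroup ↥(tw F (3 ^ m))) ↔
        ((a⁻¹ * x * a : ↥(tw F (3 ^ m))) : GL G2Data.tab.D.Idx F) ∈
          G2Data.tab.D.posUnipotent F ⊓ tw F (3 ^ m) := by
    intro a x
    rw [Sylow.coe_subgroup_smul, Subgroup.mem_pointwise_smul_iff_inv_smul_mem, hS, Subgroup.mem_subgroupOf]
    simp [MulAut.smul_def, MulAut.conj_symm_apply]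
  rw [Subgroup.eq_bot_iff_forall]
  intro x hx
  obtain ⟨hxa, hxc⟩ := Subgroup.mem_inf.1 hx
  set d : ↥(tw F (3 ^ m)) := a⁻¹ * c with hd
  have hdnB : (d : GL G2Data.tab.D.Idx F) ∉ G2Data.tab.D.borelSubgroup F := by
    intro hB
    apply hPQ
    have hfix : d • S = S := by
      refine Sylow.ext (SetLike.ext fun z => ?_)
      rw [hmem d z, hS, Subgroup.mem_subgroupOf, Subgroup.mem_inf, Subgroup.mem_inf,
        posUnipotent_eq g0]
      have hn := Subgroup.mem_normalizer_iff''.1 (borel_normalizes g0 hB) (z : GL G2Data.tab.D.Idx F)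
      simp only [Subgroup.coe_mul, Subgroup.coe_inv]
      exact ⟨fun h => ⟨hn.2 h.1, z.2⟩, fun h => ⟨hn.1 h.1, (d⁻¹ * z * d).2⟩⟩
    conv_lhs => rw [← hfix, smul_smul, hd, mul_inv_cancel_left]
  rcases bruhat_cases hK d.2 with h | ⟨u, hu, b, hb, e⟩
  · exact absurd h hdnB
  have hy : ((a⁻¹ * x * a : ↥(tw F (3 ^ m))) : GL G2Data.tab.D.Idx F) ∈
      G2Data.tab.D.posUnipotent F ⊓ tw F (3 ^ m) := (hmem a x).1 hxa
  have hy' : ((c⁻¹ * x * c : ↥(tw F (3 ^ m))) : GL G2Data.tab.D.Idx F) ∈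
      G2Data.tab.D.posUnipotent F ⊓ tw F (3 ^ m) := (hmem c x).1 hxc
  set y : GL G2Data.tab.D.Idx F := ((a⁻¹ * x * a : ↥(tw F (3 ^ m))) : GL G2Data.tab.D.Idx F) with hydef
  have e2 : ((c⁻¹ * x * c : ↥(tw F (3 ^ m))) : GL G2Data.tab.D.Idx F) =
      (d : GL G2Data.tab.D.Idx F)⁻¹ * y * d := by
    rw [hydef, hd]
    simp only [Subgroup.coe_mul, Subgroup.coe_inv]
    group
  have hb' := borel_normalizes g0 (Subgroup.mem_inf.1 hb).1
  have hconj : (mRep F)⁻¹ * (u⁻¹ * y * u) * mRep F ∈ G2Data.tab.D.borelSubgroup F := by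
    rw [show (mRep F)⁻¹ * (u⁻¹ * y * u) * mRep F = b * ((d : GL G2Data.tab.D.Idx F)⁻¹ * y * d) * b⁻¹ by
      rw [e]; group, ← e2]
    exact mul_mem (mul_mem (Subgroup.mem_inf.1 hb).1
      (Subgroup.mem_sup_left (Subgroup.mem_inf.1 hy').1)) (inv_mem (Subgroup.mem_inf.1 hb).1)
  have h1 := U1_conj_eq_one hK (mul_mem (mul_mem (inv_mem hu) hy) hu) hconj
  have hy1 : y = 1 := by
    have := congrArg (fun z => u * z * u⁻¹) h1
    simpa [mul_assoc] using this
  have : a⁻¹ * x * a = 1 := Subtype.ext hy1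
  simpa [mul_assoc] using congrArg (fun z => a * z * a⁻¹) this

include hK in
theorem fpf : ∀ h ∈ G2Data.tab.D.diagonalSubgroup F ⊓ tw F (3 ^ m), h ≠ 1 → Odd (orderOf h) →
    (G2Data.tab.D.posUnipotent F ⊓ tw F (3 ^ m)) ⊓ Subgroup.centralizer {h} = ⊥ := by
  intro h hh h1 ho
  obtain ⟨s, hs⟩ := (torEquiv hK).surjective ⟨h, hh⟩
  have hs' : tor G2Data.tab F (par m s) = h := congrArg Subtype.val hs
  rw [Subgroup.eq_bot_iff_forall]
  intro z hz
  by_contra hz1
  obtain ⟨hzU, hzc⟩ := Subgroup.mem_inf.1 hz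
  have hcomm : h * z = z * h := Subgroup.mem_centralizer_iff.1 hzc h (Set.mem_singleton h)
  have hss : s * s = 1 := fixed_imp hK hzU (by rw [hs', hcomm, mul_inv_cancel_right]) hz1
  have hhh : h ^ 2 = 1 := by
    rw [← hs', ← map_pow, ← map_one (tor G2Data.tab F)]
    have := congrArg (fun t => (torEquiv hK t : GL G2Data.tab.D.Idx F)) hss
    simp only [map_mul, map_one] at this
    rw [map_pow, map_one, pow_two]
    exact this
  have : orderOf h = 1 := Nat.eq_one_of_dvd_coprimes (Nat.coprime_two_left.2 ho)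
    (orderOf_dvd_of_pow_eq_one hhh) dvd_rfl
  exact h1 (orderOf_eq_one_iff.1 this)

/-! ### three point stabilisers -/

/-- the Borel subgroup of the twisted group -/
noncomputable abbrev B1 (F : Type*) [Field F] (m : ℕ) : Subgroup ↥(tw F (3 ^ m)) :=
  (G2Data.tab.D.borelSubgroup F ⊓ tw F (3 ^ m)).subgroupOf (tw F (3 ^ m))

omit [CharP F 3] [Fintype F] in
theorem mem_B1 {x : ↥(tw F (3 ^ m))} :
    x ∈ B1 F m ↔ (x : GL G2Data.tab.D.Idx F) ∈ G2Data.tab.D.borelSubgroup F := by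
  rw [Subgroup.mem_subgroupOf, Subgroup.mem_inf]
  exact and_iff_left x.2

omit [CharP F 3] [Fintype F] in
theorem smul_mk_iff (g r : ↥(tw F (3 ^ m))) :
    g • (r : ↥(tw F (3 ^ m)) ⧸ B1 F m) = r ↔
      (r : GL G2Data.tab.D.Idx F)⁻¹ * g * r ∈ G2Data.tab.D.borelSubgroup F := by
  rw [MulAction.Quotient.smul_coe, smul_eq_mul, QuotientGroup.eq, mem_B1]
  simp only [Subgroup.coe_mul, Subgroup.coe_inv, mul_inv_rev]
  conv_lhs => rw [← inv_mem_iff (H := G2Data.tab.D.borelSubgroup F)]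
  simp only [mul_inv_rev, inv_inv, mul_assoc]

include hK in
theorem stab_base (g : ↥(tw F (3 ^ m))) (w : GL G2Data.tab.D.Idx F)
    (hw : w ∈ G2Data.tab.D.posUnipotent F ⊓ tw F (3 ^ m)) :
    (g • ((1 : ↥(tw F (3 ^ m))) : ↥(tw F (3 ^ m)) ⧸ B1 F m) = (1 : ↥(tw F (3 ^ m))) ∧
      g • ((⟨mRep F, mRep_mem hK⟩ : ↥(tw F (3 ^ m))) : ↥(tw F (3 ^ m)) ⧸ B1 F m) =
        (⟨mRep F, mRep_mem hK⟩ : ↥(tw F (3 ^ m))) ∧
      g • ((⟨w * mRep F, mul_mem hw.2 (mRep_mem hK)⟩ : ↥(tw F (3 ^ m))) : ↥(tw F (3 ^ m)) ⧸ B1 F m) =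
        (⟨w * mRep F, mul_mem hw.2 (mRep_mem hK)⟩ : ↥(tw F (3 ^ m)))) ↔
    ∃ h ∈ G2Data.tab.D.diagonalSubgroup F ⊓ tw F (3 ^ m),
      (g : GL G2Data.tab.D.Idx F) = h ∧ h * w * h⁻¹ = w := by
  simp only [smul_mk_iff]
  have hm' : ∀ h ∈ G2Data.tab.D.diagonalSubgroup F,
      (mRep F)⁻¹ * h * mRep F ∈ G2Data.tab.D.borelSubgroup F := by
    intro h hh
    rw [diagonalSubgroup_eq g0] at hh
    obtain ⟨c, rfl⟩ := hh
    obtain ⟨d, hd⟩ := wSub_conj_torus g0 (nWd_mem_wSub (F := F) g0 (wd_wd 0)) c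
    rw [mRep, inv_inv, hd]
    exact torus_le_borel g0 d
  constructor
  · rintro ⟨h1, h2, h3⟩
    simp only [Subgroup.coe_one, inv_one, one_mul, mul_one] at h1
    obtain ⟨u, hu, h, hh, e⟩ := borel_split hK h1 g.2
    have h2' : (mRep F)⁻¹ * u * mRep F ∈ G2Data.tab.D.borelSubgroup F := by
      have := mul_mem h2 (inv_mem (hm' h hh.1))
      simp only [e] at this
      simpa [mul_assoc] using this
    obtain rfl := U1_conj_eq_one hK hu h2'
    rw [one_mul] at e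
    refine ⟨h, hh, e, ?_⟩
    have hU : w⁻¹ * (h * w * h⁻¹) ∈ G2Data.tab.D.posUnipotent F ⊓ tw F (3 ^ m) := by
      refine mul_mem (inv_mem hw) (Subgroup.mem_inf.2 ⟨?_, mul_mem (mul_mem hh.2 hw.2) (inv_mem hh.2)⟩)
      have hhB : h ∈ G2Data.tab.D.borelSubgroup F := Subgroup.mem_sup_right hh.1
      rw [posUnipotent_eq g0]
      refine (Subgroup.mem_normalizer_iff.1 (borel_normalizes g0 hhB) w).1 ?_
      rw [← posUnipotent_eq g0]; exact hw.1
    have h3' : (mRep F)⁻¹ * (w⁻¹ * (h * w * h⁻¹)) * mRep F ∈ G2Data.tab.D.borelSubgroup F := by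
      have := mul_mem h3 (inv_mem (hm' h hh.1))
      simp only [e] at this
      simpa [mul_assoc] using this
    exact (inv_mul_eq_one.1 (U1_conj_eq_one hK hU h3')).symm
  · rintro ⟨h, hh, e, hc⟩
    refine ⟨?_, ?_, ?_⟩
    · simp only [Subgroup.coe_one, inv_one, one_mul, mul_one, e]
      exact Subgroup.mem_sup_right hh.1
    · simp only [e]; exact hm' h hh.1
    · simp only [e]
      have : (w * mRep F)⁻¹ * h * (w * mRep F) = (mRep F)⁻¹ * h * mRep F := by
        have e2 : h * w = w * h := by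
          conv_rhs => rw [← hc]
          group
        rw [mul_inv_rev, mul_assoc, ← mul_assoc h, e2]
        group
      rw [this]; exact hm' h hh.1

include hK in
theorem card_stab_three {w : GL G2Data.tab.D.Idx F}
    (hw : w ∈ G2Data.tab.D.posUnipotent F ⊓ tw F (3 ^ m)) :
    Nat.card ↥(MulAction.stabilizer ↥(tw F (3 ^ m)) ((1 : ↥(tw F (3 ^ m))) : ↥(tw F (3 ^ m)) ⧸ B1 F m) ⊓
      MulAction.stabilizer ↥(tw F (3 ^ m))
        ((⟨mRep F, mRep_mem hK⟩ : ↥(tw F (3 ^ m))) : ↥(tw F (3 ^ m)) ⧸ B1 F m) ⊓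
      MulAction.stabilizer ↥(tw F (3 ^ m))
        ((⟨w * mRep F, mul_mem hw.2 (mRep_mem hK)⟩ : ↥(tw F (3 ^ m))) : ↥(tw F (3 ^ m)) ⧸ B1 F m)) =
    Nat.card {s : Fˣ // tor G2Data.tab F (par m s) * w * (tor G2Data.tab F (par m s))⁻¹ = w} := by
  have hmem : ∀ s : {s : Fˣ // tor G2Data.tab F (par m s) * w * (tor G2Data.tab F (par m s))⁻¹ = w},
      (⟨tor G2Data.tab F (par m s.1), par_mem hK s.1⟩ : ↥(tw F (3 ^ m))) ∈
      MulAction.stabilizer ↥(tw F (3 ^ m)) ((1 : ↥(tw F (3 ^ m))) : ↥(tw F (3 ^ m)) ⧸ B1 F m) ⊓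
      MulAction.stabilizer ↥(tw F (3 ^ m))
        ((⟨mRep F, mRep_mem hK⟩ : ↥(tw F (3 ^ m))) : ↥(tw F (3 ^ m)) ⧸ B1 F m) ⊓
      MulAction.stabilizer ↥(tw F (3 ^ m))
        ((⟨w * mRep F, mul_mem hw.2 (mRep_mem hK)⟩ : ↥(tw F (3 ^ m))) : ↥(tw F (3 ^ m)) ⧸ B1 F m) := by
    intro s
    simp only [Subgroup.mem_inf, MulAction.mem_stabilizer_iff, and_assoc]
    exact (stab_base hK _ w hw).2 ⟨_, (torEquiv hK s.1).2, rfl, s.2⟩
  refine (Nat.card_eq_of_bijective (fun s => ⟨_, hmem s⟩) ⟨?_, ?_⟩).symm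
  · intro s s' e
    exact Subtype.ext ((torEquiv hK).injective (Subtype.ext
      (congrArg (fun z => (z.1 : GL G2Data.tab.D.Idx F)) e)))
  · rintro ⟨g, hg⟩
    simp only [Subgroup.mem_inf, MulAction.mem_stabilizer_iff, and_assoc] at hg
    obtain ⟨h, hh, e, hc⟩ := (stab_base hK g w hw).1 hg
    obtain ⟨s, hs⟩ := (torEquiv hK).surjective ⟨h, hh⟩
    have hs' : tor G2Data.tab F (par m s) = h := congrArg Subtype.val hs
    exact ⟨⟨s, by rw [hs', hc]⟩, Subtype.ext (Subtype.ext (hs'.trans e.symm))⟩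

theorem coset_cases (hK : Fintype.card F = 3 ^ (2 * m + 1)) (y : ↥(tw F (3 ^ m)) ⧸ B1 F m)
    (hy : y ≠ ((1 : ↥(tw F (3 ^ m))) : ↥(tw F (3 ^ m)) ⧸ B1 F m)) :
    ∃ u, ∃ hu : u ∈ G2Data.tab.D.posUnipotent F ⊓ tw F (3 ^ m),
      y = ((⟨u * mRep F, mul_mem hu.2 (mRep_mem hK)⟩ : ↥(tw F (3 ^ m))) : ↥(tw F (3 ^ m)) ⧸ B1 F m) := by
  induction y using QuotientGroup.induction_on with | H g => ?_
  rcases bruhat_cases hK g.2 with h | ⟨u, hu, b, hb, e⟩
  · refine absurd (QuotientGroup.eq.2 ?_) hy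
    rw [mem_B1]
    simpa using h
  · refine ⟨u, hu, QuotientGroup.eq.2 ?_⟩
    rw [mem_B1]
    simp only [Subgroup.coe_mul, Subgroup.coe_inv, e]
    have : (u * mRep F * b)⁻¹ * (u * mRep F) = b⁻¹ := by group
    rw [this]
    exact inv_mem hb.1

include hK in
theorem three_points :
    (∀ x y z : ↥(tw F (3 ^ m)) ⧸ B1 F m, x ≠ y → x ≠ z → y ≠ z →
      Nat.card ↥(MulAction.stabilizer ↥(tw F (3 ^ m)) x ⊓ MulAction.stabilizer ↥(tw F (3 ^ m)) y ⊓
        MulAction.stabilizer ↥(tw F (3 ^ m)) z) ≤ 2) ∧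
    ∃ x y z : ↥(tw F (3 ^ m)) ⧸ B1 F m, x ≠ y ∧ x ≠ z ∧ y ≠ z ∧
      Nat.card ↥(MulAction.stabilizer ↥(tw F (3 ^ m)) x ⊓ MulAction.stabilizer ↥(tw F (3 ^ m)) y ⊓
        MulAction.stabilizer ↥(tw F (3 ^ m)) z) = 2 := by
  classical
  have htwo : ∀ s : Fˣ, s * s = 1 → s = 1 ∨ s = -1 := fun s h => by
    have := congrArg Units.val h
    rw [Units.val_mul, Units.val_one] at this
    rcases mul_self_eq_one_iff.1 this with h | h
    · exact Or.inl (Units.ext h)
    · exact Or.inr (Units.ext h)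
  set base : ↥(tw F (3 ^ m)) ⧸ B1 F m := ((1 : ↥(tw F (3 ^ m))) : ↥(tw F (3 ^ m)) ⧸ B1 F m) with hbase
  refine ⟨fun x y z hxy hxz hyz => ?_, ?_⟩
  · obtain ⟨g₁, hg₁⟩ := MulAction.exists_smul_eq ↥(tw F (3 ^ m)) x base
    obtain ⟨u, hu, hy⟩ := coset_cases hK (g₁ • y) (fun h => hxy (by
      rw [← inv_smul_eq_iff.2 hg₁.symm, ← inv_smul_eq_iff.2 h.symm]))
    set g : ↥(tw F (3 ^ m)) := (⟨u, hu.2⟩ : ↥(tw F (3 ^ m)))⁻¹ * g₁ with hg
    have hgx : g • x = base := by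
      rw [hg, mul_smul, hg₁, hbase, smul_mk_iff]
      simp only [Subgroup.coe_one, inv_one, one_mul, mul_one, Subgroup.coe_inv]
      exact inv_mem (Subgroup.mem_sup_left hu.1)
    have hgy : g • y = ((⟨mRep F, mRep_mem hK⟩ : ↥(tw F (3 ^ m))) : ↥(tw F (3 ^ m)) ⧸ B1 F m) := by
      rw [hg, mul_smul, hy, MulAction.Quotient.smul_coe, smul_eq_mul]
      congr 1
      exact Subtype.ext (inv_mul_cancel_left u _)
    obtain ⟨w, hw, hz⟩ := coset_cases hK (g • z) (fun h => hxz (by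
      rw [← inv_smul_eq_iff.2 hgx.symm, ← inv_smul_eq_iff.2 h.symm]))
    have hw1 : w ≠ 1 := fun h => hyz (by
      refine MulAction.injective g ?_
      show g • y = g • z
      rw [hgy, hz]
      congr 1
      exact Subtype.ext (by simp [h]))
    have hmap : (MulAction.stabilizer ↥(tw F (3 ^ m)) x ⊓ MulAction.stabilizer ↥(tw F (3 ^ m)) y ⊓
        MulAction.stabilizer ↥(tw F (3 ^ m)) z).map (MulAut.conj g).toMonoidHom =
        MulAction.stabilizer ↥(tw F (3 ^ m)) (g • x) ⊓ MulAction.stabilizer ↥(tw F (3 ^ m)) (g • y) ⊓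
          MulAction.stabilizer ↥(tw F (3 ^ m)) (g • z) := by
      rw [MulAction.stabilizer_smul_eq_stabilizer_map_conj, MulAction.stabilizer_smul_eq_stabilizer_map_conj,
        MulAction.stabilizer_smul_eq_stabilizer_map_conj, Subgroup.map_inf _ _ _ (MulAut.conj g).injective,
        Subgroup.map_inf _ _ _ (MulAut.conj g).injective]
    rw [← Nat.card_congr (Subgroup.equivMapOfInjective (MulAction.stabilizer ↥(tw F (3 ^ m)) x ⊓
        MulAction.stabilizer ↥(tw F (3 ^ m)) y ⊓ MulAction.stabilizer ↥(tw F (3 ^ m)) z)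
        (MulAut.conj g).toMonoidHom (MulAut.conj g).injective).symm.toEquiv, hmap,
      hgx, hgy, hz, card_stab_three hK hw]
    calc Nat.card {s : Fˣ // tor G2Data.tab F (par m s) * w * (tor G2Data.tab F (par m s))⁻¹ = w}
        ≤ Nat.card ({1, -1} : Finset Fˣ) := by
          refine Nat.card_le_card_of_injective
            (fun s => (⟨s.1, by
              rcases htwo s.1 (fixed_imp hK hw s.2 hw1) with h | h <;> simp [h]⟩ : ({1, -1} : Finset Fˣ)))
            fun a b h => Subtype.ext (congrArg Subtype.val h :)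
      _ ≤ 2 := by rw [Nat.card_eq_fintype_card, Fintype.card_coe]; exact Finset.card_le_two
  · have hneg : (-1 : F) ≠ 1 := fun h => by
      have : (2 : F) = 0 := by linear_combination -h
      exact one_ne_zero (α := F) (by linear_combination three_zero (F := F) - this)
    set w : GL G2Data.tab.D.Idx F := uF m 0 1 0 with hw'
    have hw : w ∈ G2Data.tab.D.posUnipotent F ⊓ tw F (3 ^ m) := (mem_U1_iff hK).2 ⟨_, _, _, rfl⟩
    have hw1 : w ≠ 1 := fun h =>
      one_ne_zero (α := F) (uF_inj (h.trans (uF_zero (m := m)).symm)).2.1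
    have hmB : mRep F ∉ G2Data.tab.D.borelSubgroup F := by
      intro h
      refine hw1 (U1_conj_eq_one hK hw ?_)
      exact mul_mem (mul_mem (inv_mem h) (Subgroup.mem_sup_left hw.1)) h
    refine ⟨base, ((⟨mRep F, mRep_mem hK⟩ : ↥(tw F (3 ^ m))) : _ ⧸ B1 F m),
      ((⟨w * mRep F, mul_mem hw.2 (mRep_mem hK)⟩ : ↥(tw F (3 ^ m))) : _ ⧸ B1 F m), ?_, ?_, ?_, ?_⟩
    · intro h
      rw [hbase, QuotientGroup.eq, mem_B1] at h
      exact hmB (by simpa using h)
    · intro h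
      rw [hbase, QuotientGroup.eq, mem_B1] at h
      simp only [Subgroup.coe_mul, Subgroup.coe_inv, Subgroup.coe_one, inv_one, one_mul] at h
      have hwB : w ∈ G2Data.tab.D.borelSubgroup F := Subgroup.mem_sup_left hw.1
      exact hmB (by simpa using mul_mem (inv_mem hwB) h)
    · intro h
      rw [QuotientGroup.eq, mem_B1] at h
      refine hw1 (U1_conj_eq_one hK hw ?_)
      simpa [mul_assoc] using h
    · rw [hbase, card_stab_three hK hw, Nat.card_eq_fintype_card, Fintype.card_subtype]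
      rw [show Finset.univ.filter (fun s : Fˣ => tor G2Data.tab F (par m s) * w *
          (tor G2Data.tab F (par m s))⁻¹ = w) = {1, -1} by
        ext s
        simp only [Finset.mem_filter, Finset.mem_univ, true_and, Finset.mem_insert, Finset.mem_singleton]
        refine ⟨fun h => htwo s (fixed_imp hK hw h hw1), ?_⟩
        have hodd : Odd (3 ^ m) := Odd.pow (by decide)
        have hv := wt_vals
        simp only [List.range_succ, List.range_zero, List.nil_append, List.cons_append, List.map_cons,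
          List.map_nil, List.cons.injEq, and_true] at hv
        rintro (rfl | rfl)
        · rw [show tor G2Data.tab F (par m 1) = 1 from congrArg Subtype.val (map_one (torEquiv hK))]
          simp
        · rw [hw', tor_uF, uF]
          obtain ⟨-, ⟨a8, b8⟩, -, a10, b10⟩ := hv
          have e8 : wt G2Data.tab F (par m (-1)) 8 = 1 := by
            rw [wt_par, a8, b8]
            exact Even.neg_one_zpow (by obtain ⟨j, hj⟩ := hodd; refine ⟨-(j : ℤ), ?_⟩; omega)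
          have e10 : wt G2Data.tab F (par m (-1)) 10 = 1 := by
            rw [wt_par, a10, b10]
            exact Even.neg_one_zpow (by obtain ⟨j, hj⟩ := hodd; refine ⟨3 * (j : ℤ) + 1, ?_⟩; omega)
          have h0 : (0 : F) ^ 3 ^ m = 0 := zero_pow (by positivity)
          rw [e8, e10]
          simp [h0]]
      rw [Finset.card_pair]
      exact fun h => hneg (by simpa using (congrArg Units.val h).symm)

end Cfsg.Agent.Chev.Ree
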