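import Cfsg.Agent.Lib.Lie.Ree9b

/-!
# Counting elements of the small Ree groups by their orders
-/

set_option autoImplicit false

namespace Cfsg.Agent.Chev.Ree

open Cfsg.Lie TwG2 Tab ReeTorus

variable {F : Type*} [Field F] [CharP F 3] [Fintype F] {m : ℕ} (hK : Fintype.card F = 3 ^ (2 * m + 1))

/-- counting the conjugates of the elements of `C` outside exponent two -/
theorem count_tor {G : Type*} [Group G] [Finite G] {A C : Subgroup G} (h : Tor A C) (hne : A ≠ ⊥)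
    (hcomm : ∀ a ∈ C, ∀ b ∈ C, a * b = b * a) (h2 : ∀ x ∈ C, x ^ (2 * Nat.card A) = 1)
    (hall : Nat.Coprime (Nat.card A) A.index) (Pr : G → Prop) (hPr : ∀ c x, Pr x → Pr (c⁻¹ * x * c)) :
    Nat.card {g : G // g ^ (2 * Nat.card A) = 1 ∧ g * g ≠ 1 ∧ Pr g} *
        Nat.card (Subgroup.normalizer (A : Set G)) =
      Nat.card G * Nat.card {x : G // x ∈ C ∧ x * x ≠ 1 ∧ Pr x} := by
  set T : Set G := {x | x ∈ C ∧ x * x ≠ 1 ∧ Pr x} with hT
  have hsq : ∀ x ∈ C, x * x ∈ A := fun x hx => h.mem _ (mul_mem hx hx) (by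
    rw [← pow_two, ← pow_mul]; exact h2 x hx)
  have hiff : ∀ g, (g ^ (2 * Nat.card A) = 1 ∧ g * g ≠ 1 ∧ Pr g) ↔ ∃ c : G, c⁻¹ * g * c ∈ T := by
    intro g
    constructor
    · rintro ⟨hg, hgg, hp⟩
      have hr := Nat.minFac_prime (fun e => hgg (orderOf_eq_one_iff.1 e))
      set r := (orderOf (g * g)).minFac
      have hrA : r ∣ Nat.card A :=
        (Nat.minFac_dvd _).trans (orderOf_dvd_of_pow_eq_one (by rw [← pow_two, ← pow_mul]; exact hg))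
      have hrg : r ∣ orderOf g := (Nat.minFac_dvd _).trans (by rw [← pow_two]; exact orderOf_pow_dvd 2)
      haveI : Fact r.Prime := ⟨hr⟩
      obtain ⟨c, hc⟩ := exists_conj_cent h hall hrA hrg
      refine ⟨c, hc, fun e => hgg ?_, hPr c g hp⟩
      rwa [show c⁻¹ * g * c * (c⁻¹ * g * c) = c⁻¹ * (g * g) * (c⁻¹)⁻¹ by group, conj_eq_one_iff] at e
    · rintro ⟨c, hc, hcc, hp⟩
      have e : g = (c⁻¹)⁻¹ * (c⁻¹ * g * c) * c⁻¹ := by group
      refine ⟨?_, fun hgg => hcc ?_, e ▸ hPr c⁻¹ _ hp⟩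
      · have := h2 _ hc
        rwa [show c⁻¹ * g * c = c⁻¹ * g * (c⁻¹)⁻¹ by group, conj_pow, conj_eq_one_iff] at this
      · rw [show c⁻¹ * g * c * (c⁻¹ * g * c) = c⁻¹ * (g * g) * c by group, hgg, mul_one, inv_mul_cancel]
  rw [Nat.card_congr (Equiv.subtypeEquivRight hiff)]
  obtain ⟨a, ha, ha1⟩ := (Subgroup.nontrivial_iff_exists_ne_one A).1 ((Subgroup.nontrivial_iff_ne_bot A).2 hne)
  refine card_conj_mul T _ ?_ ?_
  · rintro n hn y ⟨hy, hyy, hp⟩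
    refine ⟨?_, fun e => hyy ?_, hPr n y hp⟩
    · rw [← h.cent _ ((Subgroup.mem_normalizer_iff''.1 hn a).1 ha) (fun e => ha1 (by
        rwa [show n⁻¹ * a * n = n⁻¹ * a * (n⁻¹)⁻¹ by group, conj_eq_one_iff] at e))]
      have := (conj_cent (c := n⁻¹) (y := a) (x := y)).2 (by rw [h.cent a ha ha1]; exact hy)
      rwa [inv_inv] at this
    · rwa [show n⁻¹ * y * n * (n⁻¹ * y * n) = n⁻¹ * (y * y) * (n⁻¹)⁻¹ by group, conj_eq_one_iff] at e
  · rintro y ⟨hy, hyy, -⟩ c ⟨hcy, -, -⟩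
    refine h.conj_mem (hsq y hy) hyy ?_
    rw [show c * (y * y) * c⁻¹ = c * y * c⁻¹ * (c * y * c⁻¹) by group]
    exact hsq _ hcy

theorem half_two (m : ℕ) : 2 * ((3 ^ (2 * m + 1) - 1) / 2) = 3 ^ (2 * m + 1) - 1 ∧
    2 * ((3 ^ (2 * m + 1) + 1) / 4) = (3 ^ (2 * m + 1) + 1) / 2 := by
  obtain ⟨k, hk⟩ := q_form m; omega

theorem range_comm {a b : Gr F m} (ha : a ∈ (Hh hK).range) (hb : b ∈ (Hh hK).range) : a * b = b * a := by
  obtain ⟨s, rfl⟩ := ha; obtain ⟨t, rfl⟩ := hb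
  rw [← map_mul, mul_comm, map_mul]

theorem count_H (hm : 1 ≤ m) (Pr : Gr F m → Prop) (hPr : ∀ c x, Pr x → Pr (c⁻¹ * x * c)) :
    Nat.card {g : Gr F m // g ^ (3 ^ (2 * m + 1) - 1) = 1 ∧ g * g ≠ 1 ∧ Pr g} *
        (2 * (3 ^ (2 * m + 1) - 1)) =
      Nat.card (Gr F m) * Nat.card {x : Gr F m // x ∈ (Hh hK).range ∧ x * x ≠ 1 ∧ Pr x} := by
  have h := count_tor (tor_AH hK) (AH_ne_bot hK hm) (fun a ha b hb => range_comm hK ha hb)
    (fun x hx => by rw [card_AH, (half_two m).1]; exact pow_range hK hx) (hall_AH hK) Pr hPr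
  rwa [card_norm_AH hK hm, card_AH, (half_two m).1] at h

theorem count_T (hm : 1 ≤ m) (Pr : Gr F m → Prop) (hPr : ∀ c x, Pr x → Pr (c⁻¹ * x * c)) :
    Nat.card {g : Gr F m // g ^ ((3 ^ (2 * m + 1) + 1) / 2) = 1 ∧ g * g ≠ 1 ∧ Pr g} *
        (6 * (3 ^ (2 * m + 1) + 1)) =
      Nat.card (Gr F m) * Nat.card {x : Gr F m // x ∈ QT hK ∧ x * x ≠ 1 ∧ Pr x} := by
  have h := count_tor (tor_TT hK hm) (TT_ne_bot hK hm) (fun a ha b hb => comm_QT hK ha hb)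
    (fun x hx => by rw [card_TT', (half_two m).2]; exact pow_QT hK hx) (hall_TT hK) Pr hPr
  rwa [card_norm_TT hK hm, card_TT', (half_two m).2] at h

theorem sq_QT_iff (hm : 1 ≤ m) {x : Gr F m} (hx : x ∈ QT hK) : x * x = 1 ↔ x ∈ E0 hK := by
  refine ⟨invol_QT hK hm hx, fun h => ?_⟩
  rcases (mem_E0 hK).1 h with rfl | rfl | rfl | rfl
  · exact one_mul _
  · exact a0_sq hK
  · exact t0_sq hK
  · exact a0t0_sq hK

theorem card_range : Nat.card (Hh hK).range = 3 ^ (2 * m + 1) - 1 := by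
  rw [← Nat.card_congr (MonoidHom.ofInjective (Hh_injective hK)).toEquiv, Nat.card_units, qN hK]

theorem sq_range_iff {x : Gr F m} (hx : x ∈ (Hh hK).range) :
    x * x = 1 ↔ x = 1 ∨ x = a0 hK := by
  obtain ⟨s, rfl⟩ := hx
  constructor
  · intro h
    have h' : s * s = 1 := Hh_injective hK (by rw [map_mul, h, map_one])
    rcases mul_self_eq_one_iff.1 (by simpa using congrArg Units.val h' : (s : F) * s = 1) with e | e
    · exact Or.inl (by rw [show s = 1 from Units.ext e, map_one])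
    · exact Or.inr (by rw [a0, show s = -1 from Units.ext (by simpa using e)])
  · rintro (h | h) <;> rw [h]
    · exact one_mul _
    · exact a0_sq hK

theorem card_diff {G : Type*} [Group G] [Finite G] (H : Subgroup G) (p : G → Prop) :
    Nat.card {x : G // x ∈ H ∧ ¬ p x} + Nat.card {x : G // x ∈ H ∧ p x} = Nat.card H := by
  classical
  rw [← Nat.card_sum, Nat.card_congr (Equiv.sumCongr
    (Equiv.subtypeSubtypeEquivSubtypeInter (· ∈ H) (fun x => ¬ p x)).symm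
    (Equiv.subtypeSubtypeEquivSubtypeInter (· ∈ H) p).symm)]
  exact Nat.card_congr ((Equiv.sumComm _ _).trans (Equiv.sumCompl _))

theorem card_outH (hm : 1 ≤ m) :
    Nat.card {x : Gr F m // x ∈ (Hh hK).range ∧ x * x ≠ 1 ∧ True} + 2 = 3 ^ (2 * m + 1) - 1 := by
  rw [← card_range hK, ← card_diff (Hh hK).range (fun x => x * x = 1),
    Nat.card_congr (Equiv.subtypeEquivRight (q := fun x => x ∈ (Hh hK).range ∧ ¬ x * x = 1)
      (fun x => by simp))]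
  congr 1
  rw [Nat.card_congr (Equiv.subtypeEquivRight (q := fun x => x ∈ ({1, a0 hK} : Set (Gr F m))) (fun x => by
    constructor
    · rintro ⟨hx, h⟩; exact (sq_range_iff hK hx).1 h
    · rintro (rfl | rfl)
      · exact ⟨one_mem _, one_mul _⟩
      · exact ⟨⟨_, rfl⟩, a0_sq hK⟩)), Nat.card_coe_set_eq, Set.ncard_pair (a0_ne hK).symm]

theorem card_outT (hm : 1 ≤ m) :
    Nat.card {x : Gr F m // x ∈ QT hK ∧ x * x ≠ 1 ∧ True} + 4 = 3 ^ (2 * m + 1) + 1 := by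
  have h := card_diff (QT hK) (fun x => x * x = 1)
  rw [card_QT, qN hK, Nat.card_congr (Equiv.subtypeEquivRight (p := fun x => x ∈ QT hK ∧ x * x = 1)
    (q := (· ∈ E0 hK)) (fun x => ⟨fun h => (sq_QT_iff hK hm h.1).1 h.2,
      fun h => ⟨E0_le_QT hK h, (sq_QT_iff hK hm (E0_le_QT hK h)).2 h⟩⟩)), card_E0] at h
  rw [← h, Nat.card_congr (Equiv.subtypeEquivRight (q := fun x => x ∈ QT hK ∧ ¬ x * x = 1) (fun x => by simp))]

include hK in
theorem card_B1 : Nat.card (B1 F m) = (3 ^ (2 * m + 1)) ^ 3 * (3 ^ (2 * m + 1) - 1) := by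
  let f : UG F m × Fˣ → B1 F m := fun x => ⟨x.1 * Hh hK x.2, mul_mem (UG_le_B1 x.1.2) (Hh_mem_B1 hK x.2)⟩
  have hf : Function.Bijective f := by
    constructor
    · rintro ⟨u, s⟩ ⟨v, t⟩ e
      have e' : (u : Gr F m) * Hh hK s = v * Hh hK t := congrArg Subtype.val e
      have hst : s * t⁻¹ = 1 := Hh_mem_UG hK (by
        rw [map_mul, map_inv, show Hh hK s * (Hh hK t)⁻¹ = (u : Gr F m)⁻¹ * v by
          rw [eq_inv_mul_iff_mul_eq, ← mul_assoc, e', mul_inv_cancel_right]]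
        exact mul_mem (inv_mem u.2) v.2)
      rw [mul_inv_eq_one] at hst
      subst hst
      rw [show u = v from Subtype.ext (mul_right_cancel e')]
    · rintro ⟨g, hg⟩
      obtain ⟨u, hu, s, rfl⟩ := exists_split hK hg
      exact ⟨(⟨u, hu⟩, s), rfl⟩
  rw [← Nat.card_eq_of_bijective f hf, Nat.card_prod, card_UG hK, Nat.card_units, qN hK]

include hK in
theorem count_three (Pr : Gr F m → Prop) (hPr : ∀ c x, Pr x → Pr (c⁻¹ * x * c)) :
    Nat.card {g : Gr F m // g ^ 9 = 1 ∧ g ≠ 1 ∧ Pr g} *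
        ((3 ^ (2 * m + 1)) ^ 3 * (3 ^ (2 * m + 1) - 1)) =
      Nat.card (Gr F m) * Nat.card {x : Gr F m // x ∈ UG F m ∧ x ≠ 1 ∧ Pr x} := by
  rw [← card_B1 hK]
  set T : Set (Gr F m) := {x | x ∈ UG F m ∧ x ≠ 1 ∧ Pr x}
  have hiff : ∀ g, (g ^ 9 = 1 ∧ g ≠ 1 ∧ Pr g) ↔ ∃ c : Gr F m, c⁻¹ * g * c ∈ T := by
    intro g
    constructor
    · rintro ⟨hg, hg1, hp⟩
      obtain ⟨c, hc⟩ := exists_conj_UG hK (j := 2) hg
      refine ⟨c⁻¹, by rwa [inv_inv], fun e => hg1 ?_, hPr c⁻¹ g hp⟩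
      rwa [inv_inv, conj_eq_one_iff] at e
    · rintro ⟨c, hc, hc1, hp⟩
      have e : g = (c⁻¹)⁻¹ * (c⁻¹ * g * c) * c⁻¹ := by group
      refine ⟨?_, fun h => hc1 (by rw [h]; group), e ▸ hPr c⁻¹ _ hp⟩
      have := UG_nine hK hc
      rwa [show c⁻¹ * g * c = c⁻¹ * g * (c⁻¹)⁻¹ by group, conj_pow, conj_eq_one_iff] at this
  rw [Nat.card_congr (Equiv.subtypeEquivRight hiff)]
  refine card_conj_mul T _ ?_ ?_
  · rintro n hn y ⟨hy, hy1, hp⟩
    refine ⟨?_, fun e => hy1 ?_, hPr n y hp⟩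
    · have := conj_mem_UG (inv_mem hn) hy
      rwa [inv_inv] at this
    · rwa [show n⁻¹ * y * n = n⁻¹ * y * (n⁻¹)⁻¹ by group, conj_eq_one_iff] at e
  · rintro y ⟨hy, hy1, -⟩ c ⟨hcy, -, -⟩
    have := three_local hK hy hy1 (g := c⁻¹) (by rw [inv_inv]; exact UG_le_B1 hcy)
    exact inv_inv c ▸ inv_mem this

include hK in
theorem card_three_all :
    Nat.card {g : Gr F m // g ^ 9 = 1 ∧ g ≠ 1 ∧ True} * ((3 ^ (2 * m + 1)) ^ 3 * (3 ^ (2 * m + 1) - 1)) =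
      Nat.card (Gr F m) * ((3 ^ (2 * m + 1)) ^ 3 - 1) := by
  rw [count_three hK (fun _ => True) (fun _ _ h => h)]
  congr 1
  classical
  haveI := Fintype.ofFinite (UG F m)
  rw [← card_UG hK, Nat.card_congr (Equiv.subtypeEquivRight (q := fun x => x ∈ UG F m ∧ x ≠ 1) (fun x => by simp)),
    ← Nat.card_congr (Equiv.subtypeSubtypeEquivSubtypeInter (· ∈ UG F m) (fun x => x ≠ 1)),
    Nat.card_congr (Equiv.subtypeEquivRight (q := fun x : UG F m => x ≠ 1) (fun x => by simp)),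
    Nat.card_eq_fintype_card, Fintype.card_subtype_compl, Fintype.card_subtype_eq, ← Nat.card_eq_fintype_card]

include hK in
theorem card_invol (hm : 1 ≤ m) :
    Nat.card {g : Gr F m // orderOf g = 2} *
        (3 ^ (2 * m + 1) * (3 ^ (2 * m + 1) - 1) * (3 ^ (2 * m + 1) + 1)) = Nat.card (Gr F m) := by
  haveI : Fact (Nat.Prime 2) := ⟨Nat.prime_two⟩
  have hiff : ∀ g, orderOf g = 2 ↔ ∃ c : Gr F m, c⁻¹ * g * c ∈ ({a0 hK} : Set (Gr F m)) := by
    intro g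
    rw [orderOf_eq_prime_iff, pow_two]
    constructor
    · rintro ⟨h, h1⟩
      obtain ⟨c, hc⟩ := invol_conj hK hm h h1
      exact ⟨c⁻¹, by rw [inv_inv]; exact hc⟩
    · rintro ⟨c, hc⟩
      rw [Set.mem_singleton_iff] at hc
      constructor
      · rw [show g * g = c * ((c⁻¹ * g * c) * (c⁻¹ * g * c)) * c⁻¹ by group, hc, a0_sq, mul_one, mul_inv_cancel]
      · intro h; rw [h, mul_one, inv_mul_cancel] at hc; exact a0_ne hK hc.symm
  rw [Nat.card_congr (Equiv.subtypeEquivRight hiff), ← card_cent_a0 hK,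
    card_conj_mul ({a0 hK} : Set (Gr F m)) (Subgroup.centralizer {a0 hK})]
  · rw [Nat.card_coe_set_eq, Set.ncard_singleton, mul_one]
  · rintro n hn y rfl
    rw [Set.mem_singleton_iff, mul_assoc, ← Subgroup.mem_centralizer_singleton_iff.1 hn, inv_mul_cancel_left]
  · rintro y rfl c hc
    exact Subgroup.mem_centralizer_singleton_iff.2 (mul_inv_eq_iff_eq_mul.1 hc)

/-- representatives of the elements of order six -/
def W : Set (Gr F m) :=
  {y | ∃ w ∈ UG F m, w ≠ 1 ∧ a0 hK * w = w * a0 hK ∧ y = a0 hK * w}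

theorem cube_of_cent {w : Gr F m} (hw : w ∈ UG F m) (hc : a0 hK * w = w * a0 hK) :
    ∃ u : F, (w : GL G2Data.tab.D.Idx F) = uF m 0 u 0 ∧ w ^ 3 = 1 := by
  have hwa : a0 hK * w * (a0 hK)⁻¹ = w := mul_inv_eq_iff_eq_mul.2 hc
  obtain ⟨u, hu⟩ := cent_U1 hK (Subgroup.mem_subgroupOf.1 hw) (congrArg Subtype.val hwa)
  refine ⟨u, hu, Subtype.ext ?_⟩
  rw [SubgroupClass.coe_pow, hu, uF, zero_pow (by positivity), cube_low]
  rfl

theorem W_pow {w : Gr F m} (hw : w ∈ UG F m) (hc : a0 hK * w = w * a0 hK) :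
    (a0 hK * w) ^ 3 = a0 hK ∧ (a0 hK * w) ^ 4 = w := by
  obtain ⟨-, -, h3⟩ := cube_of_cent hK hw hc
  constructor
  · rw [Commute.mul_pow hc, h3, mul_one, pow_succ, pow_two, a0_sq, one_mul]
  · rw [Commute.mul_pow hc, pow_succ w, h3, one_mul, show 4 = 2 * 2 from rfl, pow_mul, pow_two (a0 hK),
      a0_sq, one_pow, one_mul]

theorem uF_zero_comm (u : F) : a0 hK * ⟨uF m 0 u 0, ((mem_U1_iff hK).2 ⟨0, u, 0, rfl⟩).2⟩ =
    (⟨uF m 0 u 0, ((mem_U1_iff hK).2 ⟨0, u, 0, rfl⟩).2⟩ : Gr F m) * a0 hK :=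
  mul_inv_eq_iff_eq_mul.1 (Subtype.ext (inv0'_conj_X u))

include hK in
theorem card_six (hm : 1 ≤ m) :
    Nat.card {g : Gr F m // orderOf g = 6} * (3 ^ (2 * m + 1) * (3 ^ (2 * m + 1) - 1)) =
      Nat.card (Gr F m) * (3 ^ (2 * m + 1) - 1) := by
  classical
  let U : F → Gr F m := fun u => ⟨uF m 0 u 0, ((mem_U1_iff hK).2 ⟨0, u, 0, rfl⟩).2⟩
  have hU : ∀ u, U u ∈ UG F m := fun u => Subgroup.mem_subgroupOf.2 ((mem_U1_iff hK).2 ⟨0, u, 0, rfl⟩)
  have hUinj : Function.Injective U := fun a b e => (uF_inj (congrArg Subtype.val e)).2.1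
  have hU0 : U 0 = 1 := Subtype.ext uF_zero
  have hcardW : Nat.card (W hK) = 3 ^ (2 * m + 1) - 1 := by
    let f : {u : F // u ≠ 0} → W hK := fun u =>
      ⟨a0 hK * U u.1, U u.1, hU _, fun e => u.2 (hUinj (e.trans hU0.symm)), uF_zero_comm hK _, rfl⟩
    have hf : Function.Bijective f := by
      refine ⟨fun a b e => Subtype.ext (hUinj (mul_left_cancel (congrArg Subtype.val e :))), ?_⟩
      rintro ⟨_, w, hw, hw1, hc, rfl⟩
      obtain ⟨u, hu, -⟩ := cube_of_cent hK hw hc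
      have hwu : w = U u := Subtype.ext hu
      exact ⟨⟨u, fun e => hw1 (by rw [hwu, e, hU0])⟩, Subtype.ext (show a0 hK * U u = a0 hK * w by rw [hwu])⟩
    rw [← Nat.card_eq_of_bijective f hf, Nat.card_eq_fintype_card, Fintype.card_subtype_compl,
      Fintype.card_subtype_eq, hK]
  have hcardN : Nat.card (B1 F m ⊓ Subgroup.centralizer {a0 hK} : Subgroup (Gr F m)) =
      3 ^ (2 * m + 1) * (3 ^ (2 * m + 1) - 1) := by
    have ha : ∀ s, Hh hK s * a0 hK = a0 hK * Hh hK s := fun s => by rw [a0, ← map_mul, mul_comm, map_mul]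
    let f : F × Fˣ → (B1 F m ⊓ Subgroup.centralizer {a0 hK} : Subgroup (Gr F m)) := fun x =>
      ⟨U x.1 * Hh hK x.2, mul_mem (UG_le_B1 (hU _)) (Hh_mem_B1 hK _),
        Subgroup.mem_centralizer_singleton_iff.2
          (Commute.mul_left (uF_zero_comm hK _).symm (ha _) : Commute _ _)⟩
    have hf : Function.Bijective f := by
      constructor
      · rintro ⟨u, s⟩ ⟨v, t⟩ e
        have e' : U u * Hh hK s = U v * Hh hK t := congrArg Subtype.val e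
        have hst : s * t⁻¹ = 1 := Hh_mem_UG hK (by
          rw [map_mul, map_inv, show Hh hK s * (Hh hK t)⁻¹ = (U u)⁻¹ * U v by
            rw [eq_inv_mul_iff_mul_eq, ← mul_assoc, e', mul_inv_cancel_right]]
          exact mul_mem (inv_mem (hU _)) (hU _))
        rw [mul_inv_eq_one] at hst
        subst hst
        rw [hUinj (mul_right_cancel e')]
      · rintro ⟨g, hgB, hgc⟩
        obtain ⟨w, hw, s, rfl⟩ := exists_split hK hgB
        have hc := Subgroup.mem_centralizer_singleton_iff.1 hgc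
        rw [mul_assoc, ha, ← mul_assoc, ← mul_assoc] at hc
        obtain ⟨u, hu, -⟩ := cube_of_cent hK hw (mul_right_cancel hc).symm
        exact ⟨(u, s), Subtype.ext (show U u * Hh hK s = w * Hh hK s by rw [show w = U u from Subtype.ext hu])⟩
    rw [← Nat.card_eq_of_bijective f hf, Nat.card_prod, Nat.card_units, qN hK]
  have hiff : ∀ g, orderOf g = 6 ↔ ∃ c : Gr F m, c⁻¹ * g * c ∈ W hK := by
    intro g
    constructor
    · intro h
      have hg6 : g ^ 6 = 1 := h ▸ pow_orderOf_eq_one g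
      have hne : ∀ j, 0 < j → j < 6 → g ^ j ≠ 1 := fun j h0 hj e =>
        absurd (Nat.le_of_dvd h0 (orderOf_dvd_of_pow_eq_one e)) (by omega)
      obtain ⟨c, hca, hcU, -⟩ := three_invol hK (y := g ^ 4) (z := g ^ 3) (j := 1)
        (by rw [pow_one, ← pow_mul, show 4 * 3 = 6 * 2 from rfl, pow_mul, hg6, one_pow])
        (hne 4 (by norm_num) (by norm_num))
        (by rw [← pow_add]; exact hg6) (hne 3 (by norm_num) (by norm_num))
        (by rw [← pow_add, ← pow_add, add_comm])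
      refine ⟨c, c⁻¹ * g ^ 4 * c, hcU, fun e => hne 4 (by norm_num) (by norm_num) ?_, ?_, ?_⟩
      · simpa [mul_assoc] using congrArg (fun z => c * z * c⁻¹) e
      · rw [← hca, show c⁻¹ * g ^ 3 * c * (c⁻¹ * g ^ 4 * c) = c⁻¹ * (g ^ 3 * g ^ 4) * c by group,
          show c⁻¹ * g ^ 4 * c * (c⁻¹ * g ^ 3 * c) = c⁻¹ * (g ^ 4 * g ^ 3) * c by group, ← pow_add, ← pow_add]
      · rw [← hca, show c⁻¹ * g ^ 3 * c * (c⁻¹ * g ^ 4 * c) = c⁻¹ * (g ^ 3 * g ^ 4) * c by group, ← pow_add,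
          show 3 + 4 = 6 + 1 from rfl, pow_add, hg6, one_mul, pow_one]
    · rintro ⟨c, w, hw, hw1, hc, e⟩
      obtain ⟨p3, p4⟩ := W_pow hK hw hc
      obtain ⟨-, -, h3⟩ := cube_of_cent hK hw hc
      have ho : orderOf (a0 hK * w) = 6 := by
        haveI : Fact (Nat.Prime 2) := ⟨Nat.prime_two⟩
        haveI : Fact (Nat.Prime 3) := ⟨Nat.prime_three⟩
        rw [Commute.orderOf_mul_eq_mul_orderOf_of_coprime hc,
          orderOf_eq_prime (p := 2) (by rw [pow_two]; exact a0_sq hK) (a0_ne hK),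
          orderOf_eq_prime h3 hw1]
        rw [orderOf_eq_prime (p := 2) (by rw [pow_two]; exact a0_sq hK) (a0_ne hK), orderOf_eq_prime h3 hw1]
        norm_num
      rw [← ho, ← e]
      simpa using ((MulAut.conj c⁻¹).orderOf_eq g).symm
  rw [Nat.card_congr (Equiv.subtypeEquivRight hiff), ← hcardN, ← hcardW]
  refine card_conj_mul (W hK) _ ?_ ?_
  · rintro n ⟨hnB, hnc⟩ _ ⟨w, hw, hw1, hc, rfl⟩
    have hna : n⁻¹ * a0 hK * n = a0 hK := by
      rw [mul_assoc, ← Subgroup.mem_centralizer_singleton_iff.1 hnc, inv_mul_cancel_left]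
    refine ⟨n⁻¹ * w * n, ?_, fun e => hw1 ?_, ?_, ?_⟩
    · have := conj_mem_UG (inv_mem (show n ∈ B1 F m from hnB)) hw; rwa [inv_inv] at this
    · simpa [mul_assoc] using congrArg (fun z => n * z * n⁻¹) e
    · conv_lhs => rw [← hna]
      conv_rhs => rw [← hna]
      rw [show n⁻¹ * a0 hK * n * (n⁻¹ * w * n) = n⁻¹ * (a0 hK * w) * n by group,
        show n⁻¹ * w * n * (n⁻¹ * a0 hK * n) = n⁻¹ * (w * a0 hK) * n by group, hc]
    · conv_rhs => rw [← hna]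
      group
  · rintro _ ⟨w, hw, hw1, hc, rfl⟩ c ⟨w', hw', -, hc', e⟩
    obtain ⟨p3, p4⟩ := W_pow hK hw hc
    obtain ⟨p3', p4'⟩ := W_pow hK hw' hc'
    have e3 : c * a0 hK * c⁻¹ = a0 hK := by
      have := congrArg (fun z => z ^ 3) e
      simp only [conj_pow, p3, p3'] at this
      exact this
    have e4 : c * w * c⁻¹ = w' := by
      have := congrArg (fun z => z ^ 4) e
      simp only [conj_pow, p4, p4'] at this
      exact this
    refine ⟨?_, Subgroup.mem_centralizer_singleton_iff.2 (mul_inv_eq_iff_eq_mul.1 e3)⟩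
    have := three_local hK hw hw1 (g := c⁻¹) (by rw [inv_inv, e4]; exact UG_le_B1 hw')
    show c ∈ B1 F m
    exact inv_inv c ▸ inv_mem this

/-! ### every element has one of the listed exponents -/

include hK in
theorem exponent_cases (hm : 1 ≤ m) (g : Gr F m) :
    g ^ (3 ^ (2 * m + 1) - 1) = 1 ∨ g ^ ((3 ^ (2 * m + 1) + 1) / 2) = 1 ∨ g ^ Phi m = 1 ∨
      g ^ 6 = 1 ∨ g ^ 9 = 1 := by
  haveI : Fact (Nat.Prime 2) := ⟨Nat.prime_two⟩
  by_cases hH : ∃ r : ℕ, r.Prime ∧ r ∣ (3 ^ (2 * m + 1) - 1) / 2 ∧ r ∣ orderOf g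
  · obtain ⟨r, hr, h1, h2⟩ := hH
    obtain ⟨c, hc⟩ := conj_torus hK hr h1 h2
    have := pow_range hK hc
    rw [show c⁻¹ * g * c = c⁻¹ * g * (c⁻¹)⁻¹ by group, conj_pow, conj_eq_one_iff] at this
    exact Or.inl this
  by_cases hT : ∃ r : ℕ, r.Prime ∧ r ∣ (3 ^ (2 * m + 1) + 1) / 4 ∧ r ∣ orderOf g
  · obtain ⟨r, hr, h1, h2⟩ := hT
    obtain ⟨c, hc⟩ := conj_QT hK hm hr h1 h2
    have := pow_QT hK hc
    rw [show c⁻¹ * g * c = c⁻¹ * g * (c⁻¹)⁻¹ by group, conj_pow, conj_eq_one_iff] at this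
    exact Or.inr (Or.inl this)
  by_cases hP : ∃ r : ℕ, r.Prime ∧ r ∣ Phi m ∧ r ∣ orderOf g
  · obtain ⟨r, hr, h1, h2⟩ := hP
    have hzo : orderOf (g ^ (orderOf g / r)) = r := orderOf_pow_orderOf_div (orderOf_pos g).ne' h2
    refine Or.inr (Or.inr (Or.inl (orderOf_dvd_iff_pow_eq_one.1 ((Subgroup.orderOf_dvd_natCard _
      (Subgroup.mem_centralizer_singleton_iff.2 (Commute.self_pow g _).eq)).trans
        (card_cent_dvd hK hm hr h1 hzo)))))
  have hsmall : ∀ r : ℕ, r.Prime → r ∣ orderOf g → r = 2 ∨ r = 3 := by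
    intro r hr h
    rcases prime_cases hK hr (h.trans (orderOf_dvd_natCard g)) with e | e | e | e | e
    · exact Or.inl e
    · exact Or.inr e
    · exact absurd ⟨r, hr, e, h⟩ hH
    · exact absurd ⟨r, hr, e, h⟩ hT
    · exact absurd ⟨r, hr, e, h⟩ hP
  have hn := Nat.ordProj_mul_ordCompl_eq_self (orderOf g) 2
  set i := (orderOf g).factorization 2
  set n' := orderOf g / 2 ^ i with hn'
  have h3 : n' = 3 ^ n'.primeFactorsList.length := by
    refine Nat.eq_prime_pow_of_unique_prime_dvd (fun h0 => (orderOf_pos g).ne' (by rw [← hn, h0, mul_zero]))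
      fun {r} hr hrd => ?_
    rcases hsmall r hr (hrd.trans (Dvd.intro_left _ hn)) with rfl | rfl
    · exact absurd hrd (Nat.not_dvd_ordCompl Nat.prime_two (orderOf_pos g).ne')
    · rfl
  set j := n'.primeFactorsList.length
  rw [h3] at hn
  have hgn : g ^ (2 ^ i * 3 ^ j) = 1 := by rw [hn]; exact pow_orderOf_eq_one g
  have h18 : g ^ 18 = 1 := by
    have h1 : g ^ (3 ^ j * 2) = 1 := by
      rw [pow_mul, pow_two]
      exact two_elem hK (j := i) (by rw [← pow_mul, mul_comm, hgn])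
    rw [show 18 = 2 * 9 from rfl, pow_mul]
    exact three_elem hK (j := j) (by rw [← pow_mul, mul_comm, h1])
  by_cases h9 : g ^ 9 = 1
  · exact Or.inr (Or.inr (Or.inr (Or.inr h9)))
  refine Or.inr (Or.inr (Or.inr (Or.inl ?_)))
  by_cases h2 : g ^ 2 = 1
  · rw [show 6 = 2 * 3 from rfl, pow_mul, h2, one_pow]
  obtain ⟨c, -, -, h⟩ := three_invol hK (y := g ^ 2) (z := g ^ 9) (j := 2)
    (by rw [← pow_mul]; exact h18) h2 (by rw [← pow_add]; exact h18) h9 (by rw [← pow_add, ← pow_add, add_comm])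
  rw [show c⁻¹ * g ^ 2 * c = c⁻¹ * g ^ 2 * (c⁻¹)⁻¹ by group, conj_pow, conj_eq_one_iff, ← pow_mul] at h
  exact h

theorem pow_gcd' {G : Type*} [Group G] {g : G} {a b : ℕ} (d : ℕ) (ha : g ^ a = 1) (hb : g ^ b = 1)
    (hd : Nat.gcd a b ∣ d) : g ^ d = 1 := by
  obtain ⟨k, rfl⟩ := hd
  rw [pow_mul, pow_gcd_eq_one.2 ⟨ha, hb⟩, one_pow]

theorem gcd_facts (m : ℕ) (hm : 1 ≤ m) :
    Nat.gcd (3 ^ (2 * m + 1) - 1) ((3 ^ (2 * m + 1) + 1) / 2) ∣ 2 ∧
    Nat.gcd 9 (3 ^ (2 * m + 1) - 1) ∣ 1 ∧ Nat.gcd 9 ((3 ^ (2 * m + 1) + 1) / 2) ∣ 1 ∧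
    Nat.gcd 9 (Phi m) ∣ 1 ∧ Nat.gcd (2 * 3) (Phi m) ∣ 1 ∧
    Nat.gcd (2 * 3) (3 ^ (2 * m + 1) - 1) ∣ 2 ∧ Nat.gcd (2 * 3) ((3 ^ (2 * m + 1) + 1) / 2) ∣ 2 ∧
    Nat.gcd (Phi m) (3 ^ (2 * m + 1) - 1) ∣ 1 ∧ Nat.gcd (Phi m) ((3 ^ (2 * m + 1) + 1) / 2) ∣ 1 ∧
    Nat.gcd 2 (Phi m) ∣ 1 := by
  obtain ⟨k, hk⟩ := q_form m
  obtain ⟨j, hj⟩ : 9 ∣ 3 ^ (2 * m + 1) := (show 3 ^ 2 ∣ 3 ^ (2 * m + 1) from pow_dvd_pow 3 (by omega))
  have hc := coprime_Phi_rest m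
  have hP : Phi m % 9 = 1 ∧ Phi m % 2 = 1 := by
    constructor
    · rw [Phi, hj, mul_assoc, Nat.mul_add_mod]
    · rw [Phi, hk, show (8 * k + 3) * (8 * k + 3 - 1) + 1 = 2 * ((8 * k + 3) * (4 * k + 1)) + 1 by
        rw [show 8 * k + 3 - 1 = 2 * (4 * k + 1) by omega]; ring]
      omega
  have hd : ∀ b, b ∣ (3 ^ (2 * m + 1)) ^ 3 * (3 ^ (2 * m + 1) - 1) * (3 ^ (2 * m + 1) + 1) → Nat.gcd (Phi m) b ∣ 1 :=
    fun b hb => dvd_of_eq (hc.coprime_dvd_right hb).gcd_eq_one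
  have s1 : ∀ a b, a % 9 = b % 9 → Nat.gcd 9 a = Nat.gcd 9 b := fun a b h => by
    rw [Nat.gcd_rec 9 a, Nat.gcd_rec 9 b, h]
  have s2 : ∀ a b, a % (2 * 3) = b % (2 * 3) → Nat.gcd (2 * 3) a = Nat.gcd (2 * 3) b := fun a b h => by
    rw [Nat.gcd_rec (2 * 3) a, Nat.gcd_rec (2 * 3) b, h]
  refine ⟨?_, ?_, ?_, ?_, ?_, ?_, ?_, ?_, ?_, ?_⟩
  · set a := 3 ^ (2 * m + 1) - 1 with ha
    set b := (3 ^ (2 * m + 1) + 1) / 2 with hb
    have h := Nat.dvd_sub ((Nat.gcd_dvd_right a b).mul_left 2) (Nat.gcd_dvd_left a b)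
    rwa [show 2 * b - a = 2 by omega] at h
  · rw [s1 _ 8 (by omega)]; decide
  · rw [s1 _ 5 (by omega)]; decide
  · rw [s1 _ 1 (by omega)]; decide
  · rw [s2 _ 1 (by omega)]; decide
  · rw [s2 _ 2 (by omega)]; decide
  · rw [s2 _ 2 (by omega)]; decide
  · exact hd _ (dvd_mul_of_dvd_left (Dvd.intro_left _ rfl) _)
  · exact hd _ (dvd_mul_of_dvd_right ⟨2, by omega⟩ _)
  · rw [Nat.gcd_rec, hP.2]; decide

open Classical in
include hK in
theorem partition_point (hm : 1 ≤ m) (g : Gr F m) :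
    (if g = 1 then 1 else 0) + (if orderOf g = 2 then 1 else 0) + (if orderOf g = 6 then 1 else 0) +
      (if g ^ 9 = 1 ∧ g ≠ 1 ∧ True then 1 else 0) +
      (if g ^ (3 ^ (2 * m + 1) - 1) = 1 ∧ g * g ≠ 1 ∧ True then 1 else 0) +
      (if g ^ ((3 ^ (2 * m + 1) + 1) / 2) = 1 ∧ g * g ≠ 1 ∧ True then 1 else 0) +
      (if g ^ Phi m = 1 ∧ g ≠ 1 then 1 else 0) = 1 := by
  obtain ⟨d1, d2, d3, d4, d5, d6, d7, d8, d9, d10⟩ := gcd_facts m hm
  simp only [and_true]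
  by_cases h1 : g = 1
  · subst h1; simp
  have hone : ∀ {a b : ℕ}, g ^ a = 1 → g ^ b = 1 → Nat.gcd a b ∣ 1 → False := fun ha hb hd =>
    h1 (by simpa using pow_gcd' 1 ha hb hd)
  have hsqd : ∀ {a b : ℕ}, g ^ a = 1 → g ^ b = 1 → Nat.gcd a b ∣ 2 → g * g = 1 := fun ha hb hd => by
    rw [← pow_two]; exact pow_gcd' 2 ha hb hd
  by_cases h2 : g * g = 1
  · have ho : orderOf g = 2 := orderOf_eq_prime (hp := ⟨Nat.prime_two⟩) (by rw [pow_two]; exact h2) h1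
    have e1 : ¬ g ^ Phi m = 1 := fun h => hone (by rw [pow_two]; exact h2 : g ^ 2 = 1) h d10
    have e2 : ¬ g ^ 9 = 1 := fun h => hone (by rw [pow_two]; exact h2 : g ^ 2 = 1) h (by decide)
    simp [h1, h2, ho, e1, e2]
  have ho2 : orderOf g ≠ 2 := fun h => h2 (by rw [← pow_two, ← h]; exact pow_orderOf_eq_one g)
  have h6 : ∀ (_ : orderOf g = 6), g ^ (2 * 3) = 1 := fun h => orderOf_dvd_iff_pow_eq_one.1 (by rw [h])
  have h69 : orderOf g = 6 → ¬ g ^ 9 = 1 := fun h e => by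
    have := orderOf_dvd_of_pow_eq_one e
    rw [h] at this; norm_num at this
  rcases exponent_cases hK hm g with h | h | h | h | h
  · have e1 : ¬ g ^ ((3 ^ (2 * m + 1) + 1) / 2) = 1 := fun e => h2 (hsqd h e d1)
    have e2 : ¬ g ^ Phi m = 1 := fun e => hone e h d8
    have e3 : ¬ g ^ 9 = 1 := fun e => hone e h d2
    have e4 : orderOf g ≠ 6 := fun e => h2 (hsqd (h6 e) h d6)
    simp [h1, h2, ho2, h, e1, e2, e3, e4]
  · have e1 : ¬ g ^ (3 ^ (2 * m + 1) - 1) = 1 := fun e => h2 (hsqd e h d1)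
    have e2 : ¬ g ^ Phi m = 1 := fun e => hone e h d9
    have e3 : ¬ g ^ 9 = 1 := fun e => hone e h d3
    have e4 : orderOf g ≠ 6 := fun e => h2 (hsqd (h6 e) h d7)
    simp [h1, h2, ho2, h, e1, e2, e3, e4]
  · have e1 : ¬ g ^ ((3 ^ (2 * m + 1) + 1) / 2) = 1 := fun e => hone h e d9
    have e2 : ¬ g ^ (3 ^ (2 * m + 1) - 1) = 1 := fun e => hone h e d8
    have e3 : ¬ g ^ 9 = 1 := fun e => hone e h d4
    have e4 : orderOf g ≠ 6 := fun e => hone (h6 e) h d5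
    simp [h1, h2, ho2, h, e1, e2, e3, e4]
  · have hP : ¬ g ^ Phi m = 1 := fun e => hone (show g ^ (2 * 3) = 1 from h) e d5
    have e1 : ¬ g ^ ((3 ^ (2 * m + 1) + 1) / 2) = 1 := fun e => h2 (hsqd (show g ^ (2 * 3) = 1 from h) e d7)
    have e2 : ¬ g ^ (3 ^ (2 * m + 1) - 1) = 1 := fun e => h2 (hsqd (show g ^ (2 * 3) = 1 from h) e d6)
    by_cases h9 : g ^ 9 = 1
    · have e4 : orderOf g ≠ 6 := fun e => h69 e h9
      simp [h1, h2, ho2, e1, e2, hP, h9, e4]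
    · have ho : orderOf g = 6 := by
        have hd := orderOf_dvd_of_pow_eq_one h
        have hmem : orderOf g ∈ Nat.divisors 6 := Nat.mem_divisors.2 ⟨hd, by norm_num⟩
        rw [show Nat.divisors 6 = {1, 2, 3, 6} by decide] at hmem
        simp only [Finset.mem_insert, Finset.mem_singleton] at hmem
        rcases hmem with e | e | e | e
        · exact absurd (orderOf_eq_one_iff.1 e) h1
        · exact absurd e ho2
        · exact absurd (orderOf_dvd_iff_pow_eq_one.1 (show orderOf g ∣ 9 by rw [e]; norm_num)) h9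
        · exact e
      simp [h1, h2, e1, e2, hP, h9, ho]
  · have e1 : ¬ g ^ ((3 ^ (2 * m + 1) + 1) / 2) = 1 := fun e => hone h e d3
    have e2 : ¬ g ^ (3 ^ (2 * m + 1) - 1) = 1 := fun e => hone h e d2
    have hP : ¬ g ^ Phi m = 1 := fun e => hone h e d4
    have e4 : orderOf g ≠ 6 := fun e => h69 e h
    simp [h1, h2, ho2, h, e1, e2, hP, e4]

include hK in
theorem card_Phi_type (hm : 1 ≤ m) :
    3 * (Nat.card {g : Gr F m // g ^ Phi m = 1 ∧ g ≠ 1} : ℚ) =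
      ((3 : ℚ) ^ (2 * m + 1)) ^ 3 * (((3 : ℚ) ^ (2 * m + 1)) ^ 2 - 1) *
        ((Phi m : ℚ) - ((3 : ℚ) ^ (2 * m + 1) + 1)) := by
  classical
  haveI := Fintype.ofFinite (Gr F m)
  have htot : Nat.card {g : Gr F m // g = 1} + Nat.card {g : Gr F m // orderOf g = 2} +
      Nat.card {g : Gr F m // orderOf g = 6} + Nat.card {g : Gr F m // g ^ 9 = 1 ∧ g ≠ 1 ∧ True} +
      Nat.card {g : Gr F m // g ^ (3 ^ (2 * m + 1) - 1) = 1 ∧ g * g ≠ 1 ∧ True} +
      Nat.card {g : Gr F m // g ^ ((3 ^ (2 * m + 1) + 1) / 2) = 1 ∧ g * g ≠ 1 ∧ True} +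
      Nat.card {g : Gr F m // g ^ Phi m = 1 ∧ g ≠ 1} = Nat.card (Gr F m) := by
    rw [Nat.card_eq_fintype_card (α := Gr F m)]
    conv_lhs => simp only [Nat.card_eq_fintype_card, Fintype.card_subtype, Finset.card_filter, ← Finset.sum_add_distrib]
    rw [Finset.sum_congr rfl (fun g _ => partition_point hK hm g), Finset.sum_const, Finset.card_univ,
      smul_eq_mul, mul_one]
  have h1 : Nat.card {g : Gr F m // g = 1} = 1 := by simp
  have hI := card_invol hK hm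
  have h6 := card_six hK hm
  have h3 := card_three_all hK
  have hHc := count_H hK hm (fun _ => True) (fun _ _ h => h)
  have hTc := count_T hK hm (fun _ => True) (fun _ _ h => h)
  have oH := card_outH hK hm
  have oT := card_outT hK hm
  have hG := card_Gr hK
  have hq27 := q_ge hm
  rw [h1] at htot
  generalize Nat.card {g : Gr F m // orderOf g = 2} = I2 at htot hI
  generalize Nat.card {g : Gr F m // orderOf g = 6} = I6 at htot h6
  generalize Nat.card {g : Gr F m // g ^ 9 = 1 ∧ g ≠ 1 ∧ True} = I3 at htot h3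
  generalize Nat.card {g : Gr F m // g ^ (3 ^ (2 * m + 1) - 1) = 1 ∧ g * g ≠ 1 ∧ True} = IH at htot hHc
  generalize Nat.card {g : Gr F m // g ^ ((3 ^ (2 * m + 1) + 1) / 2) = 1 ∧ g * g ≠ 1 ∧ True} = IT at htot hTc
  generalize Nat.card {x : Gr F m // x ∈ (Hh hK).range ∧ x * x ≠ 1 ∧ True} = OH at hHc oH
  generalize Nat.card {x : Gr F m // x ∈ QT hK ∧ x * x ≠ 1 ∧ True} = OT at hTc oT
  generalize Nat.card {g : Gr F m // g ^ Phi m = 1 ∧ g ≠ 1} = IP at htot ⊢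
  have hq3 : 1 ≤ (3 ^ (2 * m + 1)) ^ 3 := Nat.one_le_pow _ _ (by omega)
  rw [Phi] at *
  generalize hqd : 3 ^ (2 * m + 1) = q at *
  have hqQ : ((q : ℕ) : ℚ) = (3 : ℚ) ^ (2 * m + 1) := by rw [← hqd]; push_cast; ring
  rw [← hqQ]
  have hG' : (Nat.card (Gr F m) : ℚ) = (q : ℚ) ^ 3 * ((q : ℚ) - 1) * (((q : ℚ) + 1) * ((q : ℚ) * ((q : ℚ) - 1) + 1)) := by
    rw [hG]; push_cast [show 1 ≤ q by omega]; ring
  have cI := congrArg (Nat.cast : ℕ → ℚ) hI
  have c6 := congrArg (Nat.cast : ℕ → ℚ) h6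
  have c3 := congrArg (Nat.cast : ℕ → ℚ) h3
  have cH := congrArg (Nat.cast : ℕ → ℚ) hHc
  have cT := congrArg (Nat.cast : ℕ → ℚ) hTc
  have cOH := congrArg (Nat.cast : ℕ → ℚ) oH
  have cOT := congrArg (Nat.cast : ℕ → ℚ) oT
  have ct := congrArg (Nat.cast : ℕ → ℚ) htot
  push_cast [show 1 ≤ q by omega, hq3] at cI c6 c3 cH cT cOH cOT ct ⊢
  rw [hG'] at cI c6 c3 cH cT ct
  have x0 : (q : ℚ) ≠ 0 := Nat.cast_ne_zero.2 (by omega)
  have x1 : (q : ℚ) - 1 ≠ 0 := sub_ne_zero.2 (by exact_mod_cast (show q ≠ 1 by omega))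
  have x2 : (q : ℚ) + 1 ≠ 0 := by positivity
  have eI : (I2 : ℚ) = (q : ℚ) ^ 2 * ((q : ℚ) * ((q : ℚ) - 1) + 1) :=
    mul_right_cancel₀ (mul_ne_zero (mul_ne_zero x0 x1) x2) (cI.trans (by ring))
  have e6 : (I6 : ℚ) = (q : ℚ) ^ 2 * ((q : ℚ) - 1) * (((q : ℚ) + 1) * ((q : ℚ) * ((q : ℚ) - 1) + 1)) :=
    mul_right_cancel₀ (mul_ne_zero x0 x1) (c6.trans (by ring))
  have e3 : (I3 : ℚ) = ((q : ℚ) ^ 3 - 1) * (((q : ℚ) + 1) * ((q : ℚ) * ((q : ℚ) - 1) + 1)) :=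
    mul_right_cancel₀ (mul_ne_zero (pow_ne_zero 3 x0) x1) (c3.trans (by ring))
  have eH : 2 * (IH : ℚ) = (q : ℚ) ^ 3 * (((q : ℚ) + 1) * ((q : ℚ) * ((q : ℚ) - 1) + 1)) * ((q : ℚ) - 3) :=
    mul_right_cancel₀ x1 ((by ring : (2 * (IH : ℚ)) * ((q : ℚ) - 1) = IH * (2 * ((q : ℚ) - 1))).trans
      (cH.trans (by rw [show (OH : ℚ) = (q : ℚ) - 3 by linarith]; ring)))
  have eT : 6 * (IT : ℚ) = (q : ℚ) ^ 3 * ((q : ℚ) - 1) * ((q : ℚ) * ((q : ℚ) - 1) + 1) * ((q : ℚ) - 3) :=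
    mul_right_cancel₀ x2 ((by ring : (6 * (IT : ℚ)) * ((q : ℚ) + 1) = IT * (6 * ((q : ℚ) + 1))).trans
      (cT.trans (by rw [show (OT : ℚ) = (q : ℚ) - 3 by linarith]; ring)))
  linear_combination 3 * ct - 3 * eI - 3 * e6 - 3 * e3 - (3 / 2 : ℚ) * eH - (1 / 2 : ℚ) * eT

end Cfsg.Agent.Chev.Ree
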