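import Cfsg.Agent.Lib.Lie.Ree10

/-!
# The two classes of cyclotomic tori
-/

set_option autoImplicit false

namespace Cfsg.Agent.Chev.Ree

open Cfsg.Lie TwG2 Tab ReeTorus

variable {F : Type*} [Field F] [CharP F 3] [Fintype F] {m : ℕ} (hK : Fintype.card F = 3 ^ (2 * m + 1))

/-- a self-centralising cyclic torus whose order divides `q² - q + 1` -/
structure PhiTorus (A : Subgroup (Gr F m)) : Prop where
  tor : Tor A A
  hall : Nat.Coprime (Nat.card A) A.index
  dvd : Nat.card A ∣ Phi m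
  one_lt : 1 < Nat.card A
  norm : ∃ e, e ∣ 6 ∧ Nat.card (Subgroup.normalizer (A : Set (Gr F m))) = e * Nat.card A

theorem PhiTorus.ne_bot {A : Subgroup (Gr F m)} (h : PhiTorus A) : A ≠ ⊥ := fun e => by
  have := h.one_lt
  rw [e, Subgroup.card_bot] at this
  exact lt_irrefl _ this

theorem card_centralizer_conj {G : Type*} [Group G] (c g : G) :
    Nat.card (Subgroup.centralizer {c * g * c⁻¹}) = Nat.card (Subgroup.centralizer {g}) :=
  (Nat.card_congr ((MulAut.conj c).toEquiv.subtypeEquiv fun _ => (conj_cent).symm)).symm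

theorem PhiTorus.card_cent {A : Subgroup (Gr F m)} (h : PhiTorus A) {g c : Gr F m}
    (hc : c⁻¹ * g * c ∈ A) (hg : g ≠ 1) :
    Nat.card (Subgroup.centralizer {g}) = Nat.card A := by
  have h1 : c⁻¹ * g * c ≠ 1 := fun e => hg (by simpa [mul_assoc] using congrArg (fun z => c * z * c⁻¹) e)
  rw [← h.tor.cent _ hc h1, ← card_centralizer_conj c (c⁻¹ * g * c)]
  congr 2
  rw [show c * (c⁻¹ * g * c) * c⁻¹ = g by group]

include hK in
theorem phiTorus_cent (hm : 1 ≤ m) {z : Gr F m} {l : ℕ} (hl : l.Prime) (hlP : l ∣ Phi m)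
    (hz : orderOf z = l) : PhiTorus (Subgroup.centralizer {z}) where
  tor := tor_cent hK hm hl hlP hz
  hall := hall_cent hK hm hl hlP hz
  dvd := card_cent_dvd hK hm hl hlP hz
  one_lt := by
    have := Nat.le_of_dvd Nat.card_pos (Subgroup.orderOf_dvd_natCard (Subgroup.centralizer {z})
      (x := z) (Subgroup.mem_centralizer_singleton_iff.2 rfl))
    rw [hz] at this
    exact lt_of_lt_of_le hl.one_lt this
  norm := norm_cent hK hm hl hlP hz

include hK in
theorem exists_phiTorus (hm : 1 ≤ m) {g : Gr F m} (hg : g ^ Phi m = 1) (hg1 : g ≠ 1) :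
    ∃ A : Subgroup (Gr F m), PhiTorus A ∧ g ∈ A := by
  have hr := Nat.minFac_prime (fun e => hg1 (orderOf_eq_one_iff.1 e))
  set r := (orderOf g).minFac
  have hrP : r ∣ Phi m := (Nat.minFac_dvd _).trans (orderOf_dvd_of_pow_eq_one hg)
  have hzo : orderOf (g ^ (orderOf g / r)) = r := orderOf_pow_orderOf_div (orderOf_pos g).ne' (Nat.minFac_dvd _)
  exact ⟨_, phiTorus_cent hK hm hr hrP hzo,
    Subgroup.mem_centralizer_singleton_iff.2 (Commute.self_pow g _).eq⟩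

theorem PhiTorus.into {A : Subgroup (Gr F m)} (h : PhiTorus A) {g : Gr F m} {r : ℕ} (hr : r.Prime)
    (hrA : r ∣ Nat.card A) (hg : r ∣ orderOf g) : ∃ c : Gr F m, c⁻¹ * g * c ∈ A := by
  haveI : Fact r.Prime := ⟨hr⟩
  exact exists_conj_cent h.tor h.hall hrA hg

/-- counting the conjugates of a cyclotomic torus -/
theorem PhiTorus.count {A : Subgroup (Gr F m)} (h : PhiTorus A) (Pr : Gr F m → Prop)
    (hPr : ∀ c x, Pr x → Pr (c⁻¹ * x * c)) :
    Nat.card {g : Gr F m // g ^ Phi m = 1 ∧ g ≠ 1 ∧ Nat.card (Subgroup.centralizer {g}) = Nat.card A ∧ Pr g} *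
        Nat.card (Subgroup.normalizer (A : Set (Gr F m))) =
      Nat.card (Gr F m) * Nat.card {x : Gr F m // x ∈ A ∧ x ≠ 1 ∧ Pr x} := by
  set T : Set (Gr F m) := {x | x ∈ A ∧ x ≠ 1 ∧ Pr x}
  have hiff : ∀ g, (g ^ Phi m = 1 ∧ g ≠ 1 ∧ Nat.card (Subgroup.centralizer {g}) = Nat.card A ∧ Pr g) ↔
      ∃ c : Gr F m, c⁻¹ * g * c ∈ T := by
    intro g
    constructor
    · rintro ⟨-, hg1, hcard, hp⟩
      have hr := Nat.minFac_prime (fun e => hg1 (orderOf_eq_one_iff.1 e))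
      obtain ⟨c, hc⟩ := h.into hr ((Nat.minFac_dvd _).trans (hcard ▸
        Subgroup.orderOf_dvd_natCard (Subgroup.centralizer {g}) (Subgroup.mem_centralizer_singleton_iff.2 rfl)))
        (Nat.minFac_dvd _)
      exact ⟨c, hc, fun e => hg1 (by simpa [mul_assoc] using congrArg (fun z => c * z * c⁻¹) e), hPr c g hp⟩
    · rintro ⟨c, hc, hc1, hp⟩
      have e : g = (c⁻¹)⁻¹ * (c⁻¹ * g * c) * c⁻¹ := by group
      have hg1 : g ≠ 1 := fun h => hc1 (by rw [h]; group)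
      refine ⟨?_, hg1, h.card_cent hc hg1, e ▸ hPr c⁻¹ _ hp⟩
      obtain ⟨k, hk⟩ := h.dvd
      have := pow_card_of_mem hc
      rw [show c⁻¹ * g * c = c⁻¹ * g * (c⁻¹)⁻¹ by group, conj_pow, conj_eq_one_iff] at this
      rw [hk, pow_mul, this, one_pow]
  rw [Nat.card_congr (Equiv.subtypeEquivRight hiff)]
  refine card_conj_mul T _ ?_ ?_
  · rintro n hn y ⟨hy, hy1, hp⟩
    exact ⟨(Subgroup.mem_normalizer_iff''.1 hn y).1 hy,
      fun e => hy1 (by simpa [mul_assoc] using congrArg (fun z => n * z * n⁻¹) e), hPr n y hp⟩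
  · rintro y ⟨hy, hy1, -⟩ c ⟨hcy, -, -⟩
    exact h.tor.conj_mem hy hy1 hcy

theorem PhiTorus.card_out {A : Subgroup (Gr F m)} :
    Nat.card {x : Gr F m // x ∈ A ∧ x ≠ 1 ∧ True} + 1 = Nat.card A := by
  rw [← card_diff A (fun x => x = 1),
    Nat.card_congr (Equiv.subtypeEquivRight (q := fun x => x ∈ A ∧ ¬ x = 1) (fun x => by simp))]
  congr 1
  rw [Nat.card_congr (Equiv.subtypeEquivRight (q := fun x : Gr F m => x = 1) (fun x =>
    ⟨fun h => h.2, fun h => ⟨h ▸ one_mem A, h⟩⟩))]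
  simp

/-- two tori with a common prime have the same order -/
theorem PhiTorus.card_eq {A B : Subgroup (Gr F m)} (hA : PhiTorus A) (hB : PhiTorus B) {r : ℕ}
    (hr : r.Prime) (h1 : r ∣ Nat.card A) (h2 : r ∣ Nat.card B) : Nat.card A = Nat.card B := by
  haveI : Fact r.Prime := ⟨hr⟩
  obtain ⟨⟨w, hw⟩, hwo⟩ := exists_prime_orderOf_dvd_card' r h1
  rw [Subgroup.orderOf_mk] at hwo
  have hw1 : w ≠ 1 := fun e => by rw [e, orderOf_one] at hwo; exact hr.one_lt.ne hwo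
  obtain ⟨c, hc⟩ := hB.into hr h2 (by rw [hwo])
  rw [← hA.card_cent (c := 1) (g := w) (by simpa using hw) hw1, hB.card_cent hc hw1]

include hK in
theorem seven_le (hm : 1 ≤ m) {A : Subgroup (Gr F m)} (hA : PhiTorus A) : 7 ≤ Nat.card A := by
  have hl := Nat.minFac_prime hA.one_lt.ne'
  haveI : Fact (Nat.card A).minFac.Prime := ⟨hl⟩
  have hd := (Nat.minFac_dvd (Nat.card A)).trans hA.dvd
  have ho := orderOf_Phi hK hd
  have h0 : (Fintype.card F : ZMod (Nat.card A).minFac) ≠ 0 := fun e => by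
    rw [e, orderOf_zero] at ho; norm_num at ho
  have h6 := ZMod.orderOf_dvd_card_sub_one h0
  rw [ho] at h6
  have h1 := hl.two_le
  have h2 := Nat.le_of_dvd (by omega) h6
  have := Nat.minFac_le (by have := hA.one_lt; omega : 0 < Nat.card A)
  omega

include hK in
theorem Phi_dvd_card : Phi m ∣ Nat.card (Gr F m) := by
  rw [card_Gr hK]
  exact dvd_mul_of_dvd_right (Dvd.intro_left _ rfl) _

/-- the summand contributed by a torus -/
theorem exists_six (n e : ℕ) (he : e ∣ 6) : e ≤ 6 := Nat.le_of_dvd (by norm_num) he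

theorem sq_rule {a b s r : ℕ} (hs : a + b = 2 * s) (hp : a * b + r * r = s * s) :
    (a + r = s ∧ b = s + r) ∨ (b + r = s ∧ a = s + r) := by
  have hb : (b : ℤ) = 2 * (s : ℤ) - a := by exact_mod_cast (by omega : (b : ℤ) = 2 * (s : ℤ) - a)
  have h' : ((a : ℤ) - s) ^ 2 = (r : ℤ) ^ 2 := by
    have hp' : (a : ℤ) * b + r * r = s * s := by exact_mod_cast hp
    rw [hb] at hp'
    linear_combination -hp'
  rcases sq_eq_sq_iff_eq_or_eq_neg.1 h' with h | h
  · right; omega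
  · left; omega

theorem r_sq (m : ℕ) : Phi m + 3 ^ (m + 1) * 3 ^ (m + 1) = (3 ^ (2 * m + 1) + 1) * (3 ^ (2 * m + 1) + 1) := by
  have h : 3 ^ (m + 1) * 3 ^ (m + 1) = 3 * 3 ^ (2 * m + 1) := by
    rw [← pow_add, ← pow_succ']; congr 1; omega
  rw [Phi, h]
  obtain ⟨k, hk⟩ := q_form m
  rw [hk, show 8 * k + 3 - 1 = 8 * k + 2 by omega]
  ring

include hK in
theorem two_classes (hm : 1 ≤ m) : ∃ A B : Subgroup (Gr F m), PhiTorus A ∧ PhiTorus B ∧
    Nat.card A = 3 ^ (2 * m + 1) - 3 ^ (m + 1) + 1 ∧ Nat.card B = 3 ^ (2 * m + 1) + 3 ^ (m + 1) + 1 ∧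
    Nat.card (Subgroup.normalizer (A : Set (Gr F m))) = 6 * Nat.card A ∧
    Nat.card (Subgroup.normalizer (B : Set (Gr F m))) = 6 * Nat.card B ∧
    Nat.card A * Nat.card B = Phi m := by
  classical
  haveI := Fintype.ofFinite (Gr F m)
  set S : Finset (Gr F m) := Finset.univ.filter (fun g => g ^ Phi m = 1 ∧ g ≠ 1)
  set cd : Gr F m → ℕ := fun g => Nat.card (Subgroup.centralizer {g})
  set Ns := S.image cd
  have htor : ∀ n ∈ Ns, ∃ A : Subgroup (Gr F m), PhiTorus A ∧ Nat.card A = n := by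
    intro n hn
    obtain ⟨g, hg, rfl⟩ := Finset.mem_image.1 hn
    obtain ⟨h1, h2⟩ := (Finset.mem_filter.1 hg).2
    obtain ⟨A, hA, hgA⟩ := exists_phiTorus hK hm h1 h2
    exact ⟨A, hA, (hA.card_cent (c := 1) (by simpa using hgA) h2).symm⟩
  choose! T hT hTn using htor
  have hN6 : ∀ n ∈ Ns, ∃ e, e ∣ 6 ∧ Nat.card (Subgroup.normalizer (T n : Set (Gr F m))) = e * n :=
    fun n hn => by obtain ⟨e, he, h⟩ := (hT n hn).norm; exact ⟨e, he, by rw [h, hTn n hn]⟩
  choose! e he heN using hN6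
  have hprime : ∀ r : ℕ, r.Prime → r ∣ Phi m → ∃ n ∈ Ns, r ∣ n := by
    intro r hr hrP
    haveI : Fact r.Prime := ⟨hr⟩
    obtain ⟨w, hw⟩ := exists_prime_orderOf_dvd_card' r (hrP.trans (Phi_dvd_card hK))
    refine ⟨cd w, Finset.mem_image.2 ⟨w, Finset.mem_filter.2 ⟨Finset.mem_univ _,
      orderOf_dvd_iff_pow_eq_one.1 (hw ▸ hrP), fun e => ?_⟩, rfl⟩, ?_⟩
    · rw [e, orderOf_one] at hw; exact hr.one_lt.ne hw
    · exact hw ▸ Subgroup.orderOf_dvd_natCard _ (Subgroup.mem_centralizer_singleton_iff.2 rfl)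
  -- the class equation
  have hfib : ∀ n ∈ Ns, ((S.filter (fun g => cd g = n)).card : ℚ) =
      (Nat.card (Gr F m) : ℚ) * (((n : ℚ) - 1) / ((e n : ℚ) * n)) := by
    intro n hn
    have h := (hT n hn).count (fun _ => True) (fun _ _ h => h)
    have h1 : Nat.card {g : Gr F m // g ^ Phi m = 1 ∧ g ≠ 1 ∧
        Nat.card (Subgroup.centralizer {g}) = Nat.card (T n) ∧ True} = (S.filter (fun g => cd g = n)).card := by
      rw [Nat.card_eq_fintype_card, Fintype.card_subtype, Finset.filter_filter]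
      refine congrArg Finset.card (Finset.filter_congr fun g _ => ?_)
      rw [hTn n hn]; simp only [cd, and_true, and_assoc]
    have ho := PhiTorus.card_out (A := T n)
    rw [h1, heN n hn] at h
    rw [hTn n hn] at ho
    have hn0 : (e n : ℚ) * n ≠ 0 := mul_ne_zero
      (Nat.cast_ne_zero.2 fun h0 => by have := he n hn; rw [h0] at this; norm_num at this)
      (Nat.cast_ne_zero.2 fun h0 => by rw [h0] at ho; omega)
    rw [mul_div_assoc', eq_div_iff hn0]
    have h' := congrArg (Nat.cast : ℕ → ℚ) h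
    have ho' := congrArg (Nat.cast : ℕ → ℚ) ho
    push_cast at h' ho'
    rw [h', ← ho']; ring
  set q : ℚ := (3 : ℚ) ^ (2 * m + 1) with hqdef
  have hq : (27 : ℚ) ≤ q := by rw [hqdef]; exact_mod_cast q_ge hm
  have hPhi : (Phi m : ℚ) = q * (q - 1) + 1 := by
    rw [Phi, Nat.cast_add, Nat.cast_mul, Nat.cast_sub (Nat.one_le_pow _ _ (by norm_num))]
    push_cast; rfl
  have hGq : (Nat.card (Gr F m) : ℚ) = q ^ 3 * (q - 1) * ((q + 1) * (Phi m : ℚ)) := by
    rw [card_Gr hK, hPhi]; push_cast [Nat.one_le_pow (2 * m + 1) 3 (by norm_num)]; rfl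
  have hG0 : (Nat.card (Gr F m) : ℚ) ≠ 0 := Nat.cast_ne_zero.2 Nat.card_pos.ne'
  have hP0 : (Phi m : ℚ) ≠ 0 := Nat.cast_ne_zero.2 (Nat.succ_ne_zero _)
  have hsum : (∑ n ∈ Ns, ((n : ℚ) - 1) / ((e n : ℚ) * n)) = ((Phi m : ℚ) - (q + 1)) / (3 * (Phi m : ℚ)) := by
    have h := Finset.card_eq_sum_card_image cd S
    have hc := card_Phi_type hK hm
    rw [Nat.card_eq_fintype_card, Fintype.card_subtype] at hc
    have h' : (S.card : ℚ) = ∑ n ∈ Ns, ((S.filter (fun g => cd g = n)).card : ℚ) := by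
      rw [h]; push_cast; rfl
    rw [Finset.sum_congr rfl hfib, ← Finset.mul_sum] at h'
    refine mul_left_cancel₀ hG0 ?_
    rw [← h', mul_div_assoc', eq_div_iff (mul_ne_zero (by norm_num) hP0)]
    calc (S.card : ℚ) * (3 * (Phi m : ℚ)) = 3 * (S.card : ℚ) * (Phi m : ℚ) := by ring
      _ = q ^ 3 * (q ^ 2 - 1) * ((Phi m : ℚ) - (q + 1)) * (Phi m : ℚ) := by rw [hc]
      _ = _ := by rw [hGq]; ring
  have hR : ((Phi m : ℚ) - (q + 1)) / (3 * (Phi m : ℚ)) < 1 / 3 := by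
    rw [div_lt_iff₀ (by rw [hPhi]; nlinarith)]
    linarith
  have hterm : ∀ n ∈ Ns, 6 / (7 * (e n : ℚ)) ≤ ((n : ℚ) - 1) / ((e n : ℚ) * n) ∧ (1 : ℚ) / 7 ≤ 6 / (7 * (e n : ℚ)) := by
    intro n hn
    have h7 : (7 : ℚ) ≤ (n : ℚ) := by
      have := seven_le hK hm (hT n hn); rw [hTn n hn] at this; exact_mod_cast this
    have he0 : (0 : ℚ) < e n := Nat.cast_pos.2 (Nat.pos_of_dvd_of_pos (he n hn) (by norm_num))
    have he6 : (e n : ℚ) ≤ 6 := by exact_mod_cast exists_six n _ (he n hn)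
    constructor
    · rw [div_le_div_iff₀ (by positivity) (by positivity)]; nlinarith
    · rw [div_le_div_iff₀ (by norm_num) (by positivity)]; linarith
  have hcard2 : Ns.card ≤ 2 := by
    by_contra h
    have h3 : (3 : ℚ) ≤ Ns.card := by exact_mod_cast (by omega : 3 ≤ Ns.card)
    have := Finset.card_nsmul_le_sum Ns (fun n => ((n : ℚ) - 1) / ((e n : ℚ) * n)) (1 / 7)
      (fun n hn => (hterm n hn).2.trans (hterm n hn).1)
    rw [nsmul_eq_mul, hsum] at this
    linarith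
  have hcop : ∀ a ∈ Ns, ∀ b ∈ Ns, a ≠ b → Nat.Coprime a b := fun a ha b hb hab =>
    Nat.coprime_of_dvd fun r hr h1 h2 => hab (by
      rw [← hTn a ha, ← hTn b hb]
      exact (hT a ha).card_eq (hT b hb) hr (by rwa [hTn a ha]) (by rwa [hTn b hb]))
  -- a prime left over would divide an index
  have hfull : ∀ n ∈ Ns, ∀ k, n * k ∣ Phi m → ∀ r : ℕ, r.Prime → r ∣ k → ¬ r ∣ n := by
    intro n hn k hk r hr hrk hrn
    have h := (hk.trans (Phi_dvd_card hK))
    rw [← Subgroup.card_mul_index (T n), hTn n hn] at h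
    have hk' : k ∣ (T n).index := Nat.dvd_of_mul_dvd_mul_left (hr.pos.trans_le (Nat.le_of_dvd (by
      have := (hT n hn).one_lt; rw [hTn n hn] at this; omega) hrn)) h
    have := (hT n hn).hall
    rw [hTn n hn] at this
    exact hr.one_lt.ne' (Nat.dvd_one.1 (this.gcd_eq_one ▸ Nat.dvd_gcd hrn (hrk.trans hk')))
  have hPhi1 : 1 < Phi m := by
    rw [Phi]
    have := q_ge hm
    have : 0 < 3 ^ (2 * m + 1) * (3 ^ (2 * m + 1) - 1) := Nat.mul_pos (by omega) (by omega)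
    omega
  obtain ⟨n1, hn1, -⟩ := hprime _ (Nat.minFac_prime hPhi1.ne') (Nat.minFac_dvd _)
  by_cases hone : ∀ n ∈ Ns, n = n1
  · exfalso
    have hNs : Ns = {n1} := Finset.eq_singleton_iff_unique_mem.2 ⟨hn1, hone⟩
    obtain ⟨k, hk⟩ := hTn n1 hn1 ▸ (hT n1 hn1).dvd
    have hk1 : k = 1 := by
      by_contra hk1
      have hr := Nat.minFac_prime hk1
      obtain ⟨n, hn, hrn⟩ := hprime _ hr ((Nat.minFac_dvd k).trans (Dvd.intro_left _ hk.symm))
      exact hfull n1 hn1 k (dvd_of_eq hk.symm) _ hr (Nat.minFac_dvd k) (hone n hn ▸ hrn)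
    rw [hk1, mul_one] at hk
    rw [hNs, Finset.sum_singleton] at hsum
    have he' := he n1 hn1
    have hmem : e n1 ∈ Nat.divisors 6 := Nat.mem_divisors.2 ⟨he', by norm_num⟩
    rw [show Nat.divisors 6 = {1, 2, 3, 6} by decide] at hmem
    simp only [Finset.mem_insert, Finset.mem_singleton] at hmem
    have hbig : 6 * q + 3 < 3 * (Phi m : ℚ) := by rw [hPhi]; nlinarith
    rw [hk] at hsum hP0 hbig
    rw [div_eq_div_iff (mul_ne_zero (Nat.cast_ne_zero.2 fun h0 => by rw [h0] at he'; norm_num at he') hP0)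
      (mul_ne_zero (by norm_num) hP0)] at hsum
    rcases hmem with h | h | h | h <;> rw [h] at hsum <;> push_cast at hsum <;> nlinarith
  push Not at hone
  obtain ⟨n2, hn2, hne⟩ := hone
  have hNs : Ns = {n2, n1} := by
    refine (Finset.eq_of_subset_of_card_le ?_ ?_).symm
    · intro x hx
      rcases Finset.mem_insert.1 hx with rfl | hx
      · exact hn2
      · rw [Finset.mem_singleton.1 hx]; exact hn1
    · rw [Finset.card_pair hne]; exact hcard2
  rw [hNs, Finset.sum_pair hne] at hsum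
  have hex : ∀ n ∈ Ns, ∀ n' ∈ Ns, ((n : ℚ) - 1) / ((e n : ℚ) * n) + ((n' : ℚ) - 1) / ((e n' : ℚ) * n') < 1 / 3 →
      e n = 6 := by
    intro n hn n' hn' hlt
    by_contra h6
    have hmem : e n ∈ Nat.divisors 6 := Nat.mem_divisors.2 ⟨he n hn, by norm_num⟩
    rw [show Nat.divisors 6 = {1, 2, 3, 6} by decide] at hmem
    simp only [Finset.mem_insert, Finset.mem_singleton] at hmem
    have h3 : (e n : ℚ) ≤ 3 := by
      exact_mod_cast (show e n ≤ 3 by rcases hmem with h | h | h | h <;> omega)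
    have he0 : (0 : ℚ) < e n := Nat.cast_pos.2 (Nat.pos_of_dvd_of_pos (he n hn) (by norm_num))
    have h27 : (2 : ℚ) / 7 ≤ 6 / (7 * (e n : ℚ)) := by
      rw [div_le_div_iff₀ (by norm_num) (by positivity)]; linarith
    have := (hterm n hn).1
    have := (hterm n' hn').2.trans (hterm n' hn').1
    linarith
  have e1 : e n1 = 6 := hex n1 hn1 n2 hn2 (by rw [add_comm, hsum]; exact hR)
  have e2 : e n2 = 6 := hex n2 hn2 n1 hn1 (by rw [hsum]; exact hR)
  obtain ⟨k, hk⟩ : n2 * n1 ∣ Phi m := Nat.Coprime.mul_dvd_of_dvd_of_dvd (hcop n2 hn2 n1 hn1 hne)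
    (hTn n2 hn2 ▸ (hT n2 hn2).dvd) (hTn n1 hn1 ▸ (hT n1 hn1).dvd)
  have hprod : n2 * n1 = Phi m := by
    by_contra hne'
    have hr := Nat.minFac_prime (n := k) (fun h => hne' (by rw [hk, h, mul_one]))
    obtain ⟨n, hn, hrn⟩ := hprime _ hr ((Nat.minFac_dvd k).trans (Dvd.intro_left _ hk.symm))
    rw [hNs, Finset.mem_insert, Finset.mem_singleton] at hn
    rcases hn with rfl | rfl
    · exact hfull n hn2 (n1 * k) (dvd_of_eq (by rw [hk, mul_assoc])) _ hr
        (dvd_mul_of_dvd_right (Nat.minFac_dvd k) _) hrn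
    · exact hfull n hn1 (n2 * k) (dvd_of_eq (by rw [hk]; ring)) _ hr
        (dvd_mul_of_dvd_right (Nat.minFac_dvd k) _) hrn
  have hadd : n2 + n1 = 2 * (3 ^ (2 * m + 1) + 1) := by
    rw [e1, e2] at hsum
    have hp : (n2 : ℚ) * n1 = (Phi m : ℚ) := by exact_mod_cast congrArg (Nat.cast : ℕ → ℚ) hprod
    have h0 : (n2 : ℚ) ≠ 0 ∧ (n1 : ℚ) ≠ 0 := mul_ne_zero_iff.1 (hp ▸ hP0)
    push_cast at hsum
    rw [div_add_div _ _ (mul_ne_zero (by norm_num) h0.1) (mul_ne_zero (by norm_num) h0.2),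
      div_eq_div_iff (mul_ne_zero (mul_ne_zero (by norm_num) h0.1) (mul_ne_zero (by norm_num) h0.2))
        (mul_ne_zero (by norm_num) hP0), ← hp] at hsum
    have hsum' : (n2 : ℚ) + n1 = 2 * (q + 1) := by
      refine mul_left_cancel₀ (mul_ne_zero (show (18 : ℚ) ≠ 0 by norm_num) (mul_ne_zero h0.1 h0.2)) ?_
      linear_combination -hsum
    rw [hqdef] at hsum'
    exact_mod_cast hsum'
  rcases sq_rule hadd (r := 3 ^ (m + 1)) (by rw [hprod]; exact r_sq m) with ⟨ha, hb⟩ | ⟨ha, hb⟩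
  · refine ⟨T n2, T n1, hT n2 hn2, hT n1 hn1, ?_⟩
    rw [hTn n2 hn2, hTn n1 hn1]
    have hr : 3 ^ (m + 1) ≤ 3 ^ (2 * m + 1) := Nat.pow_le_pow_right (by norm_num) (by omega)
    exact ⟨by omega, by omega, by rw [heN n2 hn2, e2], by rw [heN n1 hn1, e1], hprod⟩
  · refine ⟨T n1, T n2, hT n1 hn1, hT n2 hn2, ?_⟩
    rw [hTn n2 hn2, hTn n1 hn1]
    have hr : 3 ^ (m + 1) ≤ 3 ^ (2 * m + 1) := Nat.pow_le_pow_right (by norm_num) (by omega)
    exact ⟨by omega, by omega, by rw [heN n1 hn1, e1], by rw [heN n2 hn2, e2], by rw [mul_comm]; exact hprod⟩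

end Cfsg.Agent.Chev.Ree
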