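import Cfsg.Agent.Lib.Lie.Ree11

/-!
# Cyclic subgroups, element orders and their counts in the small Ree groups
-/

set_option autoImplicit false

namespace Cfsg.Agent.Chev.Ree

open Cfsg.Lie TwG2 Tab ReeTorus

variable {F : Type*} [Field F] [CharP F 3] [Fintype F] {m : ℕ} (hK : Fintype.card F = 3 ^ (2 * m + 1))

section generic

variable {G : Type*} [Group G] [Finite G] {A C : Subgroup G}

theorem cyclic_into (h : Tor A C) (hall : Nat.Coprime (Nat.card A) A.index) {H : Subgroup G}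
    (hH : IsCyclic H) (hd : Nat.card H ∣ Nat.card A) :
    ∃ c : G, H.map (MulAut.conj c).toMonoidHom ≤ A := by
  obtain ⟨⟨y, hy⟩, hgen⟩ := hH.exists_generator
  have hyo : orderOf y = Nat.card H := by
    rw [← orderOf_eq_card_of_forall_mem_zpowers hgen, Subgroup.orderOf_mk]
  by_cases h1 : Nat.card H = 1
  · refine ⟨1, ?_⟩
    rw [Subgroup.card_eq_one.1 h1, Subgroup.map_bot]
    exact bot_le
  have hr := Nat.minFac_prime h1
  haveI : Fact (Nat.card H).minFac.Prime := ⟨hr⟩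
  obtain ⟨c, hc⟩ := exists_conj_cent h hall ((Nat.minFac_dvd _).trans hd) (g := y) (hyo ▸ Nat.minFac_dvd _)
  have hcA : c⁻¹ * y * c ∈ A := h.mem _ hc (by
    obtain ⟨k, hk⟩ := hd
    rw [show c⁻¹ * y * c = c⁻¹ * y * (c⁻¹)⁻¹ by group, conj_pow, hk, pow_mul, ← hyo, pow_orderOf_eq_one,
      one_pow, mul_one, mul_inv_cancel])
  refine ⟨c⁻¹, ?_⟩
  rintro _ ⟨x, hx, rfl⟩
  obtain ⟨i, hi⟩ := Subgroup.mem_zpowers_iff.1 (hgen ⟨x, hx⟩)
  have hi' : y ^ i = x := congrArg Subtype.val hi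
  rw [← hi', map_zpow]
  refine zpow_mem ?_ i
  simpa using hcA

theorem subgroup_eq_of_card (hA : IsCyclic A) {H K : Subgroup G} (hH : H ≤ A) (hK : K ≤ A)
    (hc : Nat.card H = Nat.card K) : H = K := by
  haveI := hA
  haveI : IsCyclic H := isCyclic_of_injective (Subgroup.inclusion hH) (Subgroup.inclusion_injective hH)
  haveI : IsCyclic K := isCyclic_of_injective (Subgroup.inclusion hK) (Subgroup.inclusion_injective hK)
  obtain ⟨⟨x, hx⟩, hgx⟩ := IsCyclic.exists_generator (α := H)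
  obtain ⟨⟨y, hy⟩, hgy⟩ := IsCyclic.exists_generator (α := K)
  have key : ∀ (L : Subgroup G) (z : G) (hz : z ∈ L), (∀ w, w ∈ Subgroup.zpowers (⟨z, hz⟩ : L)) →
      Subgroup.zpowers z = L ∧ orderOf z = Nat.card L := by
    intro L z hz hg
    have ho : orderOf z = Nat.card L := by
      rw [← orderOf_eq_card_of_forall_mem_zpowers hg, Subgroup.orderOf_mk]
    exact ⟨Subgroup.eq_of_le_of_card_ge (Subgroup.zpowers_le.2 hz) (by rw [Nat.card_zpowers, ho]), ho⟩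
  obtain ⟨ex, ox⟩ := key H x hx hgx
  obtain ⟨ey, oy⟩ := key K y hy hgy
  rw [← ex, ← ey]
  exact zpowers_eq_of_card hA (hH hx) (hK hy) (by rw [ox, oy, hc])

theorem conj_cyclic (h : Tor A C) (hall : Nat.Coprime (Nat.card A) A.index) {H K : Subgroup G}
    (hH : IsCyclic H) (hK : IsCyclic K) (hd : Nat.card H ∣ Nat.card A) (hHK : Nat.card H = Nat.card K) :
    ∃ g : G, K = H.map (MulAut.conj g).toMonoidHom := by
  obtain ⟨c, hc⟩ := cyclic_into h hall hH hd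
  obtain ⟨d, hd'⟩ := cyclic_into h hall hK (hHK ▸ hd)
  have e := subgroup_eq_of_card h.cyc hc hd' (by
    rw [← Nat.card_congr (Subgroup.equivMapOfInjective H _ (MulAut.conj c).injective).toEquiv,
      ← Nat.card_congr (Subgroup.equivMapOfInjective K _ (MulAut.conj d).injective).toEquiv, hHK])
  refine ⟨d⁻¹ * c, ?_⟩
  ext x
  have h1 : x ∈ K ↔ d * x * d⁻¹ ∈ H.map (MulAut.conj c).toMonoidHom := by
    rw [e, Subgroup.mem_map_equiv]; simp [mul_assoc]
  rw [h1, Subgroup.mem_map_equiv, Subgroup.mem_map_equiv]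
  simp only [MulAut.conj_symm_apply, _root_.mul_inv_rev, inv_inv, mul_assoc]

theorem cent_cyclic_sub (h : Tor A C) (hall : Nat.Coprime (Nat.card A) A.index) {H : Subgroup G}
    (hH : IsCyclic H) (hc : Nat.card H = Nat.card A) (hne : A ≠ ⊥) :
    ∃ C' : Subgroup G, Nonempty (C ≃* C') ∧ Subgroup.centralizer (H : Set G) = C' ∧
      ∀ B : Subgroup G, B ≤ H → B ≠ ⊥ → Subgroup.centralizer (B : Set G) = C' := by
  obtain ⟨c, hcA⟩ := cyclic_into h hall hH (dvd_of_eq hc)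
  have hH' : H.map (MulAut.conj c).toMonoidHom = A := Subgroup.eq_of_le_of_card_ge hcA (by
    rw [← Nat.card_congr (Subgroup.equivMapOfInjective H _ (MulAut.conj c).injective).toEquiv, hc])
  have hH'' : H = A.map (MulAut.conj c⁻¹).toMonoidHom := by
    ext x
    rw [Subgroup.mem_map_equiv, ← hH', Subgroup.mem_map_equiv]
    simp [mul_assoc]
  have ht := h.map_conj c⁻¹
  rw [← hH''] at ht
  have hHne : H ≠ ⊥ := fun e => hne (by rw [← hH', e, Subgroup.map_bot])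
  exact ⟨_, ⟨Subgroup.equivMapOfInjective C _ (MulAut.conj c⁻¹).injective⟩, ht.centralizer_eq le_rfl hHne,
    fun B hB hB0 => ht.centralizer_eq hB hB0⟩

theorem exists_order_dvd {x : G} {d : ℕ} (hd : d ∣ orderOf x) : ∃ g : G, orderOf g = d :=
  ⟨_, orderOf_pow_orderOf_div (orderOf_pos x).ne' hd⟩

end generic

include hK in
theorem four_tori (hm : 1 ≤ m) :
    ∀ kn ∈ ({((3 ^ (2 * m + 1) - 1) / 2, 2 * (3 ^ (2 * m + 1) - 1)),
        ((3 ^ (2 * m + 1) + 1) / 4, 6 * (3 ^ (2 * m + 1) + 1)),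
        (3 ^ (2 * m + 1) - 3 ^ (m + 1) + 1, 6 * (3 ^ (2 * m + 1) - 3 ^ (m + 1) + 1)),
        (3 ^ (2 * m + 1) + 3 ^ (m + 1) + 1, 6 * (3 ^ (2 * m + 1) + 3 ^ (m + 1) + 1))} : Set (ℕ × ℕ)),
      ∃ A : Subgroup (Gr F m), IsCyclic A ∧ Nat.card A = kn.1 ∧
        Nat.card (Subgroup.normalizer (A : Set (Gr F m))) = kn.2 ∧
        ∀ A₀ : Subgroup (Gr F m), A₀ ≤ A → A₀ ≠ ⊥ →
          Subgroup.normalizer (A₀ : Set (Gr F m)) = Subgroup.normalizer (A : Set (Gr F m)) := by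
  obtain ⟨A, B, hA, hB, cA, cB, nA, nB, -⟩ := two_classes hK hm
  rintro kn (rfl | rfl | rfl | rfl)
  · exact ⟨AH hK, (tor_AH hK).cyc, card_AH hK, card_norm_AH hK hm, fun _ => (tor_AH hK).normalizer_eq⟩
  · exact ⟨TT hK, isCyclic_TT hK, card_TT' hK, card_norm_TT hK hm, fun _ => (tor_TT hK hm).normalizer_eq⟩
  · exact ⟨A, hA.tor.cyc, cA, by rw [nA, cA], fun _ => hA.tor.normalizer_eq⟩
  · exact ⟨B, hB.tor.cyc, cB, by rw [nB, cB], fun _ => hB.tor.normalizer_eq⟩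

include hK in
theorem cyclic_conjugate (hm : 1 ≤ m) (d : ℕ)
    (hd : d ∣ (3 ^ (2 * m + 1) - 1) / 2 ∨ d ∣ (3 ^ (2 * m + 1) + 1) / 4 ∨
      d ∣ 3 ^ (2 * m + 1) - 3 ^ (m + 1) + 1 ∨ d ∣ 3 ^ (2 * m + 1) + 3 ^ (m + 1) + 1)
    (H K : Subgroup (Gr F m)) (hH : IsCyclic H) (hK' : IsCyclic K) (hHd : Nat.card H = d) (hKd : Nat.card K = d) :
    ∃ g : Gr F m, K = H.map (MulAut.conj g).toMonoidHom := by
  obtain ⟨A, B, hA, hB, cA, cB, -, -, -⟩ := two_classes hK hm
  rw [← hHd] at hd hKd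
  rcases hd with h | h | h | h
  · exact conj_cyclic (tor_AH hK) (hall_AH hK) hH hK' (by rwa [card_AH]) hKd.symm
  · exact conj_cyclic (tor_TT hK hm) (hall_TT hK) hH hK' (by rwa [card_TT']) hKd.symm
  · exact conj_cyclic hA.tor hA.hall hH hK' (by rwa [cA]) hKd.symm
  · exact conj_cyclic hB.tor hB.hall hH hK' (by rwa [cB]) hKd.symm

include hK in
theorem small_centralisers (hm : 1 ≤ m) (H : Subgroup (Gr F m)) (hH : IsCyclic H) :
    (Nat.card H = (3 ^ (2 * m + 1) - 1) / 2 →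
      IsCyclic ↥(Subgroup.centralizer (H : Set (Gr F m))) ∧
        Nat.card ↥(Subgroup.centralizer (H : Set (Gr F m))) = 3 ^ (2 * m + 1) - 1 ∧
        ∀ A : Subgroup (Gr F m), A ≤ H → A ≠ ⊥ →
          Subgroup.centralizer (A : Set (Gr F m)) = Subgroup.centralizer (H : Set (Gr F m))) ∧
    (Nat.card H = (3 ^ (2 * m + 1) + 1) / 4 →
      IsMulCommutative ↥(Subgroup.centralizer (H : Set (Gr F m))) ∧
        Nat.card ↥(Subgroup.centralizer (H : Set (Gr F m))) = 3 ^ (2 * m + 1) + 1 ∧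
        (∀ x ∈ Subgroup.centralizer (H : Set (Gr F m)), orderOf x ≠ 4) ∧
        ∀ A : Subgroup (Gr F m), A ≤ H → A ≠ ⊥ →
          Subgroup.centralizer (A : Set (Gr F m)) = Subgroup.centralizer (H : Set (Gr F m))) := by
  refine ⟨fun hc => ?_, fun hc => ?_⟩
  · obtain ⟨C', ⟨e⟩, hC, hsub⟩ := cent_cyclic_sub (tor_AH hK) (hall_AH hK) hH (by rw [card_AH, hc]) (AH_ne_bot hK hm)
    haveI : IsCyclic (Hh hK).range :=
      isCyclic_of_surjective (MonoidHom.ofInjective (Hh_injective hK)).toMonoidHom (MulEquiv.surjective _)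
    rw [hC]
    exact ⟨isCyclic_of_surjective e.toMonoidHom e.surjective,
      by rw [← Nat.card_congr e.toEquiv, card_range], hsub⟩
  · obtain ⟨C', ⟨e⟩, hC, hsub⟩ := cent_cyclic_sub (tor_TT hK hm) (hall_TT hK) hH (by rw [card_TT', hc]) (TT_ne_bot hK hm)
    rw [hC]
    refine ⟨⟨⟨fun a b => e.symm.injective ?_⟩⟩, by rw [← Nat.card_congr e.toEquiv, card_QT, qN hK],
      fun x hx h4 => ?_, hsub⟩
    · rw [map_mul, map_mul]
      exact Subtype.ext (comm_QT hK (e.symm a).2 (e.symm b).2)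
    · have h := pow_QT hK (e.symm ⟨x, hx⟩).2
      have hd : orderOf x ∣ (3 ^ (2 * m + 1) + 1) / 2 := by
        rw [show orderOf x = orderOf ((e.symm ⟨x, hx⟩ : QT hK) : Gr F m) from
          ((MulEquiv.orderOf_eq e.symm _).trans (Subgroup.orderOf_mk x hx)).symm.trans (Subgroup.orderOf_coe _).symm]
        exact orderOf_dvd_of_pow_eq_one h
      obtain ⟨k, hk⟩ := q_form m
      rw [h4] at hd
      omega

include hK in
theorem orders (hm : 1 ≤ m) (d : ℕ) :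
    (∃ g : Gr F m, orderOf g = d) ↔
      (d ∣ 6 ∨ d ∣ 9 ∨ d ∣ 3 ^ (2 * m + 1) - 1 ∨ d ∣ (3 ^ (2 * m + 1) + 1) / 2 ∨
        d ∣ 3 ^ (2 * m + 1) - 3 ^ (m + 1) + 1 ∨ d ∣ 3 ^ (2 * m + 1) + 3 ^ (m + 1) + 1) := by
  obtain ⟨A, B, hA, hB, cA, cB, -, -, hAB⟩ := two_classes hK hm
  constructor
  · rintro ⟨g, rfl⟩
    simp only [orderOf_dvd_iff_pow_eq_one]
    rcases exponent_cases hK hm g with h | h | h | h | h
    · exact Or.inr (Or.inr (Or.inl h))
    · exact Or.inr (Or.inr (Or.inr (Or.inl h)))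
    · by_cases hg1 : g = 1
      · exact Or.inl (by rw [hg1, one_pow])
      have hr := Nat.minFac_prime (fun e => hg1 (orderOf_eq_one_iff.1 e))
      have hr' := (Nat.minFac_dvd _).trans (orderOf_dvd_of_pow_eq_one h)
      rw [← hAB, Nat.Prime.dvd_mul hr] at hr'
      rcases hr' with h' | h'
      · obtain ⟨c, hc⟩ := hA.into hr h' (Nat.minFac_dvd _)
        have := pow_card_of_mem hc
        rw [show c⁻¹ * g * c = c⁻¹ * g * (c⁻¹)⁻¹ by group, conj_pow, conj_eq_one_iff, cA] at this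
        exact Or.inr (Or.inr (Or.inr (Or.inr (Or.inl this))))
      · obtain ⟨c, hc⟩ := hB.into hr h' (Nat.minFac_dvd _)
        have := pow_card_of_mem hc
        rw [show c⁻¹ * g * c = c⁻¹ * g * (c⁻¹)⁻¹ by group, conj_pow, conj_eq_one_iff, cB] at this
        exact Or.inr (Or.inr (Or.inr (Or.inr (Or.inr this))))
    · exact Or.inl h
    · exact Or.inr (Or.inl h)
  · rintro (h | h | h | h | h | h)
    · obtain ⟨w, hwU, hwv⟩ := uF_mem_UG hK 0 1 0
      haveI : Fact (Nat.Prime 2) := ⟨Nat.prime_two⟩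
      haveI : Fact (Nat.Prime 3) := ⟨Nat.prime_three⟩
      have hc : a0 hK * w = w * a0 hK := by
        rw [show w = ⟨uF m 0 1 0, ((mem_U1_iff hK).2 ⟨0, 1, 0, rfl⟩).2⟩ from Subtype.ext hwv]
        exact uF_zero_comm hK 1
      have hw1 : w ≠ 1 := fun e =>
        one_ne_zero (α := F) (uF_inj ((hwv.symm.trans (congrArg Subtype.val e)).trans (uF_zero (m := m)).symm)).2.1
      obtain ⟨-, -, h3⟩ := cube_of_cent hK hwU hc
      have e2 : orderOf (a0 hK) = 2 := orderOf_eq_prime (by rw [pow_two]; exact a0_sq hK) (a0_ne hK)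
      have e3 : orderOf w = 3 := orderOf_eq_prime h3 hw1
      refine exists_order_dvd (x := a0 hK * w) ?_
      rwa [Commute.orderOf_mul_eq_mul_orderOf_of_coprime hc (by rw [e2, e3]; norm_num), e2, e3]
    · obtain ⟨w, hwU, hwv⟩ := uF_mem_UG hK 1 0 0
      haveI : Fact (Nat.Prime 3) := ⟨Nat.prime_three⟩
      refine exists_order_dvd (x := w) ?_
      rwa [orderOf_eq_prime_pow (p := 3) (n := 1) (fun e => ?_) (UG_nine hK hwU)]
      have e' := congrArg Subtype.val e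
      rw [SubgroupClass.coe_pow, hwv, pow_one] at e'
      exact cube_high one_ne_zero (pow_ne_zero (3 ^ m) one_ne_zero) _ _ _ _ e'
    · obtain ⟨s, hs⟩ := IsCyclic.exists_ofOrder_eq_natCard (α := Fˣ)
      refine exists_order_dvd (x := Hh hK s) ?_
      rwa [orderOf_injective _ (Hh_injective hK), hs, Nat.card_units, qN hK]
    · refine exists_order_dvd (x := phi hK (gam hK)) ?_
      rwa [orderOf_injective _ (phi_injective hK), orderOf_gam, qN hK]
    · haveI := hA.tor.cyc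
      obtain ⟨s, hs⟩ := IsCyclic.exists_ofOrder_eq_natCard (α := A)
      refine exists_order_dvd (x := (s : Gr F m)) ?_
      rwa [Subgroup.orderOf_coe, hs, cA]
    · haveI := hB.tor.cyc
      obtain ⟨s, hs⟩ := IsCyclic.exists_ofOrder_eq_natCard (α := B)
      refine exists_order_dvd (x := (s : Gr F m)) ?_
      rwa [Subgroup.orderOf_coe, hs, cB]

theorem orderOf_conj' {G : Type*} [Group G] (c x : G) : orderOf (c⁻¹ * x * c) = orderOf x := by
  simpa using (MulAut.conj c⁻¹).orderOf_eq x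

theorem order_Pr {G : Type*} [Group G] (i : ℕ) (c x : G) (h : orderOf x = i) : orderOf (c⁻¹ * x * c) = i := by
  rw [orderOf_conj', h]

theorem sq_ne_of_order {G : Type*} [Group G] {g : G} {i : ℕ} (hi : 2 < i) (h : orderOf g = i) : g * g ≠ 1 :=
  fun e => by
    have := Nat.le_of_dvd two_pos (orderOf_dvd_of_pow_eq_one (show g ^ 2 = 1 by rw [pow_two]; exact e))
    omega

include hK in
theorem count_order_H (hm : 1 ≤ m) (i : ℕ) (hi : 2 < i) (hd : i ∣ 3 ^ (2 * m + 1) - 1) :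
    2 * Nat.card {g : Gr F m // orderOf g = i} =
      Nat.totient i * (3 ^ (2 * m + 1)) ^ 3 * ((3 ^ (2 * m + 1)) ^ 3 + 1) := by
  have h := count_H hK hm (fun g => orderOf g = i) (order_Pr i)
  haveI : IsCyclic (Hh hK).range :=
    isCyclic_of_surjective (MonoidHom.ofInjective (Hh_injective hK)).toMonoidHom (MulEquiv.surjective _)
  have h1 : ∀ g : Gr F m, (g ^ (3 ^ (2 * m + 1) - 1) = 1 ∧ g * g ≠ 1 ∧ orderOf g = i) ↔ orderOf g = i := fun g =>
    ⟨fun h => h.2.2, fun h => ⟨orderOf_dvd_iff_pow_eq_one.1 (h ▸ hd), sq_ne_of_order hi h, h⟩⟩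
  have h2 : ∀ g : Gr F m, (g ∈ (Hh hK).range ∧ g * g ≠ 1 ∧ orderOf g = i) ↔ (g ∈ (Hh hK).range ∧ orderOf g = i) :=
    fun g => ⟨fun h => ⟨h.1, h.2.2⟩, fun h => ⟨h.1, sq_ne_of_order hi h.2, h.2⟩⟩
  rw [Nat.card_congr (Equiv.subtypeEquivRight h1), Nat.card_congr (Equiv.subtypeEquivRight h2),
    card_orderOf_cyclic inferInstance (by rwa [card_range]), card_Gr hK, ← cube_succ] at h
  refine Nat.eq_of_mul_eq_mul_right (m := 3 ^ (2 * m + 1) - 1) (by have := q_ge hm; omega) ?_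
  rw [mul_assoc, mul_left_comm, mul_comm (Nat.card _)] at *
  linarith

theorem card_QT_order2 (hm : 1 ≤ m) (i : ℕ) (hi : 1 < i) (hd : i ∣ (3 ^ (2 * m + 1) + 1) / 4) :
    Nat.card {x : Gr F m // x ∈ QT hK ∧ orderOf x = 2 * i} = 3 * Nat.totient i := by
  classical
  have hodd : Odd i := Odd.of_dvd_nat (odd_kT hK) (by rwa [qN hK])
  have he2 : ∀ e : {e : E0 hK // e ≠ 1}, orderOf (e.1 : Gr F m) = 2 := fun e => by
    haveI : Fact (Nat.Prime 2) := ⟨Nat.prime_two⟩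
    exact orderOf_eq_prime (by rw [pow_two]; exact (sq_QT_iff hK hm (E0_le_QT hK e.1.2)).2 e.1.2)
      (fun h => e.2 (Subtype.ext h))
  have hco : Nat.Coprime 2 i := Nat.coprime_two_left.2 hodd
  let f : {e : E0 hK // e ≠ 1} × {y : Gr F m // y ∈ TT hK ∧ orderOf y = i} →
      {x : Gr F m // x ∈ QT hK ∧ orderOf x = 2 * i} := fun p =>
    ⟨p.1.1 * p.2.1, mul_mem (E0_le_QT hK p.1.1.2) (TT_le_QT hK p.2.2.1), by
      rw [Commute.orderOf_mul_eq_mul_orderOf_of_coprime (comm_QT hK (E0_le_QT hK p.1.1.2) (TT_le_QT hK p.2.2.1))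
        (by rw [he2, p.2.2.2]; exact hco), he2, p.2.2.2]⟩
  have hf : Function.Bijective f := by
    constructor
    · rintro ⟨e, y, hy, hyi⟩ ⟨e', y', hy', hyi'⟩ h
      have h' : (e.1 : Gr F m) * y = e'.1 * y' := congrArg Subtype.val h
      have key : ∀ (e : {e : E0 hK // e ≠ 1}) (y : Gr F m), y ∈ TT hK → orderOf y = i →
          ((e.1 : Gr F m) * y) ^ i = e.1 := fun e y hy hyi => by
        obtain ⟨j, rfl⟩ := hodd
        rw [Commute.mul_pow (comm_QT hK (E0_le_QT hK e.1.2) (TT_le_QT hK hy))]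
        conv_lhs => arg 2; rw [← hyi, pow_orderOf_eq_one]
        rw [mul_one, pow_succ, pow_mul, ← he2 e, pow_orderOf_eq_one, one_pow, one_mul]
      have he : e = e' := Subtype.ext (Subtype.ext (by rw [← key e y hy hyi, h', key e' y' hy' hyi']))
      subst he
      rw [show (⟨y, hy, hyi⟩ : {y : Gr F m // y ∈ TT hK ∧ orderOf y = i}) = ⟨y', hy', hyi'⟩ from
        Subtype.ext (mul_left_cancel h')]
    · rintro ⟨x, hx, hxo⟩
      have hx2 : x ^ (2 * i) = 1 := hxo ▸ pow_orderOf_eq_one x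
      have hne : x ^ i ≠ 1 := fun h => by
        have := Nat.le_of_dvd (by omega) (orderOf_dvd_of_pow_eq_one h)
        omega
      have he : x ^ i ∈ E0 hK := invol_QT hK hm (pow_mem hx _) (by rw [← pow_add, ← two_mul, hx2])
      have hy : x ^ (i + 1) ∈ TT hK := (tor_TT hK hm).mem _ (pow_mem hx _) (by
        obtain ⟨j, hj⟩ := hodd
        obtain ⟨k, hk⟩ := hd
        rw [card_TT', hk, pow_mul, ← pow_mul x, show (i + 1) * i = 2 * i * (j + 1) by rw [hj]; ring, pow_mul,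
          hx2, one_pow, one_pow])
      have hprod : x ^ i * x ^ (i + 1) = x := by
        rw [← pow_add, show i + (i + 1) = 2 * i + 1 by ring, pow_succ, hx2, one_mul]
      have hyo : orderOf (x ^ (i + 1)) = i := by
        have h2i : orderOf (x ^ i) = 2 := he2 ⟨⟨_, he⟩, fun h => hne (congrArg Subtype.val h)⟩
        have hyodd : Nat.Coprime 2 (orderOf (x ^ (i + 1))) := Nat.coprime_two_left.2 (odd_orderOf_TT hK hy)
        have := Commute.orderOf_mul_eq_mul_orderOf_of_coprime (Commute.pow_pow_self x i (i + 1)) (by rw [h2i]; exact hyodd)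
        rw [hprod, hxo, h2i] at this
        omega
      exact ⟨(⟨⟨_, he⟩, fun h => hne (congrArg Subtype.val h)⟩, ⟨_, hy, hyo⟩), Subtype.ext hprod⟩
  haveI := Fintype.ofFinite (E0 hK)
  rw [← Nat.card_eq_of_bijective f hf, Nat.card_prod,
    card_orderOf_cyclic (isCyclic_TT hK) (by rwa [card_TT']), Nat.card_eq_fintype_card,
    Fintype.card_subtype_compl, Fintype.card_subtype_eq, ← Nat.card_eq_fintype_card, card_E0]

include hK in
theorem count_order_T (hm : 1 ≤ m) (i : ℕ) (hi : 1 < i) (hd : i ∣ (3 ^ (2 * m + 1) + 1) / 4) :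
    6 * Nat.card {g : Gr F m // orderOf g = i} =
        Nat.totient i * (3 ^ (2 * m + 1)) ^ 3 * (3 ^ (2 * m + 1) - 1) * Phi m ∧
      2 * Nat.card {g : Gr F m // orderOf g = 2 * i} =
        Nat.totient i * (3 ^ (2 * m + 1)) ^ 3 * (3 ^ (2 * m + 1) - 1) * Phi m := by
  have hodd : Odd i := Odd.of_dvd_nat (odd_kT hK) (by rwa [qN hK])
  have hi3 : 2 < i := by rcases hodd with ⟨j, rfl⟩; omega
  have h2i : 2 * i ∣ (3 ^ (2 * m + 1) + 1) / 2 := by
    rw [← (half_two m).2]; exact mul_dvd_mul_left 2 hd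
  have hh : ∀ j, 2 < j → j ∣ (3 ^ (2 * m + 1) + 1) / 2 →
      Nat.card {g : Gr F m // orderOf g = j} * (6 * (3 ^ (2 * m + 1) + 1)) =
        Nat.card (Gr F m) * Nat.card {x : Gr F m // x ∈ QT hK ∧ orderOf x = j} := by
    intro j hj hjd
    have h := count_T hK hm (fun g => orderOf g = j) (order_Pr j)
    have h1 : ∀ g : Gr F m, (g ^ ((3 ^ (2 * m + 1) + 1) / 2) = 1 ∧ g * g ≠ 1 ∧ orderOf g = j) ↔ orderOf g = j :=
      fun g => ⟨fun h => h.2.2, fun h => ⟨orderOf_dvd_iff_pow_eq_one.1 (h ▸ hjd), sq_ne_of_order hj h, h⟩⟩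
    have h2 : ∀ g : Gr F m, (g ∈ QT hK ∧ g * g ≠ 1 ∧ orderOf g = j) ↔ (g ∈ QT hK ∧ orderOf g = j) :=
      fun g => ⟨fun h => ⟨h.1, h.2.2⟩, fun h => ⟨h.1, sq_ne_of_order hj h.2, h.2⟩⟩
    rwa [Nat.card_congr (Equiv.subtypeEquivRight h1), Nat.card_congr (Equiv.subtypeEquivRight h2)] at h
  have hQi : Nat.card {x : Gr F m // x ∈ QT hK ∧ orderOf x = i} = Nat.totient i := by
    rw [← card_orderOf_cyclic (isCyclic_TT hK) (d := i) (by rwa [card_TT'])]
    refine Nat.card_congr (Equiv.subtypeEquivRight fun x => ⟨fun h => ⟨(tor_TT hK hm).mem x h.1 ?_, h.2⟩,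
      fun h => ⟨TT_le_QT hK h.1, h.2⟩⟩)
    rw [card_TT']; exact orderOf_dvd_iff_pow_eq_one.1 (h.2 ▸ hd)
  have hG : Nat.card (Gr F m) =
      (3 ^ (2 * m + 1)) ^ 3 * (3 ^ (2 * m + 1) - 1) * Phi m * (3 ^ (2 * m + 1) + 1) := by
    rw [card_Gr hK, Phi]; ring
  have ha := hh i hi3 ((dvd_mul_left i 2).trans h2i)
  have hb := hh (2 * i) (by omega) h2i
  rw [hQi, hG] at ha
  rw [card_QT_order2 hK hm i hi hd, hG] at hb
  constructor
  · refine Nat.eq_of_mul_eq_mul_right (m := 3 ^ (2 * m + 1) + 1) (Nat.succ_pos _) ?_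
    linarith
  · refine Nat.eq_of_mul_eq_mul_right (m := 3 * (3 ^ (2 * m + 1) + 1)) (by positivity) ?_
    linarith

include hK in
theorem count_order_Phi (hm : 1 ≤ m) {A : Subgroup (Gr F m)} (hA : PhiTorus A)
    (hN : Nat.card (Subgroup.normalizer (A : Set (Gr F m))) = 6 * Nat.card A) {n' : ℕ}
    (hn : Nat.card A * n' = Phi m) (i : ℕ) (hi : 1 < i) (hd : i ∣ Nat.card A) :
    6 * Nat.card {g : Gr F m // orderOf g = i} =
      Nat.totient i * (3 ^ (2 * m + 1)) ^ 3 * ((3 ^ (2 * m + 1)) ^ 2 - 1) * n' := by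
  have h := hA.count (fun g => orderOf g = i) (order_Pr i)
  have h1 : ∀ g : Gr F m, (g ^ Phi m = 1 ∧ g ≠ 1 ∧
      Nat.card (Subgroup.centralizer {g}) = Nat.card A ∧ orderOf g = i) ↔ orderOf g = i := by
    refine fun g => ⟨fun h => h.2.2.2, fun h => ?_⟩
    have hg1 : g ≠ 1 := fun e => by rw [e, orderOf_one] at h; omega
    obtain ⟨c, hc⟩ := hA.into (Nat.minFac_prime (by omega : i ≠ 1)) ((Nat.minFac_dvd i).trans hd)
      (g := g) (h.symm ▸ Nat.minFac_dvd i)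
    exact ⟨orderOf_dvd_iff_pow_eq_one.1 (h.symm ▸ hd.trans hA.dvd), hg1, hA.card_cent hc hg1, h⟩
  have h2 : ∀ g : Gr F m, (g ∈ A ∧ g ≠ 1 ∧ orderOf g = i) ↔ (g ∈ A ∧ orderOf g = i) :=
    fun g => ⟨fun h => ⟨h.1, h.2.2⟩, fun h => ⟨h.1, fun e => by rw [e, orderOf_one] at h; omega, h.2⟩⟩
  rw [Nat.card_congr (Equiv.subtypeEquivRight h1), Nat.card_congr (Equiv.subtypeEquivRight h2),
    card_orderOf_cyclic hA.tor.cyc hd, hN, card_Gr hK] at h
  rw [show (3 ^ (2 * m + 1)) ^ 2 - 1 = (3 ^ (2 * m + 1) + 1) * (3 ^ (2 * m + 1) - 1) by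
    rw [← Nat.sq_sub_sq, one_pow]]
  rw [show 3 ^ (2 * m + 1) * (3 ^ (2 * m + 1) - 1) + 1 = Nat.card A * n' from hn.symm] at h
  refine Nat.eq_of_mul_eq_mul_right (m := Nat.card A) (by have := hA.one_lt; omega) ?_
  linarith

include hK in
theorem counts (hm : 1 ≤ m) :
    Nat.card {g : Gr F m // orderOf g = 2} = (3 ^ (2 * m + 1)) ^ 2 * ((3 ^ (2 * m + 1)) ^ 2 - 3 ^ (2 * m + 1) + 1) ∧
    Nat.card {g : Gr F m // orderOf g = 3} = ((3 ^ (2 * m + 1)) ^ 2 - 1) * ((3 ^ (2 * m + 1)) ^ 3 + 1) ∧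
    Nat.card {g : Gr F m // orderOf g = 6} = (3 ^ (2 * m + 1)) ^ 2 * (3 ^ (2 * m + 1) - 1) * ((3 ^ (2 * m + 1)) ^ 3 + 1) ∧
    Nat.card {g : Gr F m // orderOf g = 9} = (3 ^ (2 * m + 1)) ^ 2 * (3 ^ (2 * m + 1) - 1) * ((3 ^ (2 * m + 1)) ^ 3 + 1) ∧
    (∀ i : ℕ, 2 < i → i ∣ 3 ^ (2 * m + 1) - 1 →
      2 * Nat.card {g : Gr F m // orderOf g = i} = Nat.totient i * (3 ^ (2 * m + 1)) ^ 3 * ((3 ^ (2 * m + 1)) ^ 3 + 1)) ∧
    (∀ i : ℕ, 1 < i → i ∣ (3 ^ (2 * m + 1) + 1) / 4 →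
      6 * Nat.card {g : Gr F m // orderOf g = i} =
          Nat.totient i * (3 ^ (2 * m + 1)) ^ 3 * (3 ^ (2 * m + 1) - 1) * ((3 ^ (2 * m + 1)) ^ 2 - 3 ^ (2 * m + 1) + 1) ∧
        2 * Nat.card {g : Gr F m // orderOf g = 2 * i} =
          Nat.totient i * (3 ^ (2 * m + 1)) ^ 3 * (3 ^ (2 * m + 1) - 1) * ((3 ^ (2 * m + 1)) ^ 2 - 3 ^ (2 * m + 1) + 1)) ∧
    (∀ i : ℕ, 1 < i → i ∣ 3 ^ (2 * m + 1) - 3 ^ (m + 1) + 1 →
      6 * Nat.card {g : Gr F m // orderOf g = i} =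
        Nat.totient i * (3 ^ (2 * m + 1)) ^ 3 * ((3 ^ (2 * m + 1)) ^ 2 - 1) * (3 ^ (2 * m + 1) + 3 ^ (m + 1) + 1)) ∧
    (∀ i : ℕ, 1 < i → i ∣ 3 ^ (2 * m + 1) + 3 ^ (m + 1) + 1 →
      6 * Nat.card {g : Gr F m // orderOf g = i} =
        Nat.totient i * (3 ^ (2 * m + 1)) ^ 3 * ((3 ^ (2 * m + 1)) ^ 2 - 1) * (3 ^ (2 * m + 1) - 3 ^ (m + 1) + 1)) := by
  classical
  obtain ⟨A, B, hA, hB, cA, cB, nA, nB, hAB⟩ := two_classes hK hm
  have hq := q_ge hm
  have hP : (3 ^ (2 * m + 1)) ^ 2 - 3 ^ (2 * m + 1) + 1 = Phi m := by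
    rw [Phi, Nat.mul_sub, mul_one, pow_two]
  have h3 : Nat.card {g : Gr F m // orderOf g = 3} =
      ((3 ^ (2 * m + 1)) ^ 2 - 1) * ((3 ^ (2 * m + 1)) ^ 3 + 1) := by
    haveI : Fact (Nat.Prime 3) := ⟨Nat.prime_three⟩
    have h := count_three hK (fun g => orderOf g = 3) (order_Pr 3)
    have h1 : ∀ g : Gr F m, (g ^ 9 = 1 ∧ g ≠ 1 ∧ orderOf g = 3) ↔ orderOf g = 3 := fun g =>
      ⟨fun h => h.2.2, fun h => ⟨orderOf_dvd_iff_pow_eq_one.1 (by rw [h]; norm_num), fun e => by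
        rw [e, orderOf_one] at h; omega, h⟩⟩
    have hT : Nat.card {x : Gr F m // x ∈ UG F m ∧ x ≠ 1 ∧ orderOf x = 3} = (3 ^ (2 * m + 1)) ^ 2 - 1 := by
      rw [← card_order_three hK]
      exact Nat.card_congr
        { toFun := fun x => ⟨⟨x.1.1, Subgroup.mem_subgroupOf.1 x.2.1⟩, by
            rw [← Subgroup.orderOf_coe]; exact (Subgroup.orderOf_coe x.1).trans x.2.2.2⟩
          invFun := fun u => ⟨⟨u.1.1, u.1.2.2⟩, Subgroup.mem_subgroupOf.2 u.1.2, fun e => by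
              have := u.2
              rw [← Subgroup.orderOf_coe, show (u.1 : GL G2Data.tab.D.Idx F) = 1 from congrArg Subtype.val e,
                orderOf_one] at this
              omega, by
              rw [← Subgroup.orderOf_coe]; exact (Subgroup.orderOf_coe u.1).trans u.2⟩
          left_inv := fun x => rfl
          right_inv := fun x => rfl }
    rw [Nat.card_congr (Equiv.subtypeEquivRight h1), hT, card_Gr hK, ← cube_succ] at h
    refine Nat.eq_of_mul_eq_mul_right (m := (3 ^ (2 * m + 1)) ^ 3 * (3 ^ (2 * m + 1) - 1))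
      (Nat.mul_pos (by positivity) (by omega)) ?_
    rw [h]; ring
  have hI := card_invol hK hm
  have h6 := card_six hK hm
  have h9 := card_three_all hK
  have hG := card_Gr hK
  rw [hP]
  refine ⟨?_, h3, ?_, ?_, count_order_H hK hm, count_order_T hK hm, fun i hi hd => ?_, fun i hi hd => ?_⟩
  · refine Nat.eq_of_mul_eq_mul_right (m := 3 ^ (2 * m + 1) * (3 ^ (2 * m + 1) - 1) * (3 ^ (2 * m + 1) + 1))
      (Nat.mul_pos (Nat.mul_pos (by omega) (by omega)) (Nat.succ_pos _)) ?_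
    rw [hI, hG, Phi]; ring
  · refine Nat.eq_of_mul_eq_mul_right (m := 3 ^ (2 * m + 1) * (3 ^ (2 * m + 1) - 1))
      (Nat.mul_pos (by omega) (by omega)) ?_
    rw [h6, hG, cube_succ]; ring
  · have hsplit : Nat.card {g : Gr F m // g ^ 9 = 1 ∧ g ≠ 1 ∧ True} =
        Nat.card {g : Gr F m // orderOf g = 3} + Nat.card {g : Gr F m // orderOf g = 9} := by
      haveI := Fintype.ofFinite (Gr F m)
      simp only [Nat.card_eq_fintype_card, Fintype.card_subtype]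
      rw [← Finset.card_union_of_disjoint (Finset.disjoint_filter.2 fun g _ a b => by omega), ← Finset.filter_or]
      refine congrArg Finset.card (Finset.filter_congr fun g _ => ⟨fun h => ?_, fun h => ?_⟩)
      · haveI : Fact (Nat.Prime 3) := ⟨Nat.prime_three⟩
        obtain ⟨j, hj, hjo⟩ := (Nat.dvd_prime_pow Nat.prime_three).1
          (show orderOf g ∣ 3 ^ 2 from orderOf_dvd_of_pow_eq_one h.1)
        interval_cases j
        · exact absurd (orderOf_eq_one_iff.1 hjo) h.2.1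
        · exact Or.inl hjo
        · exact Or.inr hjo
      · refine ⟨orderOf_dvd_iff_pow_eq_one.1 (by rcases h with h | h <;> rw [h] <;> norm_num), fun e => ?_, trivial⟩
        rw [e, orderOf_one] at h; omega
    rw [hsplit, h3, hG, ← cube_succ, add_mul] at h9
    set q := 3 ^ (2 * m + 1) with hqd
    refine Nat.eq_of_mul_eq_mul_right (m := q ^ 3 * (q - 1)) (Nat.mul_pos (by positivity) (by omega)) ?_
    have e : q ^ 3 - 1 = (q ^ 2 - 1) + q ^ 2 * (q - 1) := by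
      have h1 : q ^ 2 * (q - 1) = q ^ 3 - q ^ 2 := by rw [Nat.mul_sub, mul_one, ← pow_succ]
      have h2 : 1 ≤ q ^ 2 := Nat.one_le_pow _ _ (by omega)
      have h3' : q ^ 2 ≤ q ^ 3 := Nat.pow_le_pow_right (by omega) (by norm_num)
      omega
    rw [e] at h9
    linarith
  · rw [← cB]
    exact count_order_Phi hK hm hA nA hAB i hi (by rwa [cA])
  · rw [← cA]
    exact count_order_Phi hK hm hB nB (by rw [mul_comm]; exact hAB) i hi (by rwa [cB])

end Cfsg.Agent.Chev.Ree
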