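import Cfsg.Agent.Lib.Lie.Ree4

/-!
# The small Ree groups are generated by two elements
-/

set_option autoImplicit false

namespace Cfsg.Agent.Chev.Ree

open Cfsg.Lie TwG2 Tab

variable {F : Type*} [Field F] [CharP F 3] [Fintype F] {m : ℕ} (hK : Fintype.card F = 3 ^ (2 * m + 1))

include hK in
/-- the element with coordinates `t, u, v` -/
noncomputable def eU (t u v : F) : Gr F m := ⟨uF m t u v, ((mem_U1_iff hK).2 ⟨t, u, v, rfl⟩).2⟩

theorem eU_mem (t u v : F) : eU hK t u v ∈ UG F m :=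
  Subgroup.mem_subgroupOf.2 ((mem_U1_iff hK).2 ⟨t, u, v, rfl⟩)

theorem eU_zero : eU hK 0 0 0 = 1 := Subtype.ext uF_zero

theorem exists_eU {x : Gr F m} (hx : x ∈ UG F m) : ∃ t u v : F, x = eU hK t u v := by
  obtain ⟨t, u, v, e⟩ := (mem_U1_iff hK).1 (Subgroup.mem_subgroupOf.1 hx)
  exact ⟨t, u, v, Subtype.ext e⟩

theorem eU_mul (t u v t' u' v' : F) : ∃ U W : F, eU hK t u v * eU hK t' u' v' = eU hK (t + t') U W ∧
    U ^ 3 ^ m = u ^ 3 ^ m - t' * t ^ 3 ^ m + u' ^ 3 ^ m ∧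
    W ^ 3 ^ m = v ^ 3 ^ m - t' * (t ^ 3 ^ m) ^ 2 - t' ^ 3 ^ m * (u ^ 3 ^ m - t' * t ^ 3 ^ m) + v' ^ 3 ^ m := by
  obtain ⟨T, U, W, e⟩ := exists_eU hK (mul_mem (eU_mem hK t u v) (eU_mem hK t' u' v'))
  have e' := congrArg Subtype.val e
  rw [Subgroup.coe_mul] at e'
  simp only [eU] at e'
  rw [uF, uF, uP_mul, uF] at e'
  obtain ⟨hT, -, hU, hW, -, -⟩ := uP_inj e'
  exact ⟨U, W, by rw [e, ← hT], hU.symm, hW.symm⟩

theorem eU_conj (r : Fˣ) (t u v : F) : ∃ U W : F,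
    Hh hK r * eU hK t u v * (Hh hK r)⁻¹ = eU hK ((wt G2Data.tab F (par m r) 6 : F) * t) U W ∧
    U ^ 3 ^ m = (wt G2Data.tab F (par m r) 8 : F) * u ^ 3 ^ m ∧
    W ^ 3 ^ m = (wt G2Data.tab F (par m r) 9 : F) * v ^ 3 ^ m := by
  obtain ⟨T, U, W, e⟩ := exists_eU hK (conj_mem_UG (Hh_mem_B1 hK r) (eU_mem hK t u v))
  have e' := congrArg Subtype.val e
  rw [Subgroup.coe_mul, Subgroup.coe_mul, Subgroup.coe_inv, Hh_val] at e'
  simp only [eU] at e'
  rw [tor_uF, uF] at e'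
  obtain ⟨hT, -, hU, hW, -, -⟩ := uP_inj e'
  exact ⟨U, W, by rw [e, ← hT], hU.symm, hW.symm⟩

/-- the weights as homomorphisms -/
noncomputable def wHom (F : Type*) [Field F] [CharP F 3] [Fintype F] (m r : ℕ) : Fˣ →* Fˣ where
  toFun s := wt G2Data.tab F (par m s) r
  map_one' := by rw [wt_par, one_zpow]
  map_mul' a b := by rw [wt_par, wt_par, wt_par, mul_zpow]

include hK in
theorem weight_eq_one {s : Fˣ} (h : wHom F m 6 s = 1 ∨ wHom F m 8 s = 1 ∨ wHom F m 9 s = 1) :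
    s * s = 1 := by
  have h1 : ∀ t u v : F, ¬ (t = 0 ∧ u = 0 ∧ v = 0) → eU hK t u v ≠ 1 := fun t u v hne e =>
    hne (uF_inj ((congrArg Subtype.val e).trans (uF_zero (m := m)).symm))
  have hsame : ∀ a : F, ∀ U : F, U ^ 3 ^ m = a ^ 3 ^ m → U = a := fun a U h => (psi (F := F) m).injective h
  rcases h with h | h | h
  · have hfix : Hh hK s * eU hK 1 0 0 * (Hh hK s)⁻¹ = eU hK 1 0 0 := by
      obtain ⟨U, W, e, hU, hW⟩ := eU_conj hK s 1 0 0
      have h0 : (0 : F) ^ 3 ^ m = 0 := zero_pow (by positivity)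
      rw [h0, mul_zero] at hU hW
      rw [e, show (wt G2Data.tab F (par m s) 6 : F) * 1 = 1 by rw [mul_one]; exact congrArg Units.val h,
        hsame 0 U (by rw [hU, h0]), hsame 0 W (by rw [hW, h0])]
    exact fix_imp hK (eU_mem hK _ _ _) (h1 _ _ _ (by simp)) hfix
  · have hfix : Hh hK s * eU hK 0 1 0 * (Hh hK s)⁻¹ = eU hK 0 1 0 := by
      obtain ⟨U, W, e, hU, hW⟩ := eU_conj hK s 0 1 0
      have h0 : (0 : F) ^ 3 ^ m = 0 := zero_pow (by positivity)
      rw [h0, mul_zero] at hW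
      rw [one_pow, mul_one] at hU
      rw [e, mul_zero, hsame 1 U (by rw [hU, one_pow]; exact congrArg Units.val h),
        hsame 0 W (by rw [hW, h0])]
    exact fix_imp hK (eU_mem hK _ _ _) (h1 _ _ _ (by simp)) hfix
  · have hfix : Hh hK s * eU hK 0 0 1 * (Hh hK s)⁻¹ = eU hK 0 0 1 := by
      obtain ⟨U, W, e, hU, hW⟩ := eU_conj hK s 0 0 1
      have h0 : (0 : F) ^ 3 ^ m = 0 := zero_pow (by positivity)
      rw [h0, mul_zero] at hU
      rw [one_pow, mul_one] at hW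
      rw [e, mul_zero, hsame 0 U (by rw [hU, h0]),
        hsame 1 W (by rw [hW, one_pow]; exact congrArg Units.val h)]
    exact fix_imp hK (eU_mem hK _ _ _) (h1 _ _ _ (by simp)) hfix

theorem sq_eq_one_cases {s : Fˣ} (h : s * s = 1) : s = 1 ∨ s = -1 := by
  rcases mul_self_eq_one_iff.1 (by simpa using congrArg Units.val h : (s : F) * s = 1) with e | e
  · exact Or.inl (Units.ext e)
  · exact Or.inr (Units.ext (by simpa using e))

include hK in
/-- `-1` is not fixed by the first and third weights -/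
theorem weight_inj (r : ℕ) (hr : r = 6 ∨ r = 9) : Function.Injective (wHom F m r) := by
  refine (injective_iff_map_eq_one _).2 fun s hs => ?_
  rcases sq_eq_one_cases (weight_eq_one hK (s := s) (by rcases hr with rfl | rfl <;> simp [hs])) with e | e
  · exact e
  · exfalso
    obtain ⟨e6, -, e9, -⟩ := wt_neg_one (F := F) (m := m)
    subst e
    rcases hr with rfl | rfl
    · exact neg_one_ne (F := F) (by simpa using congrArg Units.val (e6.symm.trans hs))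
    · exact neg_one_ne (F := F) (by simpa using congrArg Units.val (e9.symm.trans hs))

include hK in
theorem weight_surj (r : ℕ) (hr : r = 6 ∨ r = 9) : Function.Surjective (wHom F m r) :=
  Finite.injective_iff_surjective.1 (weight_inj hK r hr)

include hK in
theorem weight_eight (a : Fˣ) : ∃ s, wHom F m 8 s = a ∨ wHom F m 8 s = -a := by
  obtain ⟨k, hk⟩ := half_odd (m := m)
  have hc : ∀ x : Fˣ, (x ^ (2 * k + 1)) * (x ^ (2 * k + 1)) = 1 := fun x => by
    rw [← pow_add, ← two_mul, ← hk, ← hK, ← Nat.card_eq_fintype_card, ← Nat.card_units, pow_card_eq_one']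
  set K := (powMonoidHom (2 * k + 1) : Fˣ →* Fˣ).ker with hKdef
  let f : K → K := fun x => ⟨wHom F m 8 x, by
    show (wHom F m 8 x) ^ (2 * k + 1) = 1
    rw [← map_pow, show (x : Fˣ) ^ (2 * k + 1) = 1 from x.2, map_one]⟩
  have hinj : Function.Injective f := by
    intro x y e
    have e' : wHom F m 8 ((x : Fˣ) * (y : Fˣ)⁻¹) = 1 := by
      rw [map_mul, map_inv, show wHom F m 8 x = wHom F m 8 y from congrArg Subtype.val e, mul_inv_cancel]
    have h2 := weight_eq_one hK (Or.inr (Or.inl e'))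
    have hmem : ((x : Fˣ) * (y : Fˣ)⁻¹) ^ (2 * k + 1) = 1 := (mul_mem x.2 (inv_mem y.2) : _ ∈ K)
    rw [pow_succ, pow_mul, pow_two, h2, one_pow, one_mul] at hmem
    exact Subtype.ext (mul_inv_eq_one.1 hmem)
  have hsurj := Finite.injective_iff_surjective.1 hinj
  rcases sq_eq_one_cases (hc a) with e | e
  · obtain ⟨x, hx⟩ := hsurj ⟨a, e⟩
    exact ⟨x, Or.inl (congrArg Subtype.val hx)⟩
  · obtain ⟨x, hx⟩ := hsurj ⟨-a, show (-a) ^ (2 * k + 1) = 1 by rw [Odd.neg_pow ⟨k, rfl⟩, e, _root_.neg_neg]⟩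
    exact ⟨x, Or.inr (congrArg Subtype.val hx)⟩

theorem full_of_normalised (hm : 1 ≤ m) {V : Subgroup (Gr F m)} (hV : V ≤ UG F m)
    (hN : ∀ r, ∀ x ∈ V, Hh hK r * x * (Hh hK r)⁻¹ ∈ V) {t u v : F} (ht : t ≠ 0)
    (hx : eU hK t u v ∈ V) : UG F m ≤ V := by
  have hinj := (psi (F := F) m).injective
  have h0 : (0 : F) ^ 3 ^ m = 0 := zero_pow (by positivity)
  -- first coordinate
  have hT : ∀ a : F, ∃ b c, eU hK a b c ∈ V := by
    intro a
    by_cases ha : a = 0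
    · exact ⟨0, 0, by rw [ha, eU_zero]; exact one_mem _⟩
    · obtain ⟨s, hs⟩ := weight_surj hK 6 (Or.inl rfl) (Units.mk0 (a / t) (div_ne_zero ha ht))
      obtain ⟨U, W, e, -, -⟩ := eU_conj hK s t u v
      refine ⟨U, W, ?_⟩
      have := hN s _ hx
      rw [e] at this
      have hs' : (wt G2Data.tab F (par m s) 6 : F) = a / t := congrArg Units.val hs
      rwa [hs', div_mul_cancel₀ _ ht] at this
  -- a commutator with nonzero second coordinate
  obtain ⟨t', ht'⟩ : ∃ t' : F, t' ^ 3 ^ m ≠ t' := by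
    by_contra hall
    push Not at hall
    have hfr : ∀ a : F, a ^ 3 = a := fun a => by
      have h := theta_sq hK a
      rw [hall a, pow_mul', hall] at h
      exact h
    obtain ⟨s, hs⟩ := IsCyclic.exists_ofOrder_eq_natCard (α := Fˣ)
    have h2 : s ^ 2 = 1 := by
      have h3 : s ^ 3 = s := Units.ext (by simpa using hfr s)
      have h4 : s * s ^ 2 = s * 1 := by rw [mul_one, ← pow_succ']; exact h3
      exact mul_left_cancel h4
    have h5 := Nat.le_of_dvd two_pos (orderOf_dvd_of_pow_eq_one h2)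
    rw [hs, Nat.card_units, Nat.card_eq_fintype_card, hK] at h5
    have := Nat.pow_le_pow_right (show 1 ≤ 3 by norm_num) (show 3 ≤ 2 * m + 1 by omega)
    omega
  obtain ⟨b₁, c₁, h₁⟩ := hT 1
  obtain ⟨b₂, c₂, h₂⟩ := hT t'
  obtain ⟨U₁₂, W₁₂, e₁₂, hU₁₂, -⟩ := eU_mul hK 1 b₁ c₁ t' b₂ c₂
  obtain ⟨U₂₁, W₂₁, e₂₁, hU₂₁, -⟩ := eU_mul hK t' b₂ c₂ 1 b₁ c₁
  obtain ⟨Td, Ud, Wd, ed⟩ := exists_eU hK (hV (mul_mem (inv_mem (mul_mem h₂ h₁)) (mul_mem h₁ h₂)))
  have hd : eU hK Td Ud Wd ∈ V := by rw [← ed]; exact mul_mem (inv_mem (mul_mem h₂ h₁)) (mul_mem h₁ h₂)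
  have hmul : eU hK (t' + 1) U₂₁ W₂₁ * eU hK Td Ud Wd = eU hK (1 + t') U₁₂ W₁₂ := by
    rw [← ed, ← e₂₁, ← e₁₂]; group
  obtain ⟨U', W', e', hU', -⟩ := eU_mul hK (t' + 1) U₂₁ W₂₁ Td Ud Wd
  obtain ⟨hTd, hUU, -⟩ := uF_inj (congrArg Subtype.val (e'.symm.trans hmul))
  have hTd0 : Td = 0 := by linear_combination hTd
  subst hTd0
  have hUd : Ud ≠ 0 := by
    intro h
    rw [hUU, hU₁₂, hU₂₁, h, h0, zero_mul, one_pow] at hU'
    exact ht' (by linear_combination hU')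
  -- second coordinate on the kernel of the first
  have hUc : ∀ a : F, ∃ c, eU hK 0 a c ∈ V := by
    intro a
    by_cases ha : a = 0
    · exact ⟨0, by rw [ha, eU_zero]; exact one_mem _⟩
    · obtain ⟨s, hs⟩ := weight_eight hK (Units.mk0 (a ^ 3 ^ m / Ud ^ 3 ^ m)
        (div_ne_zero (pow_ne_zero _ ha) (pow_ne_zero _ hUd)))
      obtain ⟨U, W, e, hU, -⟩ := eU_conj hK s 0 Ud Wd
      have hmem := hN s _ hd
      rw [e, mul_zero] at hmem
      rcases hs with hs | hs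
      · have hs' : (wt G2Data.tab F (par m s) 8 : F) = a ^ 3 ^ m / Ud ^ 3 ^ m := congrArg Units.val hs
        rw [hs', div_mul_cancel₀ _ (pow_ne_zero _ hUd)] at hU
        exact ⟨W, by rwa [show U = a from hinj hU] at hmem⟩
      · have hs' : (wt G2Data.tab F (par m s) 8 : F) = -(a ^ 3 ^ m / Ud ^ 3 ^ m) := by
          simpa [wHom] using congrArg Units.val hs
        rw [hs', neg_mul, div_mul_cancel₀ _ (pow_ne_zero _ hUd)] at hU
        have hinv := inv_mem hmem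
        obtain ⟨T, b, c, e2⟩ := exists_eU hK (inv_mem (eU_mem hK 0 U W))
        rw [e2] at hinv
        obtain ⟨U'', W'', e3, hU'', -⟩ := eU_mul hK 0 U W T b c
        have h1 : eU hK (0 + T) U'' W'' = eU hK 0 0 0 := by rw [← e3, ← e2, mul_inv_cancel, eU_zero]
        obtain ⟨hT0, hU0, -⟩ := uF_inj (congrArg Subtype.val h1)
        rw [zero_add] at hT0
        subst hT0
        rw [hU0, h0, hU, zero_mul, sub_zero] at hU''
        exact ⟨c, by rwa [show b = a from hinj (show b ^ 3 ^ m = a ^ 3 ^ m by linear_combination -hU'')] at hinv⟩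
  -- third coordinate
  obtain ⟨c, hc⟩ := hUc 1
  obtain ⟨b₃, c₃, h₃⟩ := hT 1
  obtain ⟨Ua, Wa, ea, hUa, hWa⟩ := eU_mul hK 1 b₃ c₃ 0 1 c
  obtain ⟨Ub, Wb, eb, hUb, hWb⟩ := eU_mul hK 0 1 c 1 b₃ c₃
  obtain ⟨Tz, Uz, Wz, ez⟩ := exists_eU hK (hV (mul_mem (inv_mem (mul_mem hc h₃)) (mul_mem h₃ hc)))
  have hz : eU hK Tz Uz Wz ∈ V := by rw [← ez]; exact mul_mem (inv_mem (mul_mem hc h₃)) (mul_mem h₃ hc)
  have hmulz : eU hK (0 + 1) Ub Wb * eU hK Tz Uz Wz = eU hK (1 + 0) Ua Wa := by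
    rw [← ez, ← eb, ← ea]; group
  obtain ⟨U', W', e', hU', hW'⟩ := eU_mul hK (0 + 1) Ub Wb Tz Uz Wz
  obtain ⟨hTz, hUU, hWW⟩ := uF_inj (congrArg Subtype.val (e'.symm.trans hmulz))
  have hTz0 : Tz = 0 := by linear_combination hTz
  subst hTz0
  rw [hUU, hUa, hUb] at hU'
  rw [hWW, hWa, hWb] at hW'
  simp only [h0, one_pow, zero_mul, mul_zero, sub_zero, zero_pow, ne_eq, OfNat.ofNat_ne_zero, not_false_iff,
    one_mul, mul_one] at hU' hW'
  have hUz : Uz = 0 := hinj (show Uz ^ 3 ^ m = 0 ^ 3 ^ m by rw [h0]; linear_combination -hU')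
  subst hUz
  have hWz : Wz ≠ 0 := fun h => one_ne_zero (α := F) (by rw [h, h0] at hW'; linear_combination hW')
  have hW : ∀ a : F, eU hK 0 0 a ∈ V := by
    intro a
    by_cases ha : a = 0
    · rw [ha, eU_zero]; exact one_mem _
    · obtain ⟨s, hs⟩ := weight_surj hK 9 (Or.inr rfl) (Units.mk0 (a ^ 3 ^ m / Wz ^ 3 ^ m)
        (div_ne_zero (pow_ne_zero _ ha) (pow_ne_zero _ hWz)))
      obtain ⟨U, W, e, hU, hW⟩ := eU_conj hK s 0 0 Wz
      have hmem := hN s _ hz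
      rw [e, mul_zero] at hmem
      have hs' : (wt G2Data.tab F (par m s) 9 : F) = a ^ 3 ^ m / Wz ^ 3 ^ m := congrArg Units.val hs
      rw [hs', div_mul_cancel₀ _ (pow_ne_zero _ hWz)] at hW
      rw [h0, mul_zero] at hU
      rwa [show U = 0 from hinj (show U ^ 3 ^ m = 0 ^ 3 ^ m by rw [hU, h0]),
        show W = a from hinj hW] at hmem
  -- assemble
  intro x hxU
  obtain ⟨T, U, W, rfl⟩ := exists_eU hK hxU
  obtain ⟨b, c, hb⟩ := hT T
  obtain ⟨T1, U1, W1, e1⟩ := exists_eU hK (mul_mem (inv_mem (hV hb)) hxU)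
  have hT1 : T1 = 0 := by
    obtain ⟨U2, W2, e2, -, -⟩ := eU_mul hK T b c T1 U1 W1
    rw [← e1, mul_inv_cancel_left] at e2
    have := (uF_inj (congrArg Subtype.val e2)).1
    linear_combination -this
  subst hT1
  obtain ⟨c', hc'⟩ := hUc U1
  obtain ⟨T3, U3, W3, e3⟩ := exists_eU hK (mul_mem (inv_mem (hV hc')) (eU_mem hK 0 U1 W1))
  obtain ⟨U4, W4, e4, hU4, -⟩ := eU_mul hK 0 U1 c' T3 U3 W3
  rw [← e3, mul_inv_cancel_left] at e4
  obtain ⟨hT3, hU34, -⟩ := uF_inj (congrArg Subtype.val e4)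
  have hT30 : T3 = 0 := by linear_combination -hT3
  subst hT30
  rw [← hU34, zero_mul, sub_zero] at hU4
  have hU30 : U3 = 0 := hinj (show U3 ^ 3 ^ m = 0 ^ 3 ^ m by rw [h0]; linear_combination -hU4)
  subst hU30
  have h : eU hK T U W = eU hK T b c * (eU hK 0 U1 c' * eU hK 0 0 W3) := by
    rw [← e3, mul_inv_cancel_left, ← e1, mul_inv_cancel_left]
  rw [h]
  exact mul_mem hb (mul_mem hc' (hW _))

include hK in
theorem two_generated (hm : 1 ≤ m) :
    ∃ a b : Gr F m, Subgroup.closure ({a, b} : Set (Gr F m)) = ⊤ := by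
  obtain ⟨s, hs⟩ := IsCyclic.exists_generator (α := Fˣ)
  set a := Hh hK s with ha
  set u := eU hK 1 0 0 with hu
  set b := mG hK * u with hb
  refine ⟨a, b, ?_⟩
  set S := Subgroup.closure ({a, b} : Set (Gr F m))
  have haS : a ∈ S := Subgroup.subset_closure (Or.inl rfl)
  have hbS : b ∈ S := Subgroup.subset_closure (Or.inr rfl)
  have hHS : ∀ r, Hh hK r ∈ S := fun r => by
    obtain ⟨i, rfl⟩ := Subgroup.mem_zpowers_iff.1 (hs r)
    rw [map_zpow]; exact zpow_mem haS i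
  set c := a * (b⁻¹ * a * b) with hc
  have hcS : c ∈ S := mul_mem haS (mul_mem (mul_mem (inv_mem hbS) haS) hbS)
  have hce : c = a * u⁻¹ * a⁻¹ * u := by
    rw [hc, hb, show a * ((mG hK * u)⁻¹ * a * (mG hK * u)) = a * (u⁻¹ * ((mG hK)⁻¹ * a * mG hK) * u) by group,
      ha, mG_conj, map_inv]
    group
  have hcU : c ∈ UG F m := by
    rw [hce]; exact mul_mem (conj_mem_UG (Hh_mem_B1 hK s) (inv_mem (eU_mem hK _ _ _))) (eU_mem hK _ _ _)
  obtain ⟨t, p, v, hct⟩ := exists_eU hK hcU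
  have ht : t ≠ 0 := by
    intro h0
    subst h0
    obtain ⟨U1, W1, e1, -, -⟩ := eU_conj hK s 1 0 0
    have he : a * u * a⁻¹ * c = u := by rw [hce]; group
    rw [show a * u * a⁻¹ = _ from e1, hct] at he
    obtain ⟨U2, W2, e2, -, -⟩ := eU_mul hK ((wt G2Data.tab F (par m s) 6 : F) * 1) U1 W1 0 p v
    have h := (uF_inj (congrArg Subtype.val (e2.symm.trans he))).1
    rw [add_zero, mul_one] at h
    have hs1 : s = 1 := weight_inj hK 6 (Or.inl rfl)
      ((show wHom F m 6 s = 1 from Units.ext h).trans (map_one _).symm)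
    obtain ⟨i, hi⟩ := Subgroup.mem_zpowers_iff.1 (hs (-1))
    rw [hs1, one_zpow] at hi
    exact neg_one_ne (F := F) (by simpa using congrArg Units.val hi.symm)
  have hU : UG F m ≤ S ⊓ UG F m := full_of_normalised hK hm inf_le_right
    (fun r x hx => ⟨(mul_mem (mul_mem (hHS r) (Subgroup.mem_inf.1 hx).1) (inv_mem (hHS r)) : _ ∈ S), conj_mem_UG (Hh_mem_B1 hK r) (Subgroup.mem_inf.1 hx).2⟩)
    ht (u := p) (v := v) (hct ▸ ⟨hcS, hcU⟩)
  have hUS : UG F m ≤ S := hU.trans inf_le_left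
  have hmS : mG hK ∈ S := by
    have := mul_mem hbS (inv_mem (hUS (eU_mem hK 1 0 0)))
    rwa [hb, mul_inv_cancel_right] at this
  have hBS : B1 F m ≤ S := fun g hg => by
    obtain ⟨w, hw, r, rfl⟩ := exists_split hK hg
    exact mul_mem (hUS hw) (hHS r)
  refine eq_top_iff.2 fun g _ => ?_
  rcases exists_bruhat hK g with h | ⟨w, hw, d, hd, rfl⟩
  · exact hBS h
  · exact mul_mem (mul_mem (hUS hw) hmS) (hBS hd)

end Cfsg.Agent.Chev.Ree
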