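import Cfsg.Agent.Lib.Lie.Ree11

/-!
# Solvable subgroups of the small Ree groups
-/

set_option autoImplicit false

namespace Cfsg.Agent.Chev.Ree

open Cfsg.Lie TwG2 Tab ReeTorus

variable {F : Type*} [Field F] [CharP F 3] [Fintype F] {m : ℕ} (hK : Fintype.card F = 3 ^ (2 * m + 1))

local notation "P" => Matrix.ProjectiveSpecialLinearGroup (Fin 2) F

/-- a solvable subgroup has a normalised abelian subgroup of prime exponent -/
theorem exists_prime_layer {G : Type*} [Group G] [Finite G] {S : Subgroup G} (hS : Group.IsSolvable S)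
    (hne : S ≠ ⊥) : ∃ (p : ℕ) (V : Subgroup G), p.Prime ∧ V ≠ ⊥ ∧
      (∀ x ∈ V, x ^ p = 1) ∧ S ≤ Subgroup.normalizer (V : Set G) := by
  classical
  obtain ⟨n, hn⟩ := hS.solvable
  haveI : Nontrivial S := (Subgroup.nontrivial_iff_ne_bot S).2 hne
  have h0 : derivedSeries S 0 ≠ ⊥ := by
    rw [derivedSeries_zero]; exact top_ne_bot
  have hex : ∃ i, derivedSeries S i ≠ ⊥ ∧ derivedSeries S (i + 1) = ⊥ := by
    by_contra h
    push Not at h
    have : ∀ i, derivedSeries S i ≠ ⊥ := fun i => by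
      induction i with
      | zero => exact h0
      | succ i ih => exact h i ih
    exact this n hn
  obtain ⟨i, hi, hi1⟩ := hex
  set A := derivedSeries S i
  rw [derivedSeries_succ, Subgroup.commutator_eq_bot_iff_le_centralizer] at hi1
  have hcomm : ∀ a ∈ A, ∀ b ∈ A, a * b = b * a := fun a ha b hb =>
    (Subgroup.mem_centralizer_iff.1 (hi1 ha) b hb).symm
  obtain ⟨a, ha, ha1⟩ := (Subgroup.nontrivial_iff_exists_ne_one A).1 ((Subgroup.nontrivial_iff_ne_bot A).2 hi)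
  obtain ⟨p, hp, hpd⟩ := Nat.exists_prime_and_dvd (n := orderOf a) (fun h => ha1 (orderOf_eq_one_iff.1 h))
  let W : Subgroup S :=
    { carrier := {x | x ∈ A ∧ x ^ p = 1}
      one_mem' := ⟨one_mem _, one_pow _⟩
      mul_mem' := fun {x y} hx hy => ⟨mul_mem hx.1 hy.1, by
        rw [Commute.mul_pow (hcomm x hx.1 y hy.1), hx.2, hy.2, one_mul]⟩
      inv_mem' := fun {x} hx => ⟨inv_mem hx.1, by rw [inv_pow, hx.2, inv_one]⟩ }
  haveI : W.Normal := ⟨fun x hx g =>
    ⟨(derivedSeries_normal S i).conj_mem x hx.1 g, by rw [conj_pow, hx.2, mul_one, mul_inv_cancel]⟩⟩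
  refine ⟨p, W.map S.subtype, hp, ?_, ?_, ?_⟩
  · intro h
    rw [Subgroup.map_eq_bot_iff_of_injective _ S.subtype_injective] at h
    have hw : a ^ (orderOf a / p) ∈ W :=
      ⟨pow_mem ha _, by rw [← pow_mul, Nat.div_mul_cancel hpd, pow_orderOf_eq_one]⟩
    rw [h, Subgroup.mem_bot] at hw
    have := orderOf_pow_orderOf_div (orderOf_pos a).ne' hpd
    rw [hw, orderOf_one] at this
    exact hp.one_lt.ne this
  · rintro _ ⟨x, hx, rfl⟩
    rw [← map_pow, hx.2, map_one]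
  · intro s hs
    refine Subgroup.mem_normalizer_iff.2 fun x => ⟨?_, ?_⟩
    · rintro ⟨y, hy, rfl⟩
      exact ⟨⟨s, hs⟩ * y * ⟨s, hs⟩⁻¹, Subgroup.Normal.conj_mem inferInstance y hy _, rfl⟩
    · rintro ⟨y, hy, e⟩
      refine ⟨⟨s, hs⟩⁻¹ * y * ⟨s, hs⟩, ?_, ?_⟩
      · have := Subgroup.Normal.conj_mem (inferInstance : W.Normal) y hy (⟨s, hs⟩⁻¹)
        rwa [inv_inv] at this
      · show s⁻¹ * (y : G) * s = x
        rw [show (y : G) = s * x * s⁻¹ from e]; group

/-- `S` lies in the normaliser of one of the standard local subgroups -/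
def Good (S : Subgroup (Gr F m)) : Prop :=
  ∃ A : Subgroup (Gr F m), S ≤ Subgroup.normalizer (A : Set (Gr F m)) ∧
      ((∃ Q : Sylow 2 (Gr F m), A = Q) ∨
       (∃ Q : Sylow 3 (Gr F m), A = Q) ∨
       (IsCyclic A ∧ (Nat.card A = (3 ^ (2 * m + 1) - 1) / 2 ∨ Nat.card A = (3 ^ (2 * m + 1) + 1) / 4 ∨
          Nat.card A = 3 ^ (2 * m + 1) - 3 ^ (m + 1) + 1 ∨ Nat.card A = 3 ^ (2 * m + 1) + 3 ^ (m + 1) + 1)))

theorem conj_le_normalizer {G : Type*} [Group G] {S V : Subgroup G} (h : S ≤ Subgroup.normalizer (V : Set G))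
    (c : G) : S.map (MulAut.conj c).toMonoidHom ≤
      Subgroup.normalizer ((V.map (MulAut.conj c).toMonoidHom : Subgroup G) : Set G) := by
  rintro _ ⟨s, hs, rfl⟩
  refine Subgroup.mem_normalizer_iff.2 fun x => ?_
  simp only [Subgroup.mem_map_equiv]
  rw [Subgroup.mem_normalizer_iff.1 (h hs) ((MulAut.conj c).symm x)]
  simp [mul_assoc]

theorem map_conj_inv {G : Type*} [Group G] (S : Subgroup G) (c : G) :
    (S.map (MulAut.conj c).toMonoidHom).map (MulAut.conj c⁻¹).toMonoidHom = S := by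
  rw [Subgroup.map_map]
  convert Subgroup.map_id S
  ext x; simp [mul_assoc]

theorem good_conj {S : Subgroup (Gr F m)} {c : Gr F m} (h : Good (S.map (MulAut.conj c).toMonoidHom)) :
    Good S := by
  obtain ⟨A, hA, hcase⟩ := h
  refine ⟨A.map (MulAut.conj c⁻¹).toMonoidHom, ?_, ?_⟩
  · have := conj_le_normalizer hA c⁻¹
    rwa [map_conj_inv] at this
  · rcases hcase with ⟨Q, rfl⟩ | ⟨Q, rfl⟩ | ⟨hc, hcard⟩
    · exact Or.inl ⟨c⁻¹ • Q, by rw [Sylow.coe_subgroup_smul]; rfl⟩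
    · exact Or.inr (Or.inl ⟨c⁻¹ • Q, by rw [Sylow.coe_subgroup_smul]; rfl⟩)
    · refine Or.inr (Or.inr ⟨isCyclic_of_surjective (Subgroup.equivMapOfInjective A _ (MulAut.conj c⁻¹).injective).toMonoidHom
        (MulEquiv.surjective _), ?_⟩)
      rwa [← Nat.card_congr (Subgroup.equivMapOfInjective A _ (MulAut.conj c⁻¹).injective).toEquiv]

include hK in
theorem good_odd (hm : 1 ≤ m) {S V : Subgroup (Gr F m)} {p : ℕ} (hp : p.Prime) (hp2 : p ≠ 2)
    (hV : V ≠ ⊥) (hexp : ∀ x ∈ V, x ^ p = 1) (hS : S ≤ Subgroup.normalizer (V : Set (Gr F m))) : Good S := by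
  haveI : Fact p.Prime := ⟨hp⟩
  have hVp : IsPGroup p V := fun x => ⟨1, by rw [pow_one]; exact Subtype.ext (hexp x x.2)⟩
  obtain ⟨y, hy, hy1⟩ := (Subgroup.nontrivial_iff_exists_ne_one V).1 ((Subgroup.nontrivial_iff_ne_bot V).2 hV)
  have hpd : p ∣ Nat.card (Gr F m) := by
    have : orderOf y = p := orderOf_eq_prime (hexp y hy) hy1
    exact this ▸ orderOf_dvd_natCard y
  have hin : ∀ {A C : Subgroup (Gr F m)}, Tor A C → Nat.Coprime (Nat.card A) A.index → p ∣ Nat.card A →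
      ∃ A' : Subgroup (Gr F m), IsCyclic A' ∧ Nat.card A' = Nat.card A ∧
        S ≤ Subgroup.normalizer (A' : Set (Gr F m)) := by
    intro A C hA hall hd
    obtain ⟨c, hc⟩ := exists_conj_mem_hall hall hd hVp
    refine ⟨A.map (MulAut.conj c).toMonoidHom, (hA.map_conj c).cyc,
      (Nat.card_congr (Subgroup.equivMapOfInjective A _ (MulAut.conj c).injective).toEquiv).symm, ?_⟩
    rw [← (hA.map_conj c).normalizer_eq (A0 := V) (fun x hx => ?_) hV]
    · exact hS
    · rw [Subgroup.mem_map_equiv]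
      simpa [mul_assoc] using hc x hx
  rcases prime_cases hK hp hpd with e | e | e | e | e
  · exact absurd e hp2
  · subst e
    obtain ⟨S3, hS3⟩ := sylow_three hK
    obtain ⟨Q, hQ⟩ := hVp.exists_le_sylow
    obtain ⟨c, hc⟩ := MulAction.exists_smul_eq (Gr F m) Q S3
    refine good_conj (c := c) ⟨UG F m, ?_, Or.inr (Or.inl ⟨S3, hS3.symm⟩)⟩
    have hVU : ∀ x ∈ V, c * x * c⁻¹ ∈ UG F m := fun x hx => by
      show c * x * c⁻¹ ∈ (G2Data.tab.D.posUnipotent F ⊓ tw F (3 ^ m)).subgroupOf (tw F (3 ^ m))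
      rw [← hS3, ← hc, Sylow.coe_subgroup_smul]
      exact Subgroup.mem_map_of_mem _ (hQ hx)
    rintro _ ⟨s, hs, rfl⟩
    have h1 : ((c * s * c⁻¹)⁻¹)⁻¹ * (c * y * c⁻¹) * (c * s * c⁻¹)⁻¹ ∈ B1 F m := by
      have h := UG_le_B1 (hVU _ ((Subgroup.mem_normalizer_iff.1 (hS hs) y).1 hy))
      convert h using 1
      group
    have hn : c * s * c⁻¹ ∈ B1 F m := by
      have := inv_mem (three_local hK (hVU y hy) (fun e => hy1 (conj_eq_one_iff.1 e)) h1)
      rwa [inv_inv] at this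
    refine Subgroup.mem_normalizer_iff.2 fun x => ⟨fun hx => conj_mem_UG hn hx, fun hx => ?_⟩
    have := conj_mem_UG (inv_mem hn) hx
    simpa [mul_assoc] using this
  · obtain ⟨A, hA, hc, hn⟩ := hin (tor_AH hK) (hall_AH hK) (by rwa [card_AH])
    exact ⟨A, hn, Or.inr (Or.inr ⟨hA, Or.inl (by rw [hc, card_AH])⟩)⟩
  · obtain ⟨A, hA, hc, hn⟩ := hin (tor_TT hK hm) (hall_TT hK) (by rwa [card_TT'])
    exact ⟨A, hn, Or.inr (Or.inr ⟨hA, Or.inr (Or.inl (by rw [hc, card_TT']))⟩)⟩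
  · obtain ⟨A, B, hA, hB, cA, cB, -, -, hAB⟩ := two_classes hK hm
    rw [← hAB, Nat.Prime.dvd_mul hp] at e
    rcases e with e | e
    · obtain ⟨A', hA', hc, hn⟩ := hin hA.tor hA.hall e
      exact ⟨A', hn, Or.inr (Or.inr ⟨hA', Or.inr (Or.inr (Or.inl (by rw [hc, cA])))⟩)⟩
    · obtain ⟨A', hA', hc, hn⟩ := hin hB.tor hB.hall e
      exact ⟨A', hn, Or.inr (Or.inr ⟨hA', Or.inr (Or.inr (Or.inr (by rw [hc, cB])))⟩)⟩

include hK in
theorem good_two (hm : 1 ≤ m) {S V : Subgroup (Gr F m)} (hexp : ∀ x ∈ V, x ^ 2 = 1) (h4 : 4 ≤ Nat.card V)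
    (hS : S ≤ Subgroup.normalizer (V : Set (Gr F m))) : Good S := by
  haveI : Fact (Nat.Prime 2) := ⟨Nat.prime_two⟩
  have hVp : IsPGroup 2 V := fun x => ⟨1, by rw [pow_one]; exact Subtype.ext (hexp x x.2)⟩
  obtain ⟨-, -, hd⟩ := two_le_S0 hK hVp
  have hmem : Nat.card V ∈ Nat.divisors 8 := Nat.mem_divisors.2 ⟨hd, by norm_num⟩
  rw [show Nat.divisors 8 = {1, 2, 4, 8} by decide] at hmem
  simp only [Finset.mem_insert, Finset.mem_singleton] at hmem
  have hcard : Nat.card V = 4 ∨ Nat.card V = 8 := by omega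
  rcases hcard with h | h
  swap
  · exact ⟨V, hS, Or.inl ⟨Sylow.ofCard V (by rw [h, card_two_part hK]; norm_num), rfl⟩⟩
  haveI : Nontrivial V := Finite.one_lt_card_iff_nontrivial.1 (by omega)
  obtain ⟨z, hz, hz1⟩ := (Subgroup.nontrivial_iff_exists_ne_one V).1 inferInstance
  obtain ⟨c, hc⟩ := invol_conj hK hm (by rw [← pow_two]; exact hexp z hz) hz1
  set V' := V.map (MulAut.conj c).toMonoidHom
  have hcard' : Nat.card V' = 4 := by
    rw [← h]; exact (Nat.card_congr (Subgroup.equivMapOfInjective V _ (MulAut.conj c).injective).toEquiv).symm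
  have ha : a0 hK ∈ V' := hc ▸ Subgroup.mem_map_of_mem _ hz
  have hexp' : ∀ x ∈ V', x ^ 2 = 1 := by
    rintro _ ⟨x, hx, rfl⟩; rw [← map_pow, hexp x hx, map_one]
  obtain ⟨w, hw, hw1, hwa⟩ : ∃ w ∈ V', w ≠ 1 ∧ w ≠ a0 hK := by
    by_contra hno
    push Not at hno
    have hle : (V' : Set (Gr F m)) ⊆ {1, a0 hK} := fun x hx => by
      by_cases hx1 : x = 1
      · exact Or.inl hx1
      · exact Or.inr (hno x hx hx1)
    have := Set.ncard_le_ncard hle
    rw [← Nat.card_coe_set_eq, SetLike.coe_sort_coe, hcard', Set.ncard_pair (a0_ne hK).symm] at this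
    omega
  have hwc : w * a0 hK = a0 hK * w := by
    have e1 := hexp' _ (mul_mem ha hw)
    have ea := hexp' _ ha
    have ew := hexp' _ hw
    rw [pow_two] at e1 ea ew
    have := inv_eq_of_mul_eq_one_right e1
    rw [_root_.mul_inv_rev, inv_eq_of_mul_eq_one_right ea, inv_eq_of_mul_eq_one_right ew] at this
    exact this
  obtain ⟨p, hp⟩ := cent_a0 hK hwc
  have hp1 : p ≠ 1 := by
    rintro rfl
    rcases hp with e | e
    · exact hw1 (by rw [e, map_one])
    · exact hwa (by rw [e, map_one, mul_one])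
  have hpV : phi hK p ∈ V' := by
    rcases hp with e | e
    · exact e ▸ hw
    · have := mul_mem ha hw
      rwa [e, ← mul_assoc, a0_sq, one_mul] at this
  have hpp : p * p = 1 := phi_injective hK (by
    rw [map_mul, map_one, ← pow_two]; exact hexp' _ hpV)
  obtain ⟨d, hd'⟩ := isConj_iff.1 (ReePSL.isConj_t (card_mod' hK) hpp hp1)
  refine good_conj (c := c) (good_conj (c := (phi hK d)⁻¹) ?_)
  set V'' := V'.map (MulAut.conj (phi hK d)⁻¹).toMonoidHom
  have hS'' : (S.map (MulAut.conj c).toMonoidHom).map (MulAut.conj (phi hK d)⁻¹).toMonoidHom ≤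
      Subgroup.normalizer (V'' : Set (Gr F m)) := conj_le_normalizer (conj_le_normalizer hS c) (phi hK d)⁻¹
  have hE : E0 hK ≤ V'' := by
    have ha' : a0 hK ∈ V'' := by
      refine ⟨a0 hK, ha, ?_⟩
      show (phi hK d)⁻¹ * a0 hK * ((phi hK d)⁻¹)⁻¹ = a0 hK
      rw [inv_inv, mul_assoc, phi_comm, inv_mul_cancel_left]
    have ht' : t0 hK ∈ V'' := by
      refine ⟨phi hK p, hpV, ?_⟩
      show (phi hK d)⁻¹ * phi hK p * ((phi hK d)⁻¹)⁻¹ = t0 hK
      rw [inv_inv, ← map_inv, ← map_mul, ← map_mul, ← hd', t0]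
      congr 1
      group
    intro e he
    rcases (mem_E0 hK).1 he with rfl | rfl | rfl | rfl
    exacts [one_mem _, ha', ht', mul_mem ha' ht']
  have heq : E0 hK = V'' := Subgroup.eq_of_le_of_card_ge hE (by
    rw [card_E0, ← hcard']
    exact le_of_eq (Nat.card_congr (Subgroup.equivMapOfInjective V' _ (MulAut.conj (phi hK d)⁻¹).injective).toEquiv).symm)
  rw [← heq] at hS''
  refine ⟨TT hK, fun n hn => ?_, Or.inr (Or.inr ⟨isCyclic_TT hK, Or.inr (Or.inl (card_TT' hK))⟩)⟩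
  have hn' := hS'' hn
  have hCE : ∀ n ∈ Subgroup.normalizer (E0 hK : Set (Gr F m)), ∀ x ∈ TT hK, n * x * n⁻¹ ∈ TT hK := by
    intro n hn x hx
    refine odd_CE_mem hK hm ((mem_CE hK).2 ?_) ?_
    · have key : ∀ e ∈ E0 hK, n * x * n⁻¹ * e = e * (n * x * n⁻¹) := fun e he => by
        have hb : n⁻¹ * e * n ∈ E0 hK := (Subgroup.mem_normalizer_iff''.1 hn e).1 he
        calc n * x * n⁻¹ * e = n * (x * (n⁻¹ * e * n)) * n⁻¹ := by group
          _ = n * ((n⁻¹ * e * n) * x) * n⁻¹ := by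
            rw [comm_QT hK (TT_le_QT hK hx) (E0_le_QT hK hb)]
          _ = e * (n * x * n⁻¹) := by group
      exact ⟨key _ ((mem_E0 hK).2 (Or.inr (Or.inl rfl))), key _ ((mem_E0 hK).2 (Or.inr (Or.inr (Or.inl rfl))))⟩
    · rw [show orderOf (n * x * n⁻¹) = orderOf x from (MulAut.conj n).orderOf_eq x]
      exact odd_orderOf_TT hK hx
  refine Subgroup.mem_normalizer_iff.2 fun x => ⟨hCE n hn' x, fun hx => ?_⟩
  have := hCE _ (inv_mem hn') _ hx
  simpa [mul_assoc] using this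

include hK in
theorem good_cent_a0 (hm : 1 ≤ m) {S : Subgroup (Gr F m)} (hS : Group.IsSolvable S)
    (hC : ∀ g ∈ S, g * a0 hK = a0 hK * g) : Good S := by
  haveI : Fact (Nat.Prime 2) := ⟨Nat.prime_two⟩
  choose pr hpr using fun g : S => cent_a0 hK (hC g g.2)
  have huniq : ∀ (g : Gr F m) (a b : P), (g = phi hK a ∨ g = a0 hK * phi hK a) →
      (g = phi hK b ∨ g = a0 hK * phi hK b) → a = b := by
    rintro g a b (rfl | rfl) (e | e)
    · exact phi_injective hK e
    · exact absurd (show phi hK (a * b⁻¹) = a0 hK by rw [map_mul, e, map_inv, mul_inv_cancel_right]) (phi_ne hK _)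
    · exact absurd (show phi hK (b * a⁻¹) = a0 hK by rw [map_mul, ← e, map_inv, mul_inv_cancel_right]) (phi_ne hK _)
    · exact phi_injective hK (mul_left_cancel e)
  let π : S →* P := MonoidHom.mk' pr (fun x y => huniq _ _ _ (hpr (x * y)) (by
    rw [Subgroup.coe_mul]
    rcases hpr x with hx | hx <;> rcases hpr y with hy | hy <;> rw [hx, hy]
    · exact Or.inl (map_mul _ _ _).symm
    · exact Or.inr (by rw [map_mul, ← mul_assoc, ← phi_comm, mul_assoc])
    · exact Or.inr (by rw [map_mul, mul_assoc])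
    · exact Or.inl (by
        rw [map_mul, mul_assoc, ← mul_assoc (phi hK (pr x)), ← phi_comm, ← mul_assoc, ← mul_assoc, a0_sq, one_mul])))
  by_cases hbot : π.range = ⊥
  · refine ⟨S0 hK, fun g hg => ?_, Or.inl ⟨S0s hK, rfl⟩⟩
    have h1 : pr ⟨g, hg⟩ = 1 := by
      have : π ⟨g, hg⟩ ∈ π.range := ⟨_, rfl⟩
      rwa [hbot, Subgroup.mem_bot] at this
    have := hpr ⟨g, hg⟩
    rw [h1, map_one, mul_one] at this
    exact Subgroup.le_normalizer (by
      rcases this with e | e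
      · exact (show g = 1 from e) ▸ one_mem _
      · exact (show g = a0 hK from e) ▸ a0_mem_Ext hK _)
  haveI := hS
  obtain ⟨r, W, hr, hW, hexp, hn⟩ := exists_prime_layer
    (Group.isSolvable_of_surjective (f := π.rangeRestrict) π.rangeRestrict_surjective) hbot
  have hconj : ∀ g ∈ S, ∃ p ∈ Subgroup.normalizer (W : Set P), ∀ q : P,
      g * phi hK q * g⁻¹ = phi hK (p * q * p⁻¹) ∧ g * (a0 hK * phi hK q) * g⁻¹ = a0 hK * phi hK (p * q * p⁻¹) := by
    intro g hg
    refine ⟨pr ⟨g, hg⟩, hn ⟨⟨g, hg⟩, rfl⟩, fun q => ?_⟩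
    have h1 : g * phi hK q * g⁻¹ = phi hK (pr ⟨g, hg⟩ * q * (pr ⟨g, hg⟩)⁻¹) := by
      rw [map_mul, map_mul, map_inv]
      rcases hpr ⟨g, hg⟩ with e | e
      · rw [← show g = _ from e]
      · conv_lhs => rw [show g = _ from e]
        rw [show ∀ a p q : Gr F m, a * p * q * (a * p)⁻¹ = a * (p * q * p⁻¹) * a⁻¹ from fun a p q => by group,
          ← map_inv, ← map_mul, ← map_mul, phi_comm, mul_inv_cancel_right]
    refine ⟨h1, ?_⟩
    rw [show g * (a0 hK * phi hK q) * g⁻¹ = (g * a0 hK * g⁻¹) * (g * phi hK q * g⁻¹) by group, h1,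
      hC g hg, mul_inv_cancel_right]
  by_cases hr2 : r = 2
  · subst hr2
    refine good_two hK hm (V := Ext hK W) ?_ ?_ (fun g hg => ?_)
    · rintro x ⟨w, hw, rfl | rfl⟩
      · rw [← map_pow, hexp w hw, map_one]
      · rw [Commute.mul_pow (phi_comm hK w), ← map_pow, hexp w hw, map_one, mul_one, pow_two, a0_sq]
    · rw [card_Ext]
      haveI := (Subgroup.nontrivial_iff_ne_bot W).2 hW
      have := Finite.one_lt_card (α := W)
      omega
    · obtain ⟨p, hp, hq⟩ := hconj g hg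
      refine Subgroup.mem_normalizer_iff.2 fun x => ⟨?_, ?_⟩
      · rintro ⟨w, hw, rfl | rfl⟩
        · exact ⟨_, (Subgroup.mem_normalizer_iff.1 hp w).1 hw, Or.inl (hq w).1⟩
        · exact ⟨_, (Subgroup.mem_normalizer_iff.1 hp w).1 hw, Or.inr (hq w).2⟩
      · rintro ⟨w, hw, e | e⟩
        · refine ⟨p⁻¹ * w * p, ?_, Or.inl ?_⟩
          · exact (Subgroup.mem_normalizer_iff''.1 hp w).1 hw
          · refine mul_left_cancel (mul_right_cancel (e.trans ?_))
            rw [(hq _).1]; congr 1; group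
        · refine ⟨p⁻¹ * w * p, ?_, Or.inr ?_⟩
          · exact (Subgroup.mem_normalizer_iff''.1 hp w).1 hw
          · refine mul_left_cancel (mul_right_cancel (e.trans ?_))
            rw [(hq _).2]; congr 2; group
  · refine good_odd hK hm hr hr2 (V := W.map (phi hK)) ?_ ?_ (fun g hg => ?_)
    · rw [Ne, Subgroup.map_eq_bot_iff_of_injective _ (phi_injective hK)]; exact hW
    · rintro _ ⟨w, hw, rfl⟩; rw [← map_pow, hexp w hw, map_one]
    · obtain ⟨p, hp, hq⟩ := hconj g hg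
      refine Subgroup.mem_normalizer_iff.2 fun x => ⟨?_, ?_⟩
      · rintro ⟨w, hw, rfl⟩
        exact ⟨_, (Subgroup.mem_normalizer_iff.1 hp w).1 hw, (hq w).1.symm⟩
      · rintro ⟨w, hw, e⟩
        refine ⟨p⁻¹ * w * p, (Subgroup.mem_normalizer_iff''.1 hp w).1 hw, ?_⟩
        refine mul_left_cancel (mul_right_cancel (((hq _).1.trans ?_).trans e))
        congr 1; group

include hK in
theorem solvable_good (hm : 1 ≤ m) (S : Subgroup (Gr F m)) (hS : Group.IsSolvable S) : Good S := by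
  haveI : Fact (Nat.Prime 2) := ⟨Nat.prime_two⟩
  by_cases hbot : S = ⊥
  · exact ⟨S0 hK, hbot ▸ bot_le, Or.inl ⟨S0s hK, rfl⟩⟩
  obtain ⟨p, V, hp, hV, hexp, hn⟩ := exists_prime_layer hS hbot
  by_cases hp2 : p = 2
  swap
  · exact good_odd hK hm hp hp2 hV hexp hn
  subst hp2
  by_cases h4 : 4 ≤ Nat.card V
  · exact good_two hK hm hexp h4 hn
  obtain ⟨z, hz, hz1⟩ := (Subgroup.nontrivial_iff_exists_ne_one V).1 ((Subgroup.nontrivial_iff_ne_bot V).2 hV)
  have hV2 : Nat.card V = 2 := by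
    have hVp : IsPGroup 2 V := fun x => ⟨1, by rw [pow_one]; exact Subtype.ext (hexp x x.2)⟩
    have h2 : 2 ∣ Nat.card V := by
      rw [← (orderOf_eq_prime (hexp z hz) hz1 : orderOf z = 2)]
      exact Subgroup.orderOf_dvd_natCard _ hz
    have := Nat.le_of_dvd Nat.card_pos h2
    omega
  obtain ⟨c, hc⟩ := invol_conj hK hm (by rw [← pow_two]; exact hexp z hz) hz1
  have hVz : ∀ x ∈ V, x ≠ 1 → x = z := fun x hx hx1 => by
    have e : Subgroup.zpowers z = V := Subgroup.eq_of_le_of_card_ge (Subgroup.zpowers_le.2 hz) (by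
      rw [Nat.card_zpowers, (orderOf_eq_prime (hexp z hz) hz1 : orderOf z = 2), hV2])
    rw [← e] at hx
    exact unique_invol hx (Subgroup.mem_zpowers z) (by rw [← pow_two]; exact hexp x (e ▸ hx))
      (by rw [← pow_two]; exact hexp z hz) hx1 hz1
  refine good_conj (c := c) (good_cent_a0 hK hm ?_ ?_)
  · haveI := hS
    exact Group.isSolvable_of_surjective (f := (Subgroup.equivMapOfInjective S _ (MulAut.conj c).injective).toMonoidHom)
      (MulEquiv.surjective _)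
  · rintro _ ⟨s, hs, rfl⟩
    have hsz : s * z * s⁻¹ = z := hVz _ ((Subgroup.mem_normalizer_iff.1 (hn hs) z).1 hz)
      (fun e => hz1 (conj_eq_one_iff.1 e))
    show c * s * c⁻¹ * a0 hK = a0 hK * (c * s * c⁻¹)
    rw [← hc]
    calc c * s * c⁻¹ * (c * z * c⁻¹) = c * (s * z * s⁻¹) * s * c⁻¹ := by group
      _ = _ := by rw [hsz]; group

end Cfsg.Agent.Chev.Ree
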