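import Mathlib

/-!
# Eigenprojections of a finite abelian group of operators
-/

set_option autoImplicit false

namespace Cfsg.Agent.ReeRep

open LinearMap

variable {W : Type*} [AddCommGroup W] [Module ℂ W] {α : Type*} [AddCommGroup α] [Fintype α]

/-- the eigenprojection of the additive character `ψ` -/
noncomputable def proj (R : AddChar α (Module.End ℂ W)) (ψ : AddChar α ℂ) : Module.End ℂ W :=
  ((Fintype.card α : ℂ)⁻¹) • ∑ a, ψ (-a) • R a

variable {R : AddChar α (Module.End ℂ W)}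

theorem mul_proj (b : α) (ψ : AddChar α ℂ) : R b * proj R ψ = ψ b • proj R ψ := by
  rw [proj, mul_smul_comm, Finset.mul_sum, smul_comm (ψ b)]
  congr 1
  rw [Finset.smul_sum]
  refine Fintype.sum_equiv (Equiv.addLeft b) _ _ fun a => ?_
  rw [Equiv.coe_addLeft, mul_smul_comm, ← AddChar.map_add_eq_mul, smul_smul, ← AddChar.map_add_eq_mul,
    show b + -(b + a) = -a by abel]

theorem sum_proj (R : AddChar α (Module.End ℂ W)) : ∑ ψ : AddChar α ℂ, proj R ψ = 1 := by
  classical
  simp only [proj]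
  rw [← Finset.smul_sum, Finset.sum_comm]
  simp only [← Finset.sum_smul, AddChar.sum_apply_eq_ite, neg_eq_zero, ite_smul, zero_smul]
  rw [Finset.sum_ite_eq' Finset.univ (0 : α) (fun a => (Fintype.card α : ℂ) • R a), if_pos (Finset.mem_univ _),
    AddChar.map_zero_eq_one, smul_smul, inv_mul_cancel₀ (Nat.cast_ne_zero.2 Fintype.card_ne_zero), one_smul]

theorem proj_mul [DecidableEq (AddChar α ℂ)] (ψ φ : AddChar α ℂ) :
    proj R ψ * proj R φ = if ψ = φ then proj R φ else 0 := by
  have h : proj R ψ * proj R φ = ((Fintype.card α : ℂ)⁻¹ * ∑ a, (φ - ψ) a) • proj R φ := by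
    conv_lhs => rw [proj, smul_mul_assoc, Finset.sum_mul]
    simp only [smul_mul_assoc, mul_proj, smul_smul]
    rw [← Finset.sum_smul, smul_smul]
    congr 2
    exact Finset.sum_congr rfl fun a _ => by rw [AddChar.sub_apply', AddChar.map_neg_eq_inv, mul_comm, div_eq_mul_inv]
  rw [h, AddChar.sum_eq_ite]
  by_cases e : ψ = φ
  · rw [if_pos e, if_pos (by rw [e, sub_self]), inv_mul_cancel₀ (Nat.cast_ne_zero.2 Fintype.card_ne_zero), one_smul]
  · rw [if_neg e, if_neg (fun h => e (sub_eq_zero.1 h).symm), mul_zero, zero_smul]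

theorem isIdempotentElem_proj (ψ : AddChar α ℂ) : IsIdempotentElem (proj R ψ) := by
  classical
  rw [IsIdempotentElem, proj_mul, if_pos rfl]

theorem conj_proj {g g' : Module.End ℂ W} {c : α →+ α} (hc : Function.Bijective c)
    (h : ∀ a, g' * R (c a) * g = R a) (ψ : AddChar α ℂ) :
    g' * proj R ψ * g = proj R (ψ.compAddMonoidHom c) := by
  rw [proj, proj, mul_smul_comm, smul_mul_assoc, Finset.mul_sum, Finset.sum_mul]
  congr 1
  refine (Fintype.sum_bijective c hc _ _ fun a => ?_).symm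
  rw [mul_smul_comm, smul_mul_assoc, h, AddChar.compAddMonoidHom_apply, map_neg]

/-- the multiplicity of `ψ` -/
noncomputable def mult (R : AddChar α (Module.End ℂ W)) (ψ : AddChar α ℂ) : ℕ :=
  Module.finrank ℂ (LinearMap.range (proj R ψ))

variable [FiniteDimensional ℂ W]

theorem trace_proj (ψ : AddChar α ℂ) : trace ℂ W (proj R ψ) = (mult R ψ : ℂ) :=
  (isIdempotentElem_proj ψ).isProj_range.trace

theorem sum_mult (R : AddChar α (Module.End ℂ W)) :
    ∑ ψ : AddChar α ℂ, mult R ψ = Module.finrank ℂ W := by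
  have h : ∑ ψ : AddChar α ℂ, trace ℂ W (proj R ψ) = (Module.finrank ℂ W : ℂ) := by
    rw [← map_sum, sum_proj, trace_one]
  simp only [trace_proj, ← Nat.cast_sum] at h
  exact_mod_cast h

theorem mult_ne_zero {ψ : AddChar α ℂ} : mult R ψ ≠ 0 ↔ proj R ψ ≠ 0 := by
  rw [mult, Ne, Submodule.finrank_eq_zero, range_eq_bot]

theorem mult_conj {g g' : Module.End ℂ W} {c : α →+ α} (hc : Function.Bijective c)
    (h : ∀ a, g' * R (c a) * g = R a) (hg : g * g' = 1) (ψ : AddChar α ℂ) :
    mult R (ψ.compAddMonoidHom c) = mult R ψ := by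
  have e : trace ℂ W (proj R (ψ.compAddMonoidHom c)) = trace ℂ W (proj R ψ) := by
    rw [← conj_proj hc h ψ, trace_mul_comm, ← mul_assoc, hg, one_mul]
  rw [trace_proj, trace_proj] at e
  exact_mod_cast e

theorem exists_nontrivial (hb : ∃ b, R b ≠ 1) (P : α → Prop)
    (hP : ∀ b, R b ≠ 1 → P b) : ∃ ψ : AddChar α ℂ, mult R ψ ≠ 0 ∧ ∃ b, P b ∧ ψ b ≠ 1 := by
  by_contra hno
  push Not at hno
  obtain ⟨b, hb⟩ := hb
  refine hb ?_
  calc R b = R b * ∑ ψ : AddChar α ℂ, proj R ψ := by rw [sum_proj, mul_one]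
    _ = ∑ ψ : AddChar α ℂ, proj R ψ := by
      rw [Finset.mul_sum]
      refine Finset.sum_congr rfl fun ψ _ => ?_
      by_cases h0 : mult R ψ = 0
      · have : proj R ψ = 0 := by
          by_contra h
          exact mult_ne_zero.2 h h0
        rw [this, mul_zero]
      · rw [mul_proj, hno ψ h0 b (hP b hb), one_smul]
    _ = 1 := sum_proj R

theorem trace_eq_zero_of_free {g g' : Module.End ℂ W} {c : α →+ α} (hc : Function.Bijective c)
    (h : ∀ a, g' * R (c a) * g = R a) (hg : g * g' = 1)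
    (hfree : ∀ ψ : AddChar α ℂ, mult R ψ ≠ 0 → ψ.compAddMonoidHom c ≠ ψ) : trace ℂ W g = 0 := by
  classical
  rw [← mul_one g, ← sum_proj R, Finset.mul_sum, map_sum]
  refine Finset.sum_eq_zero fun ψ _ => ?_
  by_cases h0 : mult R ψ = 0
  · rw [show proj R ψ = 0 from by_contra fun h => mult_ne_zero.2 h h0, mul_zero, map_zero]
  have e : proj R ψ * g = g * proj R (ψ.compAddMonoidHom c) := by
    rw [← conj_proj hc h ψ, ← mul_assoc, ← mul_assoc, hg, one_mul]
  rw [← (isIdempotentElem_proj (R := R) ψ).eq, ← mul_assoc, trace_mul_comm, ← mul_assoc, e, mul_assoc,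
    proj_mul, if_neg (hfree ψ h0), mul_zero, map_zero]

theorem trace_one_nat_of_free {G : Type*} [Group G] [Fintype G] (f : G →* Module.End ℂ W)
    (h : ∀ g, g ≠ 1 → trace ℂ W (f g) = 0) : Fintype.card G ∣ Module.finrank ℂ W := by
  classical
  set E := ((Fintype.card G : ℂ)⁻¹) • ∑ g, f g
  have hc : (Fintype.card G : ℂ) ≠ 0 := Nat.cast_ne_zero.2 Fintype.card_ne_zero
  have hE : IsIdempotentElem E := by
    have hg : ∀ g, f g * ∑ x, f x = ∑ x, f x := fun g => by
      rw [Finset.mul_sum]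
      exact Fintype.sum_equiv (Equiv.mulLeft g) _ _ fun x => by rw [Equiv.coe_mulLeft, map_mul]
    show E * E = E
    simp only [E, smul_mul_assoc, mul_smul_comm, Finset.sum_mul, hg, Finset.sum_const, Finset.card_univ,
      ← Nat.cast_smul_eq_nsmul ℂ, smul_smul]
    rw [inv_mul_cancel₀ hc, mul_one]
  have hval := hE.isProj_range.trace
  simp only [E, map_smul, map_sum, smul_eq_mul] at hval
  rw [Fintype.sum_eq_single 1 h, map_one, trace_one, inv_mul_eq_iff_eq_mul₀ hc] at hval
  exact ⟨_, by exact_mod_cast hval⟩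

end Cfsg.Agent.ReeRep
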