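import Cfsg.Agent.Lib.Lie.Ree8
import Cfsg.Agent.Lib.Lie.Ree13
import Cfsg.Agent.Lib.Lie.ReeRepBasic

/-!
# The minimal degree of a faithful representation
-/

set_option autoImplicit false

namespace Cfsg.Agent.Chev.Ree

open Cfsg.Lie TwG2 Tab

variable {F : Type*} [Field F] [CharP F 3] [Fintype F] {m : ℕ} (hK : Fintype.card F = 3 ^ (2 * m + 1))

theorem eU_add (u v u' v' : F) : eU hK 0 u v * eU hK 0 u' v' = eU hK 0 (u + u') (v + v') := by
  obtain ⟨U, W, e, hU, hW⟩ := eU_mul hK 0 u v 0 u' v'
  have h0 : (0 : F) ^ 3 ^ m = 0 := zero_pow (by positivity)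
  have hinj := (psi (F := F) m).injective
  simp only [h0, zero_mul, mul_zero, sub_zero, zero_pow, ne_eq, OfNat.ofNat_ne_zero, not_false_iff] at hU hW
  rw [e, add_zero, hinj (show psi m U = psi m (u + u') by rw [map_add, psi_apply, psi_apply, psi_apply, hU]),
    hinj (show psi m W = psi m (v + v') by rw [map_add, psi_apply, psi_apply, psi_apply, hW])]

theorem eU_shift (t u v : F) :
    eU hK t 0 0 * eU hK 0 u v * (eU hK t 0 0)⁻¹ = eU hK 0 u (v + t * u) := by
  have h0 : (0 : F) ^ 3 ^ m = 0 := zero_pow (by positivity)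
  have hinj := (psi (F := F) m).injective
  obtain ⟨U, W, e, hU, hW⟩ := eU_mul hK t 0 0 0 u v
  obtain ⟨U', W', e', hU', hW'⟩ := eU_mul hK 0 u (v + t * u) t 0 0
  simp only [h0, zero_mul, mul_zero, sub_zero, zero_pow, ne_eq, OfNat.ofNat_ne_zero, not_false_iff,
    add_zero, zero_add] at hU hW hU' hW'
  refine mul_inv_eq_iff_eq_mul.2 ?_
  rw [e, e', add_zero, zero_add,
    hinj (show psi m U = psi m u by rw [psi_apply, psi_apply, hU]),
    hinj (show psi m W = psi m v by rw [psi_apply, psi_apply, hW]),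
    hinj (show psi m U' = psi m u by rw [psi_apply, psi_apply, hU']),
    hinj (show psi m W' = psi m v by
      rw [psi_apply, psi_apply, hW']
      rw [← psi_apply (m := m) (v + t * u), ← psi_apply (m := m) t, ← psi_apply (m := m) u, map_add, map_mul,
        psi_apply (m := m) v]
      ring)]

include hK in
theorem eU_torus (r : Fˣ) : ∃ a : F,
    ∀ u v : F, Hh hK r * eU hK 0 u v * (Hh hK r)⁻¹ = eU hK 0 (a * u) ((r : F) * v) := by
  have hinj := (psi (F := F) m).injective
  obtain ⟨a, ha⟩ := (Finite.injective_iff_surjective.1 hinj) (wt G2Data.tab F (par m r) 8 : F)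
  refine ⟨a, fun u v => ?_⟩
  obtain ⟨U, W, e, hU, hW⟩ := eU_conj hK r 0 u v
  have hv := wt_vals
  simp only [List.range_succ, List.range_zero, List.nil_append, List.cons_append, List.map_cons,
    List.map_nil, List.cons.injEq, and_true] at hv
  obtain ⟨-, -, ⟨a9, b9⟩, -⟩ := hv
  have h9 : (wt G2Data.tab F (par m r) 9 : F) = (r : F) ^ 3 ^ m := by
    rw [wt_par, a9, b9, mul_one, add_zero, zpow_natCast, Units.val_pow_eq_pow_val]
  rw [e, mul_zero,
    hinj (show psi m U = psi m (a * u) by rw [map_mul, ha, psi_apply, psi_apply, hU]),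
    hinj (show psi m W = psi m ((r : F) * v) by rw [map_mul, psi_apply, psi_apply, psi_apply, hW, h9])]

/-- the shift -/
def shiftHom (t : F) : F × F →+ F × F where
  toFun x := (x.1, x.2 + t * x.1)
  map_zero' := by simp
  map_add' x y := Prod.ext rfl (by simp only [Prod.fst_add, Prod.snd_add]; ring)

/-- the scaling -/
def scaleHom (a b : F) : F × F →+ F × F where
  toFun x := (a * x.1, b * x.2)
  map_zero' := by simp
  map_add' x y := Prod.ext (mul_add _ _ _) (mul_add _ _ _)

theorem bijective_of_conj {a b : F} {g : Gr F m}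
    (h : ∀ u v : F, g * eU hK 0 u v * g⁻¹ = eU hK 0 (a * u) (b * v)) :
    Function.Bijective (scaleHom a b) := by
  refine Finite.injective_iff_bijective.1 fun x y e => ?_
  have e1 : a * x.1 = a * y.1 := congrArg Prod.fst e
  have e2 : b * x.2 = b * y.2 := congrArg Prod.snd e
  have e' : g * eU hK 0 x.1 x.2 * g⁻¹ = g * eU hK 0 y.1 y.2 * g⁻¹ := by rw [h, h, e1, e2]
  obtain ⟨-, h1, h2⟩ := uF_inj (congrArg Subtype.val (mul_left_cancel (mul_right_cancel e')))
  exact Prod.ext h1 h2

include hK in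
theorem min_degree (hm : 1 ≤ m) {W : Type*} [AddCommGroup W] [Module ℂ W] [FiniteDimensional ℂ W]
    (ρ : Gr F m →* Module.End ℂ W) (hρ : ∀ g, ρ g = 1 → g = 1) :
    (3 ^ (2 * m + 1)) ^ 2 - 3 ^ (2 * m + 1) + 1 ≤ Module.finrank ℂ W := by
  classical
  let R : AddChar (F × F) (Module.End ℂ W) :=
    { toFun := fun x => ρ (eU hK 0 x.1 x.2)
      map_zero_eq_one' := by simp [eU_zero]
      map_add_eq_mul' := fun x y => by rw [← map_mul, eU_add]; rfl }
  have hR : ∀ x, R x = ρ (eU hK 0 x.1 x.2) := fun _ => rfl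
  have hinv : ∀ g, ρ g * ρ g⁻¹ = 1 := fun g => by rw [← map_mul, mul_inv_cancel, map_one]
  have hcj : ∀ (g : Gr F m) (c : F × F →+ F × F),
      (∀ u v, g * eU hK 0 u v * g⁻¹ = eU hK 0 (c (u, v)).1 (c (u, v)).2) →
      ∀ a, ρ g⁻¹ * R (c a) * ρ g = R a := by
    intro g c h a
    rw [hR, hR, ← h a.1 a.2, ← map_mul, ← map_mul]
    congr 1
    group
  choose α hα using eU_torus hK
  have hscale : ∀ r, Function.Bijective (scaleHom (α r) (r : F)) := fun r => bijective_of_conj hK (hα r)
  have hshift : ∀ t : F, Function.Bijective (shiftHom t) := fun t =>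
    Finite.injective_iff_bijective.1 fun x y e => by
      have h1 : x.1 = y.1 := by simpa [shiftHom] using congrArg Prod.fst e
      have h2 : x.2 + t * x.1 = y.2 + t * y.1 := by simpa [shiftHom] using congrArg Prod.snd e
      rw [h1] at h2
      exact Prod.ext h1 (add_right_cancel h2)
  -- some character in the support is nontrivial on the centre of the unipotent group
  obtain ⟨ψ, hψ, v0, hv0⟩ : ∃ ψ : AddChar (F × F) ℂ, ReeRep.mult R ψ ≠ 0 ∧ ∃ v, ψ (0, v) ≠ 1 := by
    by_contra hno
    push Not at hno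
    have hz : R (0, 1) = 1 := by
      by_contra hne
      obtain ⟨ψ, hψ, b, hb, hb'⟩ := ReeRep.exists_nontrivial (R := R.compAddMonoidHom (AddMonoidHom.inr F F))
        (W := W) ⟨1, hne⟩ (fun _ => True) (fun _ _ => trivial)
      refine hb' ?_
      by_contra hne'
      have e : ReeRep.proj (R.compAddMonoidHom (AddMonoidHom.inr F F)) ψ = 0 := by
        set p := ReeRep.proj (R.compAddMonoidHom (AddMonoidHom.inr F F)) ψ with hp
        have h1 : R (0, b) * p = ψ b • p := ReeRep.mul_proj (R := R.compAddMonoidHom (AddMonoidHom.inr F F)) b ψ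
        have h2 : R (0, b) = 1 := by
          calc R (0, b) = R (0, b) * ∑ φ : AddChar (F × F) ℂ, ReeRep.proj R φ := by rw [ReeRep.sum_proj, mul_one]
            _ = ∑ φ : AddChar (F × F) ℂ, ReeRep.proj R φ := by
              rw [Finset.mul_sum]
              refine Finset.sum_congr rfl fun φ _ => ?_
              by_cases h0 : ReeRep.mult R φ = 0
              · rw [show ReeRep.proj R φ = 0 from by_contra fun h => ReeRep.mult_ne_zero.2 h h0, mul_zero]
              · rw [ReeRep.mul_proj, hno φ h0 b, one_smul]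
            _ = 1 := ReeRep.sum_proj R
        rw [h2, one_mul] at h1
        have h3 : (ψ b - 1) • p = 0 := by rw [sub_smul, one_smul, ← h1, sub_self]
        exact (smul_eq_zero.1 h3).resolve_left (sub_ne_zero.2 hne')
      exact ReeRep.mult_ne_zero.1 hψ e
    have := hρ _ hz
    exact one_ne_zero (α := F) (uF_inj ((congrArg Subtype.val this).trans (uF_zero (m := m)).symm)).2.2
  have hchar : ∀ c : F, (∀ v : F, ψ (0, c * v) = 1) → c = 0 := fun c h => by
    by_contra hc
    have := h (c⁻¹ * v0)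
    rw [← mul_assoc, mul_inv_cancel₀ hc, one_mul] at this
    exact hv0 this
  have hne : ∀ x, ψ x ≠ 0 := fun x h0 => zero_ne_one (α := ℂ) (by
    rw [← AddChar.map_zero_eq_one ψ, ← sub_self x, AddChar.map_sub_eq_div, h0, zero_div])
  let f : Fˣ × F → AddChar (F × F) ℂ := fun p =>
    (ψ.compAddMonoidHom (scaleHom (α p.1) (p.1 : F))).compAddMonoidHom (shiftHom p.2)
  have hf : ∀ p x, f p x = ψ (α p.1 * x.1, (p.1 : F) * (x.2 + p.2 * x.1)) := fun _ _ => rfl
  have hmult : ∀ p, ReeRep.mult R (f p) = ReeRep.mult R ψ := fun p => by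
    rw [ReeRep.mult_conj (hshift p.2) (hcj (eU hK p.2 0 0) _ (fun u v => eU_shift hK p.2 u v)) (hinv _),
      ReeRep.mult_conj (hscale p.1) (hcj (Hh hK p.1) _ (fun u v => hα p.1 u v)) (hinv _)]
  have hfinj : Function.Injective f := by
    rintro ⟨r, t⟩ ⟨r', t'⟩ e
    have hr : r = r' := by
      refine Units.ext (sub_eq_zero.1 (hchar _ fun v => ?_))
      have h := DFunLike.congr_fun e (0, v)
      simp only [hf, mul_zero, add_zero] at h
      rw [sub_mul, show ((0 : F), (r : F) * v - (r' : F) * v) = (0, (r : F) * v) - (0, (r' : F) * v) by simp,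
        AddChar.map_sub_eq_div, h, div_self (hne _)]
    subst hr
    refine Prod.ext rfl (?_ : t = t')
    have h2 : (r : F) * (t - t') = 0 := hchar _ fun v => by
      have h := DFunLike.congr_fun e (v, 0)
      simp only [hf, zero_add] at h
      rw [show ((0 : F), (r : F) * (t - t') * v) = (α r * v, (r : F) * (t * v)) - (α r * v, (r : F) * (t' * v)) by
          refine Prod.ext (by simp) ?_; simp only [Prod.snd_sub]; ring,
        AddChar.map_sub_eq_div, h, div_self (hne _)]
    exact sub_eq_zero.1 ((mul_eq_zero.1 h2).resolve_left r.ne_zero)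
  set q := 3 ^ (2 * m + 1) with hq
  have hcard : Fintype.card (Fˣ × F) = (q - 1) * q := by
    rw [Fintype.card_prod, Fintype.card_units, hK]
  have hpos : ∀ p, 1 ≤ ReeRep.mult R (f p) := fun p => by rw [hmult]; omega
  have hsum := ReeRep.sum_mult R
  have hle : (q - 1) * q ≤ ∑ φ ∈ Finset.univ.image f, ReeRep.mult R φ := by
    rw [Finset.sum_image (fun a _ b _ h => hfinj h), ← hcard, ← Finset.card_univ, Finset.card_eq_sum_ones]
    exact Finset.sum_le_sum fun p _ => hpos p
  by_contra hlt
  have hk : Module.finrank ℂ W ≤ (q - 1) * q := by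
    rw [show q ^ 2 - q = (q - 1) * q by rw [Nat.sub_mul, one_mul, pow_two]] at hlt
    omega
  have hsub := Finset.sum_le_sum_of_subset (f := ReeRep.mult R) (Finset.subset_univ (Finset.univ.image f))
  rw [hsum] at hsub
  have hout : ∀ φ : AddChar (F × F) ℂ, ReeRep.mult R φ ≠ 0 → φ ∈ Finset.univ.image f := by
    intro φ hφ
    by_contra hn
    have h := Finset.sum_sdiff (f := ReeRep.mult R) (Finset.subset_univ (Finset.univ.image f))
    rw [hsum] at h
    have h1 := Finset.single_le_sum (f := ReeRep.mult R) (fun _ _ => Nat.zero_le _)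
      (Finset.mem_sdiff.2 ⟨Finset.mem_univ φ, hn⟩)
    omega
  have htr : LinearMap.trace ℂ W (ρ (a0 hK)) = 0 := by
    refine ReeRep.trace_eq_zero_of_free (R := R) (hscale (-1)) (hcj (a0 hK) _ (fun u v => hα (-1) u v)) (hinv _) ?_
    intro φ hφ e
    obtain ⟨⟨r, t⟩, -, rfl⟩ := Finset.mem_image.1 (hout φ hφ)
    have h2 : (2 : F) ≠ 0 := ReePSL.two_ne (card_mod' hK)
    refine mul_ne_zero h2 r.ne_zero (hchar _ fun v => ?_)
    have h := DFunLike.congr_fun e ((0 : F), v)
    simp only [AddChar.compAddMonoidHom_apply, hf] at h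
    rw [show scaleHom (α (-1)) ((-1 : Fˣ) : F) ((0 : F), v) = ((0 : F), -v) by
      simp [scaleHom]] at h
    simp only [mul_zero, add_zero, mul_neg] at h
    rw [show ((0 : F), (2 : F) * r * v) = (0, (r : F) * v) - (0, -((r : F) * v)) by
      refine Prod.ext (by simp) ?_; simp only [Prod.snd_sub]; ring, AddChar.map_sub_eq_div, h, div_self (hne _)]
  haveI := Fintype.ofFinite (S0 hK)
  have h8 := ReeRep.trace_one_nat_of_free (ρ.comp (S0 hK).subtype) fun s hs => by
    obtain ⟨c, hc⟩ := invol_conj hK hm (sq_S0 hK s.2) (fun h => hs (Subtype.ext h))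
    rw [MonoidHom.comp_apply, Subgroup.coe_subtype, show (s : Gr F m) = c⁻¹ * a0 hK * c by rw [← hc]; group,
      map_mul ρ, LinearMap.trace_mul_comm, ← map_mul ρ, mul_inv_cancel_left]
    exact htr
  rw [← Nat.card_eq_fintype_card, card_S0] at h8
  have heq : Module.finrank ℂ W = (q - 1) * q := by omega
  obtain ⟨j, hj⟩ := q_form m
  rw [heq, hq, hj, show (8 * j + 3 - 1) * (8 * j + 3) = 8 * (8 * j * j + 5 * j) + 6 by
    rw [show 8 * j + 3 - 1 = 8 * j + 2 by omega]; ring] at h8
  omega

include hK in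
theorem irreducible_degree (hm : 1 ≤ m) (k : ℕ) (ρ : Representation ℂ (Gr F m) (Fin k → ℂ))
    (hirr : ρ.IsIrreducible) (hk : 2 ≤ k) : (3 ^ (2 * m + 1)) ^ 2 - 3 ^ (2 * m + 1) + 1 ≤ k := by
  have hs : IsSimpleGroup (Gr F m) :=
    ((X hK).simple (blocks hK) (hq (m := m)) (hblk hK) connOK (sep hK) Nat.one_pos (TwG2.derived hK hm)).1
  let f : Gr F m →* Module.End ℂ (Fin k → ℂ) := ρ
  rcases f.toHomUnits.normal_ker.eq_bot_or_eq_top with h | h
  · have := min_degree hK hm f fun g hg => by
      have : g ∈ f.toHomUnits.ker := MonoidHom.mem_ker.2 (Units.ext hg)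
      rwa [h, Subgroup.mem_bot] at this
    rwa [Module.finrank_fin_fun] at this
  · exfalso
    have htriv : ∀ g, f g = 1 := fun g => by
      have : g ∈ f.toHomUnits.ker := h ▸ Subgroup.mem_top g
      exact congrArg Units.val (MonoidHom.mem_ker.1 this)
    set e : Fin k → ℂ := Pi.single ⟨0, by omega⟩ 1 with he
    let S : Subrepresentation ρ := ⟨Submodule.span ℂ {e}, fun g v hv => by
      show f g v ∈ _
      rw [htriv g]; exact hv⟩
    have he0 : e ≠ 0 := fun h0 => one_ne_zero (α := ℂ) (by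
      have := congrFun h0 ⟨0, by omega⟩
      rwa [he, Pi.single_eq_same] at this)
    haveI := hirr
    rcases eq_bot_or_eq_top S with h' | h'
    · exact he0 (Submodule.span_singleton_eq_bot.1 (congrArg Subrepresentation.toSubmodule h'))
    · have h2 : Submodule.span ℂ {e} = ⊤ := congrArg Subrepresentation.toSubmodule h'
      have h3 := finrank_span_singleton (K := ℂ) he0
      rw [h2, finrank_top, Module.finrank_fin_fun] at h3
      omega

end Cfsg.Agent.Chev.Ree
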