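import Cfsg.Agent.Lib.Lie.Ree3Base
import Cfsg.Agent.Lib.SL2Pres.Torus
import Mathlib.FieldTheory.Finite.GaloisField

/-! The derived group of `²G₂(3)` is `PSL₂(8)`. -/

set_option autoImplicit false
set_option maxRecDepth 20000

namespace Cfsg.Agent.Chev.Ree3

open Cfsg.Lie Matrix
open Tab
open TwG2 (g0)
open scoped commutatorElement

section Pieces

variable {F : Type*} [Field F] [CharP F 3]

theorem comm8 {r s : ℕ} (hr : r ∈ [0, 1, 2, 3, 8, 9, 10, 11]) (hs : s ∈ [0, 1, 2, 3, 8, 9, 10, 11])
    (h : (Nat.blt r 4 == Nat.blt s 4) = true) (a b : F) :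
    Commute (xg g0 r a) (xg g0 s b) := by
  obtain ⟨h1, h2, h3⟩ := commLo r hr s hs h
  exact TwG2.comm3 h1 h2 h3 a b

theorem split4 (a b c d e f : ℕ) (hcd : ∀ x y : F, Commute (xg g0 c x) (xg g0 d y))
    (hde : ∀ x y : F, Commute (xg g0 d x) (xg g0 e y)) (x y p q u u' v v' : F) :
    xg g0 a x * xg g0 b y * xg g0 c (p + u) * xg g0 d (q + v) * xg g0 e u' * xg g0 f v' =
      (xg g0 a x * xg g0 b y * xg g0 c p * xg g0 d q) *
        (xg g0 c u * xg g0 e u') * (xg g0 d v * xg g0 f v') := by
  rw [← xg_add g0 c, ← xg_add g0 d]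
  have h1 := (hcd u q).eq
  have h2 := (hde v u').eq
  simp only [mul_assoc]
  rw [← mul_assoc (xg g0 c u) (xg g0 d q), h1, mul_assoc,
    ← mul_assoc (xg g0 d v) (xg g0 e u'), h2, mul_assoc]

end Pieces

/-- the subgroup of the six generators, in the matrix group -/
noncomputable def H : Subgroup (GL G2Data.tab.D.Idx K3) :=
  (Subgroup.closure (gen '' Set.Iio 6)).map TW.subtype

theorem valW_mem {w : List ℕ} (h : ∀ i ∈ w, i < 6) :
    valW w ∈ Subgroup.closure (gen '' Set.Iio 6) :=
  Subgroup.list_prod_mem _ fun x hx => by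
    obtain ⟨i, hi, rfl⟩ := List.mem_map.1 hx
    exact Subgroup.subset_closure ⟨i, h i hi, rfl⟩

theorem covW_mem (neg : Bool) (t u v : ℕ) : cWordVal g0 K3 (covW neg t u v) ∈ H := by
  refine Subgroup.mem_map.2 ⟨valW (Ree3Data.cov.getD (covI neg t u v) []), valW_mem fun i hi => ?_,
    coe_valW _⟩
  by_cases h : covI neg t u v < Ree3Data.cov.length
  · refine cov_lt _ ?_ i hi
    rw [List.getD_eq_getElem?_getD, List.getElem?_eq_getElem h]
    exact List.getElem_mem h
  · rw [List.getD_eq_getElem?_getD, List.getElem?_eq_none (by omega)] at hi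
    simp at hi

theorem cast_val3 (t : K3) : (((t.val : ℕ) : ℤ) : K3) = t := by revert t; decide

theorem pieceU (t u v : K3) :
    (xg g0 7 t * xg g0 6 t * xg g0 8 (t * t) * xg g0 9 (t * t * t) ∈ H) ∧
    (xg g0 8 u * xg g0 10 u ∈ H) ∧ (xg g0 9 v * xg g0 11 v ∈ H) := by
  refine ⟨?_, ?_, ?_⟩
  · have h := covU_ok t.val (ZMod.val_lt t)
    simp only [Bool.and_eq_true] at h
    have e := covW_mem false t.val 0 0
    rw [← word_eq_modP g0 3 h.1.1] at e
    simpa [cWordVal, uInt, cast_val3, xg_zero, mul_assoc] using e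
  · have h := covU_ok u.val (ZMod.val_lt u)
    simp only [Bool.and_eq_true] at h
    have e := covW_mem false 0 u.val 0
    rw [← word_eq_modP g0 3 h.1.2] at e
    simpa [cWordVal, uInt, cast_val3, xg_zero, mul_assoc] using e
  · have h := covU_ok v.val (ZMod.val_lt v)
    simp only [Bool.and_eq_true] at h
    have e := covW_mem false 0 0 v.val
    rw [← word_eq_modP g0 3 h.2] at e
    simpa [cWordVal, uInt, cast_val3, xg_zero, mul_assoc] using e

theorem negs : G2Data.tab.neg 7 = 4 ∧ G2Data.tab.neg 6 = 5 ∧ G2Data.tab.neg 8 = 3 ∧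
    G2Data.tab.neg 9 = 2 ∧ G2Data.tab.neg 10 = 1 ∧ G2Data.tab.neg 11 = 0 := by decide +kernel

theorem pieceV (t u v : K3) :
    (xg g0 4 (-t) * xg g0 5 (-t) * xg g0 3 (-(t * t)) * xg g0 2 (-(t * t * t)) ∈ H) ∧
    (xg g0 3 (-u) * xg g0 1 (-u) ∈ H) ∧ (xg g0 2 (-v) * xg g0 0 (-v) ∈ H) := by
  obtain ⟨n7, n6, n8, n9, n10, n11⟩ := negs
  refine ⟨?_, ?_, ?_⟩
  · have h := covV_ok t.val (ZMod.val_lt t)
    simp only [Bool.and_eq_true] at h
    have e := covW_mem true t.val 0 0
    rw [← word_eq_modP g0 3 h.1.1] at e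
    simpa [cWordVal, uInt, TwG2.negW, cast_val3, xg_zero, mul_assoc, n7, n6, n8, n9, n10, n11] using e
  · have h := covV_ok u.val (ZMod.val_lt u)
    simp only [Bool.and_eq_true] at h
    have e := covW_mem true 0 u.val 0
    rw [← word_eq_modP g0 3 h.1.2] at e
    simpa [cWordVal, uInt, TwG2.negW, cast_val3, xg_zero, mul_assoc, n7, n6, n8, n9, n10, n11] using e
  · have h := covV_ok v.val (ZMod.val_lt v)
    simp only [Bool.and_eq_true] at h
    have e := covW_mem true 0 0 v.val
    rw [← word_eq_modP g0 3 h.2] at e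
    simpa [cWordVal, uInt, TwG2.negW, cast_val3, xg_zero, mul_assoc, n7, n6, n8, n9, n10, n11] using e

theorem negIdx_vals : chevG2.negIdx[7]?.getD 0 = 4 ∧ chevG2.negIdx[6]?.getD 0 = 5 ∧
    chevG2.negIdx[8]?.getD 0 = 3 ∧ chevG2.negIdx[9]?.getD 0 = 2 ∧ chevG2.negIdx[10]?.getD 0 = 1 ∧
    chevG2.negIdx[11]?.getD 0 = 0 := by decide +kernel

theorem words_mem : ∀ w ∈ g2Words K3 (3 ^ 0), (w.map fun e => xg g0 e.1 e.2).prod ∈ H := by
  rintro w ⟨t, u, v, rfl | rfl⟩
  · obtain ⟨h1, -, -⟩ := pieceU t u v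
    obtain ⟨-, h2, h3⟩ := pieceU t u v
    have e := split4 (F := K3) 7 6 8 9 10 11
      (fun x y => comm8 (by decide) (by decide) rfl x y)
      (fun x y => comm8 (by decide) (by decide) rfl x y) t t (t * t) (t * t * t) u u v v
    have m := mul_mem (mul_mem h1 h2) h3
    rw [← e] at m
    simpa [reeWordU, g2a, g2b, g2ab, g2aab, g2aaab, g2aaabb, pow_succ, mul_assoc] using m
  · obtain ⟨h1, h2, h3⟩ := pieceV t u v
    obtain ⟨n7, n6, n8, n9, n10, n11⟩ := negIdx_vals
    have e := split4 (F := K3) 4 5 3 2 1 0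
      (fun x y => comm8 (by decide) (by decide) rfl x y)
      (fun x y => comm8 (by decide) (by decide) rfl x y)
      (-t) (-t) (-(t * t)) (-(t * t * t)) (-u) (-u) (-v) (-v)
    have m := mul_mem (mul_mem h1 h2) h3
    rw [← e] at m
    simpa [reeWordV, ChevalleyDatum.negWord, reeWordU, g2a, g2b, g2ab, g2aab, g2aaab, g2aaabb,
      pow_succ, mul_assoc, n7, n6, n8, n9, n10, n11, add_comm] using m

theorem closure_gen : Subgroup.closure (gen '' Set.Iio 6) = ⊤ := by
  have key : TW ≤ H := by
    refine (genSubgroup_eq g0 (g2Words K3 (3 ^ 0))).trans_le ((Subgroup.closure_le _).2 ?_)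
    rintro x ⟨w, hw, rfl⟩
    exact words_mem w hw
  rw [eq_top_iff]
  intro x _
  obtain ⟨y, hy, he⟩ := Subgroup.mem_map.1 (key x.2)
  rwa [show x = y from Subtype.ext he.symm]

/-! ### the homomorphism from `SL₂(8)` -/

/-- a homomorphism realising the root groups -/
noncomputable def psi : SpecialLinearGroup (Fin 2) F8 →* ↥TW :=
  Classical.choose (SL2Pres.exists_hom sdata)

theorem psi_up (a : F8) : psi (SL2Pres.up a) = valW (xL a) :=
  (Classical.choose_spec (SL2Pres.exists_hom sdata)).1 a

theorem psi_low (a : F8) : psi (SL2Pres.low a) = valW (yL a) :=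
  (Classical.choose_spec (SL2Pres.exists_hom sdata)).2 a

theorem letter_mem (i : ℕ) : valW (letterW i) ∈ psi.range := by
  unfold letterW
  cases h : Nat.blt i 7
  · exact ⟨_, psi_low _⟩
  · exact ⟨_, psi_up _⟩

theorem lW_mem : ∀ w : List ℕ, valW (lW w) ∈ psi.range
  | [] => by simp [lW, valW]
  | i :: w => by
    rw [show lW (i :: w) = letterW i ++ lW w by simp [lW], valW_append]
    exact mul_mem (letter_mem i) (lW_mem w)

theorem all_letters (a : F8) :
    (a = 0 ∨ ∃ i < 7, letterW i = xL a) ∧ (a = 0 ∨ ∃ i < 14, letterW i = yL a) := by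
  revert a; decide +kernel

theorem range_eq : psi.range = Subgroup.closure ((fun i => valW (letterW i)) '' Set.Iio 14) := by
  refine le_antisymm ?_ ((Subgroup.closure_le _).2 ?_)
  · rw [MonoidHom.range_eq_map, ← SL2Pres.closure_up_low, MonoidHom.map_closure,
      Subgroup.closure_le]
    rintro x ⟨y, ⟨a, rfl⟩ | ⟨a, rfl⟩, rfl⟩
    · rw [SetLike.mem_coe, psi_up]
      rcases (all_letters a).1 with rfl | ⟨i, hi, e⟩
      · rw [show valW (xL 0) = 1 from rfl]; exact one_mem _
      · exact Subgroup.subset_closure ⟨i, by simp; omega, by simp [e]⟩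
    · rw [SetLike.mem_coe, psi_low]
      rcases (all_letters a).2 with rfl | ⟨i, hi, e⟩
      · rw [show valW (yL 0) = 1 from rfl]; exact one_mem _
      · exact Subgroup.subset_closure ⟨i, hi, by simp [e]⟩
  · rintro x ⟨i, -, rfl⟩
    exact letter_mem i

theorem range_normal : psi.range.Normal := by
  refine ⟨fun n hn g => ?_⟩
  have hfix : ∀ k < 6, ∀ z ∈ psi.range, gen k * z * (gen k)⁻¹ ∈ psi.range := by
    intro k hk
    have hle : psi.range ≤ psi.range.comap (MulAut.conj (gen k)).toMonoidHom := by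
      conv_lhs => rw [range_eq]
      rw [Subgroup.closure_le]
      rintro z ⟨i, hi, rfl⟩
      have h := valW_eq (conj_ok k hk i hi)
      rw [valW_append, valW_append, show valW [k] = gen k by simp [valW]] at h
      simp only [SetLike.mem_coe, Subgroup.mem_comap, MulEquiv.coe_toMonoidHom, MulAut.conj_apply]
      rw [h, mul_inv_cancel_right]
      exact lW_mem _
    intro z hz
    have h := Subgroup.mem_comap.1 (hle hz)
    rw [MulEquiv.coe_toMonoidHom, MulAut.conj_apply] at h
    exact h
  have hg : g ∈ Submonoid.closure (gen '' Set.Iio 6) := by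
    rw [← Subgroup.closure_toSubmonoid_of_finite, closure_gen]; trivial
  induction hg using Submonoid.closure_induction generalizing n with
  | mem x hx => obtain ⟨k, hk, rfl⟩ := hx; exact hfix k hk n hn
  | one => simpa using hn
  | mul x y _ _ h1 h2 =>
    rw [show x * y * n * (x * y)⁻¹ = x * (y * n * y⁻¹) * x⁻¹ by group]
    exact h1 _ (h2 _ hn)

theorem commutator_le : commutator ↥TW ≤ psi.range := by
  haveI := range_normal
  rw [commutator_def, Subgroup.commutator_le]
  suffices h : ∀ x y : ↥TW ⧸ psi.range, Commute x y by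
    intro a _ b _
    rw [← QuotientGroup.eq_one_iff, ← QuotientGroup.mk'_apply, map_commutatorElement,
      commutatorElement_eq_one_iff_commute]
    exact h _ _
  have top : Subgroup.closure (QuotientGroup.mk' psi.range '' (gen '' Set.Iio 6)) = ⊤ := by
    rw [← MonoidHom.map_closure, closure_gen,
      Subgroup.map_top_of_surjective _ (QuotientGroup.mk'_surjective _)]
  have hg : ∀ a < 6, ∀ b < 6,
      Commute (QuotientGroup.mk' psi.range (gen a)) (QuotientGroup.mk' psi.range (gen b)) := by
    intro a ha b hb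
    have h := valW_eq (com_ok a ha b hb)
    rw [valW_append] at h
    have h' := congrArg (QuotientGroup.mk' psi.range) h
    rw [map_mul, show QuotientGroup.mk' psi.range (valW (lW _)) = 1 from
      (QuotientGroup.eq_one_iff _).2 (lW_mem _), one_mul] at h'
    simpa [Commute, SemiconjBy, valW] using h'
  intro x y
  have hx : x ∈ Subgroup.closure (QuotientGroup.mk' psi.range '' (gen '' Set.Iio 6)) := by
    rw [top]; trivial
  have hy : y ∈ Subgroup.closure (QuotientGroup.mk' psi.range '' (gen '' Set.Iio 6)) := by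
    rw [top]; trivial
  induction hx, hy using Subgroup.closure_induction₂ with
  | mem a b ha hb =>
    obtain ⟨_, ⟨i, hi, rfl⟩, rfl⟩ := ha
    obtain ⟨_, ⟨j, hj, rfl⟩, rfl⟩ := hb
    exact hg i hi j hj
  | one_left a _ => exact Commute.one_left a
  | one_right a _ => exact Commute.one_right a
  | mul_left a b c _ _ _ h1 h2 => exact h1.mul_left h2
  | mul_right a b c _ _ _ h1 h2 => exact h1.mul_right h2
  | inv_left a b _ _ h => exact h.inv_left
  | inv_right a b _ _ h => exact h.inv_right

/-! ### the special linear group of the field with eight elements -/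

instance : CharP F8 2 := CharTwo.of_one_ne_zero_of_two_eq_zero one_ne_zero (by decide +kernel)

theorem center_bot : Subgroup.center (SpecialLinearGroup (Fin 2) F8) = ⊥ :=
  SL2Orders.center_eq_bot

/-- no quotient is needed -/
noncomputable def slEquiv {L : Type*} [Field L] (h : Subgroup.center (SpecialLinearGroup (Fin 2) L) = ⊥) :
    SpecialLinearGroup (Fin 2) L ≃* ProjectiveSpecialLinearGroup (Fin 2) L :=
  (QuotientGroup.quotientBot.symm).trans (QuotientGroup.quotientMulEquivOfEq h.symm)

theorem card_F8' : Nat.card F8 = 8 := by rw [Nat.card_eq_fintype_card, card_F8]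

instance : IsSimpleGroup (SpecialLinearGroup (Fin 2) F8) :=
  haveI := ProjectiveSpecialLinearGroup.rank_two_simple (F := F8) (by rw [card_F8']; norm_num)
  (slEquiv center_bot).isSimpleGroup

theorem card_sl : Nat.card (SpecialLinearGroup (Fin 2) F8) = 504 := by
  have h := ClassicalSL.card_sl_mul (ι := Fin 2) (F := F8)
  rw [ClassicalSL.card_gl_fin card_F8', card_F8'] at h
  norm_num [Fin.prod_univ_two] at h ⊢
  omega

theorem psi_injective : Function.Injective psi := by
  rw [← MonoidHom.ker_eq_bot_iff]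
  rcases IsSimpleGroup.eq_bot_or_eq_top_of_normal psi.ker inferInstance with h | h
  · exact h
  · exfalso
    have h1 : psi (SL2Pres.up 1) = 1 := MonoidHom.mem_ker.1 (h ▸ Subgroup.mem_top _)
    rw [psi_up] at h1
    obtain ⟨i, hi⟩ := exists_code g0 (show 1 < G2Data.tab.l + G2Data.tab.n by decide)
    have hw : (∀ i ∈ xL 1, i < 6) ∧ permW (xL 1) 0 = 35 ∧ pt 0 = [(13, (1, 0, 0))] ∧
        pt 35 = [(1, (1, 0, 0)), (2, (1, 0, 0)), (4, (1, 0, 0)), (5, (-1, 0, 0)), (6, (1, 0, 0)),
          (7, (-1, 0, 0)), (8, (-1, 0, 0)), (9, (1, 0, 0)), (11, (-1, 0, 0)), (12, (1, 0, 0)),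
          (13, (1, 0, 0))] := by decide +kernel
    obtain ⟨hb, hp, h0, h35⟩ := hw
    obtain ⟨-, hk⟩ := act_valW (xL 1) hb 0 (by norm_num)
    rw [h1, Subgroup.coe_one, Units.val_one, Matrix.one_mulVec, hp] at hk
    have := congrFun hk i
    simp [ptV, h0, h35, sem, bas, hi, monVal] at this

theorem range_le : psi.range ≤ commutator ↥TW := by
  have hp : commutator (SpecialLinearGroup (Fin 2) F8) = ⊤ := by
    rcases IsSimpleGroup.eq_bot_or_eq_top_of_normal (commutator (SpecialLinearGroup (Fin 2) F8))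
      inferInstance with h | h
    · exfalso
      have hc : ⁅SL2Pres.up (1 : F8), SL2Pres.low (1 : F8)⁆ = 1 := by
        rw [← Subgroup.mem_bot, ← h]
        exact Subgroup.commutator_mem_commutator (Subgroup.mem_top _) (Subgroup.mem_top _)
      have hm : (!![1, (1 : F8); 0, 1] * !![1, 0; 1, 1] : Matrix (Fin 2) (Fin 2) F8) =
          !![1, 0; 1, 1] * !![1, 1; 0, 1] :=
        congrArg (fun g : SpecialLinearGroup (Fin 2) F8 => (g : Matrix (Fin 2) (Fin 2) F8))
          (commutatorElement_eq_one_iff_mul_comm.1 hc)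
      rw [Matrix.mul_fin_two, Matrix.mul_fin_two] at hm
      have h00 := congrFun (congrFun hm 0) 0
      revert h00
      simp
    · exact h
  rw [MonoidHom.range_eq_map, ← hp, commutator_def, Subgroup.map_commutator]
  exact Subgroup.commutator_mono le_top le_top

/-- change of field -/
noncomputable def slMap {K L : Type*} [Field K] [Field L] (e : K ≃+* L) :
    SpecialLinearGroup (Fin 2) K ≃* SpecialLinearGroup (Fin 2) L where
  toFun := SpecialLinearGroup.map e.toRingHom
  invFun := SpecialLinearGroup.map e.symm.toRingHom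
  left_inv g := by ext i j; simp
  right_inv g := by ext i j; simp
  map_mul' := map_mul _

theorem main {L : Type*} [Field L] [Fintype L] (hL : Fintype.card L = 8) :
    Nat.card ↥(commutator ↥TW) = 504 ∧
      Nonempty (↥(commutator ↥TW) ≃* ProjectiveSpecialLinearGroup (Fin 2) L) := by
  have hr : commutator ↥TW = psi.range := le_antisymm commutator_le range_le
  rw [hr]
  let e : F8 ≃+* L := FiniteField.ringEquivOfCardEq (card_F8.trans hL.symm)
  haveI : CharP L 2 := charP_of_injective_ringHom (f := e.toRingHom) e.injective 2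
  refine ⟨?_, ⟨?_⟩⟩
  · rw [← Nat.card_congr (MonoidHom.ofInjective psi_injective).toEquiv, card_sl]
  · exact (MonoidHom.ofInjective psi_injective).symm.trans
      ((Cfsg.Agent.Chev.Ree3.slMap e).trans (slEquiv SL2Orders.center_eq_bot))

end Cfsg.Agent.Chev.Ree3
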