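import Mathlib.Data.Fintype.Basic

/-! Tables for the derived group of `²G₂(3)`. -/

set_option autoImplicit false

namespace Cfsg.Agent.Chev.Ree3Data

/-- six generators -/
def gens : List (List (ℕ × ℤ)) := [[(7, 1), (6, 1), (8, 1), (9, 1)], [(8, 1), (10, 1)], [(9, 1), (11, 1)], [(4, -1), (5, -1), (3, -1), (2, -1)], [(3, -1), (1, -1)], [(2, -1), (0, -1)]]

/-- multiplication of the field with eight elements -/
def mulT : List ℕ := [0, 0, 0, 0, 0, 0, 0, 0, 0, 1, 2, 3, 4, 5, 6, 7, 0, 2, 4, 6, 3, 1, 7, 5, 0, 3, 6, 5, 7, 4, 1, 2, 0, 4, 3, 7, 6, 2, 5, 1, 0, 5, 1, 4, 2, 7, 3, 6, 0, 6, 7, 1, 5, 3, 2, 4, 0, 7, 5, 2, 1, 6, 4, 3]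

/-- inversion -/
def invT : List ℕ := [0, 1, 5, 6, 7, 2, 3, 4]

/-- the upper root group -/
def xW : List (List ℕ) := [[], [2, 4, 3], [0, 0, 3, 1, 0], [3, 0, 4, 0, 3], [0, 3, 3, 0, 4], [5, 1, 2, 3, 2], [5, 0, 4, 5], [4, 5, 5, 0]]

/-- the lower root group -/
def yW : List (List ℕ) := [[], [5, 0, 4, 2], [0, 0, 1, 4, 5], [0, 0, 3, 1, 3], [3, 0, 2, 4, 4], [0, 4, 1, 2, 3], [0, 5, 1], [1, 0, 3, 5, 1]]

/-- conjugates of the fourteen letters -/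
def conj : List (List (List ℕ)) := [[[0, 9, 0], [0, 13, 0], [0, 10, 0], [0, 7, 0], [0, 8, 0], [0, 12, 0], [0, 11, 0], [5, 8, 5], [5, 9, 5], [5, 7, 5], [5, 13, 5], [5, 11, 5], [5, 10, 5], [5, 12, 5]], [[1], [6], [4], [3], [5], [2], [0], [4, 11, 4], [4, 9, 4], [4, 12, 4], [4, 7, 4], [4, 10, 4], [4, 8, 4], [4, 13, 4]], [[5, 9, 5], [5, 12, 5], [5, 11, 5], [5, 13, 5], [5, 10, 5], [5, 7, 5], [5, 8, 5], [4, 13, 4], [4, 11, 4], [4, 8, 4], [4, 7, 4], [4, 12, 4], [4, 10, 4], [4, 9, 4]], [[2, 7, 2], [2, 10, 2], [2, 11, 2], [2, 12, 2], [2, 13, 2], [2, 8, 2], [2, 9, 2], [6, 9, 6], [6, 13, 6], [6, 10, 6], [6, 7, 6], [6, 8, 6], [6, 12, 6], [6, 11, 6]], [[0, 13, 0], [0, 10, 0], [0, 9, 0], [0, 11, 0], [0, 8, 0], [0, 7, 0], [0, 12, 0], [2, 7, 2], [2, 12, 2], [2, 13, 2], [2, 8, 2], [2, 9, 2], [2, 10, 2], [2, 11, 2]], [[3, 10, 3], [3, 9, 3], [3, 13, 3], [3, 12, 3], [3, 8, 3],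 [3, 11, 3], [3, 7, 3], [2, 10, 2], [2, 9, 2], [2, 13, 2], [2, 12, 2], [2, 8, 2], [2, 11, 2], [2, 7, 2]]]

/-- commutators of the generators -/
def com : List (List (List ℕ)) := [[[], [1, 13, 5], [], [1, 13, 3], [1, 9], [0, 11, 6]], [[5, 13, 1], [], [], [1, 9], [5, 11, 5], [1, 8, 2]], [[], [], [], [1, 12, 6], [4, 11, 0], [4, 10, 3]], [[3, 13, 1], [9, 1], [6, 12, 1], [], [0, 8, 3], []], [[9, 1], [5, 11, 5], [0, 11, 4], [3, 8, 0], [], []], [[6, 11, 0], [2, 8, 1], [3, 10, 4], [], [], []]]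

/-- all defining words -/
def cov : List (List ℕ) := [[], [2], [2, 2], [1], [1, 2], [1, 2, 2], [1, 1], [1, 1, 2], [1, 1, 2, 2], [0], [0, 2], [0, 2, 2], [0, 1], [0, 1, 2], [1, 0], [0, 1, 1], [1, 1, 0], [1, 0, 1], [0, 0, 1], [1, 0, 0], [0, 1, 0], [0, 0, 1, 1], [0, 1, 1, 0], [0, 1, 0, 1], [0, 0], [0, 0, 2], [0, 0, 2, 2], [], [5], [5, 5], [4], [4, 5], [4, 5, 5], [4, 4], [4, 4, 5], [4, 4, 5, 5], [3], [3, 5], [3, 5, 5], [3, 4], [3, 4, 5], [4, 3], [3, 4, 4], [4, 4, 3], [4, 3, 4], [3, 3, 4], [4, 3, 3], [3, 4, 3], [3, 3, 4, 4], [2, 4, 3, 2], [3, 4, 3, 4], [3, 3], [3, 3, 5], [3, 3, 5, 5]]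

/-- an orbit of 56 spanning vectors -/
def pts : List (List (ℕ × ℤ)) := [[(13, 1)], [(0, 1), (2, 1), (3, -1), (7, 1), (8, 1), (12, -1), (13, 1)], [(2, -1), (4, -1), (6, -1), (7, 1), (8, 1), (9, 1), (11, -1), (13, 1)], [(0, 1), (1, -1), (2, -1), (3, 1), (4, -1), (6, -1), (10, 1), (13, 1)], [(0, 1), (1, 1), (2, 1), (3, 1), (4, 1), (5, 1), (6, -1), (8, 1), (9, -1), (10, -1), (12, 1), (13, 1)], [(1, -1), (2, 1), (3, -1), (4, -1), (6, 1), (7, -1), (8, -1), (9, 1), (10, 1), (11, 1), (13, 1)], [(0, -1), (1, -1), (2, 1), (3, -1), (5, 1), (6, -1), (7, 1), (9, -1), (10, -1), (11, 1), (12, -1), (13, 1)], [(0, 1), (1, 1), (2, 1), (3, 1), (5, -1), (6, -1), (7, 1), (9, -1), (10, 1), (11, 1), (12, 1), (13, 1)], [(1, -1), (2, 1), (4, 1), (5, 1), (6, 1), (7, -1), (8, -1), (9, 1), (11, -1), (12, -1), (13, 1)], [(0, -1), (1, -1), (2, 1), (3, -1), (4, 1), (5, -1), (6, -1), (8,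 1), (9, -1), (10, 1), (12, -1), (13, 1)], [(0, 1), (1, 1), (2, -1), (3, 1), (4, -1), (5, 1), (6, 1), (8, -1), (9, 1), (10, -1), (12, 1), (13, -1)], [(2, -1)], [(1, 1), (2, -1), (4, -1), (5, -1), (6, -1), (7, 1), (8, 1), (9, -1), (11, 1), (12, 1), (13, -1)], [(0, -1), (1, 1), (2, -1), (3, -1), (4, 1), (5, 1), (7, 1), (8, -1), (10, 1), (11, -1), (12, -1), (13, 1)], [(2, -1), (4, 1), (6, -1), (7, -1), (8, -1), (9, 1), (11, 1), (13, 1)], [(0, -1), (1, -1), (2, 1), (4, -1), (5, 1), (6, 1), (7, 1), (8, 1), (9, 1), (10, 1), (11, -1), (13, 1)], [(1, -1), (2, -1), (3, -1), (4, 1), (6, -1), (7, 1), (8, 1), (9, -1), (10, 1), (11, -1), (13, -1)], [(0, -1), (2, -1), (3, 1), (7, -1), (8, -1), (12, 1), (13, -1)], [(0, 1), (2, -1), (3, 1), (4, -1), (5, -1), (8, 1), (9, 1), (10, -1), (11, 1), (12, -1), (13, -1)], [(0, -1), (1, 1), (2, -1), (3, -1), (4, -1), (6, -1), (10, -1),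 (13, 1)], [(0, -1), (1, 1), (2, 1), (5, -1), (9, -1), (11, -1), (12, -1), (13, -1)], [(1, -1), (2, 1), (3, 1), (5, 1), (6, 1), (7, 1), (8, -1), (9, -1), (10, 1), (12, 1), (13, -1)], [(0, 1), (2, 1), (3, 1), (4, 1), (5, -1), (8, -1), (9, -1), (10, -1), (11, -1), (12, -1), (13, 1)], [(0, 1), (1, -1), (2, -1), (3, 1), (4, 1), (5, -1), (7, 1), (8, -1), (10, -1), (11, -1), (12, 1), (13, 1)], [(0, -1), (2, 1), (3, 1), (7, 1), (8, 1), (12, 1), (13, 1)], [(0, -1), (1, 1), (2, 1), (3, -1), (4, 1), (6, 1), (10, -1), (13, -1)], [(0, -1), (1, 1), (2, 1), (3, -1), (4, -1), (5, 1), (7, -1), (8, 1), (10, 1), (11, 1), (12, -1), (13, -1)], [(0, -1), (1, 1), (2, -1), (5, -1), (9, 1), (11, 1), (12, -1), (13, 1)], [(1, 1), (2, 1), (3, 1), (4, -1), (6, 1), (7, -1), (8, -1), (9, 1), (10, -1), (11, 1), (13, 1)], [(1, 1), (2, 1), (3, -1), (5, -1), (6, 1), (7, 1), (8, -1), (9, -1),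 (10, -1), (12, -1), (13, -1)], [(1, 1), (2, -1), (3, -1), (5, -1), (6, -1), (7, -1), (8, 1), (9, 1), (10, -1), (12, -1), (13, 1)], [(0, 1), (1, -1), (2, 1), (3, 1), (4, -1), (5, -1), (7, -1), (8, 1), (10, -1), (11, 1), (12, 1), (13, -1)], [(1, -1), (2, -1), (3, 1), (5, 1), (6, -1), (7, -1), (8, 1), (9, 1), (10, 1), (12, 1), (13, 1)], [(0, 1), (2, 1), (3, -1), (4, -1), (5, -1), (6, -1), (7, -1), (10, -1), (11, 1), (12, 1), (13, 1)], [(0, 1), (1, -1), (2, 1), (5, 1), (9, -1), (11, -1), (12, 1), (13, -1)], [(1, 1), (2, 1), (4, 1), (5, -1), (6, 1), (7, -1), (8, -1), (9, 1), (11, -1), (12, 1), (13, 1)], [(0, -1), (2, -1), (3, 1), (4, 1), (5, 1), (6, 1), (7, 1), (10, 1), (11, -1), (12, -1), (13, -1)], [(1, -1), (2, -1), (4, -1), (5, 1), (6, -1), (7, 1), (8, 1), (9, -1), (11, 1), (12, -1), (13, -1)], [(0, -1), (1, -1), (2, -1), (3, -1), (4, -1), (5, -1), (6, 1),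 (8, -1), (9, 1), (10, 1), (12, -1), (13, -1)], [(0, -1), (2, -1), (3, -1), (4, -1), (5, 1), (8, 1), (9, 1), (10, 1), (11, 1), (12, 1), (13, -1)], [(0, -1), (2, 1), (3, 1), (4, -1), (5, 1), (6, -1), (7, -1), (10, 1), (11, 1), (12, -1), (13, 1)], [(0, 1), (1, 1), (2, -1), (4, 1), (5, -1), (6, -1), (7, -1), (8, -1), (9, -1), (10, -1), (11, 1), (13, -1)], [(0, 1), (1, 1), (2, 1), (4, -1), (5, -1), (6, 1), (7, 1), (8, 1), (9, 1), (10, -1), (11, -1), (13, 1)], [(0, 1), (2, -1), (3, -1), (4, 1), (5, -1), (6, 1), (7, 1), (10, -1), (11, -1), (12, 1), (13, -1)], [(0, 1), (1, -1), (2, 1), (3, 1), (4, 1), (6, 1), (10, 1), (13, -1)], [(2, 1), (4, -1), (6, 1), (7, 1), (8, 1), (9, -1), (11, -1), (13, -1)], [(1, 1), (2, -1), (3, 1), (4, 1), (6, -1), (7, 1), (8, 1), (9, -1), (10, -1), (11, -1), (13, -1)], [(0, 1), (1, 1), (2, -1), (3, 1), (5, -1), (6, 1), (7, -1), (9, 1),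 (10, 1), (11, -1), (12, 1), (13, -1)], [(0, -1), (1, -1), (2, -1), (3, -1), (5, 1), (6, 1), (7, -1), (9, 1), (10, -1), (11, -1), (12, -1), (13, -1)], [(0, 1), (2, -1), (3, -1), (7, -1), (8, -1), (12, -1), (13, -1)], [(2, 1)], [(0, -1), (2, 1), (3, -1), (4, 1), (5, 1), (8, -1), (9, -1), (10, 1), (11, -1), (12, 1), (13, 1)], [(0, 1), (1, -1), (2, -1), (5, 1), (9, 1), (11, 1), (12, 1), (13, 1)], [(2, 1), (4, 1), (6, 1), (7, -1), (8, -1), (9, -1), (11, 1), (13, -1)], [(13, -1)], [(0, -1), (1, -1), (2, -1), (4, 1), (5, 1), (6, -1), (7, -1), (8, -1), (9, -1), (10, 1), (11, 1), (13, -1)]]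

/-- the packed permutations of the orbit -/
def permPk (i : ℕ) : ℕ :=
  bif Nat.blt i 1 then 0xbb6260a01de99f06a23059082f449ecc65538ceb35bd872ac72b5d6eb98285794344d7d93d61d440a100
  else bif Nat.blt i 2 then 0x976cb71ad40d5c3d589a3304c1ed0a50f2645ab86ca7305c487a2ac6fb932029db3a07627da65544b140
  else bif Nat.blt i 3 then 0x3b620b2627b18173c436dddf4e70aed54151730068d21cd592c1f298abebaa94256c366361d69648c180
  else bif Nat.blt i 4 then 0x3117c3172dec6a2bd54889f3769b763a5002c74d688d02aa7205197aec2b5866262e48444d76cf24d1c1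
  else bif Nat.blt i 5 then 0x435b581f295d559db729cb89bda526d11133ad6493064a638469f1ab032c140a222df35b81e0d73ce202
  else 0xd59a475f2764890bb6bc2dc6331494cebd049c198ea25b208c847001a2ada8559f2d578d85b7184cf243

/-- the unit vectors as combinations -/
def cert : List (List (ℕ × ℤ)) := [[(0, -1), (1, -1), (2, -1), (3, -1), (4, -1), (6, -1), (7, 1), (8, 1), (9, 1), (11, -1)], [(0, 1), (1, -1), (2, 1), (3, 1), (4, 1), (5, 1), (7, -1), (9, 1), (11, 1), (15, -1)], [(11, -1)], [(0, -1), (3, -1), (4, -1), (5, 1), (6, -1), (7, 1), (13, 1), (14, -1), (15, -1)], [(0, -1), (1, 1), (2, 1), (3, 1), (8, -1), (9, -1), (11, 1), (13, 1), (15, -1)], [(0, -1), (2, -1), (3, 1), (5, 1), (14, -1), (15, 1)], [(0, 1), (1, -1), (2, -1), (3, -1), (4, -1), (5, 1), (7, 1), (8, -1), (9, -1), (11, 1), (14, 1), (15, -1)], [(0, -1), (1, 1), (2, -1), (3, 1), (4, -1), (6, 1), (7, 1), (8, -1),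 (9, 1), (11, 1), (13, 1), (14, -1), (15, -1)], [(0, 1), (2, -1), (5, -1), (7, -1), (8, -1), (9, 1), (11, 1), (13, -1), (14, 1), (15, -1)], [(1, -1), (2, 1), (3, -1), (4, -1), (5, 1), (7, 1), (8, -1), (9, -1), (15, -1)], [(0, -1), (2, -1), (3, 1), (4, -1), (5, 1), (6, -1), (7, 1), (9, 1), (14, -1), (15, 1)], [(0, 1), (2, 1), (4, -1), (5, -1), (6, 1), (8, -1), (11, 1), (13, -1), (14, -1), (15, -1)], [(0, 1), (1, -1), (3, 1), (4, -1), (5, 1), (6, 1), (8, -1), (13, -1), (14, 1), (15, -1)], [(0, 1)]]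

end Cfsg.Agent.Chev.Ree3Data
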