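import Cfsg.Agent.Lib.Lie.TwG2
import Cfsg.Agent.Lib.Lie.Ree3Data
import Cfsg.Agent.Lib.SL2Pres.Universal
import Cfsg.Agent.Lib.Classical.SL
import Cfsg.Agent.Lib.Recog.SL2Orders

/-! The derived group of `²G₂(3)` is `PSL₂(8)`. -/

set_option autoImplicit false
set_option maxRecDepth 20000

namespace Cfsg.Agent.Chev.Ree3

open Cfsg.Lie Matrix
open Tab
open TwG2 (g0)
open scoped commutatorElement

/-! ### the field with eight elements -/

/-- the field -/
structure F8 where
  val : Fin 8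
deriving DecidableEq

instance : Fintype F8 := Fintype.ofEquiv (Fin 8) ⟨F8.mk, F8.val, fun _ => rfl, fun _ => rfl⟩

/-- constructor -/
def F8.of (n : ℕ) : F8 := ⟨Fin.ofNat 8 n⟩

instance : Zero F8 := ⟨F8.of 0⟩
instance : One F8 := ⟨F8.of 1⟩
instance : Add F8 := ⟨fun a b => F8.of (Nat.xor a.val.val b.val.val)⟩
instance : Neg F8 := ⟨fun a => a⟩
instance : Mul F8 := ⟨fun a b => F8.of (Ree3Data.mulT.getD (8 * a.val.val + b.val.val) 0)⟩
instance : Inv F8 := ⟨fun a => F8.of (Ree3Data.invT.getD a.val.val 0)⟩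
instance : Nontrivial F8 := ⟨⟨0, 1, by decide⟩⟩

instance : Field F8 where
  add_assoc := by decide +kernel
  zero_add := by decide +kernel
  add_zero := by decide +kernel
  add_comm := by decide +kernel
  neg_add_cancel := by decide +kernel
  left_distrib := by decide +kernel
  right_distrib := by decide +kernel
  zero_mul := by decide +kernel
  mul_zero := by decide +kernel
  mul_assoc := by decide +kernel
  one_mul := by decide +kernel
  mul_one := by decide +kernel
  mul_comm := by decide +kernel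
  mul_inv_cancel := by decide +kernel
  inv_zero := by decide +kernel
  nsmul := nsmulRec
  zsmul := zsmulRec
  nnqsmul := _
  qsmul := _

theorem card_F8 : Fintype.card F8 = 8 := rfl

/-! ### generators -/

/-- the field with three elements -/
abbrev K3 := ZMod 3

/-- the group -/
noncomputable abbrev TW : Subgroup (GL G2Data.tab.D.Idx K3) := TwG2.tw K3 (3 ^ 0)

/-- the word of a generator -/
def gW6 (i : ℕ) : List (ℕ × ℤ) := Ree3Data.gens.getD i []

/-- parameters -/
def par6 : ℕ → ℤ × ℤ × ℤ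
  | 0 => (1, 0, 0) | 1 => (0, 1, 0) | 2 => (0, 0, 1)
  | 3 => (1, 0, 0) | 4 => (0, 1, 0) | _ => (0, 0, 1)

/-- a defining word -/
def uInt (t u v : ℤ) : List (ℕ × ℤ) :=
  [(7, t), (6, t), (8, t * t + u), (9, t * t * t + v), (10, u), (11, v)]

theorem uInt_mem {F : Type*} [Field F] [CharP F 3] [Fintype F] (t u v : ℤ) :
    cWordVal g0 F (uInt t u v) ∈ TwG2.tw F (3 ^ 0) ∧
      cWordVal g0 F (TwG2.negW (uInt t u v)) ∈ TwG2.tw F (3 ^ 0) :=
  TwG2.const_mem (t := (t : F)) (u := (u : F)) (v := (v : F)) (by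
    simp [reeWordU, uInt, g2a, g2b, g2ab, g2aab, g2aaab, g2aaabb]
    constructor <;> ring)

theorem gensOK : ∀ i < 6, G2Data.tab.checkWordP 3 (gW6 i)
    (bif Nat.blt i 3 then uInt (par6 i).1 (par6 i).2.1 (par6 i).2.2
      else TwG2.negW (uInt (par6 i).1 (par6 i).2.1 (par6 i).2.2)) = true := by decide +kernel

theorem gW6_mem (i : ℕ) : cWordVal g0 K3 (gW6 i) ∈ TW := by
  by_cases h : i < 6
  · rw [word_eq_modP g0 3 (gensOK i h)]
    by_cases h3 : i < 3
    · rw [show Nat.blt i 3 = true by simpa using h3, cond_true]; exact (uInt_mem _ _ _).1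
    · rw [show Nat.blt i 3 = false by
        rw [Bool.eq_false_iff]; simpa [Nat.blt_eq] using h3, cond_false]; exact (uInt_mem _ _ _).2
  · have : gW6 i = [] := by
      simp [gW6, List.getD_eq_getElem?_getD, List.getElem?_eq_none (l := Ree3Data.gens) (i := i)
        (by simp [Ree3Data.gens]; omega)]
    rw [this]; simp [cWordVal]

/-- a generator -/
noncomputable def gen (i : ℕ) : ↥TW := ⟨cWordVal g0 K3 (gW6 i), gW6_mem i⟩

/-- a product of generators -/
noncomputable def valW (w : List ℕ) : ↥TW := (w.map gen).prod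

theorem valW_append (w w' : List ℕ) : valW (w ++ w') = valW w * valW w' := by simp [valW]

/-- the long word -/
def flat (w : List ℕ) : List (ℕ × ℤ) := w.flatMap gW6

theorem coe_valW : ∀ w : List ℕ, (valW w : GL G2Data.tab.D.Idx K3) = cWordVal g0 K3 (flat w)
  | [] => by simp [valW, flat, cWordVal]
  | i :: w => by
    have := coe_valW w
    simp only [valW, flat, List.map_cons, List.prod_cons, List.flatMap_cons, cWordVal_append,
      Subgroup.coe_mul] at this ⊢
    rw [this]; rfl

/-! ### the permutation model -/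

/-- a point of the orbit -/
def pt (k : ℕ) : SVec := (Ree3Data.pts.getD k []).map fun e => (e.1, (e.2, 0, 0))

/-- a scaled vector -/
def scale (c : ℤ) (v : SVec) : SVec := v.map fun x => (x.1, (c * x.2.1, x.2.2))

/-- a combination of points -/
def comb (l : List (ℕ × ℤ)) : SVec := l.flatMap fun e => scale e.2 (pt e.1)

/-- two vectors agree modulo three -/
def eq3 (v v' : SVec) : Bool := (collect (v ++ vneg v')).all fun x => x.2.1 % (3 : ℤ) == 0

theorem sem_eq3 {v v' : SVec} (h : eq3 v v' = true) :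
    sem G2Data.tab (1 : K3ˣ) 1 v = sem G2Data.tab (1 : K3ˣ) 1 v' := by
  simp only [eq3, List.all_eq_true, beq_iff_eq] at h
  rw [← sub_eq_zero, sub_eq_add_neg, ← sem_vneg, ← sem_append, ← sem_collect]
  refine List.sum_eq_zero fun x hx => ?_
  obtain ⟨q, hq, rfl⟩ := List.mem_map.1 hx
  have hz : (q.2.1 : K3) = 0 := by
    rw [ZMod.intCast_zmod_eq_zero_iff_dvd]
    exact Int.dvd_of_emod_eq_zero (h q hq)
  simp [monVal, hz]

theorem sem_scale (c : ℤ) (v : SVec) :
    sem G2Data.tab (1 : K3ˣ) 1 (scale c v) = (c : K3) • sem G2Data.tab (1 : K3ˣ) 1 v := by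
  induction v with
  | nil => simp [scale, sem]
  | cons e v ih =>
    simp only [sem, scale, List.map_cons, List.sum_cons, smul_add] at ih ⊢
    rw [ih, smul_smul, monVal, monVal, Int.cast_mul, mul_assoc]

/-- image of a point under a generator -/
def img (i k : ℕ) : ℕ := Nat.land (Nat.shiftRight (Ree3Data.permPk i) (Nat.mul 6 k)) 63

theorem imgOK : ∀ i < 6, ∀ k < 56, (Nat.blt (img i k) 56 &&
    eq3 (G2Data.tab.wapply ((gW6 i).map fun e => (e.1, [(e.2, 0, 0)])) (pt k)) (pt (img i k))) = true := by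
  decide +kernel

theorem certOK : ∀ j < 14, ((Ree3Data.cert.getD j []).all (fun e => Nat.blt e.1 56) &&
    eq3 (comb (Ree3Data.cert.getD j [])) [(j, (1, 0, 0))]) = true := by decide +kernel

/-- the point vectors -/
noncomputable def ptV (k : ℕ) : G2Data.tab.D.Idx → K3 := sem G2Data.tab (1 : K3ˣ) 1 (pt k)

theorem act_word {w : List (ℕ × ℤ)} (hw : ∀ e ∈ w, e.1 < G2Data.tab.n) (v : SVec) :
    sem G2Data.tab (1 : K3ˣ) 1 (G2Data.tab.wapply (w.map fun e => (e.1, [(e.2, 0, 0)])) v) =
      ((cWordVal g0 K3 w : GL G2Data.tab.D.Idx K3) : Matrix _ _ K3) *ᵥ sem G2Data.tab (1 : K3ˣ) 1 v := by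
  rw [sem_wapply 1 1 g0 _ _ (by
    intro x hx; obtain ⟨a, ha, rfl⟩ := List.mem_map.1 hx; exact hw a ha)]
  have e : cWordVal g0 K3 w = ((w.map fun e => (e.1, (e.2 : K3))).map
      fun e => xg g0 e.1 e.2).prod := by simp [cWordVal, List.map_map, Function.comp_def]
  rw [e, word_val, List.map_map]
  congr 3
  funext a
  simp [pval, monVal_const]

theorem gW6_bd : ∀ i < 6, ∀ e ∈ gW6 i, e.1 < G2Data.tab.n := by decide +kernel

/-- a word as a map of points -/
def permW (w : List ℕ) (k : ℕ) : ℕ := w.foldr img k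

theorem act_valW : ∀ w : List ℕ, (∀ i ∈ w, i < 6) → ∀ k < 56, permW w k < 56 ∧
    ((valW w : GL G2Data.tab.D.Idx K3) : Matrix _ _ K3) *ᵥ ptV k = ptV (permW w k) := by
  intro w
  induction w with
  | nil => intro _ k hk; exact ⟨hk, by simp [valW, permW]⟩
  | cons i w ih =>
    intro hw k hk
    obtain ⟨h1, h2⟩ := ih (fun x hx => hw x (List.mem_cons_of_mem _ hx)) k hk
    have hi : i < 6 := hw i List.mem_cons_self
    have h := imgOK i hi (permW w k) h1
    simp only [Bool.and_eq_true, nat_blt] at h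
    refine ⟨h.1, ?_⟩
    rw [show valW (i :: w) = gen i * valW w by simp [valW], Subgroup.coe_mul, Units.val_mul,
      ← Matrix.mulVec_mulVec, h2]
    have hc : ((gen i : ↥TW) : GL G2Data.tab.D.Idx K3) = cWordVal g0 K3 (gW6 i) := rfl
    rw [hc, ptV, ← act_word (gW6_bd i hi), sem_eq3 h.2, ptV]
    rw [show permW (i :: w) k = img i (permW w k) from rfl]

/-- equality of products -/
def eqW (w w' : List ℕ) : Bool :=
  w.all (fun i => Nat.blt i 6) && w'.all (fun i => Nat.blt i 6) &&
    allBelow (fun k => Nat.beq (permW w k) (permW w' k)) 56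

theorem comb_act {w : List ℕ} (hw : ∀ i ∈ w, i < 6) :
    ∀ l : List (ℕ × ℤ), (∀ e ∈ l, e.1 < 56) →
    ((valW w : GL G2Data.tab.D.Idx K3) : Matrix _ _ K3) *ᵥ sem G2Data.tab (1 : K3ˣ) 1 (comb l) =
      (l.map fun e => (e.2 : K3) • ptV (permW w e.1)).sum
  | [], _ => by simp [comb, sem]
  | e :: l, h => by
    rw [show comb (e :: l) = scale e.2 (pt e.1) ++ comb l by simp [comb], sem_append,
      Matrix.mulVec_add, comb_act hw l fun x hx => h x (List.mem_cons_of_mem _ hx), sem_scale,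
      Matrix.mulVec_smul, List.map_cons, List.sum_cons]
    rw [show sem G2Data.tab (1 : K3ˣ) 1 (pt e.1) = ptV e.1 from rfl,
      (act_valW w hw e.1 (h e List.mem_cons_self)).2]

theorem valW_eq {w w' : List ℕ} (h : eqW w w' = true) : valW w = valW w' := by
  simp only [eqW, Bool.and_eq_true, List.all_eq_true, nat_blt, allBelow_eq_true] at h
  obtain ⟨⟨hw, hw'⟩, hk⟩ := h
  refine Subtype.ext (Units.ext (ext_col g0 fun j hj => ?_))
  have hc := certOK j hj
  simp only [Bool.and_eq_true, List.all_eq_true, nat_blt] at hc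
  rw [← sem_one (τ := (1 : K3ˣ)) (υ := 1), ← sem_eq3 hc.2, comb_act hw _ hc.1,
    comb_act hw' _ hc.1]
  refine congrArg List.sum (List.map_congr_left fun e he => ?_)
  rw [Nat.eq_of_beq_eq_true (hk e.1 (hc.1 e he))]

/-! ### the root groups -/

/-- upper -/
def xL (a : F8) : List ℕ := Ree3Data.xW.getD a.val.val []

/-- lower -/
def yL (a : F8) : List ℕ := Ree3Data.yW.getD a.val.val []

theorem addX_ok : ∀ a b : F8, eqW (xL a ++ xL b) (xL (a + b)) = true := by decide +kernel

theorem addY_ok : ∀ a b : F8, eqW (yL a ++ yL b) (yL (a + b)) = true := by decide +kernel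

theorem relX_ok : ∀ a b : F8, a ≠ 0 →
    eqW (xL a ++ yL (-a⁻¹) ++ xL a ++ xL b)
      (yL (-(a⁻¹ * a⁻¹ * b)) ++ (xL a ++ yL (-a⁻¹) ++ xL a)) = true := by decide +kernel

theorem relY_ok : ∀ a b : F8, a ≠ 0 →
    eqW (yL a ++ xL (-a⁻¹) ++ yL a ++ yL b)
      (xL (-(a⁻¹ * a⁻¹ * b)) ++ (yL a ++ xL (-a⁻¹) ++ yL a)) = true := by decide +kernel

/-- the relations -/
noncomputable def sdata : SL2Pres.SData F8 ↥TW where
  X a := valW (xL a)
  Y a := valW (yL a)
  addX a b := by rw [← valW_append]; exact valW_eq (addX_ok a b)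
  addY a b := by rw [← valW_append]; exact valW_eq (addY_ok a b)
  relX a b h := by
    rw [mul_inv_eq_iff_eq_mul, pow_two]
    simpa only [valW_append] using valW_eq (relX_ok a b h)
  relY a b h := by
    rw [mul_inv_eq_iff_eq_mul, pow_two]
    simpa only [valW_append] using valW_eq (relY_ok a b h)

/-- the fourteen letters -/
def letterW (i : ℕ) : List ℕ :=
  bif Nat.blt i 7 then xL (F8.of (i + 1)) else yL (F8.of (i - 6))

/-- a word in the letters -/
def lW (w : List ℕ) : List ℕ := w.flatMap letterW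

theorem conj_ok : ∀ k < 6, ∀ i < 14,
    eqW ([k] ++ letterW i) (lW ((Ree3Data.conj.getD k []).getD i []) ++ [k]) = true := by
  decide +kernel

theorem com_ok : ∀ a < 6, ∀ b < 6,
    eqW [a, b] (lW ((Ree3Data.com.getD a []).getD b []) ++ [b, a]) = true := by decide +kernel

/-- index of a defining word -/
def covI (neg : Bool) (t u v : ℕ) : ℕ := (cond neg 27 0) + 9 * t + 3 * u + v

/-- a defining word in the generators -/
def covW (neg : Bool) (t u v : ℕ) : List (ℕ × ℤ) :=
  flat (Ree3Data.cov.getD (covI neg t u v) [])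

theorem covU_ok : ∀ x < 3, (G2Data.tab.checkWordP 3 (uInt (x : ℕ) 0 0) (covW false x 0 0) &&
    G2Data.tab.checkWordP 3 (uInt 0 (x : ℕ) 0) (covW false 0 x 0) &&
    G2Data.tab.checkWordP 3 (uInt 0 0 (x : ℕ)) (covW false 0 0 x)) = true := by decide +kernel

theorem covV_ok : ∀ x < 3,
    (G2Data.tab.checkWordP 3 (TwG2.negW (uInt (x : ℕ) 0 0)) (covW true x 0 0) &&
    G2Data.tab.checkWordP 3 (TwG2.negW (uInt 0 (x : ℕ) 0)) (covW true 0 x 0) &&
    G2Data.tab.checkWordP 3 (TwG2.negW (uInt 0 0 (x : ℕ))) (covW true 0 0 x)) = true := by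
  decide +kernel

theorem commLo : ∀ r ∈ [0, 1, 2, 3, 8, 9, 10, 11], ∀ s ∈ [0, 1, 2, 3, 8, 9, 10, 11],
    (Nat.blt r 4 == Nat.blt s 4) = true →
      r < G2Data.tab.n ∧ s < G2Data.tab.n ∧ G2Data.tab.commOK 3 r s = true := by decide +kernel

theorem cov_lt : ∀ w ∈ Ree3Data.cov, ∀ i ∈ w, i < 6 := by decide +kernel


end Cfsg.Agent.Chev.Ree3
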