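import Cfsg.Agent.Lib.Lie.Ree2

/-!
# Centralisers and normalisers in the Borel subgroup of the small Ree groups
-/

set_option autoImplicit false

namespace Cfsg.Agent.Chev.Ree

open Cfsg.Lie TwG2 Tab

/-- the small Ree group -/
abbrev Gr (F : Type*) [Field F] (m : ℕ) := ↥(tw F (3 ^ m))

variable {F : Type*} [Field F] [CharP F 3] [Fintype F] {m : ℕ} (hK : Fintype.card F = 3 ^ (2 * m + 1))

/-- the fixed unipotent subgroup -/
noncomputable abbrev UG (F : Type*) [Field F] (m : ℕ) : Subgroup (Gr F m) :=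
  (G2Data.tab.D.posUnipotent F ⊓ tw F (3 ^ m)).subgroupOf (tw F (3 ^ m))

include hK in
/-- the torus, parametrised -/
noncomputable def Hh : Fˣ →* Gr F m :=
  (Subgroup.inclusion (inf_le_right : G2Data.tab.D.diagonalSubgroup F ⊓ tw F (3 ^ m) ≤ tw F (3 ^ m))).comp
    (torEquiv hK).toMonoidHom

theorem Hh_val (s : Fˣ) : (Hh hK s : GL G2Data.tab.D.Idx F) = tor G2Data.tab F (par m s) := rfl

theorem Hh_injective : Function.Injective (Hh hK) :=
  (Subgroup.inclusion_injective (inf_le_right : G2Data.tab.D.diagonalSubgroup F ⊓ tw F (3 ^ m) ≤ tw F (3 ^ m))).comp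
    (torEquiv hK).injective

theorem Hh_mem_B1 (s : Fˣ) : Hh hK s ∈ B1 F m :=
  mem_B1.2 (Subgroup.mem_sup_right (torEquiv hK s).2.1)

/-- the representative of the long element -/
noncomputable def mG : Gr F m := ⟨mRep F, mRep_mem hK⟩

omit [CharP F 3] [Fintype F] in
theorem UG_le_B1 : UG F m ≤ B1 F m := fun x hx =>
  mem_B1.2 (Subgroup.mem_sup_left (Subgroup.mem_inf.1 (Subgroup.mem_subgroupOf.1 hx)).1)

omit [CharP F 3] [Fintype F] in
theorem mem_UG {x : Gr F m} :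
    x ∈ UG F m ↔ (x : GL G2Data.tab.D.Idx F) ∈ G2Data.tab.D.posUnipotent F := by
  rw [Subgroup.mem_subgroupOf, Subgroup.mem_inf]
  exact and_iff_left x.2

omit [CharP F 3] in
theorem conj_mem_UG {g u : Gr F m} (hg : g ∈ B1 F m) (hu : u ∈ UG F m) : g * u * g⁻¹ ∈ UG F m := by
  rw [mem_UG] at hu ⊢
  rw [posUnipotent_eq g0] at hu ⊢
  simpa using (Subgroup.mem_normalizer_iff.1 (borel_normalizes g0 (mem_B1.1 hg)) _).1 hu

include hK in
theorem card_UG : Nat.card (UG F m) = (3 ^ (2 * m + 1)) ^ 3 := by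
  rw [Nat.card_congr (Subgroup.subgroupOfEquivOfLe inf_le_right).toEquiv, card_pos hK]

theorem Hh_mem_UG {s : Fˣ} (h : Hh hK s ∈ UG F m) : s = 1 := by
  rw [mem_UG, posUnipotent_eq g0] at h
  refine Hh_injective hK ?_
  rw [map_one]
  exact Subtype.ext (pos_inf_torus g0 h (torEquiv hK s).2.1)

include hK in
theorem exists_split {g : Gr F m} (hg : g ∈ B1 F m) : ∃ u ∈ UG F m, ∃ s : Fˣ, g = u * Hh hK s := by
  obtain ⟨u, hu, h, hh, e⟩ := borel_split hK (mem_B1.1 hg) g.2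
  obtain ⟨s, hs⟩ := (torEquiv hK).surjective ⟨h, hh⟩
  exact ⟨⟨u, hu.2⟩, Subgroup.mem_subgroupOf.2 hu, s, Subtype.ext (by
    rw [Subgroup.coe_mul, Hh_val, show tor G2Data.tab F (par m s) = h from congrArg Subtype.val hs]
    exact e)⟩

include hK in
theorem exists_bruhat (g : Gr F m) :
    g ∈ B1 F m ∨ ∃ u ∈ UG F m, ∃ b ∈ B1 F m, g = u * mG hK * b := by
  rcases bruhat_cases hK g.2 with h | ⟨u, hu, b, hb, e⟩
  · exact Or.inl (mem_B1.2 h)
  · exact Or.inr ⟨⟨u, hu.2⟩, Subgroup.mem_subgroupOf.2 hu, ⟨b, hb.2⟩, mem_B1.2 hb.1, Subtype.ext e⟩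

theorem m_conj_eq_one {z : Gr F m} (hz : z ∈ UG F m) (h : (mG hK)⁻¹ * z * mG hK ∈ B1 F m) : z = 1 :=
  Subtype.ext (U1_conj_eq_one hK (Subgroup.mem_subgroupOf.1 hz) (mem_B1.1 h))

theorem mG_not_mem : mG hK ∉ B1 F m := by
  intro h
  have h1 : (⟨uF m 0 1 0, ((mem_U1_iff hK).2 ⟨0, 1, 0, rfl⟩).2⟩ : Gr F m) ∈ UG F m :=
    Subgroup.mem_subgroupOf.2 ((mem_U1_iff hK).2 ⟨_, _, _, rfl⟩)
  have := m_conj_eq_one hK h1 (mul_mem (mul_mem (inv_mem h) (UG_le_B1 h1)) h)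
  exact one_ne_zero (α := F) (uF_inj ((congrArg Subtype.val this).trans (uF_zero (m := m)).symm)).2.1

theorem mG_conj (s : Fˣ) : (mG hK)⁻¹ * Hh hK s * mG hK = Hh hK s⁻¹ := by
  have hN : ∀ r ∈ ([6, 8, 9] : List ℕ), r < G2Data.tab.n ∧ G2Data.tab.A 0 9 = 1 ∧ G2Data.tab.A 1 9 = 0 := by
    decide +kernel
  obtain ⟨d, hd⟩ := wSub_conj_torus g0 (nWd_mem_wSub (F := F) g0 (wd_wd 0)) (par m s)
  have hT : nWd g0 F (wd 0) ∈ tw F (3 ^ m) := (X hK).n_mem 0 Nat.one_pos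
  obtain ⟨s', hs'⟩ := (torEquiv hK).surjective ⟨tor G2Data.tab F d, Subgroup.mem_inf.2
    ⟨by rw [diagonalSubgroup_eq g0]; exact ⟨d, rfl⟩,
     hd ▸ mul_mem (mul_mem hT (par_mem hK s)) (inv_mem hT)⟩⟩
  have hs'' : tor G2Data.tab F (par m s') = tor G2Data.tab F d := congrArg Subtype.val hs'
  obtain ⟨h9, a9, b9⟩ := hN 9 (by simp)
  -- conjugating a root element by both sides
  have e1 : xg g0 (G2Data.tab.neg 9) ((wt G2Data.tab F (par m s') (G2Data.tab.neg 9) : F) * 1) =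
      xg g0 (G2Data.tab.neg 9) ((wt G2Data.tab F (par m s) 9 : F) * 1) := by
    rw [← tor_xg g0 _ (neg_lt h9), hs'', ← hd]
    have hn : ∀ t : F, xg g0 (G2Data.tab.neg 9) t =
        nWd g0 F (wd 0) * xg g0 9 (-t) * (nWd g0 F (wd 0))⁻¹ := fun t => by
      rw [nWd_neg (by simp), _root_.neg_neg]
    rw [hn, hn, show ∀ n h x : GL G2Data.tab.D.Idx F,
      n * h * n⁻¹ * (n * x * n⁻¹) * (n * h * n⁻¹)⁻¹ = n * (h * x * h⁻¹) * n⁻¹ from
        fun n h x => by group, tor_xg g0 _ h9]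
    simp
  have e2 := xg_injective g0 (neg_lt h9) e1
  rw [mul_one, mul_one, wt_neg g0 h9] at e2
  have e3 : (s'⁻¹ : Fˣ) ^ (3 ^ m) = s ^ (3 ^ m) := by
    have h4 := Units.ext e2
    rw [wt_par, wt_par, a9, b9, mul_one, add_zero, zpow_natCast, zpow_natCast, ← inv_pow] at h4
    exact h4
  have e4 : s'⁻¹ = s := by
    refine Units.ext ((psi (F := F) m).injective ?_)
    rw [psi_apply, psi_apply, ← Units.val_pow_eq_pow_val, e3, Units.val_pow_eq_pow_val]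
  refine Subtype.ext ?_
  rw [← e4, inv_inv, Hh_val, Subgroup.coe_mul, Subgroup.coe_mul, Subgroup.coe_inv, Hh_val]
  show (mRep F)⁻¹ * tor G2Data.tab F (par m s'⁻¹) * mRep F = _
  rw [mRep, inv_inv, e4, hd, hs'']

theorem fix_imp {u : Gr F m} {s : Fˣ} (hu : u ∈ UG F m) (hu1 : u ≠ 1)
    (h : Hh hK s * u * (Hh hK s)⁻¹ = u) : s * s = 1 :=
  fixed_imp hK (Subgroup.mem_subgroupOf.1 hu) (congrArg Subtype.val h)
    fun h' => hu1 (Subtype.ext h')

theorem frob_conj {u : Gr F m} {s : Fˣ} (hu : u ∈ UG F m) (hs : s * s ≠ 1) :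
    ∃ v ∈ UG F m, u * Hh hK s = v * Hh hK s * v⁻¹ := by
  let f : UG F m → UG F m := fun v =>
    ⟨v.1 * (Hh hK s * v.1⁻¹ * (Hh hK s)⁻¹),
      mul_mem v.2 (conj_mem_UG (Hh_mem_B1 hK s) (inv_mem v.2))⟩
  have hinj : Function.Injective f := by
    intro v w e
    have e' : v.1 * (Hh hK s * v.1⁻¹ * (Hh hK s)⁻¹) = w.1 * (Hh hK s * w.1⁻¹ * (Hh hK s)⁻¹) :=
      congrArg Subtype.val e
    by_contra hne
    refine hs (fix_imp hK (u := w.1⁻¹ * v.1) (mul_mem (inv_mem w.2) v.2)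
      (fun h => hne (Subtype.ext (inv_mul_eq_one.1 h).symm)) ?_)
    calc Hh hK s * (w.1⁻¹ * v.1) * (Hh hK s)⁻¹
        = (Hh hK s * w.1⁻¹ * (Hh hK s)⁻¹) * (Hh hK s * v.1⁻¹ * (Hh hK s)⁻¹)⁻¹ := by group
      _ = w.1⁻¹ * (w.1 * (Hh hK s * w.1⁻¹ * (Hh hK s)⁻¹)) * (Hh hK s * v.1⁻¹ * (Hh hK s)⁻¹)⁻¹ := by group
      _ = w.1⁻¹ * v.1 := by rw [← e']; group
  obtain ⟨v, hv⟩ := Finite.injective_iff_surjective.1 hinj ⟨u, hu⟩
  exact ⟨v.1, v.2, by rw [show u = f v from (congrArg Subtype.val hv).symm]; simp [f, mul_assoc]⟩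

include hK in
theorem three_local {y g : Gr F m} (hy : y ∈ UG F m) (hy1 : y ≠ 1) (hg : g⁻¹ * y * g ∈ B1 F m) :
    g ∈ B1 F m := by
  rcases exists_bruhat hK g with h | ⟨u, hu, b, hb, rfl⟩
  · exact h
  · refine absurd ?_ hy1
    have h1 : u⁻¹ * y * u ∈ UG F m := mul_mem (mul_mem (inv_mem hu) hy) hu
    have h2 := m_conj_eq_one hK h1 (by
      have := mul_mem (mul_mem hb hg) (inv_mem hb)
      convert this using 1
      group)
    simpa [mul_assoc] using congrArg (fun z => u * z * u⁻¹) h2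

include hK in
theorem cent_three {y g : Gr F m} (hy : y ∈ UG F m) (hy1 : y ≠ 1) (hg : g * y = y * g) :
    g ^ (2 * (3 ^ (2 * m + 1)) ^ 3) = 1 := by
  have hgB : g ∈ B1 F m := three_local hK hy hy1 (by
    rw [mul_assoc, ← hg, inv_mul_cancel_left]; exact UG_le_B1 hy)
  obtain ⟨u, hu, s, rfl⟩ := exists_split hK hgB
  have hss : s * s = 1 := by
    by_contra hs
    obtain ⟨v, hv, e⟩ := frob_conj hK hu hs
    rw [e] at hg
    refine hs (fix_imp hK (u := v⁻¹ * y * v) (mul_mem (mul_mem (inv_mem hv) hy) hv)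
      (fun h => hy1 (by simpa [mul_assoc] using congrArg (fun z => v * z * v⁻¹) h)) ?_)
    calc Hh hK s * (v⁻¹ * y * v) * (Hh hK s)⁻¹
        = v⁻¹ * (v * Hh hK s * v⁻¹ * y) * (v * Hh hK s * v⁻¹)⁻¹ * v := by group
      _ = v⁻¹ * y * v := by rw [hg]; group
  have hu2 : (u * Hh hK s) ^ 2 ∈ UG F m := by
    have : (u * Hh hK s) ^ 2 = u * (Hh hK s * u * (Hh hK s)⁻¹) := by
      have h1 : Hh hK s * Hh hK s = 1 := by rw [← map_mul, hss, map_one]
      rw [pow_two, mul_assoc (Hh hK s) u, inv_eq_of_mul_eq_one_right h1]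
      group
    rw [this]
    exact mul_mem hu (conj_mem_UG (Hh_mem_B1 hK s) hu)
  rw [pow_mul]
  have h := congrArg Subtype.val (pow_card_eq_one' (x := (⟨_, hu2⟩ : UG F m)))
  rw [card_UG hK] at h
  exact h

theorem norm_torus {g : Gr F m} {s s' : Fˣ} (hs : s * s ≠ 1) (h : g * Hh hK s * g⁻¹ = Hh hK s') :
    (∃ r, g = Hh hK r ∧ s' = s) ∨ ∃ r, g = mG hK * Hh hK r := by
  have hfix : ∀ u ∈ UG F m, ∀ t : Fˣ, u * Hh hK s * u⁻¹ = Hh hK t → u = 1 ∧ t = s := by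
    intro u hu t e
    have hts : t * s⁻¹ = 1 := by
      refine Hh_mem_UG hK ?_
      rw [map_mul, map_inv, ← e, show u * Hh hK s * u⁻¹ * (Hh hK s)⁻¹ =
        u * (Hh hK s * u⁻¹ * (Hh hK s)⁻¹) by group]
      exact mul_mem hu (conj_mem_UG (Hh_mem_B1 hK s) (inv_mem hu))
    rw [mul_inv_eq_one] at hts
    refine ⟨?_, hts⟩
    by_contra hu1
    refine hs (fix_imp hK hu hu1 ?_)
    rw [hts] at e
    calc Hh hK s * u * (Hh hK s)⁻¹ = u * Hh hK s * u⁻¹ * u * (Hh hK s)⁻¹ := by rw [e]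
      _ = u := by group
  rcases exists_bruhat hK g with hgB | ⟨u, hu, b, hb, rfl⟩
  · obtain ⟨u, hu, r, rfl⟩ := exists_split hK hgB
    have e : u * Hh hK s * u⁻¹ = Hh hK s' := by
      rw [← h, show u * Hh hK r * Hh hK s * (u * Hh hK r)⁻¹ =
        u * (Hh hK r * Hh hK s * (Hh hK r)⁻¹) * u⁻¹ by group, ← map_inv, ← map_mul, ← map_mul,
        mul_comm r s, mul_inv_cancel_right]
    obtain ⟨rfl, rfl⟩ := hfix u hu s' e
    exact Or.inl ⟨r, one_mul _, rfl⟩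
  · obtain ⟨u', hu', r, rfl⟩ := exists_split hK hb
    right
    set w := u' * (Hh hK s * u'⁻¹ * (Hh hK s)⁻¹) with hw
    have hwU : w ∈ UG F m := mul_mem hu' (conj_mem_UG (Hh_mem_B1 hK s) (inv_mem hu'))
    set w' := u⁻¹ * (Hh hK s' * u * (Hh hK s')⁻¹) with hw'
    have hw'U : w' ∈ UG F m := mul_mem (inv_mem hu) (conj_mem_UG (Hh_mem_B1 hK s') hu)
    have e : mG hK * (w * Hh hK s) * (mG hK)⁻¹ = w' * Hh hK s' := by
      have hr : Hh hK r * Hh hK s * (Hh hK r)⁻¹ = Hh hK s := by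
        rw [← map_inv, ← map_mul, ← map_mul, mul_comm r s, mul_inv_cancel_right]
      calc mG hK * (w * Hh hK s) * (mG hK)⁻¹
          = mG hK * (u' * (Hh hK r * Hh hK s * (Hh hK r)⁻¹) * u'⁻¹) * (mG hK)⁻¹ := by
            rw [hr, hw]; group
        _ = u⁻¹ * (u * mG hK * (u' * Hh hK r) * Hh hK s * (u * mG hK * (u' * Hh hK r))⁻¹) * u := by group
        _ = w' * Hh hK s' := by rw [h, hw']; group
    have e2 : (mG hK)⁻¹ * w' * mG hK = w * Hh hK s * Hh hK s' := by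
      calc (mG hK)⁻¹ * w' * mG hK
          = (mG hK)⁻¹ * (w' * Hh hK s') * mG hK * ((mG hK)⁻¹ * Hh hK s' * mG hK)⁻¹ := by group
        _ = _ := by rw [← e, mG_conj, map_inv, inv_inv]; group
    have h1 : w' = 1 := m_conj_eq_one hK hw'U (by
      rw [e2]; exact mul_mem (mul_mem (UG_le_B1 hwU) (Hh_mem_B1 hK s)) (Hh_mem_B1 hK s'))
    rw [h1, mul_one, inv_mul_cancel, mul_assoc, ← map_mul] at e2
    have h2 : s * s' = 1 := Hh_mem_UG hK (by
      rw [show Hh hK (s * s') = w⁻¹ from (inv_eq_of_mul_eq_one_right e2.symm).symm]; exact inv_mem hwU)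
    rw [h2, map_one, mul_one] at e2
    obtain ⟨rfl, -⟩ := hfix u' hu' s (by
      rw [eq_comm, hw] at e2
      calc u' * Hh hK s * u'⁻¹ = u' * (Hh hK s * u'⁻¹ * (Hh hK s)⁻¹) * Hh hK s := by group
        _ = Hh hK s := by rw [e2, one_mul])
    have hu1 : u = 1 := by
      by_contra hu1
      refine hs ?_
      have hs' : s' = s⁻¹ := eq_inv_of_mul_eq_one_right h2
      have := fix_imp hK (s := s') hu hu1 (by
        calc Hh hK s' * u * (Hh hK s')⁻¹ = u * (u⁻¹ * (Hh hK s' * u * (Hh hK s')⁻¹)) := by group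
          _ = u := by rw [← hw', h1, mul_one])
      rw [hs', ← mul_inv, inv_eq_one] at this
      exact this
    exact ⟨r, by rw [hu1, one_mul, one_mul]⟩

theorem cent_torus {g : Gr F m} {s : Fˣ} (hs : s * s ≠ 1) (h : g * Hh hK s = Hh hK s * g) :
    ∃ r, g = Hh hK r := by
  rcases norm_torus hK hs (g := g) (s' := s) (by rw [h, mul_inv_cancel_right]) with ⟨r, hr, -⟩ | ⟨r, rfl⟩
  · exact ⟨r, hr⟩
  · exfalso
    have e : mG hK * Hh hK s * (mG hK)⁻¹ = Hh hK s := by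
      have hc : Hh hK r * Hh hK s = Hh hK s * Hh hK r := by rw [← map_mul, ← map_mul, mul_comm]
      calc mG hK * Hh hK s * (mG hK)⁻¹ = mG hK * (Hh hK r * Hh hK s) * (mG hK * Hh hK r)⁻¹ := by
            rw [hc]; group
        _ = mG hK * Hh hK r * Hh hK s * (mG hK * Hh hK r)⁻¹ := by group
        _ = _ := by rw [h, mul_inv_cancel_right]
    have e2 := mG_conj hK s
    have : Hh hK s = Hh hK s⁻¹ := by
      rw [← e2]
      conv_rhs => rw [← e]
      group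
    exact hs (mul_eq_one_iff_eq_inv.2 (Hh_injective hK this))

end Cfsg.Agent.Chev.Ree
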