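import Cfsg.Agent.Lib.Lie.Ree5

/-!
# The torus of order `(q+1)/4` and the normaliser of a Sylow 2-subgroup
-/

set_option autoImplicit false

namespace Cfsg.Agent.Chev.Ree

open Cfsg.Lie TwG2 Tab

variable {F : Type*} [Field F] [CharP F 3] [Fintype F] {m : ℕ} (hK : Fintype.card F = 3 ^ (2 * m + 1))

local notation "P" => Matrix.ProjectiveSpecialLinearGroup (Fin 2) F

theorem eq_one_of_pow_odd {G : Type*} [Group G] {y : G} {n : ℕ} (hn : Odd n) (hy : y ^ n = 1)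
    (h2 : y * y = 1) : y = 1 := by
  obtain ⟨j, rfl⟩ := hn
  rwa [pow_succ, pow_mul, pow_two, h2, one_pow, one_mul] at hy

/-- the image of the involution of `PSL₂` -/
noncomputable def t0 : Gr F m := phi hK (ReePSL.tP F)

theorem t0_sq : t0 hK * t0 hK = 1 := by rw [t0, ← map_mul, t_sq, map_one]

theorem t0_ne : t0 hK ≠ 1 := fun h => t_ne hK (phi_injective hK (h.trans (map_one _).symm))

theorem a0_t0 : a0 hK * t0 hK = t0 hK * a0 hK := phi_comm hK _

theorem a0t0_ne : a0 hK * t0 hK ≠ 1 := fun h => phi_ne hK (ReePSL.tP F) (by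
  rw [← inv_eq_of_mul_eq_one_right (a0_sq hK)]; exact (inv_eq_of_mul_eq_one_right h).symm)

theorem a0_ne_t0 : a0 hK ≠ t0 hK := fun h => phi_ne hK (ReePSL.tP F) h.symm

theorem a0t0_sq : a0 hK * t0 hK * (a0 hK * t0 hK) = 1 := by
  rw [show a0 hK * t0 hK * (a0 hK * t0 hK) = a0 hK * (t0 hK * a0 hK) * t0 hK by simp only [mul_assoc],
    ← a0_t0, ← mul_assoc, a0_sq, one_mul, t0_sq]

/-- the four-group centralised by the torus -/
noncomputable def E0 : Subgroup (Gr F m) := Ext hK (Subgroup.zpowers (ReePSL.tP F))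

theorem mem_E0 {g : Gr F m} :
    g ∈ E0 hK ↔ g = 1 ∨ g = a0 hK ∨ g = t0 hK ∨ g = a0 hK * t0 hK := by
  constructor
  · rintro ⟨p, ⟨n, rfl⟩, h⟩
    rcases Int.even_or_odd n with ⟨j, rfl⟩ | ⟨j, rfl⟩
    · have e : ReePSL.tP F ^ (j + j) = 1 := by
        rw [zpow_add, ← Commute.mul_zpow (Commute.refl _), t_sq, one_zpow]
      simp only [e, map_one, mul_one] at h
      rcases h with h | h
      · exact Or.inl h
      · exact Or.inr (Or.inl h)
    · have e : ReePSL.tP F ^ (2 * j + 1) = ReePSL.tP F := by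
        rw [zpow_add_one, zpow_mul, zpow_two, t_sq, one_zpow, one_mul]
      simp only [e] at h
      rcases h with h | h
      · exact Or.inr (Or.inr (Or.inl h))
      · exact Or.inr (Or.inr (Or.inr h))
  · rintro (rfl | rfl | rfl | rfl)
    · exact one_mem _
    · exact a0_mem_Ext hK _
    · exact (phi_mem_Ext hK).2 (Subgroup.mem_zpowers _)
    · exact mul_mem (a0_mem_Ext hK _) ((phi_mem_Ext hK).2 (Subgroup.mem_zpowers _))

theorem card_E0 : Nat.card (E0 hK) = 4 := by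
  rw [E0, card_Ext, Nat.card_zpowers, orderOf_eq_prime (p := 2) (by rw [pow_two]; exact t_sq) (t_ne hK)]

/-- the abelian group of order `q + 1` -/
noncomputable def QT : Subgroup (Gr F m) := Ext hK (Subgroup.zpowers (gam hK))

theorem comm_Ext {V : Subgroup P} (hV : ∀ a ∈ V, ∀ b ∈ V, a * b = b * a) {x y : Gr F m}
    (hx : x ∈ Ext hK V) (hy : y ∈ Ext hK V) : x * y = y * x := by
  obtain ⟨p, hp, hx⟩ := hx
  obtain ⟨p', hp', hy⟩ := hy
  have hc : Commute (phi hK p) (phi hK p') := by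
    rw [Commute, SemiconjBy, ← map_mul, ← map_mul, hV p hp p' hp']
  have ha : ∀ q : P, Commute (a0 hK) (phi hK q) := fun q => phi_comm hK q
  show Commute x y
  rcases hx with rfl | rfl <;> rcases hy with rfl | rfl
  · exact hc
  · exact Commute.mul_right (ha p).symm hc
  · exact Commute.mul_left (ha p') hc
  · exact Commute.mul_left (Commute.mul_right (Commute.refl _) (ha p'))
      (Commute.mul_right (ha p).symm hc)

theorem comm_QT {x y : Gr F m} (hx : x ∈ QT hK) (hy : y ∈ QT hK) : x * y = y * x :=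
  comm_Ext hK (fun a ha b hb => by
    obtain ⟨i, rfl⟩ := Subgroup.mem_zpowers_iff.1 ha
    obtain ⟨j, rfl⟩ := Subgroup.mem_zpowers_iff.1 hb
    exact Commute.zpow_zpow_self _ _ _) hx hy

theorem card_QT : Nat.card (QT hK) = Nat.card F + 1 := by
  rw [QT, card_Ext, Nat.card_zpowers, orderOf_gam]
  have := card_mod' hK
  omega

theorem E0_le_QT : E0 hK ≤ QT hK := by
  rintro g ⟨p, hp, h⟩
  exact ⟨p, Subgroup.zpowers_le.2 (t_mem_gam hK) hp, h⟩

/-- the torus of order `(q+1)/4` -/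
noncomputable def TT : Subgroup (Gr F m) := (Subgroup.zpowers (gam hK ^ 2)).map (phi hK)

theorem TT_le_QT : TT hK ≤ QT hK := by
  rintro _ ⟨p, hp, rfl⟩
  exact (phi_mem_Ext hK).2 (Subgroup.zpowers_le.2 (pow_mem (Subgroup.mem_zpowers _) 2) hp)

theorem orderOf_gam_sq : orderOf (gam hK ^ 2) = (Nat.card F + 1) / 4 := by
  have := card_mod' hK
  rw [orderOf_pow' _ (by norm_num : (2 : ℕ) ≠ 0), orderOf_gam,
    Nat.gcd_eq_right (by omega : 2 ∣ (Nat.card F + 1) / 2)]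
  omega

theorem card_TT : Nat.card (TT hK) = (Nat.card F + 1) / 4 := by
  rw [TT, ← Nat.card_congr (Subgroup.equivMapOfInjective _ _ (phi_injective hK)).toEquiv,
    Nat.card_zpowers, orderOf_gam_sq]

theorem odd_kT (hK : Fintype.card F = 3 ^ (2 * m + 1)) : Odd ((Nat.card F + 1) / 4) := by
  have := card_mod' hK
  exact Nat.odd_iff.2 (by omega)

theorem isCyclic_TT : IsCyclic (TT hK) :=
  isCyclic_of_surjective (Subgroup.equivMapOfInjective (Subgroup.zpowers (gam hK ^ 2)) _ (phi_injective hK)).toMonoidHom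
    (MulEquiv.surjective _)

theorem pow_TT {x : Gr F m} (hx : x ∈ TT hK) : x ^ ((Nat.card F + 1) / 4) = 1 := by
  rw [← card_TT hK]
  exact congrArg Subtype.val (pow_card_eq_one' (x := (⟨x, hx⟩ : TT hK)))

theorem odd_orderOf_TT {x : Gr F m} (hx : x ∈ TT hK) : Odd (orderOf x) :=
  Odd.of_dvd_nat (odd_kT hK) (orderOf_dvd_of_pow_eq_one (pow_TT hK hx))

theorem a0_comm_of {g : Gr F m} (hg : g ∈ QT hK) : g * a0 hK = a0 hK * g :=
  comm_QT hK hg (a0_mem_Ext hK _)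

theorem QT_le_cent {x : Gr F m} (hx : x ∈ TT hK) : QT hK ≤ Subgroup.centralizer {x} := fun _ hg =>
  Subgroup.mem_centralizer_singleton_iff.2 (comm_QT hK hg (TT_le_QT hK hx))

theorem cent_inside {x g : Gr F m} (hx : x ∈ TT hK) (hx1 : x ≠ 1) (ha : g * a0 hK = a0 hK * g)
    (hg : g * x = x * g) : g ∈ QT hK := by
  have hxx : x * x ≠ 1 := fun h => hx1 (eq_one_of_pow_odd (odd_kT hK) (pow_TT hK hx) h)
  obtain ⟨q, hq, rfl⟩ := hx
  obtain ⟨p, hp⟩ := cent_a0 hK ha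
  have hpq : p * q = q * p := by
    refine phi_injective hK ?_
    rw [map_mul, map_mul]
    rcases hp with rfl | rfl
    · exact hg
    · rw [mul_assoc, ← mul_assoc (phi hK q), ← phi_comm, mul_assoc] at hg
      exact mul_left_cancel hg
  refine ⟨p, cent_gam hK (Subgroup.zpowers_le.2 (pow_mem (Subgroup.mem_zpowers _) 2) hq) ?_ hpq, hp⟩
  exact fun h => hxx (by rw [← map_mul, h, map_one])

/-- the centraliser of `E₀` -/
noncomputable def CE : Subgroup (Gr F m) := Ext hK (Subgroup.centralizer {ReePSL.tP F})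

theorem mem_CE {g : Gr F m} :
    g ∈ CE hK ↔ g * a0 hK = a0 hK * g ∧ g * t0 hK = t0 hK * g := by
  constructor
  · rintro ⟨p, hp, h⟩
    have hpt : phi hK p * t0 hK = t0 hK * phi hK p := by
      rw [t0, ← map_mul, ← map_mul, Subgroup.mem_centralizer_singleton_iff.1 hp]
    rcases h with rfl | rfl
    · exact ⟨(phi_comm hK p).symm, hpt⟩
    · exact ⟨(Commute.mul_left (Commute.refl (a0 hK)) (phi_comm hK p).symm : Commute _ _),
        (Commute.mul_left (a0_t0 hK : Commute _ _) (hpt : Commute _ _) : Commute _ _)⟩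
  · rintro ⟨ha, ht⟩
    obtain ⟨p, hp⟩ := cent_a0 hK ha
    refine ⟨p, Subgroup.mem_centralizer_singleton_iff.2 (phi_injective hK ?_), hp⟩
    rw [map_mul, map_mul]
    rcases hp with rfl | rfl
    · exact ht
    · rw [mul_assoc, ← mul_assoc (t0 hK), ← a0_t0, mul_assoc] at ht
      exact mul_left_cancel ht

theorem card_CE : Nat.card (CE hK) = 2 * (Nat.card F + 1) := by
  rw [CE, card_Ext, ReePSL.card_cent_t (card_mod' hK)]

theorem QT_le_CE : QT hK ≤ CE hK := fun _ hg =>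
  (mem_CE hK).2 ⟨a0_comm_of hK hg, comm_QT hK hg ((phi_mem_Ext hK).2 (t_mem_gam hK))⟩

theorem odd_CE_mem (hm : 1 ≤ m) {y : Gr F m} (hy : y ∈ CE hK) (ho : Odd (orderOf y)) : y ∈ TT hK := by
  obtain ⟨p, hp, h | h⟩ := hy
  swap
  · exfalso
    have h1 := pow_orderOf_eq_one y
    generalize orderOf y = n at ho h1
    subst h
    obtain ⟨j, rfl⟩ := ho
    rw [Commute.mul_pow (phi_comm hK p), ← map_pow, pow_succ, pow_mul, pow_two, a0_sq, one_pow,
      one_mul] at h1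
    refine phi_ne hK (p ^ (2 * j + 1)) ?_
    have := congrArg (fun z => a0 hK * z) h1
    simp only [← mul_assoc, a0_sq, one_mul, mul_one] at this
    exact this
  subst h
  have ho' : Odd (orderOf p) := by rwa [orderOf_injective _ (phi_injective hK)] at ho
  obtain ⟨j, hj⟩ := ho'
  have hpow : p ^ (2 * (j + 1)) = p := by
    rw [show 2 * (j + 1) = (2 * j + 1) + 1 by ring, ← hj, pow_succ, pow_orderOf_eq_one, one_mul]
  have hgg := gam_sq_ne hK hm
  have hmem : p ∈ Subgroup.zpowers (gam hK) := by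
    have h2 : p * p ∈ Subgroup.zpowers (gam hK) := by
      refine cent_gam hK (Subgroup.mem_zpowers _) hgg (mul_inv_eq_iff_eq_mul.1 ?_)
      rw [show p * p * gam hK * (p * p)⁻¹ = p * (p * gam hK * p⁻¹) * p⁻¹ by group]
      rcases conj_gam hK hp with h | h <;> rw [h]
      · exact h
      · rw [show p * (gam hK)⁻¹ * p⁻¹ = (p * gam hK * p⁻¹)⁻¹ by group, h, inv_inv]
    rw [← hpow, pow_mul, pow_two]
    exact pow_mem h2 _
  obtain ⟨n, hn⟩ := hmem
  refine ⟨p, ⟨n * (j + 1 : ℕ), ?_⟩, rfl⟩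
  rw [← hpow, ← hn]
  simp only [← zpow_natCast, ← zpow_mul]
  congr 1
  push_cast
  ring

include hK in
theorem exists_conj_UG {y : Gr F m} {j : ℕ} (hy : y ^ 3 ^ j = 1) :
    ∃ c : Gr F m, c * y * c⁻¹ ∈ UG F m := by
  haveI : Fact (Nat.Prime 3) := ⟨Nat.prime_three⟩
  obtain ⟨S, hS⟩ := sylow_three hK
  obtain ⟨i, -, hi⟩ := (Nat.dvd_prime_pow Nat.prime_three).1 (orderOf_dvd_of_pow_eq_one hy)
  obtain ⟨Q, hQ⟩ := (IsPGroup.of_card (n := i) (by rw [Nat.card_zpowers, hi]) :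
    IsPGroup 3 (Subgroup.zpowers y)).exists_le_sylow
  obtain ⟨c, hc⟩ := MulAction.exists_smul_eq (Gr F m) Q S
  refine ⟨c, ?_⟩
  show c * y * c⁻¹ ∈ (G2Data.tab.D.posUnipotent F ⊓ tw F (3 ^ m)).subgroupOf (tw F (3 ^ m))
  rw [← hS, ← hc, Sylow.coe_subgroup_smul]
  exact Subgroup.mem_map_of_mem _ (hQ (Subgroup.mem_zpowers y))

include hK in
/-- no element of order three commutes with an element of order prime to six -/
theorem no_three {x y : Gr F m} {n : ℕ} (hn : Nat.Coprime n (2 * (3 ^ (2 * m + 1)) ^ 3))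
    (hx : x ^ n = 1) (hx1 : x ≠ 1) {j : ℕ} (hy : y ^ 3 ^ j = 1) (hxy : x * y = y * x) : y = 1 := by
  by_contra hy1
  obtain ⟨c, hc⟩ := exists_conj_UG hK hy
  have h := cent_three hK hc (fun h => hy1 (conj_eq_one_iff.1 h)) (g := c * x * c⁻¹)
    (by rw [show c * x * c⁻¹ * (c * y * c⁻¹) = c * (x * y) * c⁻¹ by group, hxy]; group)
  rw [conj_pow] at h
  have h1 := pow_gcd_eq_one.2 (⟨hx, conj_eq_one_iff.1 h⟩ : x ^ n = 1 ∧ x ^ (2 * (3 ^ (2 * m + 1)) ^ 3) = 1)
  rw [hn.gcd_eq_one, pow_one] at h1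
  exact hx1 h1

include hK in
theorem coprime_kT : Nat.Coprime ((Nat.card F + 1) / 4) (2 * (3 ^ (2 * m + 1)) ^ 3) := by
  have h8 := card_mod' hK
  have hq : Nat.card F = 3 ^ (2 * m + 1) := by rw [Nat.card_eq_fintype_card, hK]
  refine Nat.Coprime.mul_right (Nat.coprime_two_right.2 (odd_kT hK)) (Nat.Coprime.pow_right _
    (Nat.Coprime.pow_right _ ((Nat.coprime_comm.1 ((Nat.Prime.coprime_iff_not_dvd Nat.prime_three).2 ?_)))))
  have h3 : 3 ∣ Nat.card F := by rw [hq]; exact dvd_pow_self 3 (by omega)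
  intro h
  have : 3 ∣ 4 * ((Nat.card F + 1) / 4) := Dvd.dvd.mul_left h 4
  omega

include hK in
theorem two_le_S0 [Fact (Nat.Prime 2)] {R : Subgroup (Gr F m)} (hR : IsPGroup 2 R) :
    (∀ x ∈ R, x * x = 1) ∧ (∀ x ∈ R, ∀ y ∈ R, x * y = y * x) ∧ Nat.card R ∣ 8 := by
  obtain ⟨Q, hQ⟩ := hR.exists_le_sylow
  obtain ⟨c, hc⟩ := MulAction.exists_smul_eq (Gr F m) (S0s hK) Q
  have hsq : ∀ x ∈ (Q : Subgroup (Gr F m)), x * x = 1 := by
    intro x hx
    rw [← hc, Sylow.coe_subgroup_smul] at hx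
    obtain ⟨y, hy, rfl⟩ := hx
    show (MulAut.conj c) y * (MulAut.conj c) y = 1
    rw [← map_mul, sq_S0 hK hy, map_one]
  refine ⟨fun x hx => hsq x (hQ hx), fun x hx y hy => ?_, ?_⟩
  · have e : ∀ z ∈ (Q : Subgroup (Gr F m)), z⁻¹ = z := fun z hz => inv_eq_of_mul_eq_one_right (hsq z hz)
    have h := e _ (hQ (mul_mem hx hy))
    rw [_root_.mul_inv_rev, e _ (hQ hx), e _ (hQ hy)] at h
    exact h.symm
  · refine (Subgroup.card_dvd_of_le hQ).trans ?_
    rw [Q.card_eq_multiplicity, card_two_part hK]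
    norm_num

theorem comm_S0 {x y : Gr F m} (hx : x ∈ S0 hK) (hy : y ∈ S0 hK) : x * y = y * x := by
  have e : ∀ z ∈ S0 hK, z⁻¹ = z := fun z hz => inv_eq_of_mul_eq_one_right (sq_S0 hK hz)
  have h := e _ (mul_mem hx hy)
  rw [_root_.mul_inv_rev, e _ hx, e _ hy] at h
  exact h.symm

theorem t0_mem_S0 : t0 hK ∈ S0 hK := (phi_mem_Ext hK).2 (Or.inr (Or.inl rfl))

theorem phi_h_conj (p : P) :
    phi hK (hP hK) * (a0 hK * phi hK p) * (phi hK (hP hK))⁻¹ =
      a0 hK * phi hK (hP hK * p * (hP hK)⁻¹) := by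
  rw [map_mul, map_mul, map_inv, ← mul_assoc, ← phi_comm]
  simp only [mul_assoc]

theorem phi_h_fix {z : Gr F m} (hz : z ∈ S0 hK) (h : phi hK (hP hK) * z * (phi hK (hP hK))⁻¹ = z) :
    z = 1 ∨ z = a0 hK := by
  obtain ⟨p, hp, rfl | rfl⟩ := hz
  · rw [← map_inv, ← map_mul, ← map_mul] at h
    rw [h_fix hK hp (phi_injective hK h), map_one]
    exact Or.inl rfl
  · rw [phi_h_conj] at h
    rw [h_fix hK hp (phi_injective hK (mul_left_cancel h)), map_one, mul_one]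
    exact Or.inr rfl

theorem phi_h_norm {z : Gr F m} (hz : z ∈ S0 hK) :
    phi hK (hP hK) * z * (phi hK (hP hK))⁻¹ ∈ S0 hK := by
  obtain ⟨p, hp, rfl | rfl⟩ := hz
  · rw [← map_inv, ← map_mul, ← map_mul]; exact (phi_mem_Ext hK).2 (h_Vp hK hp)
  · rw [phi_h_conj]; exact ⟨_, h_Vp hK hp, Or.inr rfl⟩

theorem exists_norm_conj (hm : 1 ≤ m) {z : Gr F m} (hz : z ∈ S0 hK) (hz1 : z ≠ 1) :
    ∃ n ∈ Subgroup.normalizer ((S0 hK : Subgroup (Gr F m)) : Set (Gr F m)), n * a0 hK * n⁻¹ = z := by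
  haveI : Fact (Nat.Prime 2) := ⟨Nat.prime_two⟩
  haveI : IsMulCommutative ((S0s hK : Sylow 2 (Gr F m)) : Subgroup (Gr F m)) :=
    ⟨⟨fun a b => Subtype.ext (comm_S0 hK a.2 b.2)⟩⟩
  obtain ⟨g, hg⟩ := invol_conj hK hm (sq_S0 hK hz) hz1
  have e : g⁻¹ * a0 hK * g = z := by rw [← hg]; group
  obtain ⟨n, hn, h⟩ := (S0s hK).conj_eq_normalizer_conj_of_mem (a0 hK) g (a0_mem_Ext hK _)
    (show g⁻¹ * a0 hK * g ∈ S0 hK by rw [e]; exact hz)
  exact ⟨n⁻¹, inv_mem hn, by rw [inv_inv, ← h, e]⟩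

/-- an element cycling `E₀` -/
theorem exists_cycle (hm : 1 ≤ m) : ∃ g : Gr F m, g * t0 hK * g⁻¹ = a0 hK ∧
    g * a0 hK * g⁻¹ = a0 hK * t0 hK ∧ g * (a0 hK * t0 hK) * g⁻¹ = t0 hK := by
  obtain ⟨n, hn, hnt⟩ := exists_norm_conj hK hm (t0_mem_S0 hK) (t0_ne hK)
  set H := phi hK (hP hK) with hH
  have hH3 : H ^ 3 = 1 := by rw [hH, ← map_pow, (uP'_spec hK).2.2.2.2.2.2.2, map_one]
  set k := n * H * n⁻¹ with hk
  have hnS : ∀ z ∈ S0 hK, n⁻¹ * z * n ∈ S0 hK := fun z hz => (Subgroup.mem_normalizer_iff''.1 hn z).1 hz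
  have hnS' : ∀ z ∈ S0 hK, n * z * n⁻¹ ∈ S0 hK := fun z hz => (Subgroup.mem_normalizer_iff.1 hn z).1 hz
  have hkS : ∀ z ∈ S0 hK, k * z * k⁻¹ ∈ S0 hK := fun z hz => by
    rw [show k * z * k⁻¹ = n * (H * (n⁻¹ * z * n) * H⁻¹) * n⁻¹ by rw [hk]; group]
    exact hnS' _ (phi_h_norm hK (hnS z hz))
  have hkfix : ∀ z ∈ S0 hK, k * z * k⁻¹ = z → z = 1 ∨ z = t0 hK := fun z hz h => by
    have h' : H * (n⁻¹ * z * n) * H⁻¹ = n⁻¹ * z * n := by
      conv_rhs => rw [← h, hk]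
      group
    rcases phi_h_fix hK (hnS z hz) h' with e | e
    · left; simpa [mul_assoc] using congrArg (fun w => n * w * n⁻¹) e
    · right; rw [← hnt, ← e]; group
  have hkt : k * t0 hK * k⁻¹ = t0 hK := by
    have e : H * a0 hK * H⁻¹ = a0 hK := by rw [hH, ← phi_comm, mul_inv_cancel_right]
    rw [hk, show n * H * n⁻¹ * t0 hK * (n * H * n⁻¹)⁻¹ = n * (H * (n⁻¹ * t0 hK * n) * H⁻¹) * n⁻¹ by group,
      show n⁻¹ * t0 hK * n = a0 hK by rw [← hnt]; group, e, hnt]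
  have hk3 : k ^ 3 = 1 := by rw [hk, conj_pow, hH3, mul_one, mul_inv_cancel]
  set u0 := phi hK (uP' hK) with hu0
  obtain ⟨huC, hu2, hu1, hut, h1, h2, h3, -⟩ := uP'_spec hK
  have hu0S : u0 ∈ S0 hK := (phi_mem_Ext hK).2 (Or.inr (Or.inr (Or.inl rfl)))
  have hu0ne : u0 ≠ 1 := fun h => hu1 (phi_injective hK (h.trans (map_one _).symm))
  have hu0t : u0 ≠ t0 hK := fun h => hut (phi_injective hK h)
  have hcomp : ∀ z, k * (k * (k * z * k⁻¹) * k⁻¹) * k⁻¹ = z := fun z => by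
    calc k * (k * (k * z * k⁻¹) * k⁻¹) * k⁻¹ = k ^ 3 * z * (k ^ 3)⁻¹ := by
          simp only [pow_succ, pow_zero, one_mul]; group
      _ = z := by rw [hk3]; simp
  have hne1 : k * u0 * k⁻¹ ≠ u0 := fun h => by
    rcases hkfix _ hu0S h with e | e
    · exact hu0ne e
    · exact hu0t e
  have hne2 : k * u0 * k⁻¹ ≠ t0 hK * u0 := fun h => by
    apply hne1
    have e2 : k * (k * u0 * k⁻¹) * k⁻¹ = u0 := by
      rw [h, show k * (t0 hK * u0) * k⁻¹ = (k * t0 hK * k⁻¹) * (k * u0 * k⁻¹) by group, hkt, h,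
        ← mul_assoc, t0_sq, one_mul]
    have := hcomp u0
    rwa [e2] at this
  -- a conjugating element carrying the four-group of `PSL₂` onto `E₀`
  obtain ⟨K, hKt, hKu⟩ : ∃ K, K * t0 hK * K⁻¹ = t0 hK ∧
      (K * u0 * K⁻¹ = a0 hK ∨ K * u0 * K⁻¹ = a0 hK * t0 hK) := by
    obtain ⟨p, hp, hp'⟩ := (hkS u0 hu0S : k * u0 * k⁻¹ ∈ Ext hK (Vp hK))
    have htu : phi hK (ReePSL.tP F * uP' hK) = t0 hK * u0 := map_mul _ _ _
    rcases hp' with e | e
    · exfalso
      rcases hp with rfl | rfl | rfl | rfl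
      · rw [map_one] at e; exact hu0ne (conj_eq_one_iff.1 e)
      · apply hu0t
        have h' : k * u0 * k⁻¹ = k * t0 hK * k⁻¹ := by rw [hkt]; exact e
        exact mul_left_cancel (mul_right_cancel h')
      · exact hne1 e
      · exact hne2 (e.trans htu)
    · rcases hp with rfl | rfl | rfl | rfl
      · exact ⟨k, hkt, Or.inl (by rw [e, map_one, mul_one])⟩
      · exact ⟨k, hkt, Or.inr e⟩
      all_goals
        refine ⟨k * k, by rw [show k * k * t0 hK * (k * k)⁻¹ = k * (k * t0 hK * k⁻¹) * k⁻¹ by group, hkt, hkt], ?_⟩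
        rw [show k * k * u0 * (k * k)⁻¹ = k * (k * u0 * k⁻¹) * k⁻¹ by group]
        have hw := hkS _ (hkS u0 hu0S)
        set w := k * (k * u0 * k⁻¹) * k⁻¹ with hw'
        have hwk : k * w * k⁻¹ = u0 := hcomp u0
        have hw1 : w ≠ u0 := fun h => hne1 (by rw [h] at hwk; exact hwk)
        have hw2 : w ≠ t0 hK * u0 := fun h => by
          rw [h, show k * (t0 hK * u0) * k⁻¹ = (k * t0 hK * k⁻¹) * (k * u0 * k⁻¹) by group, hkt] at hwk
          apply hne2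
          calc k * u0 * k⁻¹ = t0 hK * (t0 hK * (k * u0 * k⁻¹)) := by rw [← mul_assoc, t0_sq, one_mul]
            _ = _ := by rw [hwk]
        have hw3 : w ≠ k * u0 * k⁻¹ := fun h => hne1 (by
          rw [hw'] at h; exact mul_left_cancel (mul_right_cancel h))
        have hw4 : w ≠ t0 hK * (k * u0 * k⁻¹) := fun h => hne2 (by
          have h' : k * (k * u0 * k⁻¹) * k⁻¹ = k * (t0 hK * u0) * k⁻¹ := by
            rw [show k * (t0 hK * u0) * k⁻¹ = (k * t0 hK * k⁻¹) * (k * u0 * k⁻¹) by group, hkt]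
            exact h
          exact mul_left_cancel (mul_right_cancel h'))
        obtain ⟨p', hp', ew | ew⟩ := (hw : w ∈ Ext hK (Vp hK))
        · exfalso
          rcases hp' with rfl | rfl | rfl | rfl
          · rw [map_one] at ew
            exact hu0ne (by rw [ew] at hwk; simpa using hwk.symm)
          · apply hu0t; rw [ew] at hwk; exact hwk.symm.trans hkt
          · exact hw1 ew
          · exact hw2 (ew.trans htu)
        · rcases hp' with rfl | rfl | rfl | rfl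
          · exact Or.inl (by rw [ew, map_one, mul_one])
          · exact Or.inr ew
          all_goals exfalso
          all_goals
            first
            | exact hw3 (ew.trans e.symm)
            | (refine hw4 ?_
               rw [ew, e, map_mul]
               rw [← mul_assoc (t0 hK) (a0 hK), ← a0_t0, mul_assoc]
               congr 1
               all_goals rw [t0, ← mul_assoc, ← map_mul _ (ReePSL.tP F) (ReePSL.tP F), t_sq, map_one, one_mul])
  set g1 := K * H * K⁻¹ with hg1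
  have hw : ∀ z, g1 * (K * z * K⁻¹) * g1⁻¹ = K * (H * z * H⁻¹) * K⁻¹ := fun z => by rw [hg1]; group
  set w := K * u0 * K⁻¹ with hw'
  have e1 : g1 * t0 hK * g1⁻¹ = t0 hK * w := by
    conv_lhs => rw [← hKt]
    rw [hw, hH, t0, ← map_inv, ← map_mul, ← map_mul, h1, map_mul]
    show K * (t0 hK * u0) * K⁻¹ = _
    rw [show K * (t0 hK * u0) * K⁻¹ = (K * t0 hK * K⁻¹) * (K * u0 * K⁻¹) by group, hKt]
    rfl
  have e3 : g1 * w * g1⁻¹ = t0 hK := by
    rw [hw, hH, hu0, ← map_inv, ← map_mul, ← map_mul, h3]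
    exact hKt
  have e2 : g1 * (t0 hK * w) * g1⁻¹ = w := by
    rw [show g1 * (t0 hK * w) * g1⁻¹ = (g1 * t0 hK * g1⁻¹) * (g1 * w * g1⁻¹) by group, e1, e3]
    have : t0 hK * w = w * t0 hK := by
      rcases hKu with e | e <;> rw [e]
      · exact (a0_t0 hK).symm
      · rw [← mul_assoc, ← a0_t0]
    rw [this, mul_assoc, t0_sq, mul_one]
  rcases hKu with e | e <;> rw [e] at e1 e2 e3
  · refine ⟨g1 * g1, ?_, ?_, ?_⟩
    · rw [show g1 * g1 * t0 hK * (g1 * g1)⁻¹ = g1 * (g1 * t0 hK * g1⁻¹) * g1⁻¹ by group, e1, e2]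
    · rw [show g1 * g1 * a0 hK * (g1 * g1)⁻¹ = g1 * (g1 * a0 hK * g1⁻¹) * g1⁻¹ by group, e3, e1, a0_t0]
    · rw [show g1 * g1 * (a0 hK * t0 hK) * (g1 * g1)⁻¹ = g1 * (g1 * (a0 hK * t0 hK) * g1⁻¹) * g1⁻¹ by group,
        a0_t0, e2, e3]
  · have ea : t0 hK * (a0 hK * t0 hK) = a0 hK := by rw [a0_t0, ← mul_assoc, t0_sq, one_mul]
    rw [ea] at e1 e2
    exact ⟨g1, e1, e2, e3⟩

/-- the cycling element -/
noncomputable def cyc (hm : 1 ≤ m) : Gr F m := Classical.choose (exists_cycle hK hm)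

theorem cyc_spec (hm : 1 ≤ m) : cyc hK hm * t0 hK * (cyc hK hm)⁻¹ = a0 hK ∧
    cyc hK hm * a0 hK * (cyc hK hm)⁻¹ = a0 hK * t0 hK ∧
    cyc hK hm * (a0 hK * t0 hK) * (cyc hK hm)⁻¹ = t0 hK := Classical.choose_spec (exists_cycle hK hm)

theorem cyc_CE (hm : 1 ≤ m) {y : Gr F m} (hy : y ∈ CE hK) :
    cyc hK hm * y * (cyc hK hm)⁻¹ ∈ CE hK := by
  obtain ⟨c1, c2, c3⟩ := cyc_spec hK hm
  obtain ⟨ha, ht⟩ := (mem_CE hK).1 hy
  have key : ∀ e, y * e = e * y → cyc hK hm * y * (cyc hK hm)⁻¹ * (cyc hK hm * e * (cyc hK hm)⁻¹) =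
      (cyc hK hm * e * (cyc hK hm)⁻¹) * (cyc hK hm * y * (cyc hK hm)⁻¹) := fun e h =>
    (Commute.conj (h : Commute y e) (cyc hK hm) : Commute _ _)
  refine (mem_CE hK).2 ⟨c1 ▸ key _ ht, c3 ▸ key _ ?_⟩
  rw [← mul_assoc, ha, mul_assoc, ht, ← mul_assoc]

theorem cyc_TT (hm : 1 ≤ m) {y : Gr F m} (hy : y ∈ TT hK) :
    cyc hK hm * y * (cyc hK hm)⁻¹ ∈ TT hK := by
  refine odd_CE_mem hK hm (cyc_CE hK hm (QT_le_CE hK (TT_le_QT hK hy))) ?_
  have e : orderOf (cyc hK hm * y * (cyc hK hm)⁻¹) = orderOf y :=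
    (MulAut.conj (cyc hK hm)).orderOf_eq y
  rw [e]; exact odd_orderOf_TT hK hy

theorem fixed_spread (hm : 1 ≤ m) {x r : Gr F m} (hx : x ∈ TT hK) (hx1 : x ≠ 1) (hr : r * x = x * r)
    (h : r * a0 hK = a0 hK * r ∨ r * t0 hK = t0 hK * r ∨ r * (a0 hK * t0 hK) = (a0 hK * t0 hK) * r) :
    r ∈ QT hK := by
  obtain ⟨c1, c2, c3⟩ := cyc_spec hK hm
  set g := cyc hK hm
  have hback : ∀ r, g * r * g⁻¹ ∈ QT hK → r * a0 hK = a0 hK * r := by
    intro r hr
    have hm' : g * a0 hK * g⁻¹ ∈ QT hK := by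
      rw [c2]; exact E0_le_QT hK ((mem_E0 hK).2 (Or.inr (Or.inr (Or.inr rfl))))
    have h := comm_QT hK hr hm'
    simpa [mul_assoc] using congrArg (fun z => g⁻¹ * z * g) h
  have hx' := cyc_TT hK hm hx
  have hx1' : g * x * g⁻¹ ≠ 1 := fun e => hx1 (conj_eq_one_iff.1 e)
  have hr' : g * r * g⁻¹ * (g * x * g⁻¹) = g * x * g⁻¹ * (g * r * g⁻¹) :=
    (Commute.conj (hr : Commute r x) g : Commute _ _)
  refine cent_inside hK hx hx1 ?_ hr
  rcases h with h | h | h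
  · exact h
  · exact hback r (cent_inside hK hx' hx1' (c1 ▸ (Commute.conj (h : Commute r _) g : Commute _ _)) hr')
  · refine hback r ?_
    have hx'' := cyc_TT hK hm hx'
    have hx1'' : g * (g * x * g⁻¹) * g⁻¹ ≠ 1 := fun e => hx1' (conj_eq_one_iff.1 e)
    have h2 : g * r * g⁻¹ * t0 hK = t0 hK * (g * r * g⁻¹) :=
      c3 ▸ (Commute.conj (h : Commute r _) g : Commute _ _)
    refine cent_inside hK hx' hx1' (hback _ ?_) hr'
    exact cent_inside hK hx'' hx1'' (c1 ▸ (Commute.conj (h2 : Commute _ _) g : Commute _ _))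
      (Commute.conj (hr' : Commute _ _) g : Commute _ _)

theorem cent_TT_norm_E0 (hm : 1 ≤ m) {x n : Gr F m} (hx : x ∈ TT hK) (hx1 : x ≠ 1) (hn : n * x = x * n)
    (hE : ∀ e ∈ E0 hK, n * e * n⁻¹ ∈ E0 hK) : n ∈ QT hK := by
  by_cases ha : n * a0 hK * n⁻¹ = a0 hK
  · exact fixed_spread hK hm hx hx1 hn (Or.inl (mul_inv_eq_iff_eq_mul.1 ha))
  by_cases ht : n * t0 hK * n⁻¹ = t0 hK
  · exact fixed_spread hK hm hx hx1 hn (Or.inr (Or.inl (mul_inv_eq_iff_eq_mul.1 ht)))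
  by_cases hb : n * (a0 hK * t0 hK) * n⁻¹ = a0 hK * t0 hK
  · exact fixed_spread hK hm hx hx1 hn (Or.inr (Or.inr (mul_inv_eq_iff_eq_mul.1 hb)))
  exfalso
  set b := a0 hK * t0 hK with hbdef
  have hcases : ∀ e ∈ E0 hK, e ≠ 1 → n * e * n⁻¹ = a0 hK ∨ n * e * n⁻¹ = t0 hK ∨ n * e * n⁻¹ = b := by
    intro e he he1
    rcases (mem_E0 hK).1 (hE e he) with h | h | h | h
    · exact absurd (conj_eq_one_iff.1 h) he1
    · exact Or.inl h
    · exact Or.inr (Or.inl h)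
    · exact Or.inr (Or.inr h)
  have hmem : a0 hK ∈ E0 hK ∧ t0 hK ∈ E0 hK ∧ b ∈ E0 hK :=
    ⟨(mem_E0 hK).2 (Or.inr (Or.inl rfl)), (mem_E0 hK).2 (Or.inr (Or.inr (Or.inl rfl))),
      (mem_E0 hK).2 (Or.inr (Or.inr (Or.inr rfl)))⟩
  have inj : ∀ e e', n * e * n⁻¹ = n * e' * n⁻¹ → e = e' := fun e e' h =>
    mul_left_cancel (mul_right_cancel h)
  have hne_at : a0 hK ≠ t0 hK := a0_ne_t0 hK
  have hne_ab : a0 hK ≠ b := fun h => t0_ne hK (by rw [hbdef] at h; exact mul_eq_left.1 h.symm)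
  have hne_tb : t0 hK ≠ b := fun h => a0_ne hK (by rw [hbdef] at h; exact mul_eq_right.1 h.symm)
  have h3 : ∀ e ∈ E0 hK, n ^ 3 * e * (n ^ 3)⁻¹ = e := by
    intro e he
    have key : ∀ e, n ^ 3 * e * (n ^ 3)⁻¹ = n * (n * (n * e * n⁻¹) * n⁻¹) * n⁻¹ := fun e => by
      simp only [pow_succ, pow_zero, one_mul]; group
    have fa := hcases _ hmem.1 (a0_ne hK)
    have ft := hcases _ hmem.2.1 (t0_ne hK)
    have fb := hcases _ hmem.2.2 (a0t0_ne hK)
    rcases fa with fa | fa | fa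
    · exact absurd fa ha
    · rcases fb with fb | fb | fb
      · rcases ft with ft | ft | ft
        · exact absurd (inj _ _ (ft.trans fb.symm)) hne_tb
        · exact absurd ft ht
        · rcases (mem_E0 hK).1 he with rfl | rfl | rfl | rfl
          · simp
          · rw [key, fa, ft, fb]
          · rw [key, ft, fb, fa]
          · rw [key, fb, fa, ft]
      · exact absurd (inj _ _ (fb.trans fa.symm)) hne_ab.symm
      · exact absurd fb hb
    · rcases ft with ft | ft | ft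
      · rcases fb with fb | fb | fb
        · exact absurd (inj _ _ (fb.trans ft.symm)) hne_tb.symm
        · rcases (mem_E0 hK).1 he with rfl | rfl | rfl | rfl
          · simp
          · rw [key, fa, fb, ft]
          · rw [key, ft, fa, fb]
          · rw [key, fb, ft, fa]
        · exact absurd fb hb
      · exact absurd ft ht
      · exact absurd (inj _ _ (ft.trans fa.symm)) hne_at.symm
  have h3' : Commute (n ^ 3) (a0 hK) := mul_inv_eq_iff_eq_mul.1 (h3 _ hmem.1)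
  -- the order of `n` is prime to three
  have hndvd : ¬ 3 ∣ orderOf n := fun hd => by
    obtain ⟨c, hc⟩ := hd
    have hy1 : n ^ c ≠ 1 := fun h => by
      have := Nat.le_of_dvd (Nat.pos_of_ne_zero fun h0 => by
        rw [h0] at hc; exact (orderOf_pos n).ne' (hc.trans (mul_zero 3))) (orderOf_dvd_of_pow_eq_one h)
      have := orderOf_pos n
      omega
    exact hy1 (no_three hK (coprime_kT hK) (pow_TT hK hx) hx1 (j := 1) (by
      rw [← pow_mul, pow_one, mul_comm, ← hc, pow_orderOf_eq_one]) (Commute.pow_left hn c).symm)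
  obtain ⟨i, hi⟩ : ∃ i, n ∈ Subgroup.zpowers (n ^ i) ∧ i = 3 := by
    refine ⟨3, ?_, rfl⟩
    have hcop : Nat.Coprime 3 (orderOf n) := (Nat.Prime.coprime_iff_not_dvd Nat.prime_three).2 hndvd
    exact mem_zpowers_pow_iff.2 hcop
  obtain ⟨⟨l, hl⟩, rfl⟩ := hi
  have hc : Commute n (a0 hK) := by rw [← hl]; exact h3'.zpow_left l
  exact ha (by rw [hc.eq, mul_inv_cancel_right])

end Cfsg.Agent.Chev.Ree
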