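import Cfsg.Agent.Lib.Lie.Ree6

/-!
# The torus of order `(q+1)/4` and the normaliser of a Sylow 2-subgroup
-/

set_option autoImplicit false

namespace Cfsg.Agent.Chev.Ree

open Cfsg.Lie TwG2 Tab

variable {F : Type*} [Field F] [CharP F 3] [Fintype F] {m : ℕ} (hK : Fintype.card F = 3 ^ (2 * m + 1))

local notation "P" => Matrix.ProjectiveSpecialLinearGroup (Fin 2) F

theorem cent_TT (hm : 1 ≤ m) {x : Gr F m} (hx : x ∈ TT hK) (hx1 : x ≠ 1) :
    Subgroup.centralizer {x} = QT hK := by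
  refine le_antisymm ?_ (QT_le_cent hK hx)
  haveI : Fact (Nat.Prime 2) := ⟨Nat.prime_two⟩
  set C : Subgroup (Gr F m) := Subgroup.centralizer {x} with hC
  have hEC : E0 hK ≤ C := (E0_le_QT hK).trans (QT_le_cent hK hx)
  have hEp : IsPGroup 2 ((E0 hK).subgroupOf C) := IsPGroup.of_card (n := 2) (by
    rw [Nat.card_congr (Subgroup.subgroupOfEquivOfLe hEC).toEquiv, card_E0]; norm_num)
  obtain ⟨Q, hQ⟩ := hEp.exists_le_sylow
  set R2 := (Q : Subgroup C).map C.subtype with hR2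
  have hER : E0 hK ≤ R2 := fun e he => ⟨⟨e, hEC he⟩, hQ (Subgroup.mem_subgroupOf.2 he), rfl⟩
  obtain ⟨-, hcomm, hdvd⟩ := two_le_S0 hK (Q.isPGroup'.map C.subtype : IsPGroup 2 R2)
  have hRQ : R2 ≤ QT hK := by
    intro r hr
    obtain ⟨r', hr', rfl⟩ := hr
    exact cent_inside hK hx hx1
      (hcomm _ ⟨r', hr', rfl⟩ _ (hER ((mem_E0 hK).2 (Or.inr (Or.inl rfl)))))
      (Subgroup.mem_centralizer_singleton_iff.1 r'.2)
  have hR4 : Nat.card R2 = 4 := by
    have h1 := Subgroup.card_dvd_of_le hRQ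
    rw [card_QT] at h1
    have h2 := Subgroup.card_dvd_of_le hER
    rw [card_E0] at h2
    have hdvd' : Nat.card R2 ∣ 8 := hdvd
    have h3 := Nat.le_of_dvd (by norm_num) hdvd'
    have h8 := card_mod' hK
    have hpos : 0 < Nat.card R2 := Nat.card_pos
    have : Nat.card R2 = 4 ∨ Nat.card R2 = 8 := by omega
    rcases this with e | e
    · exact e
    · rw [e] at h1; omega
  have hRE : R2 = E0 hK := (Subgroup.eq_of_le_of_card_ge hER (by rw [hR4, card_E0])).symm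
  have hmemQ : ∀ z : C, z ∈ (Q : Subgroup C) ↔ (z : Gr F m) ∈ E0 hK := by
    intro z
    constructor
    · intro h; exact hRE.le ⟨z, h, rfl⟩
    · intro h
      obtain ⟨w, hw, e⟩ := Subgroup.mem_map.1 (hRE.ge h)
      exact (Subtype.ext e : w = z) ▸ hw
  have hNC : Subgroup.normalizer ((Q : Subgroup C) : Set C) ≤ Subgroup.centralizer ((Q : Subgroup C) : Set C) := by
    intro n hn
    have hn' := Subgroup.mem_normalizer_iff.1 hn
    have hE : ∀ e ∈ E0 hK, (n : Gr F m) * e * (n : Gr F m)⁻¹ ∈ E0 hK := by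
      intro e he
      have h1 : (⟨e, hEC he⟩ : C) ∈ (Q : Subgroup C) := (hmemQ ⟨e, hEC he⟩).2 he
      have h1' := (hn' ⟨e, hEC he⟩).1 (SetLike.mem_coe.2 h1)
      have h2 := (hmemQ _).1 h1'
      rw [Subgroup.coe_mul, Subgroup.coe_mul, Subgroup.coe_inv] at h2
      exact h2
    have hnQ := cent_TT_norm_E0 hK hm hx hx1 (Subgroup.mem_centralizer_singleton_iff.1 n.2) hE
    exact Subgroup.mem_centralizer_iff.2 fun z hz =>
      Subtype.ext (comm_QT hK (E0_le_QT hK ((hmemQ z).1 hz)) hnQ)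
  have hcompl := MonoidHom.ker_transferSylow_isComplement' Q hNC
  set R := (MonoidHom.transferSylow Q hNC).ker.map C.subtype with hR
  have hodd : ∀ r ∈ R, Odd (orderOf r) := by
    rintro _ ⟨r, hr, rfl⟩
    refine Nat.odd_iff.2 (Nat.two_dvd_ne_zero.1 fun hd => ?_)
    refine MonoidHom.not_dvd_card_ker_transferSylow Q hNC (hd.trans ?_)
    rw [Subgroup.coe_subtype, Subgroup.orderOf_coe]
    exact Subgroup.orderOf_dvd_natCard _ hr
  have hnorm : ∀ e ∈ E0 hK, e * e = 1 → ∀ r ∈ R, e * r * e ∈ R := by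
    intro e he hee
    rintro _ ⟨r, hr, rfl⟩
    have hc := (MonoidHom.normal_ker (MonoidHom.transferSylow Q hNC)).conj_mem r hr
    specialize hc ⟨e, hEC he⟩
    refine ⟨_, SetLike.mem_coe.2 hc, ?_⟩
    show e * (r : Gr F m) * e⁻¹ = e * (r : Gr F m) * e
    rw [inv_eq_of_mul_eq_one_right hee]
  have hRC : ∀ r ∈ R, r * x = x * r := by
    rintro _ ⟨r, -, rfl⟩; exact Subgroup.mem_centralizer_singleton_iff.1 r.2
  have hto : ∀ e r : Gr F m, e * e = 1 → e * r * e = r → r * e = e * r := by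
    intro e r hee h
    have := congrArg (fun z => z * e) h
    simp only [mul_assoc, hee, mul_one] at this
    exact this.symm
  have hfrom : ∀ e r : Gr F m, e * e = 1 → r * e = e * r → e * r * e = r := by
    intro e r hee h; rw [← h, mul_assoc, hee, mul_one]
  have hfix : ∀ r ∈ R, a0 hK * r * a0 hK = r := by
    refine ReeGroup.eq_fixed hodd (a0_sq hK) (t0_sq hK) (a0_t0 hK)
      (hnorm _ ((mem_E0 hK).2 (Or.inr (Or.inl rfl))) (a0_sq hK))
      (hnorm _ ((mem_E0 hK).2 (Or.inr (Or.inr (Or.inl rfl)))) (t0_sq hK)) ?_ ?_ ?_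
    · intro r hr h
      have hq := fixed_spread hK hm hx hx1 (hRC r hr) (Or.inl (hto _ _ (a0_sq hK) h))
      exact hfrom _ _ (t0_sq hK) (comm_QT hK hq (E0_le_QT hK ((mem_E0 hK).2 (Or.inr (Or.inr (Or.inl rfl))))))
    · intro r hr h
      exact hfrom _ _ (a0_sq hK) (a0_comm_of hK
        (fixed_spread hK hm hx hx1 (hRC r hr) (Or.inr (Or.inl (hto _ _ (t0_sq hK) h)))))
    · intro r hr h
      refine hfrom _ _ (a0_sq hK) (a0_comm_of hK
        (fixed_spread hK hm hx hx1 (hRC r hr) (Or.inr (Or.inr (hto _ _ (a0t0_sq hK) ?_)))))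
      nth_rewrite 1 [a0_t0]
      simpa [mul_assoc] using h
  intro g hg
  obtain ⟨⟨⟨r, hr⟩, ⟨e, he⟩⟩, hre⟩ := hcompl.2 (⟨g, hg⟩ : C)
  have hg' : g = (r : Gr F m) * (e : Gr F m) := congrArg Subtype.val hre.symm
  rw [hg']
  refine mul_mem ?_ (E0_le_QT hK ((hmemQ e).1 he))
  have hrR : (r : Gr F m) ∈ R := ⟨r, hr, rfl⟩
  exact fixed_spread hK hm hx hx1 (hRC _ hrR) (Or.inl (hto _ _ (a0_sq hK) (hfix _ hrR)))

end Cfsg.Agent.Chev.Ree
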