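import Cfsg.Agent.Lib.Lie.Ree1
import Cfsg.Agent.Lib.Lie.ChevGraphAut

/-!
# The seven dimensional representation of the small Ree groups
-/

set_option autoImplicit false

namespace Cfsg.Agent.Chev.Ree

open Cfsg.Lie TwG2 Tab Matrix

/-- codes of the short part of the adjoint module -/
def J7 : List ℕ := [0, 4, 5, 6, 9, 10, 11]

theorem block_ok : ∀ r < G2Data.tab.n, ∀ j ∈ J7, (∀ q ∈ G2Data.tab.xcol r j,
    q.1 ∈ J7 ∨ (3 : ℤ) ∣ q.2.1) := by decide +kernel

theorem J7_lt : ∀ k : Fin 7, J7.getD k.val 0 < G2Data.tab.l + G2Data.tab.n := by decide +kernel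

theorem J7_mem : ∀ k : Fin 7, J7.getD k.val 0 ∈ J7 := by decide +kernel

theorem J7_inj : ∀ k k' : Fin 7, J7.getD k.val 0 = J7.getD k'.val 0 → k = k' := by decide +kernel

theorem J7_surj : ∀ j ∈ J7, ∃ k : Fin 7, J7.getD k.val 0 = j := by decide +kernel

/-- the positions of the short part -/
noncomputable def emb (k : Fin 7) : G2Data.tab.D.Idx := Classical.choose (exists_code g0 (J7_lt k))

theorem code_emb (k : Fin 7) : G2Data.tab.code (emb k) = J7.getD k.val 0 :=
  Classical.choose_spec (exists_code g0 (J7_lt k))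

variable {F : Type*} [Field F] [CharP F 3]

/-- block triangularity -/
def Block (x : Matrix G2Data.tab.D.Idx G2Data.tab.D.Idx F) : Prop :=
  ∀ i k, G2Data.tab.code k ∈ J7 → G2Data.tab.code i ∉ J7 → x i k = 0

omit [CharP F 3] in
theorem Block.mul {x y : Matrix G2Data.tab.D.Idx G2Data.tab.D.Idx F} (hx : Block x) (hy : Block y) :
    Block (x * y) := by
  intro i k hk hi
  rw [Matrix.mul_apply]
  refine Finset.sum_eq_zero fun l _ => ?_
  by_cases hl : G2Data.tab.code l ∈ J7
  · rw [hx i l hl hi, zero_mul]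
  · rw [hy l k hk hl, mul_zero]

omit [CharP F 3] in
theorem Block.one : Block (1 : Matrix G2Data.tab.D.Idx G2Data.tab.D.Idx F) := fun i k hk hi =>
  Matrix.one_apply_ne fun h => hi (h ▸ hk)

theorem block_x {r : ℕ} (hr : r < G2Data.tab.n) (t : F) : Block (G2Data.tab.D.x F r t) := by
  intro i k hk hi
  have h := congrFun (x_mulVec_bas g0 hr t (G2Data.tab.code k)) i
  rw [bas_code g0, mulVec_single_one] at h
  simp only [Matrix.col_apply] at h
  rw [h, colVal_apply]
  refine List.sum_eq_zero fun x hx => ?_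
  obtain ⟨q, hq, rfl⟩ := List.mem_map.1 hx
  split_ifs with he
  · rcases block_ok r hr _ hk q hq with h' | ⟨c, hc⟩
    · exact absurd (he ▸ h') hi
    · rw [hc, Int.cast_mul, Int.cast_ofNat, three_zero, zero_mul, zero_mul]
  · rfl

/-- the stabiliser of the short part -/
def blockGroup (F : Type*) [Field F] : Subgroup (GL G2Data.tab.D.Idx F) where
  carrier := {x | Block (x : Matrix G2Data.tab.D.Idx G2Data.tab.D.Idx F) ∧
    Block (↑x⁻¹ : Matrix G2Data.tab.D.Idx G2Data.tab.D.Idx F)}
  one_mem' := ⟨Block.one, by rw [inv_one]; exact Block.one⟩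
  mul_mem' := fun {a b} ha hb => ⟨ha.1.mul hb.1, by rw [_root_.mul_inv_rev]; exact hb.2.mul ha.2⟩
  inv_mem' := fun {a} ha => ⟨ha.2, by rw [inv_inv]; exact ha.1⟩

theorem group_le_block : G2Data.tab.D.group F ≤ blockGroup F :=
  group_le_of_roots g0 fun r hr t => ⟨block_x hr t, by rw [xg_inv]; exact block_x hr (-t)⟩

omit [CharP F 3] in
theorem submatrix_block {x y : Matrix G2Data.tab.D.Idx G2Data.tab.D.Idx F} (hy : Block y) :
    (x * y).submatrix emb emb = x.submatrix emb emb * y.submatrix emb emb := by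
  classical
  ext a b
  have hemb : Function.Injective emb := fun k k' h =>
    J7_inj k k' (by rw [← code_emb, ← code_emb, h])
  simp only [submatrix_apply, Matrix.mul_apply]
  rw [← Finset.sum_image (s := Finset.univ) (g := emb) (f := fun l => x (emb a) l * y l (emb b))
    hemb.injOn]
  refine (Finset.sum_subset (Finset.subset_univ _) fun l _ hl => ?_).symm
  rw [hy l (emb b) (code_emb b ▸ J7_mem b) fun h => ?_, mul_zero]
  obtain ⟨k, hk⟩ := J7_surj _ h
  exact hl (Finset.mem_image.2 ⟨k, Finset.mem_univ _, code_injective g0 (by rw [code_emb, hk])⟩)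

variable [Fintype F] {m : ℕ} (hK : Fintype.card F = 3 ^ (2 * m + 1))

/-- the representation -/
noncomputable def rho7 : ↥(tw F (3 ^ m)) →* GL (Fin 7) F :=
  MonoidHom.toHomUnits
    ({ toFun := fun x => ((x : GL G2Data.tab.D.Idx F) : Matrix G2Data.tab.D.Idx G2Data.tab.D.Idx F).submatrix emb emb
       map_one' := Matrix.submatrix_one _ fun k k' h => J7_inj k k' (by rw [← code_emb, ← code_emb, h])
       map_mul' := fun x y => submatrix_block
        ((group_le_block ((twisted_fixed hK _ y.2).1)).1) } :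
      ↥(tw F (3 ^ m)) →* Matrix (Fin 7) (Fin 7) F)

include hK in
theorem rho7_injective (hm : 1 ≤ m) : Function.Injective (rho7 hK) := by
  have hs : IsSimpleGroup ↥(tw F (3 ^ m)) :=
    ((X hK).simple (blocks hK) (hq (m := m)) (hblk hK) connOK (sep hK) Nat.one_pos (derived hK hm)).1
  rw [← MonoidHom.ker_eq_bot_iff]
  refine ((rho7 hK).normal_ker.eq_bot_or_eq_top).resolve_right fun htop => ?_
  have ha : (⟨tor G2Data.tab F (par m (-1)), par_mem hK (-1)⟩ : ↥(tw F (3 ^ m))) ∈ (rho7 hK).ker := by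
    rw [htop]; exact Subgroup.mem_top _
  have h := congrArg (fun z : GL (Fin 7) F => (z : Matrix (Fin 7) (Fin 7) F) 4 4) (MonoidHom.mem_ker.1 ha)
  simp only [rho7, MonoidHom.coe_toHomUnits, MonoidHom.coe_mk, OneHom.coe_mk, submatrix_apply,
    Units.val_one, Matrix.one_apply_eq] at h
  have h7 : (4 : Fin 7).val = 4 ∧ J7.getD 4 0 = G2Data.tab.l + 7 ∧ 7 < G2Data.tab.n ∧
      G2Data.tab.A 0 7 = 2 ∧ G2Data.tab.A 1 7 = -1 := by decide +kernel
  obtain ⟨-, he, hlt, a7, b7⟩ := h7
  rw [tor_apply, dg_val] at h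
  have hd := congrFun (dg_col_root (F := F) g0 (wt G2Data.tab F (par m (-1))) (s := 7)) (emb 4)
  rw [dg_val] at hd
  rw [← he] at hd
  have hc : G2Data.tab.code (emb 4) = J7.getD 4 0 := code_emb 4
  rw [← hc, bas_code g0, mulVec_single_one] at hd
  simp only [Matrix.col_apply, Pi.smul_apply, Pi.single_eq_same, smul_eq_mul, mul_one] at hd
  rw [hd] at h
  have hw : wt G2Data.tab F (par m (-1)) 7 = -1 := by
    rw [wt_par, a7, b7]
    exact Odd.neg_one_zpow ⟨(3 ^ m : ℕ) - 1, by ring⟩
  rw [hw, Units.val_neg, Units.val_one] at h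
  exact one_ne_zero (α := F) (by linear_combination three_zero (F := F) + h)

end Cfsg.Agent.Chev.Ree
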