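import Mathlib

/-!
# Cyclic Hall subgroups with constant centralisers
-/

set_option autoImplicit false

namespace Cfsg.Agent.ReeTorus

variable {G : Type*} [Group G]

/-- `A` is cyclic, every non-identity element of `A` has centraliser `C`, and `A` is cut out of `C`
by the exponent `|A|` -/
structure Tor (A C : Subgroup G) : Prop where
  le : A ≤ C
  cyc : IsCyclic A
  cent : ∀ y ∈ A, y ≠ 1 → Subgroup.centralizer {y} = C
  mem : ∀ x ∈ C, x ^ Nat.card A = 1 → x ∈ A

theorem pow_card_of_mem {A : Subgroup G} {x : G} (hx : x ∈ A) : x ^ Nat.card A = 1 :=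
  congrArg Subtype.val (pow_card_eq_one' (x := (⟨x, hx⟩ : A)))

theorem conj_cent {c y x : G} :
    c * x * c⁻¹ ∈ Subgroup.centralizer {c * y * c⁻¹} ↔ x ∈ Subgroup.centralizer {y} := by
  simp only [Subgroup.mem_centralizer_singleton_iff]
  constructor
  · intro h
    have := congrArg (fun z => c⁻¹ * z * c) h
    simpa [mul_assoc] using this
  · intro h
    calc c * x * c⁻¹ * (c * y * c⁻¹) = c * (x * y) * c⁻¹ := by group
      _ = c * (y * x) * c⁻¹ := by rw [h]
      _ = c * y * c⁻¹ * (c * x * c⁻¹) := by group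

theorem Tor.conj_mem [Finite G] {A C : Subgroup G} (h : Tor A C) {y c : G} (hy : y ∈ A) (hy1 : y ≠ 1)
    (hc : c * y * c⁻¹ ∈ A) : c ∈ Subgroup.normalizer (A : Set G) := by
  have hC : ∀ x, x ∈ C → c * x * c⁻¹ ∈ C := fun x hx => by
    rw [← h.cent _ hc (fun e => hy1 (conj_eq_one_iff.1 e)), conj_cent, h.cent y hy hy1]
    exact hx
  refine Subgroup.mem_normalizer_iff.2 fun x => ?_
  have hmap : ∀ x ∈ A, c * x * c⁻¹ ∈ A := fun x hx => h.mem _ (hC x (h.le hx)) (by
    rw [conj_pow, pow_card_of_mem hx, mul_one, mul_inv_cancel])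
  refine ⟨hmap x, fun hx => ?_⟩
  have hinj : Function.Injective (fun a : A => (⟨c * a.1 * c⁻¹, hmap a.1 a.2⟩ : A)) := fun a b e =>
    Subtype.ext (mul_left_cancel (mul_right_cancel (congrArg Subtype.val e)))
  obtain ⟨a, ha⟩ := Finite.injective_iff_surjective.1 hinj ⟨_, hx⟩
  have : a.1 = x := mul_left_cancel (mul_right_cancel (congrArg Subtype.val ha))
  exact this ▸ a.2

theorem Tor.normalizer_le [Finite G] {A C : Subgroup G} (h : Tor A C) {A0 : Subgroup G} (hA0 : A0 ≤ A) :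
    Subgroup.normalizer (A : Set G) ≤ Subgroup.normalizer (A0 : Set G) := by
  intro n hn
  have key : ∀ n ∈ Subgroup.normalizer (A : Set G), ∀ x ∈ A0, n * x * n⁻¹ ∈ A0 := by
    intro n hn x hx
    obtain ⟨a, ha⟩ := h.cyc.exists_generator
    have hn' : n * (a : G) * n⁻¹ ∈ A := (Subgroup.mem_normalizer_iff.1 hn _).1 a.2
    obtain ⟨j, hj⟩ := Subgroup.mem_zpowers_iff.1 (ha ⟨_, hn'⟩)
    obtain ⟨i, hi⟩ := Subgroup.mem_zpowers_iff.1 (ha ⟨x, hA0 hx⟩)
    have hj' : (a : G) ^ j = n * (a : G) * n⁻¹ := congrArg Subtype.val hj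
    have hi' : (a : G) ^ i = x := congrArg Subtype.val hi
    rw [← hi', ← conj_zpow, ← hj', ← zpow_mul, mul_comm, zpow_mul, hi']
    exact zpow_mem hx j
  refine Subgroup.mem_normalizer_iff.2 fun x => ⟨key n hn x, fun hx => ?_⟩
  have := key _ (inv_mem hn) _ hx
  simpa [mul_assoc] using this

theorem Tor.normalizer_eq [Finite G] {A C : Subgroup G} (h : Tor A C) {A0 : Subgroup G} (hA0 : A0 ≤ A)
    (hne : A0 ≠ ⊥) : Subgroup.normalizer (A0 : Set G) = Subgroup.normalizer (A : Set G) := by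
  refine le_antisymm (fun c hc => ?_) (h.normalizer_le hA0)
  obtain ⟨y, hy, hy1⟩ := (Subgroup.nontrivial_iff_exists_ne_one A0).1
    ((Subgroup.nontrivial_iff_ne_bot A0).2 hne)
  exact h.conj_mem (hA0 hy) hy1 (hA0 ((Subgroup.mem_normalizer_iff.1 hc y).1 hy))

theorem Tor.centralizer_eq {A C : Subgroup G} (h : Tor A C) {A0 : Subgroup G} (hA0 : A0 ≤ A)
    (hne : A0 ≠ ⊥) : Subgroup.centralizer (A0 : Set G) = C := by
  obtain ⟨y, hy, hy1⟩ := (Subgroup.nontrivial_iff_exists_ne_one A0).1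
    ((Subgroup.nontrivial_iff_ne_bot A0).2 hne)
  refine le_antisymm (fun g hg => ?_) (fun g hg => Subgroup.mem_centralizer_iff.2 fun a ha => ?_)
  · rw [← h.cent y (hA0 hy) hy1]
    exact Subgroup.mem_centralizer_singleton_iff.2 (Subgroup.mem_centralizer_iff.1 hg y hy).symm
  · by_cases ha1 : a = 1
    · rw [ha1, one_mul, mul_one]
    · rw [← h.cent a (hA0 ha) ha1] at hg
      exact (Subgroup.mem_centralizer_singleton_iff.1 hg).symm

/-- transport along a conjugation -/
theorem Tor.map_conj {A C : Subgroup G} (h : Tor A C) (c : G) :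
    Tor (A.map (MulAut.conj c).toMonoidHom) (C.map (MulAut.conj c).toMonoidHom) where
  le := Subgroup.map_mono h.le
  cyc := by
    haveI := h.cyc
    exact isCyclic_of_surjective (Subgroup.equivMapOfInjective A _ (MulAut.conj c).injective).toMonoidHom
      (MulEquiv.surjective _)
  cent := by
    rintro _ ⟨y, hy, rfl⟩ hy1
    have hy1' : y ≠ 1 := by rintro rfl; exact hy1 (map_one _)
    ext x
    show x ∈ Subgroup.centralizer {c * y * c⁻¹} ↔ x ∈ C.map _
    rw [Subgroup.mem_map_equiv, show x = c * (c⁻¹ * x * c) * c⁻¹ by group, conj_cent, h.cent y hy hy1']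
    simp [MulAut.conj_symm_apply, mul_assoc]
  mem := by
    rintro _ ⟨x, hx, rfl⟩ e
    refine ⟨x, h.mem x hx ?_, rfl⟩
    rw [← map_pow, ← Nat.card_congr (Subgroup.equivMapOfInjective A _ (MulAut.conj c).injective).toEquiv,
      ← map_one (MulAut.conj c).toMonoidHom] at e
    exact (MulAut.conj c).injective e

/-- elements of prime power order, for a prime dividing the order of a Hall subgroup -/
theorem exists_conj_mem_hall [Finite G] {A : Subgroup G} (hA : Nat.Coprime (Nat.card A) A.index)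
    {r : ℕ} [Fact r.Prime] (hr : r ∣ Nat.card A) {P : Subgroup G} (hP : IsPGroup r P) :
    ∃ c : G, ∀ x ∈ P, c⁻¹ * x * c ∈ A := by
  obtain ⟨Q⟩ := (inferInstance : Nonempty (Sylow r A))
  have hidx : (A.index).factorization r = 0 := by
    refine Nat.factorization_eq_zero_of_not_dvd fun h => ?_
    have : r ∣ 1 := by rw [← hA.gcd_eq_one]; exact Nat.dvd_gcd hr h
    exact (Fact.out : r.Prime).one_lt.ne' (Nat.dvd_one.1 this)
  have hcard : Nat.card ((Q : Subgroup A).map A.subtype) = r ^ (Nat.card G).factorization r := by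
    rw [← Nat.card_congr (Subgroup.equivMapOfInjective _ _ A.subtype_injective).toEquiv,
      Q.card_eq_multiplicity, ← Subgroup.card_mul_index A,
      Nat.factorization_mul Nat.card_pos.ne' Subgroup.index_ne_zero_of_finite, Finsupp.add_apply, hidx,
      add_zero]
  let S : Sylow r G := Sylow.ofCard _ hcard
  obtain ⟨R, hR⟩ := hP.exists_le_sylow
  obtain ⟨c, hc⟩ := MulAction.exists_smul_eq G S R
  refine ⟨c, fun x hx => ?_⟩
  have hx' := hR hx
  rw [← hc, Sylow.coe_subgroup_smul] at hx'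
  obtain ⟨y, hy, rfl⟩ := hx'
  obtain ⟨z, -, rfl⟩ := (hy : y ∈ (Q : Subgroup A).map A.subtype)
  show c⁻¹ * (c * (z : G) * c⁻¹) * c ∈ A
  rw [show c⁻¹ * (c * (z : G) * c⁻¹) * c = (z : G) by group]
  exact z.2

theorem sylow_cyclic_of_hall [Finite G] {A : Subgroup G} (hcyc : IsCyclic A)
    (hA : Nat.Coprime (Nat.card A) A.index) {r : ℕ} [Fact r.Prime] (hr : r ∣ Nat.card A)
    (P : Sylow r G) : IsCyclic (P : Subgroup G) := by
  obtain ⟨c, hc⟩ := exists_conj_mem_hall hA hr P.isPGroup'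
  let f : (P : Subgroup G) →* A :=
    { toFun := fun x => ⟨c⁻¹ * (x : G) * c, hc x x.2⟩
      map_one' := Subtype.ext (by simp)
      map_mul' := fun a b => Subtype.ext (by simp [mul_assoc]) }
  exact isCyclic_of_injective f fun a b e =>
    Subtype.ext (mul_left_cancel (mul_right_cancel (congrArg Subtype.val e)))

theorem exists_conj_cent [Finite G] {A C : Subgroup G} (h : Tor A C)
    (hA : Nat.Coprime (Nat.card A) A.index) {g : G} {r : ℕ} [Fact r.Prime] (hr : r ∣ Nat.card A)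
    (hg : r ∣ orderOf g) : ∃ c : G, c⁻¹ * g * c ∈ C := by
  set w := g ^ (orderOf g / r) with hw
  have hwo : orderOf w = r := orderOf_pow_orderOf_div (orderOf_pos g).ne' hg
  obtain ⟨c, hc⟩ := exists_conj_mem_hall hA hr
    (IsPGroup.of_card (n := 1) (by rw [Nat.card_zpowers, hwo, pow_one]) : IsPGroup r (Subgroup.zpowers w))
  refine ⟨c, ?_⟩
  have hw1 : c⁻¹ * w * c ≠ 1 := fun e => by
    have hw0 : w = 1 := by simpa [mul_assoc] using congrArg (fun z => c * z * c⁻¹) e
    rw [hw0, orderOf_one] at hwo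
    exact (Fact.out : r.Prime).one_lt.ne hwo
  rw [← h.cent _ (hc w (Subgroup.mem_zpowers w)) hw1, Subgroup.mem_centralizer_singleton_iff]
  have : g * w = w * g := (Commute.self_pow g _).eq
  calc c⁻¹ * g * c * (c⁻¹ * w * c) = c⁻¹ * (g * w) * c := by group
    _ = c⁻¹ * (w * g) * c := by rw [this]
    _ = _ := by group

theorem zpowers_eq_of_card [Finite G] {A : Subgroup G} (hcyc : IsCyclic A) {x y : G} (hx : x ∈ A) (hy : y ∈ A)
    (he : orderOf x = orderOf y) : Subgroup.zpowers x = Subgroup.zpowers y := by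
  obtain ⟨a, ha⟩ := hcyc.exists_generator
  have key : ∀ z : G, z ∈ A → Subgroup.zpowers z ≤
      Subgroup.zpowers ((a : G) ^ (Nat.card A / orderOf z)) := by
    intro z hz
    rw [Subgroup.zpowers_le]
    obtain ⟨i, hi⟩ := Subgroup.mem_zpowers_iff.1 (ha ⟨z, hz⟩)
    have hi' : (a : G) ^ i = z := congrArg Subtype.val hi
    have hd : orderOf z ∣ Nat.card A := orderOf_dvd_of_pow_eq_one (pow_card_of_mem hz)
    have hoa : orderOf (a : G) = Nat.card A := by
      rw [Subgroup.orderOf_coe, orderOf_eq_card_of_forall_mem_zpowers ha]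
    have h1 : (a : G) ^ (i * (orderOf z : ℤ)) = 1 := by
      rw [zpow_mul, hi', zpow_natCast, pow_orderOf_eq_one]
    rw [← orderOf_dvd_iff_zpow_eq_one, hoa] at h1
    obtain ⟨k, hk⟩ := hd
    have hk0 : (0 : ℕ) < orderOf z := orderOf_pos z
    rw [hk, Nat.mul_div_cancel_left _ hk0]
    obtain ⟨l, hl⟩ := h1
    refine Subgroup.mem_zpowers_iff.2 ⟨l, ?_⟩
    rw [hk, Nat.cast_mul, mul_comm i, mul_assoc] at hl
    rw [← zpow_natCast, ← zpow_mul, ← mul_left_cancel₀ (by exact_mod_cast hk0.ne') hl, hi']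
  have hoa : orderOf (a : G) = Nat.card A := by
    rw [Subgroup.orderOf_coe, orderOf_eq_card_of_forall_mem_zpowers ha]
  have hall : ∀ z : G, z ∈ A → Subgroup.zpowers z = Subgroup.zpowers ((a : G) ^ (Nat.card A / orderOf z)) :=
    fun z hz => Subgroup.eq_of_le_of_card_ge (key z hz) (by
      rw [Nat.card_zpowers, Nat.card_zpowers]
      obtain ⟨k, hk⟩ := orderOf_dvd_of_pow_eq_one (pow_card_of_mem hz)
      rw [hk, Nat.mul_div_cancel_left _ (orderOf_pos z)]
      refine Nat.le_of_dvd (orderOf_pos z) (orderOf_dvd_of_pow_eq_one ?_)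
      rw [← pow_mul, mul_comm, ← hk, ← hoa, pow_orderOf_eq_one])
  rw [hall x hx, hall y hy, he]

/-- counting the elements conjugate into `T` -/
theorem card_conj_mul [Finite G] (T : Set G) (N : Subgroup G)
    (hN : ∀ n ∈ N, ∀ y ∈ T, n⁻¹ * y * n ∈ T) (hTI : ∀ y ∈ T, ∀ c : G, c * y * c⁻¹ ∈ T → c ∈ N) :
    Nat.card {g : G // ∃ c : G, c⁻¹ * g * c ∈ T} * Nat.card N = Nat.card G * Nat.card T := by
  classical
  rw [← Nat.card_prod, ← Nat.card_prod]
  choose c hc using fun g : {g : G // ∃ c : G, c⁻¹ * g * c ∈ T} => g.2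
  let f : {g : G // ∃ c : G, c⁻¹ * g * c ∈ T} × N → G × T := fun p =>
    (c p.1 * (p.2 : G), ⟨(p.2 : G)⁻¹ * ((c p.1)⁻¹ * p.1.1 * c p.1) * p.2, hN _ p.2.2 _ (hc p.1)⟩)
  refine Nat.card_eq_of_bijective f ⟨fun p p' e => ?_, fun ⟨d, y⟩ => ?_⟩
  · have e1 : c p.1 * (p.2 : G) = c p'.1 * (p'.2 : G) := congrArg Prod.fst e
    have e2 : (p.2 : G)⁻¹ * ((c p.1)⁻¹ * p.1.1 * c p.1) * p.2 =
        (p'.2 : G)⁻¹ * ((c p'.1)⁻¹ * p'.1.1 * c p'.1) * p'.2 :=
      congrArg (fun z : G × T => (z.2 : G)) e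
    have e3 : p.1 = p'.1 := by
      refine Subtype.ext ?_
      have := congrArg (fun z => (c p.1 * (p.2 : G)) * z * (c p.1 * (p.2 : G))⁻¹) e2
      simp only [show ∀ (a b g : G), a * b * (b⁻¹ * (a⁻¹ * g * a) * b) * (a * b)⁻¹ = g from
        fun a b g => by group] at this
      rw [this, e1]
      group
    refine Prod.ext e3 (Subtype.ext ?_)
    rw [e3] at e1
    exact mul_left_cancel e1
  · set g : {g : G // ∃ c : G, c⁻¹ * g * c ∈ T} :=
      ⟨d * y.1 * d⁻¹, d, by rw [show d⁻¹ * (d * y.1 * d⁻¹) * d = y.1 by group]; exact y.2⟩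
    have hn : (c g)⁻¹ * d ∈ N := by
      refine hTI y.1 y.2 _ ?_
      convert hc g using 1
      simp [g, mul_assoc]
    refine ⟨(g, ⟨_, hn⟩), Prod.ext (mul_inv_cancel_left _ _) (Subtype.ext ?_)⟩
    show ((c g)⁻¹ * d)⁻¹ * ((c g)⁻¹ * (d * y.1 * d⁻¹) * c g) * ((c g)⁻¹ * d) = y.1
    group

theorem card_orderOf_cyclic [Finite G] {A : Subgroup G} (hcyc : IsCyclic A) {d : ℕ} (hd : d ∣ Nat.card A) :
    Nat.card {x : G // x ∈ A ∧ orderOf x = d} = Nat.totient d := by
  classical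
  haveI := Fintype.ofFinite A
  haveI := hcyc
  rw [← IsCyclic.card_orderOf_eq_totient (α := A) (d := d) (by rwa [← Nat.card_eq_fintype_card]),
    ← Fintype.card_subtype, ← Nat.card_eq_fintype_card]
  exact Nat.card_congr
    { toFun := fun x => ⟨⟨x.1, x.2.1⟩, by rw [← Subgroup.orderOf_coe]; exact x.2.2⟩
      invFun := fun x => ⟨x.1.1, x.1.2, by rw [Subgroup.orderOf_coe]; exact x.2⟩
      left_inv := fun x => rfl
      right_inv := fun x => rfl }

end Cfsg.Agent.ReeTorus
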