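import Cfsg.Agent.Lib.Lie.Ree6b
import Cfsg.Agent.Lib.Lie.ReeTorus
import Cfsg.Agent.Lib.Classical.GL2

/-!
# The two small tori and the normaliser of a Sylow 2-subgroup
-/

set_option autoImplicit false

namespace Cfsg.Agent.Chev.Ree

open Cfsg.Lie TwG2 Tab ReeTorus

variable {F : Type*} [Field F] [CharP F 3] [Fintype F] {m : ℕ} (hK : Fintype.card F = 3 ^ (2 * m + 1))

local notation "P" => Matrix.ProjectiveSpecialLinearGroup (Fin 2) F

include hK in
theorem qN : Nat.card F = 3 ^ (2 * m + 1) := by rw [Nat.card_eq_fintype_card, hK]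

/-! ### arithmetic -/

theorem q_form (m : ℕ) : ∃ k, 3 ^ (2 * m + 1) = 8 * k + 3 := by
  induction m with
  | zero => exact ⟨0, rfl⟩
  | succ j ih =>
    obtain ⟨k, hk⟩ := ih
    exact ⟨9 * k + 3, by rw [show 3 ^ (2 * (j + 1) + 1) = 9 * 3 ^ (2 * j + 1) by ring, hk]; ring⟩

theorem q_ge {m : ℕ} (hm : 1 ≤ m) : 27 ≤ 3 ^ (2 * m + 1) :=
  (by norm_num : 27 ≤ 3 ^ 3).trans (Nat.pow_le_pow_right (by norm_num) (by omega))

theorem three_dvd_q (m : ℕ) : 3 ∣ 3 ^ (2 * m + 1) := dvd_pow_self 3 (by omega)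

theorem cube_succ (q : ℕ) : q ^ 3 + 1 = (q + 1) * (q * (q - 1) + 1) := by
  rcases q with _ | k
  · rfl
  · rw [Nat.add_sub_cancel]; ring

include hK in
theorem card_Gr : Nat.card (Gr F m) = (3 ^ (2 * m + 1)) ^ 3 * (3 ^ (2 * m + 1) - 1) *
    ((3 ^ (2 * m + 1) + 1) * (3 ^ (2 * m + 1) * (3 ^ (2 * m + 1) - 1) + 1)) := by
  rw [← cube_succ]; exact card_twisted hK

theorem coprime_sub_one_cubic {r q : ℕ} (hr : r ∣ q - 1) : Nat.Coprime r (q * (q - 1) + 1) :=
  Nat.Coprime.coprime_dvd_left hr ((Nat.coprime_mul_right_add_right (q - 1) 1 q).2 (Nat.coprime_one_right _))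

theorem coprime_half_index (m : ℕ) :
    Nat.Coprime ((3 ^ (2 * m + 1) - 1) / 2) ((3 ^ (2 * m + 1)) ^ 3 * 2 *
      ((3 ^ (2 * m + 1) + 1) * (3 ^ (2 * m + 1) * (3 ^ (2 * m + 1) - 1) + 1))) := by
  obtain ⟨k, hk⟩ := q_form m
  rw [hk, show (8 * k + 3 - 1) / 2 = 4 * k + 1 by omega]
  have h2 : Nat.Coprime (4 * k + 1) 2 := Nat.coprime_two_right.2 ⟨2 * k, by ring⟩
  refine Nat.Coprime.mul_right (Nat.Coprime.mul_right (Nat.Coprime.pow_right _ ?_) h2)
    (Nat.Coprime.mul_right ?_ (coprime_sub_one_cubic ⟨2, by omega⟩))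
  · rw [show 8 * k + 3 = 1 + 2 * (4 * k + 1) by ring, Nat.coprime_add_mul_right_right]
    exact Nat.coprime_one_right _
  · rw [show 8 * k + 3 + 1 = 2 + 2 * (4 * k + 1) by ring, Nat.coprime_add_mul_right_right]
    exact h2

theorem coprime_quarter_index (m : ℕ) :
    Nat.Coprime ((3 ^ (2 * m + 1) + 1) / 4) ((3 ^ (2 * m + 1)) ^ 3 * (3 ^ (2 * m + 1) - 1) *
      (4 * (3 ^ (2 * m + 1) * (3 ^ (2 * m + 1) - 1) + 1))) := by
  obtain ⟨k, hk⟩ := q_form m
  have h3 := three_dvd_q m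
  rw [hk] at h3 ⊢
  rw [show (8 * k + 3 + 1) / 4 = 2 * k + 1 by omega]
  have h2 : Nat.Coprime (2 * k + 1) 2 := Nat.coprime_two_right.2 ⟨k, by ring⟩
  have hq : Nat.Coprime (2 * k + 1) (8 * k + 3) := by
    refine Nat.coprime_of_dvd' fun r hr h1 h2 => ?_
    have := Nat.dvd_sub (h1.mul_left 4) h2
    rwa [show 4 * (2 * k + 1) - (8 * k + 3) = 1 by omega] at this
  refine Nat.Coprime.mul_right (Nat.Coprime.mul_right (Nat.Coprime.pow_right _ hq) ?_)
    (Nat.Coprime.mul_right (Nat.Coprime.pow_right 2 h2) ?_)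
  · refine Nat.coprime_of_dvd' fun r hr h1 h2' => ?_
    have := Nat.dvd_sub (h1.mul_left 4) h2'
    rw [show 4 * (2 * k + 1) - (8 * k + 3 - 1) = 2 by omega] at this
    exact h2.gcd_eq_one ▸ Nat.dvd_gcd h1 this
  · refine Nat.coprime_of_dvd' fun r hr h1 h2' => ?_
    have h4 : r ∣ (8 * k + 3 + 1) * (8 * k + 1) :=
      dvd_mul_of_dvd_left ((show 8 * k + 3 + 1 = (2 * k + 1) * 4 by ring) ▸ dvd_mul_of_dvd_left h1 4) _
    rw [show (8 * k + 3) * (8 * k + 3 - 1) + 1 = (8 * k + 3 + 1) * (8 * k + 1) + 3 by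
      rw [show 8 * k + 3 - 1 = 8 * k + 2 by omega]; ring, Nat.dvd_add_right h4] at h2'
    rcases (Nat.dvd_prime Nat.prime_three).1 h2' with e | e
    · exact dvd_of_eq e
    · subst e; omega

/-! ### the centraliser of an involution -/

include hK in
theorem card_P : 2 * Nat.card P = 3 ^ (2 * m + 1) * (3 ^ (2 * m + 1) - 1) * (3 ^ (2 * m + 1) + 1) := by
  have h := ClassicalSL.card_sl_mul (F := F) (ι := Fin 2)
  rw [ClassicalGL2.card_gl2, ReePSL.card_sl (card_mod' hK), qN hK] at h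
  have hq : 0 < 3 ^ (2 * m + 1) - 1 := by
    obtain ⟨k, hk⟩ := q_form m
    omega
  refine Nat.eq_of_mul_eq_mul_left hq ?_
  rw [h]; ring

theorem Ext_top : Subgroup.centralizer {a0 hK} = Ext hK ⊤ := by
  ext g
  rw [Subgroup.mem_centralizer_singleton_iff]
  constructor
  · intro h
    obtain ⟨p, hp⟩ := cent_a0 hK h
    exact ⟨p, Subgroup.mem_top _, hp⟩
  · rintro ⟨p, -, rfl | rfl⟩
    · exact (phi_comm hK p).symm
    · exact (Commute.mul_left (Commute.refl (a0 hK)) (phi_comm hK p).symm : Commute _ _)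

theorem card_cent_a0 : Nat.card (Subgroup.centralizer {a0 hK}) =
    3 ^ (2 * m + 1) * (3 ^ (2 * m + 1) - 1) * (3 ^ (2 * m + 1) + 1) := by
  rw [Ext_top, card_Ext, Subgroup.card_top, card_P hK]

/-! ### the Sylow 2-subgroup -/

theorem cent_S0 (hm : 1 ≤ m) : Subgroup.centralizer (S0 hK : Set (Gr F m)) = S0 hK := by
  refine le_antisymm (fun g hg => ?_) (fun g hg =>
    Subgroup.mem_centralizer_iff.2 fun h hh => comm_S0 hK hh hg)
  have hc := Subgroup.mem_centralizer_iff.1 hg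
  obtain ⟨p, hp⟩ := cent_a0 hK (hc _ (a0_mem_Ext hK _)).symm
  refine ⟨p, ?_, hp⟩
  have key : ∀ v ∈ Vp hK, p * v = v * p := by
    intro v hv
    refine phi_injective hK ?_
    rw [map_mul, map_mul]
    have h := (hc _ ((phi_mem_Ext hK).2 hv)).symm
    rcases hp with rfl | rfl
    · exact h
    · rw [mul_assoc, ← mul_assoc (phi hK v), ← phi_comm, mul_assoc] at h
      exact mul_left_cancel h
  exact cent_Vp hK hm (key _ (Or.inr (Or.inl rfl))) (key _ (Or.inr (Or.inr (Or.inl rfl))))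

theorem two_mem_S0 (hm : 1 ≤ m) {g : Gr F m} (hg : g ∈ Subgroup.normalizer (S0 hK : Set (Gr F m)))
    (h4 : g ^ 4 = 1) : g ∈ S0 hK := by
  haveI : Fact (Nat.Prime 2) := ⟨Nat.prime_two⟩
  have hz : IsPGroup 2 (Subgroup.zpowers g) := by
    obtain ⟨i, -, hi⟩ := (Nat.dvd_prime_pow Nat.prime_two).1 (orderOf_dvd_of_pow_eq_one (show g ^ 2 ^ 2 = 1 from h4))
    exact IsPGroup.of_card (n := i) (by rw [Nat.card_zpowers, hi])
  have hsup := hz.to_sup_of_normal_right' (S0s hK).isPGroup' (Subgroup.zpowers_le.2 hg)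
  have e : Subgroup.zpowers g ⊔ S0 hK = S0 hK := (S0s hK).is_maximal' hsup le_sup_right
  exact e ▸ Subgroup.mem_sup_left (Subgroup.mem_zpowers g)

theorem stab_t0 (hm : 1 ≤ m) {g : Gr F m} (hg : g ∈ Subgroup.normalizer (S0 hK : Set (Gr F m)))
    (ha : g * a0 hK = a0 hK * g) (ht : g * t0 hK = t0 hK * g) : g ∈ S0 hK := by
  obtain ⟨p, hp⟩ := cent_a0 hK ha
  suffices h : phi hK p ∈ S0 hK by
    rcases hp with rfl | rfl
    · exact h
    · exact mul_mem (a0_mem_Ext hK _) h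
  have hg' : phi hK p ∈ Subgroup.normalizer (S0 hK : Set (Gr F m)) := by
    rcases hp with rfl | rfl
    · exact hg
    · have := mul_mem (Subgroup.le_normalizer (a0_mem_Ext hK (Vp hK) : a0 hK ∈ S0 hK)) hg
      rwa [← mul_assoc, a0_sq, one_mul] at this
  have hpt : Commute (phi hK p) (t0 hK) := by
    rcases hp with rfl | rfl
    · exact ht
    · have h2 : Commute (a0 hK * (a0 hK * phi hK p)) (t0 hK) :=
        Commute.mul_left (a0_t0 hK : Commute _ _) (ht : Commute _ _)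
      rwa [← mul_assoc, a0_sq, one_mul] at h2
  clear hp hg ha ht g
  set g := phi hK p with hgdef
  set u0 := phi hK (uP' hK) with hu0
  have hu0S : u0 ∈ S0 hK := (phi_mem_Ext hK).2 (Or.inr (Or.inr (Or.inl rfl)))
  have him := (Subgroup.mem_normalizer_iff.1 hg' u0).1 hu0S
  rw [hgdef, hu0, ← map_inv, ← map_mul, ← map_mul] at him
  have hV := (phi_mem_Ext hK).1 him
  obtain ⟨-, -, hu1, hut, -⟩ := uP'_spec hK
  have hpt' : p * ReePSL.tP F = ReePSL.tP F * p := phi_injective hK (by rw [map_mul, map_mul]; exact hpt)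
  rcases hV with e | e | e | e
  · exact absurd (conj_eq_one_iff.1 e) hu1
  · refine absurd ?_ hut
    have e2 : p * ReePSL.tP F * p⁻¹ = ReePSL.tP F := by rw [hpt', mul_inv_cancel_right]
    exact mul_left_cancel (mul_right_cancel (e.trans e2.symm))
  · exact (phi_mem_Ext hK).2 (cent_Vp hK hm hpt' (mul_inv_eq_iff_eq_mul.1 e))
  · have hu : p * p * uP' hK = uP' hK * (p * p) := by
      refine mul_inv_eq_iff_eq_mul.1 ?_
      rw [show p * p * uP' hK * (p * p)⁻¹ = p * (p * uP' hK * p⁻¹) * p⁻¹ by group, e,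
        show p * (ReePSL.tP F * uP' hK) * p⁻¹ = (p * ReePSL.tP F * p⁻¹) * (p * uP' hK * p⁻¹) by group, e,
        hpt', mul_inv_cancel_right, ← mul_assoc, t_sq, one_mul]
    have hpp := cent_Vp hK hm (by rw [mul_assoc, hpt', ← mul_assoc, hpt', mul_assoc]) hu
    refine two_mem_S0 hK hm hg' ?_
    rw [hgdef, ← map_pow, show p ^ 4 = p * p * (p * p) by simp only [pow_succ, pow_zero, one_mul, mul_assoc],
      sq_Vp hK hpp, map_one]

theorem card_norm_S0 (hm : 1 ≤ m) :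
    Nat.card (Subgroup.normalizer (S0 hK : Set (Gr F m))) = 168 := by
  set N := Subgroup.normalizer (S0 hK : Set (Gr F m)) with hN
  set H := phi hK (hP hK) with hH
  have hH3 : H ^ 3 = 1 := by rw [hH, ← map_pow, (uP'_spec hK).2.2.2.2.2.2.2, map_one]
  have hHN : H ∈ N := Subgroup.mem_normalizer_iff.2 fun z => ⟨phi_h_norm hK, fun hz => by
    have := phi_h_norm hK (phi_h_norm hK hz)
    rw [← hH, show H * (H * (H * z * H⁻¹) * H⁻¹) * H⁻¹ = H ^ 3 * z * (H ^ 3)⁻¹ by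
      simp only [pow_succ, pow_zero, one_mul]; group, hH3] at this
    simpa using this⟩
  choose n hn hna using fun z : {z : S0 hK // z ≠ 1} =>
    exists_norm_conj hK hm z.1.2 (fun h => z.2 (Subtype.ext h))
  obtain ⟨-, -, hu1, hut, e1, e2, -, -⟩ := uP'_spec hK
  have hHa : ∀ i : ℕ, H ^ i * a0 hK * (H ^ i)⁻¹ = a0 hK := fun i => by
    rw [hH, ← map_pow, ← phi_comm, mul_inv_cancel_right]
  let v : Fin 3 → P := ![ReePSL.tP F, ReePSL.tP F * uP' hK, uP' hK]
  have hv : ∀ i : Fin 3, H ^ (i : ℕ) * t0 hK * (H ^ (i : ℕ))⁻¹ = phi hK (v i) := by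
    intro i
    rw [hH, ← map_pow, t0, ← map_inv, ← map_mul, ← map_mul]
    congr 1
    fin_cases i
    · simp [v]
    · simp [v, e1]
    · show hP hK ^ 2 * ReePSL.tP F * (hP hK ^ 2)⁻¹ = uP' hK
      rw [pow_two, show hP hK * hP hK * ReePSL.tP F * (hP hK * hP hK)⁻¹ =
        hP hK * (hP hK * ReePSL.tP F * (hP hK)⁻¹) * (hP hK)⁻¹ by group, e1, e2]
  have hvinj : Function.Injective v := by
    have h1 : ReePSL.tP F ≠ ReePSL.tP F * uP' hK := fun h => hu1 (mul_eq_left.1 h.symm)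
    have h2 : ReePSL.tP F * uP' hK ≠ uP' hK := fun h => t_ne hK (mul_eq_right.1 h)
    intro a b h
    fin_cases a <;> fin_cases b <;> simp [v, h1, h1.symm, h2, h2.symm, hut, hut.symm] at h ⊢
  let f : {z : S0 hK // z ≠ 1} × Fin 3 × S0 hK → N := fun x =>
    ⟨n x.1 * H ^ (x.2.1 : ℕ) * x.2.2, mul_mem (mul_mem (hn _) (pow_mem hHN _))
      (Subgroup.le_normalizer x.2.2.2)⟩
  have hsa : ∀ (s : S0 hK) (y : Gr F m), y ∈ S0 hK → (s : Gr F m) * y * (s : Gr F m)⁻¹ = y :=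
    fun s y hy => by rw [comm_S0 hK s.2 hy, mul_inv_cancel_right]
  have hfa : ∀ x, (f x : Gr F m) * a0 hK * (f x : Gr F m)⁻¹ = x.1.1 := fun x => by
    show n x.1 * H ^ (x.2.1 : ℕ) * x.2.2 * a0 hK * (n x.1 * H ^ (x.2.1 : ℕ) * x.2.2)⁻¹ = _
    rw [show n x.1 * H ^ (x.2.1 : ℕ) * x.2.2 * a0 hK * (n x.1 * H ^ (x.2.1 : ℕ) * x.2.2)⁻¹ =
      n x.1 * (H ^ (x.2.1 : ℕ) * ((x.2.2 : Gr F m) * a0 hK * (x.2.2 : Gr F m)⁻¹) * (H ^ (x.2.1 : ℕ))⁻¹) *
        (n x.1)⁻¹ by group, hsa _ _ (a0_mem_Ext hK _), hHa, hna]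
  have hf : Function.Bijective f := by
    constructor
    · rintro ⟨z, i, s⟩ ⟨z', i', s'⟩ e
      have e' : n z * H ^ (i : ℕ) * s = n z' * H ^ (i' : ℕ) * s' := congrArg Subtype.val e
      have hz : z = z' := Subtype.ext (Subtype.ext (by
        rw [← hfa (z, i, s), ← hfa (z', i', s'), e]))
      subst hz
      rw [mul_assoc, mul_assoc] at e'
      have e'' := mul_left_cancel e'
      have hi : i = i' := by
        refine hvinj (phi_injective hK ?_)
        rw [← hv, ← hv]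
        have h := congrArg (fun y => y * t0 hK * y⁻¹) e''
        simp only [show ∀ (a b : Gr F m), a * b * t0 hK * (a * b)⁻¹ = a * (b * t0 hK * b⁻¹) * a⁻¹ from
          fun a b => by group, hsa _ _ (t0_mem_S0 hK)] at h
        exact h
      subst hi
      rw [show s = s' from Subtype.ext (mul_left_cancel e'')]
    · rintro ⟨g, hg⟩
      have hza : g * a0 hK * g⁻¹ ∈ S0 hK := (Subgroup.mem_normalizer_iff.1 hg _).1 (a0_mem_Ext hK _)
      let z : {z : S0 hK // z ≠ 1} :=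
        ⟨⟨_, hza⟩, fun h => a0_ne hK (conj_eq_one_iff.1 (congrArg Subtype.val h))⟩
      set g1 := (n z)⁻¹ * g with hg1
      have hg1N : g1 ∈ N := mul_mem (inv_mem (hn z)) hg
      have hg1a : g1 * a0 hK = a0 hK * g1 := by
        refine mul_inv_eq_iff_eq_mul.1 ?_
        rw [show g1 * a0 hK * g1⁻¹ = (n z)⁻¹ * (g * a0 hK * g⁻¹) * n z by rw [hg1]; group,
          show g * a0 hK * g⁻¹ = ((z.1 : S0 hK) : Gr F m) from rfl, ← hna z]
        group
      obtain ⟨p, hp⟩ := cent_a0 hK hg1a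
      obtain ⟨i, hi⟩ : ∃ i : Fin 3, g1 * t0 hK * g1⁻¹ = phi hK (v i) := by
        have him := (Subgroup.mem_normalizer_iff.1 hg1N _).1 (t0_mem_S0 hK)
        have hpt : g1 * t0 hK * g1⁻¹ = phi hK (p * ReePSL.tP F * p⁻¹) := by
          rw [map_mul, map_mul, map_inv]
          rcases hp with e | e <;> rw [e]
          · rfl
          · rw [show a0 hK * phi hK p * t0 hK * (a0 hK * phi hK p)⁻¹ =
              a0 hK * (phi hK p * t0 hK * (phi hK p)⁻¹) * (a0 hK)⁻¹ by group, t0, ← map_inv, ← map_mul,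
              ← map_mul, phi_comm, mul_inv_cancel_right]
        rw [hpt] at him ⊢
        have hne : p * ReePSL.tP F * p⁻¹ ≠ 1 := fun h => t_ne hK (conj_eq_one_iff.1 h)
        rcases (phi_mem_Ext hK).1 him with e | e | e | e
        · exact absurd e hne
        · exact ⟨0, by rw [e]; rfl⟩
        · exact ⟨2, by rw [e]; rfl⟩
        · exact ⟨1, by rw [e]; rfl⟩
      set g2 := (H ^ (i : ℕ))⁻¹ * g1 with hg2
      have hg2S : g2 ∈ S0 hK := by
        refine stab_t0 hK hm (mul_mem (inv_mem (pow_mem hHN _)) hg1N) (mul_inv_eq_iff_eq_mul.1 ?_)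
          (mul_inv_eq_iff_eq_mul.1 ?_)
        · conv_rhs => rw [show a0 hK = (H ^ (i : ℕ))⁻¹ * (H ^ (i : ℕ) * a0 hK * (H ^ (i : ℕ))⁻¹) * H ^ (i : ℕ) by group, hHa]
          rw [hg2, show (H ^ (i : ℕ))⁻¹ * g1 * a0 hK * ((H ^ (i : ℕ))⁻¹ * g1)⁻¹ =
            (H ^ (i : ℕ))⁻¹ * (g1 * a0 hK * g1⁻¹) * H ^ (i : ℕ) by group, hg1a, mul_inv_cancel_right]
        · rw [hg2, show (H ^ (i : ℕ))⁻¹ * g1 * t0 hK * ((H ^ (i : ℕ))⁻¹ * g1)⁻¹ =
            (H ^ (i : ℕ))⁻¹ * (g1 * t0 hK * g1⁻¹) * H ^ (i : ℕ) by group, hi, ← hv]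
          group
      refine ⟨(z, i, ⟨g2, hg2S⟩), Subtype.ext ?_⟩
      show n z * H ^ (i : ℕ) * g2 = g
      rw [hg2, hg1]; group
  classical
  haveI := Fintype.ofFinite (S0 hK)
  rw [← Nat.card_eq_of_bijective f hf, Nat.card_prod, Nat.card_prod, card_S0, Nat.card_fin,
    Nat.card_eq_fintype_card, Fintype.card_subtype_compl, Fintype.card_subtype_eq,
    ← Nat.card_eq_fintype_card, card_S0]

include hK in
theorem sylow_two_main (hm : 1 ≤ m) (S : Sylow 2 (Gr F m)) :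
    Subgroup.centralizer ((S : Subgroup (Gr F m)) : Set (Gr F m)) = S ∧
      Nat.card (Subgroup.normalizer ((S : Subgroup (Gr F m)) : Set (Gr F m))) = 168 := by
  haveI : Fact (Nat.Prime 2) := ⟨Nat.prime_two⟩
  obtain ⟨c, hc⟩ := MulAction.exists_smul_eq (Gr F m) (S0s hK) S
  set e := (MulAut.conj c : Gr F m ≃* Gr F m)
  have hS : (S : Subgroup (Gr F m)) = (S0 hK).map e.toMonoidHom := by
    rw [← hc, Sylow.coe_subgroup_smul]; rfl
  have hmem : ∀ x, x ∈ (S : Subgroup (Gr F m)) ↔ e.symm x ∈ S0 hK := fun x => by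
    rw [hS]; exact Subgroup.mem_map_equiv
  constructor
  · ext g
    rw [hmem]
    conv_rhs => rw [← cent_S0 hK hm]
    simp only [Subgroup.mem_centralizer_iff, SetLike.mem_coe, hmem]
    constructor
    · intro h y hy
      have := h (e y) (by rwa [MulEquiv.symm_apply_apply])
      have := congrArg e.symm this
      simpa using this
    · intro h y hy
      exact e.symm.injective (by simpa using h _ hy)
  · rw [← card_norm_S0 hK hm]
    refine (Nat.card_congr ?_)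
    refine e.toEquiv.symm.subtypeEquiv fun g => ?_
    simp only [Subgroup.mem_normalizer_iff, SetLike.mem_coe, hmem]
    constructor
    · intro h y
      simpa using h (e y)
    · intro h y
      simpa using h (e.symm y)

/-! ### the torus of order `(q+1)/4` -/

theorem tor_TT (hm : 1 ≤ m) : Tor (TT hK) (QT hK) where
  le := TT_le_QT hK
  cyc := isCyclic_TT hK
  cent := fun _ hy hy1 => cent_TT hK hm hy hy1
  mem := fun x hx h => odd_CE_mem hK hm (QT_le_CE hK hx) (Odd.of_dvd_nat (odd_kT hK)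
    (orderOf_dvd_of_pow_eq_one (by rwa [card_TT] at h)))

theorem card_TT' : Nat.card (TT hK) = (3 ^ (2 * m + 1) + 1) / 4 := by rw [card_TT, qN hK]

include hK in
theorem TT_ne_bot (hm : 1 ≤ m) : TT hK ≠ ⊥ := fun h => by
  have := congrArg (fun A : Subgroup (Gr F m) => Nat.card A) h
  simp only [Subgroup.card_bot, card_TT'] at this
  have := q_ge hm
  omega

theorem invol_QT (hm : 1 ≤ m) {x : Gr F m} (hx : x ∈ QT hK) (h2 : x * x = 1) : x ∈ E0 hK := by
  obtain ⟨p, hp, h⟩ := hx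
  have hpp : p * p = 1 := phi_injective hK (by
    rw [map_mul, map_one]
    rcases h with rfl | rfl
    · exact h2
    · rwa [show a0 hK * phi hK p * (a0 hK * phi hK p) = a0 hK * (phi hK p * a0 hK) * phi hK p by
        simp only [mul_assoc], ← phi_comm, ← mul_assoc, a0_sq, one_mul] at h2)
  refine ⟨p, ?_, h⟩
  rcases low_gam hK hp hpp with rfl | rfl
  · exact one_mem _
  · exact Subgroup.mem_zpowers _

theorem norm_TT_mem (hm : 1 ≤ m) {n : Gr F m} (hn : n ∈ Subgroup.normalizer (TT hK : Set (Gr F m)))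
    {e : Gr F m} (he : e ∈ E0 hK) : n * e * n⁻¹ ∈ E0 hK := by
  have hsq : ∀ e ∈ E0 hK, e * e = 1 := fun e he => by
    rcases (mem_E0 hK).1 he with rfl | rfl | rfl | rfl
    · exact one_mul _
    · exact a0_sq hK
    · exact t0_sq hK
    · exact a0t0_sq hK
  refine invol_QT hK hm ?_ (by
    rw [show n * e * n⁻¹ * (n * e * n⁻¹) = n * (e * e) * n⁻¹ by group, hsq e he, mul_one, mul_inv_cancel])
  obtain ⟨x, hx, hx1⟩ := (Subgroup.nontrivial_iff_exists_ne_one (TT hK)).1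
    ((Subgroup.nontrivial_iff_ne_bot _).2 (TT_ne_bot hK hm))
  rw [← cent_TT hK hm ((Subgroup.mem_normalizer_iff.1 hn x).1 hx) (fun h => hx1 (conj_eq_one_iff.1 h)),
    conj_cent, cent_TT hK hm hx hx1]
  exact E0_le_QT hK he

theorem CE_norm_TT (hm : 1 ≤ m) : CE hK ≤ Subgroup.normalizer (TT hK : Set (Gr F m)) := by
  intro c hc
  have key : ∀ c ∈ CE hK, ∀ x ∈ TT hK, c * x * c⁻¹ ∈ TT hK := fun c hc x hx => by
    refine odd_CE_mem hK hm (mul_mem (mul_mem hc (QT_le_CE hK (TT_le_QT hK hx))) (inv_mem hc)) ?_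
    rw [show orderOf (c * x * c⁻¹) = orderOf x from (MulAut.conj c).orderOf_eq x]
    exact odd_orderOf_TT hK hx
  refine Subgroup.mem_normalizer_iff.2 fun x => ⟨key c hc x, fun hx => ?_⟩
  have := key _ (inv_mem hc) _ hx
  simpa [mul_assoc] using this

theorem cyc_norm_TT (hm : 1 ≤ m) : cyc hK hm ∈ Subgroup.normalizer (TT hK : Set (Gr F m)) := by
  obtain ⟨x, hx, hx1⟩ := (Subgroup.nontrivial_iff_exists_ne_one (TT hK)).1
    ((Subgroup.nontrivial_iff_ne_bot _).2 (TT_ne_bot hK hm))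
  exact (tor_TT hK hm).conj_mem hx hx1 (cyc_TT hK hm hx)

theorem card_norm_TT (hm : 1 ≤ m) :
    Nat.card (Subgroup.normalizer (TT hK : Set (Gr F m))) = 6 * (3 ^ (2 * m + 1) + 1) := by
  set N := Subgroup.normalizer (TT hK : Set (Gr F m))
  obtain ⟨c1, c2, c3⟩ := cyc_spec hK hm
  set g := cyc hK hm
  let v : Fin 3 → Gr F m := ![a0 hK, a0 hK * t0 hK, t0 hK]
  have hv : ∀ i : Fin 3, g ^ (i : ℕ) * a0 hK * (g ^ (i : ℕ))⁻¹ = v i := by
    intro i
    fin_cases i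
    · simp [v]
    · simp [v, c2]
    · show g ^ 2 * a0 hK * (g ^ 2)⁻¹ = t0 hK
      rw [pow_two, show g * g * a0 hK * (g * g)⁻¹ = g * (g * a0 hK * g⁻¹) * g⁻¹ by group, c2, c3]
  have hvinj : Function.Injective v := by
    have h1 : a0 hK ≠ a0 hK * t0 hK := fun h => t0_ne hK (mul_eq_left.1 h.symm)
    have h2 : a0 hK * t0 hK ≠ t0 hK := fun h => a0_ne hK (mul_eq_right.1 h)
    have h3 := a0_ne_t0 hK
    intro a b h
    fin_cases a <;> fin_cases b <;> simp [v, h1, h1.symm, h2, h2.symm, h3, h3.symm] at h ⊢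
  let f : Fin 3 × CE hK → N := fun x =>
    ⟨g ^ (x.1 : ℕ) * x.2, mul_mem (pow_mem (cyc_norm_TT hK hm) _) (CE_norm_TT hK hm x.2.2)⟩
  have hfa : ∀ x, (f x : Gr F m) * a0 hK * (f x : Gr F m)⁻¹ = v x.1 := fun x => by
    show g ^ (x.1 : ℕ) * x.2 * a0 hK * (g ^ (x.1 : ℕ) * x.2)⁻¹ = _
    rw [mul_assoc _ _ (a0 hK), ((mem_CE hK).1 x.2.2).1, ← mul_assoc, mul_inv_rev, ← mul_assoc,
      mul_inv_cancel_right, hv]
  have hf : Function.Bijective f := by
    constructor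
    · rintro ⟨i, x⟩ ⟨j, y⟩ e
      have hi : i = j := hvinj (by rw [← hfa (i, x), ← hfa (j, y), e])
      subst hi
      rw [show x = y from Subtype.ext (mul_left_cancel (congrArg Subtype.val e :))]
    · rintro ⟨n, hn⟩
      have ha := norm_TT_mem hK hm hn ((mem_E0 hK).2 (Or.inr (Or.inl rfl)))
      obtain ⟨i, hi⟩ : ∃ i, n * a0 hK * n⁻¹ = v i := by
        rcases (mem_E0 hK).1 ha with e | e | e | e
        · exact absurd (conj_eq_one_iff.1 e) (a0_ne hK)
        · exact ⟨0, e⟩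
        · exact ⟨2, e⟩
        · exact ⟨1, e⟩
      set c := (g ^ (i : ℕ))⁻¹ * n with hc
      have hcN : c ∈ N := mul_mem (inv_mem (pow_mem (cyc_norm_TT hK hm) _)) hn
      have hca : c * a0 hK * c⁻¹ = a0 hK := by
        rw [hc, show (g ^ (i : ℕ))⁻¹ * n * a0 hK * ((g ^ (i : ℕ))⁻¹ * n)⁻¹ =
          (g ^ (i : ℕ))⁻¹ * (n * a0 hK * n⁻¹) * g ^ (i : ℕ) by group, hi, ← hv]
        group
      refine ⟨(i, ⟨c, ?_⟩), Subtype.ext (mul_inv_cancel_left _ _)⟩
      have hca' : c * a0 hK = a0 hK * c := mul_inv_eq_iff_eq_mul.1 hca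
      refine (mem_CE hK).2 ⟨hca', mul_inv_eq_iff_eq_mul.1 ?_⟩
      rcases (mem_E0 hK).1 (norm_TT_mem hK hm hcN ((mem_E0 hK).2 (Or.inr (Or.inr (Or.inl rfl))))) with
        e | e | e | e
      · exact absurd (conj_eq_one_iff.1 e) (t0_ne hK)
      · exact absurd (mul_left_cancel (mul_right_cancel (e.trans hca.symm))) (a0_ne_t0 hK).symm
      · exact e
      · obtain ⟨p, hp⟩ := cent_a0 hK hca'
        exfalso
        refine phi_ne hK (p * ReePSL.tP F * p⁻¹ * ReePSL.tP F) ?_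
        have h : c * t0 hK * c⁻¹ = phi hK (p * ReePSL.tP F * p⁻¹) := by
          rw [map_mul, map_mul, map_inv]
          rcases hp with e | e <;> rw [e]
          · rfl
          · rw [show a0 hK * phi hK p * t0 hK * (a0 hK * phi hK p)⁻¹ =
              a0 hK * (phi hK p * t0 hK * (phi hK p)⁻¹) * (a0 hK)⁻¹ by group, t0, ← map_inv, ← map_mul,
              ← map_mul, phi_comm, mul_inv_cancel_right]
        rw [map_mul, ← h, e]
        show a0 hK * t0 hK * t0 hK = a0 hK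
        rw [mul_assoc, t0_sq, mul_one]
  rw [← Nat.card_eq_of_bijective f hf, Nat.card_prod, Nat.card_fin, card_CE, qN hK]
  ring

theorem hall_TT : Nat.Coprime (Nat.card (TT hK)) (TT hK).index := by
  have h := Subgroup.card_mul_index (TT hK)
  rw [card_Gr hK, card_TT'] at h
  obtain ⟨k, hk⟩ := q_form m
  have hcop := coprime_quarter_index m
  rw [card_TT']
  set K := (3 ^ (2 * m + 1) + 1) / 4 with hKd
  set R := 3 ^ (2 * m + 1) * (3 ^ (2 * m + 1) - 1) + 1
  rw [show 3 ^ (2 * m + 1) + 1 = 4 * K by omega] at h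
  refine hcop.coprime_dvd_right (dvd_of_eq (Nat.eq_of_mul_eq_mul_left (by omega : 0 < K) ?_))
  rw [h]; ring

/-! ### the split torus -/

/-- the subgroup of order `(q-1)/2` of the split torus -/
noncomputable def AH : Subgroup (Gr F m) :=
  ((powMonoidHom ((3 ^ (2 * m + 1) - 1) / 2) : Fˣ →* Fˣ).ker).map (Hh hK)

theorem card_AH : Nat.card (AH hK) = (3 ^ (2 * m + 1) - 1) / 2 := by
  rw [AH, ← Nat.card_congr (Subgroup.equivMapOfInjective _ _ (Hh_injective hK)).toEquiv,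
    IsCyclic.card_powMonoidHom_ker, Nat.card_units, qN hK]
  obtain ⟨k, hk⟩ := q_form m
  exact Nat.gcd_eq_right ⟨2, by omega⟩

theorem mem_AH {x : Gr F m} :
    x ∈ AH hK ↔ ∃ s : Fˣ, s ^ ((3 ^ (2 * m + 1) - 1) / 2) = 1 ∧ Hh hK s = x := by
  simp [AH, Subgroup.mem_map, MonoidHom.mem_ker, powMonoidHom_apply]

theorem sq_ne_of_AH {s : Fˣ} (h : s ^ ((3 ^ (2 * m + 1) - 1) / 2) = 1) (hs : s ≠ 1) : s * s ≠ 1 := by
  obtain ⟨k, hk⟩ := q_form m
  exact fun h2 => hs (eq_one_of_pow_odd ⟨2 * k, by omega⟩ h h2)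

theorem Hh_range_cent {s : Fˣ} (hs : s * s ≠ 1) :
    Subgroup.centralizer {Hh hK s} = (Hh hK).range := by
  refine le_antisymm (fun g hg => ?_) ?_
  · obtain ⟨r, hr⟩ := cent_torus hK hs (Subgroup.mem_centralizer_singleton_iff.1 hg)
    exact ⟨r, hr.symm⟩
  · rintro _ ⟨r, rfl⟩
    rw [Subgroup.mem_centralizer_singleton_iff, ← map_mul, mul_comm, map_mul]

theorem tor_AH : Tor (AH hK) (Hh hK).range where
  le := Subgroup.map_le_range _ _
  cyc := isCyclic_of_surjective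
    (Subgroup.equivMapOfInjective (powMonoidHom ((3 ^ (2 * m + 1) - 1) / 2) : Fˣ →* Fˣ).ker _ (Hh_injective hK)).toMonoidHom
    (MulEquiv.surjective _)
  cent := fun y hy hy1 => by
    obtain ⟨s, hs, rfl⟩ := (mem_AH hK).1 hy
    exact Hh_range_cent hK (sq_ne_of_AH hs fun h => hy1 (by rw [h, map_one]))
  mem := fun x hx h => by
    obtain ⟨s, rfl⟩ := hx
    rw [card_AH, ← map_pow, ← map_one (Hh hK)] at h
    exact (mem_AH hK).2 ⟨s, Hh_injective hK h, rfl⟩

theorem mG_inv_conj (s : Fˣ) : mG hK * Hh hK s * (mG hK)⁻¹ = Hh hK s⁻¹ := by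
  have h := mG_conj hK s⁻¹
  rw [inv_inv] at h
  rw [← h]; group

include hK in
theorem AH_ne_bot (hm : 1 ≤ m) : AH hK ≠ ⊥ := fun h => by
  have := congrArg (fun A : Subgroup (Gr F m) => Nat.card A) h
  simp only [Subgroup.card_bot, card_AH] at this
  have := q_ge hm
  omega

theorem mem_norm_AH (hm : 1 ≤ m) (g : Gr F m) :
    g ∈ Subgroup.normalizer (AH hK : Set (Gr F m)) ↔
      (∃ r, g = Hh hK r) ∨ ∃ r, g = mG hK * Hh hK r := by
  obtain ⟨y, hy, hy1⟩ := (Subgroup.nontrivial_iff_exists_ne_one (AH hK)).1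
    ((Subgroup.nontrivial_iff_ne_bot _).2 (AH_ne_bot hK hm))
  obtain ⟨s, hs, rfl⟩ := (mem_AH hK).1 hy
  have hss : s * s ≠ 1 := sq_ne_of_AH hs fun h => hy1 (by rw [h, map_one])
  constructor
  · intro hg
    obtain ⟨s', -, hs'⟩ := (mem_AH hK).1 ((Subgroup.mem_normalizer_iff.1 hg _).1 hy)
    rcases norm_torus hK hss hs'.symm with ⟨r, hr, -⟩ | h
    · exact Or.inl ⟨r, hr⟩
    · exact Or.inr h
  · have hH : ∀ r, Hh hK r ∈ Subgroup.normalizer (AH hK : Set (Gr F m)) := fun r => by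
      refine (tor_AH hK).conj_mem hy hy1 ?_
      rw [← map_inv, ← map_mul, ← map_mul, mul_comm r s, mul_inv_cancel_right]
      exact hy
    rintro (⟨r, rfl⟩ | ⟨r, rfl⟩)
    · exact hH r
    · refine mul_mem ((tor_AH hK).conj_mem hy hy1 ?_) (hH r)
      rw [mG_inv_conj]
      exact (mem_AH hK).2 ⟨s⁻¹, by rw [inv_pow, hs, inv_one], rfl⟩

theorem card_norm_AH (hm : 1 ≤ m) :
    Nat.card (Subgroup.normalizer (AH hK : Set (Gr F m))) = 2 * (3 ^ (2 * m + 1) - 1) := by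
  let f : Bool × Fˣ → Subgroup.normalizer (AH hK : Set (Gr F m)) := fun x =>
    if x.1 then ⟨mG hK * Hh hK x.2, (mem_norm_AH hK hm _).2 (Or.inr ⟨_, rfl⟩)⟩
    else ⟨Hh hK x.2, (mem_norm_AH hK hm _).2 (Or.inl ⟨_, rfl⟩)⟩
  have hmH : ∀ a b, mG hK * Hh hK a ≠ Hh hK b := fun a b h =>
    mG_not_mem hK (by
      rw [eq_mul_inv_of_mul_eq h]; exact mul_mem (Hh_mem_B1 hK b) (inv_mem (Hh_mem_B1 hK a)))
  have hf : Function.Bijective f := by
    constructor
    · rintro ⟨x, a⟩ ⟨y, b⟩ e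
      have e' := congrArg Subtype.val e
      cases x <;> cases y <;> simp [f] at e'
      · rw [Hh_injective hK e']
      · exact absurd e'.symm (hmH _ _)
      · exact absurd e' (hmH _ _)
      · rw [Hh_injective hK e']
    · rintro ⟨g, hg⟩
      rcases (mem_norm_AH hK hm g).1 hg with ⟨r, rfl⟩ | ⟨r, rfl⟩
      · exact ⟨(false, r), rfl⟩
      · exact ⟨(true, r), rfl⟩
  rw [← Nat.card_eq_of_bijective f hf, Nat.card_prod, Nat.card_units, qN hK]
  simp

theorem hall_AH : Nat.Coprime (Nat.card (AH hK)) (AH hK).index := by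
  have h := Subgroup.card_mul_index (AH hK)
  rw [card_Gr hK, card_AH] at h
  obtain ⟨k, hk⟩ := q_form m
  have hcop := coprime_half_index m
  rw [card_AH]
  set K := (3 ^ (2 * m + 1) - 1) / 2 with hKd
  set R := 3 ^ (2 * m + 1) * (3 ^ (2 * m + 1) - 1) + 1 with hR
  rw [show 3 ^ (2 * m + 1) - 1 = 2 * K by omega] at h
  refine hcop.coprime_dvd_right (dvd_of_eq (Nat.eq_of_mul_eq_mul_left (by omega : 0 < K) ?_))
  rw [h]; ring

end Cfsg.Agent.Chev.Ree
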