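import Cfsg.Agent.Lib.Lie.Ree8
import Cfsg.Agent.Lib.Lie.Ree7
import Cfsg.Agent.Lib.Lie.GLCyclic

/-!
# Elements of the small Ree groups: the cyclotomic tori and the possible orders
-/

set_option autoImplicit false

namespace Cfsg.Agent.Chev.Ree

open Cfsg.Lie TwG2 Tab ReeTorus

variable {F : Type*} [Field F] [CharP F 3] [Fintype F] {m : ℕ} (hK : Fintype.card F = 3 ^ (2 * m + 1))

local notation "P" => Matrix.ProjectiveSpecialLinearGroup (Fin 2) F

/-- `q² - q + 1` -/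
def Phi (m : ℕ) : ℕ := 3 ^ (2 * m + 1) * (3 ^ (2 * m + 1) - 1) + 1

theorem Phi_prime {m r : ℕ} (hr : r.Prime) (h : r ∣ Phi m) :
    r ≠ 2 ∧ r ≠ 3 ∧ ¬ r ∣ 3 ^ (2 * m + 1) ∧ ¬ r ∣ 3 ^ (2 * m + 1) - 1 ∧ ¬ r ∣ 3 ^ (2 * m + 1) + 1 := by
  obtain ⟨k, hk⟩ := q_form m
  have h3 := three_dvd_q m
  rw [Phi, hk] at h
  rw [hk] at h3 ⊢
  have hne : ∀ b, r ∣ b → b ∣ (8 * k + 3) * (8 * k + 3 - 1) → False := fun b hb hb' => by
    have := (Nat.dvd_add_right (hb.trans hb')).1 h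
    exact hr.one_lt.ne' (Nat.dvd_one.1 this)
  have n3 : r ≠ 3 := by
    rintro rfl
    exact hne _ h3 (Dvd.intro _ rfl)
  refine ⟨?_, n3, fun e => hne _ e (Dvd.intro _ rfl), fun e => hne _ e (Dvd.intro_left _ rfl), fun e => ?_⟩
  · rintro rfl
    exact hne 2 dvd_rfl (dvd_mul_of_dvd_right ⟨4 * k + 1, by omega⟩ _)
  · have h4 : r ∣ (8 * k + 3 + 1) * (8 * k + 1) := dvd_mul_of_dvd_left e _
    rw [show (8 * k + 3) * (8 * k + 3 - 1) + 1 = (8 * k + 3 + 1) * (8 * k + 1) + 3 by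
      rw [show 8 * k + 3 - 1 = 8 * k + 2 by omega]; ring, Nat.dvd_add_right h4] at h
    rcases (Nat.dvd_prime Nat.prime_three).1 h with e' | e'
    · exact hr.one_lt.ne' e'
    · exact n3 e'

theorem coprime_Phi {m b : ℕ} (hb : ∀ r : ℕ, r.Prime → r ∣ Phi m → ¬ r ∣ b) : Nat.Coprime (Phi m) b :=
  Nat.coprime_of_dvd fun r hr h1 h2 => hb r hr h1 h2

theorem coprime_Phi_rest (m : ℕ) : Nat.Coprime (Phi m)
    ((3 ^ (2 * m + 1)) ^ 3 * (3 ^ (2 * m + 1) - 1) * (3 ^ (2 * m + 1) + 1)) := by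
  refine coprime_Phi fun r hr h e => ?_
  obtain ⟨-, -, h1, h2, h3⟩ := Phi_prime hr h
  rcases (Nat.Prime.dvd_mul hr).1 e with e | e
  · rcases (Nat.Prime.dvd_mul hr).1 e with e | e
    · exact h1 (hr.dvd_of_dvd_pow e)
    · exact h2 e
  · exact h3 e

theorem orderOf_Phi (hK : Fintype.card F = 3 ^ (2 * m + 1)) {r : ℕ} [Fact r.Prime] (h : r ∣ Phi m) :
    orderOf (Fintype.card F : ZMod r) = 6 := by
  obtain ⟨n2, n3, hq, hm1, hp1⟩ := Phi_prime (Fact.out : r.Prime) h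
  rw [hK]
  set q := 3 ^ (2 * m + 1) with hqd
  have hq1 : 1 ≤ q := Nat.one_le_pow _ _ (by norm_num)
  have h0 : (q : ZMod r) * ((q : ZMod r) - 1) + 1 = 0 := by
    have := (ZMod.natCast_eq_zero_iff _ r).2 h
    rw [Phi, ← hqd] at this
    push_cast [hq1] at this
    exact this
  have h1 : (q : ZMod r) - 1 ≠ 0 := fun e => hm1 ((ZMod.natCast_eq_zero_iff _ r).1 (by
    push_cast [hq1]; exact e))
  have h2 : (q : ZMod r) + 1 ≠ 0 := fun e => hp1 ((ZMod.natCast_eq_zero_iff _ r).1 (by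
    push_cast; exact e))
  have h3 : (q : ZMod r) ^ 3 = -1 := by linear_combination ((q : ZMod r) + 1) * h0
  refine (orderOf_eq_iff (by norm_num)).2 ⟨?_, fun j hj hj0 e => ?_⟩
  · rw [show 6 = 3 * 2 from rfl, pow_mul, h3]; ring
  · have hq2 : (q : ZMod r) ^ 2 ≠ 1 := fun e => mul_ne_zero h1 h2 (by linear_combination e)
    have hneg : (-1 : ZMod r) ≠ 1 := fun e => n2 (by
      have h2z : ((2 : ℕ) : ZMod r) = 0 := by push_cast; linear_combination -e
      exact ((Nat.prime_dvd_prime_iff_eq Fact.out Nat.prime_two).1 ((ZMod.natCast_eq_zero_iff _ r).1 h2z)))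
    interval_cases j
    · exact h1 (by rw [pow_one] at e; rw [e, sub_self])
    · exact hq2 e
    · exact hneg (h3 ▸ e)
    · exact h2 (by linear_combination (q : ZMod r) * h3 - e)
    · exact h1 (by linear_combination ((q : ZMod r) ^ 3 - 1) * h3 - (q : ZMod r) * e)

/-- the primes dividing the order of the group -/
theorem prime_cases (hK : Fintype.card F = 3 ^ (2 * m + 1)) {r : ℕ} (hr : r.Prime)
    (h : r ∣ Nat.card (Gr F m)) : r = 2 ∨ r = 3 ∨ r ∣ (3 ^ (2 * m + 1) - 1) / 2 ∨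
      r ∣ (3 ^ (2 * m + 1) + 1) / 4 ∨ r ∣ Phi m := by
  obtain ⟨k, hk⟩ := q_form m
  rw [card_Gr hK, Nat.Prime.dvd_mul hr, Nat.Prime.dvd_mul hr, Nat.Prime.dvd_mul hr] at h
  rcases h with (h | h) | h | h
  · exact Or.inr (Or.inl ((Nat.prime_dvd_prime_iff_eq hr Nat.prime_three).1 (hr.dvd_of_dvd_pow (hr.dvd_of_dvd_pow h))))
  · rw [show 3 ^ (2 * m + 1) - 1 = 2 * ((3 ^ (2 * m + 1) - 1) / 2) by omega, Nat.Prime.dvd_mul hr] at h
    rcases h with h | h
    · exact Or.inl ((Nat.prime_dvd_prime_iff_eq hr Nat.prime_two).1 h)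
    · exact Or.inr (Or.inr (Or.inl h))
  · rw [show 3 ^ (2 * m + 1) + 1 = 2 ^ 2 * ((3 ^ (2 * m + 1) + 1) / 4) by omega, Nat.Prime.dvd_mul hr] at h
    rcases h with h | h
    · exact Or.inl ((Nat.prime_dvd_prime_iff_eq hr Nat.prime_two).1 (hr.dvd_of_dvd_pow h))
    · exact Or.inr (Or.inr (Or.inr (Or.inl h)))
  · exact Or.inr (Or.inr (Or.inr (Or.inr h)))

/-! ### powers in the small tori and in the unipotent group -/

theorem pow_range {x : Gr F m} (hx : x ∈ (Hh hK).range) : x ^ (3 ^ (2 * m + 1) - 1) = 1 := by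
  obtain ⟨s, rfl⟩ := hx
  rw [← map_pow, show 3 ^ (2 * m + 1) - 1 = Nat.card Fˣ by rw [Nat.card_units, qN hK], pow_card_eq_one',
    map_one]

theorem pow_QT {x : Gr F m} (hx : x ∈ QT hK) : x ^ ((3 ^ (2 * m + 1) + 1) / 2) = 1 := by
  obtain ⟨k, hk⟩ := q_form m
  obtain ⟨p, hp, h⟩ := hx
  have e : p ^ ((3 ^ (2 * m + 1) + 1) / 2) = 1 := by
    obtain ⟨i, rfl⟩ := Subgroup.mem_zpowers_iff.1 hp
    rw [← zpow_natCast, ← zpow_mul, mul_comm, zpow_mul, zpow_natCast, ← qN hK, ← orderOf_gam hK,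
      pow_orderOf_eq_one, one_zpow]
  rcases h with rfl | rfl
  · rw [← map_pow, e, map_one]
  · rw [Commute.mul_pow (phi_comm hK p), ← map_pow, e, map_one, mul_one,
      show (3 ^ (2 * m + 1) + 1) / 2 = 2 * (2 * k + 1) by omega, pow_mul, pow_two, a0_sq, one_pow]

include hK in
theorem UG_nine {x : Gr F m} (hx : x ∈ UG F m) : x ^ 9 = 1 := by
  obtain ⟨t, u, v, e⟩ := (mem_U1_iff hK).1 (Subgroup.mem_subgroupOf.1 hx)
  refine Subtype.ext ?_
  rw [SubgroupClass.coe_pow, e, show 9 = 3 * 3 from rfl, pow_mul]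
  have h3 : ∀ a : F, a + a + a = 0 := fun a => by linear_combination a * three_zero (F := F)
  rw [show (uF m t u v) ^ 3 = uF m t u v * uF m t u v * uF m t u v by simp [pow_succ], uF, uP_mul, uP_mul,
    h3, h3, cube_low]
  rfl

include hK in
theorem three_elem {x : Gr F m} {j : ℕ} (hx : x ^ 3 ^ j = 1) : x ^ 9 = 1 := by
  obtain ⟨c, hc⟩ := exists_conj_UG hK hx
  have := UG_nine hK hc
  rwa [conj_pow, conj_eq_one_iff] at this

theorem two_elem [Fact (Nat.Prime 2)] {x : Gr F m} (hK : Fintype.card F = 3 ^ (2 * m + 1)) {j : ℕ}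
    (hx : x ^ 2 ^ j = 1) : x * x = 1 := by
  obtain ⟨i, -, hi⟩ := (Nat.dvd_prime_pow Nat.prime_two).1 (orderOf_dvd_of_pow_eq_one hx)
  exact (two_le_S0 hK (IsPGroup.of_card (n := i) (by rw [Nat.card_zpowers, hi]) :
    IsPGroup 2 (Subgroup.zpowers x))).1 x (Subgroup.mem_zpowers x)

include hK in
theorem invol_B1 {y : Gr F m} (hy : y ∈ B1 F m) (hy2 : y * y = 1) (hy1 : y ≠ 1) :
    ∃ v ∈ UG F m, v⁻¹ * y * v = a0 hK := by
  obtain ⟨u, hu, s, rfl⟩ := exists_split hK hy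
  set h := Hh hK s
  have hu' : h * u * h⁻¹ ∈ UG F m := conj_mem_UG (Hh_mem_B1 hK s) hu
  have e : Hh hK (s * s) = (u * (h * u * h⁻¹))⁻¹ := by
    refine eq_inv_of_mul_eq_one_right ?_
    calc u * (h * u * h⁻¹) * Hh hK (s * s) = u * h * (u * h) := by
          rw [map_mul]; show u * (h * u * h⁻¹) * (h * h) = _; group
      _ = 1 := hy2
  have hss : s * s = 1 := Hh_mem_UG hK (by rw [e]; exact inv_mem (mul_mem hu hu'))
  rw [hss, map_one, eq_comm, inv_eq_one] at e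
  have hs : s = -1 := by
    rcases mul_self_eq_one_iff.1 (by simpa using congrArg Units.val hss : (s : F) * s = 1) with h' | h'
    · exfalso
      have hs1 : s = 1 := Units.ext h'
      simp only [h, hs1, map_one, one_mul, inv_one, mul_one] at e hy1
      exact hy1 (eq_one_of_pow_odd (n := 9) ⟨4, rfl⟩ (UG_nine hK hu) e)
    · exact Units.ext (by simpa using h')
  have ha : h = a0 hK := by simp only [h, hs]; rfl
  rw [ha] at e
  have hau : a0 hK * u * (a0 hK)⁻¹ = u⁻¹ := eq_inv_of_mul_eq_one_right e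
  rw [ha]
  refine ⟨u ^ 5, pow_mem hu 5, ?_⟩
  have h9 := UG_nine hK hu
  calc (u ^ 5)⁻¹ * (u * a0 hK) * u ^ 5 = (u ^ 5)⁻¹ * u * (a0 hK * u * (a0 hK)⁻¹) ^ 5 * a0 hK := by
        rw [conj_pow]; group
    _ = (u ^ 9)⁻¹ * a0 hK := by rw [hau]; group
    _ = a0 hK := by rw [h9, inv_one, one_mul]

theorem uF_mem_UG (hK : Fintype.card F = 3 ^ (2 * m + 1)) (t u v : F) :
    ∃ x : Gr F m, x ∈ UG F m ∧ (x : GL G2Data.tab.D.Idx F) = uF m t u v :=
  ⟨⟨_, ((mem_U1_iff hK).2 ⟨t, u, v, rfl⟩).2⟩, Subgroup.mem_subgroupOf.2 ((mem_U1_iff hK).2 ⟨t, u, v, rfl⟩), rfl⟩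

theorem three_invol {y z : Gr F m} {j : ℕ} (hy : y ^ 3 ^ j = 1) (hy1 : y ≠ 1) (hz : z * z = 1)
    (hz1 : z ≠ 1) (hc : z * y = y * z) :
    ∃ c : Gr F m, c⁻¹ * z * c = a0 hK ∧ c⁻¹ * y * c ∈ UG F m ∧ (c⁻¹ * y * c) ^ 3 = 1 := by
  obtain ⟨d, hd⟩ := exists_conj_UG hK hy
  have hd1 : d * y * d⁻¹ ≠ 1 := fun h => hy1 (conj_eq_one_iff.1 h)
  have hzB : d * z * d⁻¹ ∈ B1 F m := three_local hK hd hd1 (by
    rw [show (d * z * d⁻¹)⁻¹ * (d * y * d⁻¹) * (d * z * d⁻¹) = d * (z⁻¹ * (y * z)) * d⁻¹ by group, ← hc,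
      inv_mul_cancel_left]
    exact UG_le_B1 hd)
  obtain ⟨v, hv, hva⟩ := invol_B1 hK hzB
    (by rw [show d * z * d⁻¹ * (d * z * d⁻¹) = d * (z * z) * d⁻¹ by group, hz, mul_one, mul_inv_cancel])
    (fun h => hz1 (conj_eq_one_iff.1 h))
  refine ⟨d⁻¹ * v, ?_, ?_, ?_⟩
  · rw [← hva]; group
  · rw [show (d⁻¹ * v)⁻¹ * y * (d⁻¹ * v) = v⁻¹ * (d * y * d⁻¹) * v by group]
    exact mul_mem (mul_mem (inv_mem hv) hd) hv
  · rw [show (d⁻¹ * v)⁻¹ * y * (d⁻¹ * v) = v⁻¹ * (d * y * d⁻¹) * v by group]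
    set w := v⁻¹ * (d * y * d⁻¹) * v with hw
    have hwU : w ∈ UG F m := mul_mem (mul_mem (inv_mem hv) hd) hv
    have hwa : a0 hK * w * (a0 hK)⁻¹ = w := by
      rw [← hva, hw, show v⁻¹ * (d * z * d⁻¹) * v * (v⁻¹ * (d * y * d⁻¹) * v) * (v⁻¹ * (d * z * d⁻¹) * v)⁻¹ =
        v⁻¹ * (d * (z * y * z⁻¹) * d⁻¹) * v by group, hc, mul_inv_cancel_right]
    obtain ⟨u, hu⟩ := cent_U1 hK (Subgroup.mem_subgroupOf.1 hwU) (congrArg Subtype.val hwa)
    refine Subtype.ext ?_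
    rw [SubgroupClass.coe_pow, hu, uF, zero_pow (by positivity), cube_low]
    rfl

/-! ### elements of order a prime dividing `q² - q + 1` -/

theorem conj_torus {g : Gr F m} {r : ℕ} (hr : r.Prime) (h : r ∣ (3 ^ (2 * m + 1) - 1) / 2)
    (hg : r ∣ orderOf g) : ∃ c : Gr F m, c⁻¹ * g * c ∈ (Hh hK).range := by
  haveI : Fact r.Prime := ⟨hr⟩
  exact exists_conj_cent (tor_AH hK) (hall_AH hK) (by rwa [card_AH]) hg

theorem conj_QT (hm : 1 ≤ m) {g : Gr F m} {r : ℕ} (hr : r.Prime) (h : r ∣ (3 ^ (2 * m + 1) + 1) / 4)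
    (hg : r ∣ orderOf g) : ∃ c : Gr F m, c⁻¹ * g * c ∈ QT hK := by
  haveI : Fact r.Prime := ⟨hr⟩
  exact exists_conj_cent (tor_TT hK hm) (hall_TT hK) (by rwa [card_TT']) hg

include hK in
theorem cent_primes (hm : 1 ≤ m) {z : Gr F m} {l : ℕ} (hl : l.Prime) (hlP : l ∣ Phi m)
    (hz : orderOf z = l) {r : ℕ} (hr : r.Prime) (h : r ∣ Nat.card (Subgroup.centralizer {z})) :
    r ∣ Phi m := by
  obtain ⟨n2, n3, hq, hm1, hp1⟩ := Phi_prime hl hlP
  haveI : Fact r.Prime := ⟨hr⟩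
  obtain ⟨⟨y, hy⟩, hyo⟩ := exists_prime_orderOf_dvd_card' r h
  rw [Subgroup.orderOf_mk] at hyo
  have hy' : y * z = z * y := Subgroup.mem_centralizer_singleton_iff.1 hy
  have hy1 : y ≠ 1 := fun e => by rw [e, orderOf_one] at hyo; exact hr.one_lt.ne hyo
  have hzl : z ^ l = 1 := hz ▸ pow_orderOf_eq_one z
  have hz1 : z ≠ 1 := fun e => by rw [e, orderOf_one] at hz; exact hl.one_lt.ne hz
  have hconj : ∀ c : Gr F m, orderOf (c⁻¹ * z * c) = l := fun c => by
    rw [← hz]; simpa using (MulAut.conj c⁻¹).orderOf_eq z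
  have hdvd : r ∣ Nat.card (Gr F m) := hyo ▸ orderOf_dvd_natCard y
  rcases prime_cases hK hr hdvd with e | e | e | e | e
  · exfalso
    subst e
    obtain ⟨c, hc⟩ := invol_conj hK hm (by rw [← pow_two, ← hyo]; exact pow_orderOf_eq_one y) hy1
    have hcz : c * z * c⁻¹ ∈ Subgroup.centralizer {a0 hK} := by
      rw [← hc, conj_cent]; exact Subgroup.mem_centralizer_singleton_iff.2 hy'.symm
    have hd := Subgroup.orderOf_dvd_natCard _ hcz
    rw [show orderOf (c * z * c⁻¹) = orderOf z from (MulAut.conj c).orderOf_eq z, hz, card_cent_a0,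
      Nat.Prime.dvd_mul hl, Nat.Prime.dvd_mul hl] at hd
    tauto
  · exfalso
    subst e
    refine hy1 (no_three hK (n := l) (Nat.Coprime.mul_right
      ((Nat.coprime_primes hl Nat.prime_two).2 n2) (Nat.Coprime.pow_right _ (Nat.Coprime.pow_right _
        ((Nat.coprime_primes hl Nat.prime_three).2 n3)))) hzl hz1 (j := 1) ?_ hy'.symm)
    rw [pow_one]
    exact orderOf_dvd_iff_pow_eq_one.1 (dvd_of_eq hyo)
  · exfalso
    have hy'' : r ∣ Nat.card (AH hK) := by rwa [card_AH]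
    obtain ⟨c, hc⟩ := exists_conj_mem_hall (hall_AH hK) hy''
      (IsPGroup.of_card (n := 1) (by rw [Nat.card_zpowers, hyo, pow_one]) : IsPGroup r (Subgroup.zpowers y))
    have hc1 : c⁻¹ * y * c ≠ 1 := fun e => hy1 (by simpa [mul_assoc] using congrArg (fun w => c * w * c⁻¹) e)
    have hcz : c⁻¹ * z * c ∈ (Hh hK).range := by
      rw [← (tor_AH hK).cent _ (hc y (Subgroup.mem_zpowers y)) hc1]
      have := (conj_cent (c := c⁻¹) (y := y) (x := z)).2 (Subgroup.mem_centralizer_singleton_iff.2 hy'.symm)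
      rwa [inv_inv] at this
    exact hm1 (hconj c ▸ orderOf_dvd_of_pow_eq_one (pow_range hK hcz))
  · exfalso
    have hy'' : r ∣ Nat.card (TT hK) := by rwa [card_TT']
    obtain ⟨c, hc⟩ := exists_conj_mem_hall (hall_TT hK) hy''
      (IsPGroup.of_card (n := 1) (by rw [Nat.card_zpowers, hyo, pow_one]) : IsPGroup r (Subgroup.zpowers y))
    have hc1 : c⁻¹ * y * c ≠ 1 := fun e => hy1 (by simpa [mul_assoc] using congrArg (fun w => c * w * c⁻¹) e)
    have hcz : c⁻¹ * z * c ∈ QT hK := by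
      rw [← (tor_TT hK hm).cent _ (hc y (Subgroup.mem_zpowers y)) hc1]
      have := (conj_cent (c := c⁻¹) (y := y) (x := z)).2 (Subgroup.mem_centralizer_singleton_iff.2 hy'.symm)
      rwa [inv_inv] at this
    refine hp1 ((hconj c ▸ orderOf_dvd_of_pow_eq_one (pow_QT hK hcz)).trans ⟨2, ?_⟩)
    obtain ⟨k, hk⟩ := q_form m
    omega
  · exact e

include hK in
theorem card_cent_dvd (hm : 1 ≤ m) {z : Gr F m} {l : ℕ} (hl : l.Prime) (hlP : l ∣ Phi m)
    (hz : orderOf z = l) : Nat.card (Subgroup.centralizer {z}) ∣ Phi m := by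
  have hd := Subgroup.card_subgroup_dvd_card (Subgroup.centralizer {z})
  rw [card_Gr hK, ← mul_assoc] at hd
  refine Nat.Coprime.dvd_of_dvd_mul_left ?_ hd
  exact Nat.coprime_of_dvd fun r hr h1 h2 =>
    hr.one_lt.ne' (Nat.dvd_one.1 ((coprime_Phi_rest m).gcd_eq_one ▸ Nat.dvd_gcd (cent_primes hK hm hl hlP hz hr h1) h2))

include hK in
theorem cent_cyclic (hm : 1 ≤ m) {z : Gr F m} {l : ℕ} (hl : l.Prime) (hlP : l ∣ Phi m)
    (hz : orderOf z = l) : IsCyclic (Subgroup.centralizer {z}) := by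
  haveI : Fact l.Prime := ⟨hl⟩
  obtain ⟨n2, n3, hq, hm1, hp1⟩ := Phi_prime hl hlP
  have hd := card_cent_dvd hK hm hl hlP hz
  have hco := Nat.Coprime.coprime_dvd_left hd (coprime_Phi_rest m)
  refine GLCyclic.isCyclic_of_le (rho7 hK) (rho7_injective hK hm) (p := l) ?_ (orderOf_Phi hK hlP)
    (hz ▸ pow_orderOf_eq_one z) (fun e => by rw [e, orderOf_one] at hz; exact hl.one_lt.ne hz) _ le_rfl ?_ ?_
  · rw [Ne, CharP.cast_eq_zero_iff F 3]
    exact fun h => n3 ((Nat.prime_dvd_prime_iff_eq Nat.prime_three hl).1 h).symm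
  · rw [Ne, CharP.cast_eq_zero_iff F 3]
    intro h
    have h3 : (3 : ℕ) ∣ 1 := by
      rw [← hco.gcd_eq_one]
      exact Nat.dvd_gcd h (dvd_mul_of_dvd_left (dvd_mul_of_dvd_left (dvd_pow (three_dvd_q m) (by norm_num)) _) _)
    norm_num at h3
  · rw [hK]
    exact hco.coprime_dvd_right (dvd_mul_of_dvd_left (Dvd.intro_left _ rfl) _)

include hK in
theorem cent_comm (hm : 1 ≤ m) {w : Gr F m} {r : ℕ} (hr : r.Prime) (hrP : r ∣ Phi m) (hw : orderOf w = r)
    {a b : Gr F m} (ha : a ∈ Subgroup.centralizer {w}) (hb : b ∈ Subgroup.centralizer {w}) :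
    a * b = b * a := by
  haveI := cent_cyclic hK hm hr hrP hw
  letI := IsCyclic.commGroup (α := Subgroup.centralizer {w})
  exact congrArg Subtype.val (mul_comm (⟨a, ha⟩ : Subgroup.centralizer {w}) ⟨b, hb⟩)

include hK in
theorem tor_cent (hm : 1 ≤ m) {z : Gr F m} {l : ℕ} (hl : l.Prime) (hlP : l ∣ Phi m)
    (hz : orderOf z = l) : Tor (Subgroup.centralizer {z}) (Subgroup.centralizer {z}) where
  le := le_rfl
  cyc := cent_cyclic hK hm hl hlP hz
  mem := fun _ hx _ => hx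
  cent := fun y hy hy1 => by
    have hzC : z ∈ Subgroup.centralizer {z} := Subgroup.mem_centralizer_singleton_iff.2 rfl
    refine le_antisymm (fun g hg => ?_) (fun g hg =>
      Subgroup.mem_centralizer_singleton_iff.2 (cent_comm hK hm hl hlP hz hg hy))
    have hr := Nat.minFac_prime (fun e => hy1 (orderOf_eq_one_iff.1 e))
    set r := (orderOf y).minFac
    set w := y ^ (orderOf y / r) with hw
    have hwo : orderOf w = r := orderOf_pow_orderOf_div (orderOf_pos y).ne' (Nat.minFac_dvd _)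
    have hrP : r ∣ Phi m :=
      (Nat.minFac_dvd _).trans ((Subgroup.orderOf_dvd_natCard _ hy).trans (card_cent_dvd hK hm hl hlP hz))
    have hg' : g ∈ Subgroup.centralizer {w} := Subgroup.mem_centralizer_singleton_iff.2
      (Commute.pow_right (Subgroup.mem_centralizer_singleton_iff.1 hg) _).eq
    have hz' : z ∈ Subgroup.centralizer {w} := Subgroup.mem_centralizer_singleton_iff.2
      (Commute.pow_right (cent_comm hK hm hl hlP hz hzC hy) _).eq
    exact Subgroup.mem_centralizer_singleton_iff.2 (cent_comm hK hm hr hrP hwo hg' hz')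

include hK in
theorem hall_cent (hm : 1 ≤ m) {z : Gr F m} {l : ℕ} (hl : l.Prime) (hlP : l ∣ Phi m)
    (hz : orderOf z = l) :
    Nat.Coprime (Nat.card (Subgroup.centralizer {z})) (Subgroup.centralizer {z}).index := by
  set A := Subgroup.centralizer {z}
  refine Nat.coprime_of_dvd fun r hr h1 h2 => ?_
  haveI : Fact r.Prime := ⟨hr⟩
  obtain ⟨Q⟩ := (inferInstance : Nonempty (Sylow r A))
  have hA := tor_cent hK hm hl hlP hz
  obtain ⟨w, hw⟩ := exists_prime_orderOf_dvd_card' r h1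
  obtain ⟨S, hS⟩ := (IsPGroup.of_card (n := 1) (by rw [Nat.card_zpowers, Subgroup.orderOf_coe, hw, pow_one]) :
    IsPGroup r (Subgroup.zpowers (w : Gr F m))).exists_le_sylow
  have hrP : r ∣ Phi m := h1.trans (card_cent_dvd hK hm hl hlP hz)
  have hw1 : (w : Gr F m) ≠ 1 := fun e => by
    rw [← Subgroup.orderOf_coe, e, orderOf_one] at hw; exact hr.one_lt.ne hw
  -- the Sylow subgroup is abelian, hence centralises `w`
  haveI hnt : Nontrivial (S : Subgroup (Gr F m)) :=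
    ⟨⟨⟨w, hS (Subgroup.mem_zpowers _)⟩, 1, fun e => hw1 (congrArg Subtype.val e)⟩⟩
  haveI := S.isPGroup'.center_nontrivial
  obtain ⟨i, hi, hci⟩ := (S.isPGroup'.to_subgroup (Subgroup.center (S : Subgroup (Gr F m)))).nontrivial_iff_card.1 inferInstance
  obtain ⟨⟨⟨z', hz'S⟩, hz'C⟩, hz'o⟩ := exists_prime_orderOf_dvd_card'
    (G := Subgroup.center (S : Subgroup (Gr F m))) r (by rw [hci]; exact dvd_pow_self r hi.ne')
  rw [Subgroup.orderOf_mk, Subgroup.orderOf_mk] at hz'o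
  have hSC : (S : Subgroup (Gr F m)) ≤ Subgroup.centralizer {z'} := fun x hx =>
    Subgroup.mem_centralizer_singleton_iff.2 (congrArg Subtype.val (Subgroup.mem_center_iff.1 hz'C ⟨x, hx⟩))
  have hSA : (S : Subgroup (Gr F m)) ≤ A := fun x hx => by
    show x ∈ Subgroup.centralizer {z}
    rw [← hA.cent _ w.2 hw1]
    exact Subgroup.mem_centralizer_singleton_iff.2
      (cent_comm hK hm hr hrP hz'o (hSC hx) (hSC (hS (Subgroup.mem_zpowers _))))
  have hd : r ^ ((Nat.card (Gr F m)).factorization r + 1) ∣ Nat.card (Gr F m) := by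
    rw [← Subgroup.card_mul_index A, pow_succ]
    refine mul_dvd_mul ?_ h2
    rw [Subgroup.card_mul_index A, ← S.card_eq_multiplicity]
    exact Subgroup.card_dvd_of_le hSA
  exact Nat.pow_succ_factorization_not_dvd Nat.card_pos.ne' hr hd

include hK in
theorem norm_cent (hm : 1 ≤ m) {z : Gr F m} {l : ℕ} (hl : l.Prime) (hlP : l ∣ Phi m)
    (hz : orderOf z = l) : ∃ e, e ∣ 6 ∧
    Nat.card (Subgroup.normalizer (Subgroup.centralizer {z} : Set (Gr F m))) =
      e * Nat.card (Subgroup.centralizer {z}) := by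
  classical
  haveI : Fact l.Prime := ⟨hl⟩
  set A := Subgroup.centralizer {z} with hAdef
  set N := Subgroup.normalizer (A : Set (Gr F m))
  have hA := tor_cent hK hm hl hlP hz
  have hzA : z ∈ A := Subgroup.mem_centralizer_singleton_iff.2 rfl
  have hz1 : z ≠ 1 := fun e => by rw [e, orderOf_one] at hz; exact hl.one_lt.ne hz
  have hzl : z ^ l = 1 := hz ▸ pow_orderOf_eq_one z
  have hord := orderOf_Phi hK hlP
  have hk : ∀ n : N, ∃ k : ℕ, z ^ k = (n : Gr F m) * z * (n : Gr F m)⁻¹ := by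
    intro n
    have h := (Subgroup.mem_normalizer_iff.1 (hA.normalizer_le (Subgroup.zpowers_le.2 hzA) n.2) z).1
      (Subgroup.mem_zpowers z)
    exact (mem_powers_iff_mem_zpowers (x := z)).2 h
  choose k hk using hk
  have hcast : ∀ a b : ℕ, z ^ a = z ^ b → (a : ZMod l) = b := fun a b h => by
    rwa [pow_eq_pow_iff_modEq, hz, ← ZMod.natCast_eq_natCast_iff] at h
  let χ : N →* ZMod l :=
    { toFun := fun n => k n
      map_one' := by
        rw [← Nat.cast_one]; exact hcast _ _ (by rw [hk, pow_one]; simp)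
      map_mul' := fun a b => by
        rw [← Nat.cast_mul]
        refine hcast _ _ ?_
        rw [hk, pow_mul, hk a, conj_pow, hk b, Subgroup.coe_mul]
        group }
  let f : N →* (ZMod l)ˣ := χ.toHomUnits
  have hfk : ∀ n, ((f n : (ZMod l)ˣ) : ZMod l) = (k n : ZMod l) := fun n => rfl
  have hker : f.ker = A.subgroupOf N := by
    ext n
    rw [MonoidHom.mem_ker, Units.ext_iff, hfk, Units.val_one, Subgroup.mem_subgroupOf,
      hAdef, Subgroup.mem_centralizer_singleton_iff, ← mul_inv_eq_iff_eq_mul, ← hk, ← Nat.cast_one,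
      ZMod.natCast_eq_natCast_iff, ← hz, ← pow_eq_pow_iff_modEq, pow_one]
  have hu : IsUnit (Fintype.card F : ZMod l) :=
    isUnit_iff_ne_zero.2 fun e => by rw [e, orderOf_zero] at hord; norm_num at hord
  have hrange : f.range ≤ Subgroup.zpowers hu.unit := by
    rintro _ ⟨n, rfl⟩
    obtain ⟨i, hi⟩ := GLCyclic.conj_power (rho7 hK) (rho7_injective hK hm) (p := l)
      (by rw [Ne, CharP.cast_eq_zero_iff F 3]
          exact fun h => (Phi_prime hl hlP).2.1 ((Nat.prime_dvd_prime_iff_eq Nat.prime_three hl).1 h).symm)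
      hord hzl hz1 (hk n).symm
    exact ⟨(i : ℤ), Units.ext (by
      simp only [zpow_natCast, Units.val_pow_eq_pow_val, hfk, IsUnit.unit_spec, hi])⟩
  refine ⟨Nat.card f.range, ?_, ?_⟩
  · refine (Subgroup.card_dvd_of_le hrange).trans (dvd_of_eq ?_)
    rw [Nat.card_zpowers, ← hord, ← orderOf_units, IsUnit.unit_spec]
  · rw [← Subgroup.card_mul_index f.ker, Subgroup.index_ker, hker,
      Nat.card_congr (Subgroup.subgroupOfEquivOfLe Subgroup.le_normalizer).toEquiv, mul_comm]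

end Cfsg.Agent.Chev.Ree
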