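import Cfsg.Agent.Lib.Lie.Ree9

/-!
# Sylow subgroups for primes above three
-/

set_option autoImplicit false

namespace Cfsg.Agent.Chev.Ree

open Cfsg.Lie TwG2 Tab ReeTorus

variable {F : Type*} [Field F] [CharP F 3] [Fintype F] {m : ℕ} (hK : Fintype.card F = 3 ^ (2 * m + 1))

include hK in
theorem sylow_cyclic (hm : 1 ≤ m) {p : ℕ} [Fact p.Prime] (hp : 3 < p) (S : Sylow p (Gr F m)) :
    IsCyclic (S : Subgroup (Gr F m)) := by
  by_cases hd : p ∣ Nat.card (Gr F m)
  · rcases prime_cases hK Fact.out hd with e | e | e | e | e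
    · omega
    · omega
    · exact sylow_cyclic_of_hall (tor_AH hK).cyc (hall_AH hK) (by rwa [card_AH]) S
    · exact sylow_cyclic_of_hall (isCyclic_TT hK) (hall_TT hK) (by rwa [card_TT']) S
    · obtain ⟨z, hz⟩ := exists_prime_orderOf_dvd_card' p hd
      exact sylow_cyclic_of_hall (cent_cyclic hK hm Fact.out e hz) (hall_cent hK hm Fact.out e hz)
        (hz ▸ Subgroup.orderOf_dvd_natCard _ (Subgroup.mem_centralizer_singleton_iff.2 rfl)) S
  · have h1 : Nat.card (S : Subgroup (Gr F m)) = 1 := by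
      rw [S.card_eq_multiplicity, Nat.factorization_eq_zero_of_not_dvd hd, pow_zero]
    haveI := (Nat.card_eq_one_iff_unique.1 h1).1
    exact isCyclic_of_subsingleton

end Cfsg.Agent.Chev.Ree
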