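import Cfsg.Agent.Lib.Lie.Ree9b
import Cfsg.Agent.Lib.Schur.SylowKill

/-! Central extensions of the small Ree groups are trivial on the commutator subgroup. -/

set_option autoImplicit false
set_option linter.style.haveILetI false
set_option linter.unusedSectionVars false

namespace Cfsg.Agent.Chev.Ree

open Cfsg.Lie TwG2 Tab
open scoped commutatorElement
open Cfsg.Agent.SylowKill

variable {F : Type*} [Field F] [CharP F 3] [Fintype F] {m : ℕ} (hK : Fintype.card F = 3 ^ (2 * m + 1))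

/-- The long twisting map. -/
noncomputable abbrev tau (m : ℕ) : F →+* F := psi (F := F) (m + 1)

theorem tau_apply (x : F) : tau m x = x ^ (3 * 3 ^ m) := by
  rw [psi_apply, pow_succ, mul_comm]

include hK in
theorem sigma_tau (x : F) : (tau m x) ^ 3 ^ m = x := by rw [tau_apply, theta_sq' hK]

include hK in
/-- The elements of the Sylow 3-subgroup. -/
noncomputable def T (t u v : F) : Gr F m :=
  ⟨uF m t u v, ((mem_U1_iff hK).2 ⟨t, u, v, rfl⟩).2⟩

theorem T_val (t u v : F) : (T hK t u v : GL G2Data.tab.D.Idx F) = uF m t u v := rfl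

theorem T_mem (t u v : F) : T hK t u v ∈ UG F m :=
  Subgroup.mem_subgroupOf.2 ((mem_U1_iff hK).2 ⟨t, u, v, rfl⟩)

theorem exists_T {g : Gr F m} (hg : g ∈ UG F m) : ∃ t u v : F, g = T hK t u v := by
  obtain ⟨t, u, v, e⟩ := (mem_U1_iff hK).1 (Subgroup.mem_subgroupOf.1 hg)
  exact ⟨t, u, v, Subtype.ext e⟩

theorem T_zero : T hK (0 : F) 0 0 = 1 := Subtype.ext (uF_zero (m := m))

theorem T_mul (t u v t' u' v' : F) :
    T hK t u v * T hK t' u' v' = T hK (t + t') (u + u' - tau m t' * t)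
      (v + v' - tau m t' * t ^ 2 - t' * u + tau m t' * t * t') := by
  obtain ⟨a, b, c, e⟩ := exists_T hK (mul_mem (T_mem hK t u v) (T_mem hK t' u' v'))
  rw [e]
  have h := congrArg Subtype.val e
  rw [Subgroup.coe_mul, T_val, T_val, T_val] at h
  have h' := h
  rw [uF, uF, uF, uP_mul] at h'
  obtain ⟨ha, -, hb, hc, -, -⟩ := uP_inj h'
  have hs : ∀ x : F, x ^ 3 ^ m = psi (F := F) m x := fun x => rfl
  have hst : ∀ x : F, psi (F := F) m (tau m x) = x := fun x => sigma_tau hK x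
  obtain rfl := ha
  congr 1
  · apply (psi (F := F) m).injective
    simp only [hs] at hb
    rw [← hb, map_sub, map_add, map_mul, hst]
    ring
  · apply (psi (F := F) m).injective
    simp only [hs] at hc
    rw [← hc]
    simp only [map_sub, map_add, map_mul, map_pow, hst]
    ring

theorem T_inj {t u v t' u' v' : F} (h : T hK t u v = T hK t' u' v') : t = t' ∧ u = u' ∧ v = v' :=
  uF_inj (congrArg Subtype.val h)

/-- The conjugating element with weight `k`. -/
noncomputable def tw' (k : Fˣ) : Gr F m := Hh hK (k * k * k ^ (3 * 3 ^ m))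

theorem tw'_conj (k : Fˣ) (t u v : F) :
    tw' hK k * T hK t u v * (tw' hK k)⁻¹ =
      T hK ((k : F) * t) ((k : F) * tau m (k : F) * u) ((k : F) * (k : F) * tau m (k : F) * v) := by
  set s : Fˣ := k * k * k ^ (3 * 3 ^ m) with hsdef
  obtain ⟨a, b, c, e⟩ := exists_T hK (conj_mem_UG (Hh_mem_B1 hK s)
    (T_mem hK t u v))
  show Hh hK s * T hK t u v * (Hh hK s)⁻¹ = _
  rw [e]
  have h := congrArg Subtype.val e
  rw [Subgroup.coe_mul, Subgroup.coe_mul, Subgroup.coe_inv, T_val, T_val, Hh_val, tor_uF] at h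
  obtain ⟨ha, -, hb, hc, -, -⟩ := uP_inj h
  have hw := wt_vals
  simp only [List.range_succ, List.range_zero, List.nil_append, List.cons_append, List.map_cons,
    List.map_nil, List.cons.injEq, and_true] at hw
  obtain ⟨⟨a6, b6⟩, ⟨a8, b8⟩, ⟨a9, b9⟩, -⟩ := hw
  have hk3 : (k ^ 3 ^ m) ^ (3 * 3 ^ m) = k := units_theta hK k
  have hkk : (k ^ (3 * 3 ^ m)) ^ 3 ^ m = k := by rw [← pow_mul, mul_comm, pow_mul]; exact hk3
  have hs3 : s ^ 3 ^ m = k ^ 3 ^ m * k ^ 3 ^ m * k := by rw [hsdef, mul_pow, mul_pow, hkk]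
  have hk3' : (k ^ 3 ^ m) ^ 3 = k ^ (3 * 3 ^ m) := by rw [← pow_mul, mul_comm]
  have w6 : wt G2Data.tab F (par m s) 6 = k := by
    rw [wt_par, a6, b6, show ((3 ^ m : ℕ) : ℤ) * -3 + 2 = ((2 : ℕ) : ℤ) - ((3 ^ m * 3 : ℕ) : ℤ) by
      push_cast; ring, zpow_sub, zpow_natCast, zpow_natCast, pow_mul, hs3, mul_inv_eq_iff_eq_mul]
    rw [hsdef, ← hk3']
    ext
    push_cast
    ring
  have w8 : wt G2Data.tab F (par m s) 8 = (k * k ^ (3 * 3 ^ m)) ^ 3 ^ m := by
    rw [wt_par, a8, b8, mul_neg, mul_one, ← sub_eq_neg_add, zpow_sub, zpow_one, zpow_natCast,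
      mul_inv_eq_iff_eq_mul, hs3, mul_pow, hkk, hsdef]
    have h3 : k ^ (3 * 3 ^ m) = k ^ 3 ^ m * (k ^ 3 ^ m * k ^ 3 ^ m) := by
      rw [← hk3', pow_succ', pow_two]
    rw [h3]
    ac_rfl
  have w9 : wt G2Data.tab F (par m s) 9 = (k * k * k ^ (3 * 3 ^ m)) ^ 3 ^ m := by
    rw [wt_par, a9, b9, mul_one, add_zero, zpow_natCast]
  have hs : ∀ x : F, x ^ 3 ^ m = psi (F := F) m x := fun x => rfl
  congr 1
  · rw [← ha, w6]
  · apply (psi (F := F) m).injective
    rw [← hs, ← hb, w8, Units.val_pow_eq_pow_val, Units.val_mul, Units.val_pow_eq_pow_val,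
      ← tau_apply, ← mul_pow, hs]
  · apply (psi (F := F) m).injective
    rw [← hs, ← hc, w9, Units.val_pow_eq_pow_val, Units.val_mul, Units.val_mul, Units.val_pow_eq_pow_val,
      ← tau_apply, ← mul_pow, hs]

include hK in
/-- The three weight conditions, as exponents. -/
theorem exp_ne (hm : 1 ≤ m) (k : Fˣ) (hk : orderOf k = 3 ^ (2 * m + 1) - 1) (j : ℕ) (hj : j < 2 * m + 1) :
    ∀ e ∈ [3 ^ j + 1, 3 ^ j + (3 * 3 ^ m + 1), 3 ^ j + (3 * 3 ^ m + 2),
      (3 * 3 ^ m + 1) * 3 ^ j + (3 * 3 ^ m + 1), (3 * 3 ^ m + 2) * 3 ^ j + (3 * 3 ^ m + 2),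
      (3 * 3 ^ m + 1) * 3 ^ j + (3 * 3 ^ m + 2)], k ^ e ≠ 1 := by
  intro e he h1
  obtain ⟨r, hr⟩ : ∃ r, 3 ^ m = r := ⟨_, rfl⟩
  have hr3 : 3 ≤ r := hr ▸ Nat.le_self_pow (by omega) 3
  have hq : 3 ^ (2 * m + 1) = 3 * (r * r) := by rw [← hr]; ring
  have hd : (3 * (r * r) - 1) ∣ e := by rw [← hq, ← hk]; exact orderOf_dvd_of_pow_eq_one h1
  obtain ⟨P, hP⟩ : ∃ P, 3 ^ j = P := ⟨_, rfl⟩
  have hPle : P ≤ r * r := by
    rw [← hP, ← hr, ← pow_add]; exact Nat.pow_le_pow_right (by norm_num) (by omega)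
  have hPmod : P = 1 ∨ 3 ∣ P := by
    rcases Nat.eq_zero_or_pos j with rfl | hj0
    · left; rw [← hP, pow_zero]
    · right; rw [← hP]; exact dvd_pow_self 3 (by omega)
  have hPpos : 0 < P := hP ▸ Nat.pow_pos (by norm_num)
  have hrr : 3 * r ≤ r * r := Nat.mul_le_mul_right r hr3
  obtain ⟨R, hR⟩ : ∃ R, r * r = R := ⟨_, rfl⟩
  rw [hR] at hd hPle hrr
  have small : ∀ x : ℕ, 0 < x → x < 3 * R - 1 → ¬ (3 * R - 1) ∣ x :=
    fun x h0 hlt hd => absurd (Nat.le_of_dvd h0 hd) (by omega)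
  have hqq : ((3 * R - 1 : ℕ) : ℤ) = 3 * (r : ℤ) * r - 1 := by
    rw [Nat.cast_sub (by omega), ← hR]; push_cast; ring
  have hdz : (3 * (r : ℤ) * r - 1) ∣ (e : ℤ) := hqq ▸ Int.natCast_dvd_natCast.2 hd
  -- multiplying by the conjugate exponent
  have mult : ∀ (a : ℤ) (y : ℕ), (3 * (r : ℤ) * r - 1) ∣ (e : ℤ) * a - y → (3 * R - 1) ∣ y := by
    intro a y h
    have h' := dvd_sub (hdz.mul_right a) h
    rw [sub_sub_cancel] at h'
    exact Int.natCast_dvd_natCast.1 (hqq ▸ h')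
  simp only [List.mem_cons, List.not_mem_nil, or_false, hr, hP] at he
  rcases he with rfl | rfl | rfl | rfl | rfl | rfl
  · exact small _ (by omega) (by omega) hd
  · exact small _ (by omega) (by omega) hd
  · refine small _ (by omega) ?_ hd
    omega
  · refine small (2 * (P + 1)) (by omega) (by omega) (mult (3 * r - 1) _ ⟨3 * (P + 1), ?_⟩)
    push_cast; ring
  · refine small (P + 1) (by omega) (by omega) (mult (2 - 3 * r) _ ⟨-3 * (P + 1), ?_⟩)
    push_cast; ring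
  · have h := mult (3 * r - 1) (2 * P + (3 * r + 1)) ⟨3 * (P + 1), by push_cast; ring⟩
    rcases hPmod with hP1 | ⟨Q, hQ⟩
    · exact small _ (by omega) (by omega) h
    · obtain ⟨c, hc⟩ := h
      have hc2 : c < 2 := by
        by_contra h2
        have := Nat.mul_le_mul_left (3 * R - 1) (not_lt.1 h2)
        omega
      interval_cases c <;> omega

section three

variable {X : Type*} [Group X] (ξ : X →* Gr F m) (hs : Function.Surjective ξ)
  (hc : ξ.ker ≤ Subgroup.center X)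

include hK hs hc

theorem three_part (hm : 1 ≤ m) (w : (UG F m).comap ξ) (hw : w ∈ commutator ((UG F m).comap ξ))
    (h1 : ξ w = 1) (h3 : (w : X) ^ 3 = 1) : (w : X) = 1 := by
  classical
  haveI : Fact (Nat.Prime 3) := ⟨Nat.prime_three⟩
  letI : CommGroup (Subgroup.center X) :=
    { (inferInstance : Group (Subgroup.center X)) with
      mul_comm := fun a b => Subtype.ext (Subgroup.mem_center_iff.1 b.2 a.1) }
  let L : Gr F m → X := Function.surjInv hs
  have hL : ∀ x, ξ (L x) = x := fun x => Function.surjInv_eq hs x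
  obtain ⟨k, hk⟩ := IsCyclic.exists_generator (α := Fˣ)
  have hord : orderOf k = 3 ^ (2 * m + 1) - 1 := by
    rw [orderOf_eq_card_of_forall_mem_zpowers hk, TwField.card_units (q := 3 ^ (2 * m + 1)) (k := 1)
      (by rw [hK, pow_one]), pow_one]
  let u := L (tw' hK k)
  have hexp := exp_ne hK hm k hord
  have hτ : tau m (k : F) = (k : F) ^ (3 * 3 ^ m) := tau_apply _
  have hne : ∀ (e : ℕ) (a : F), a = (k : F) ^ e → k ^ e ≠ 1 → a ≠ 1 := fun e a ha h h' =>
    h (Units.ext (by rw [Units.val_pow_eq_pow_val, ← ha, h', Units.val_one]))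
  have hk0 : (k : F) ≠ 0 := k.ne_zero
  have hτ0 : tau m (k : F) ≠ 0 := (map_ne_zero _).2 hk0
  set wu := (k : F) * tau m (k : F) with hwu
  set wv := (k : F) * (k : F) * tau m (k : F) with hwv
  have cu : ∀ z a, ξ z = T hK 0 a 0 → ξ (u * z * u⁻¹) = T hK 0 (wu * a) 0 := fun z a h => by
    rw [map_mul, map_mul, map_inv, hL, h, tw'_conj, mul_zero, mul_zero]
  have cv : ∀ z a, ξ z = T hK 0 0 a → ξ (u * z * u⁻¹) = T hK 0 0 (wv * a) := fun z a h => by
    rw [map_mul, map_mul, map_inv, hL, h, tw'_conj, mul_zero, mul_zero]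
  have ct : ∀ z a, ξ z = T hK a 0 0 → ξ (u * z * u⁻¹) = T hK ((k : F) * a) 0 0 := fun z a h => by
    rw [map_mul, map_mul, map_inv, hL, h, tw'_conj, mul_zero, mul_zero]
  have hBB : ∀ a b a' b' : F, T hK 0 a b * T hK 0 a' b' = T hK 0 (a + a') (b + b') := fun a b a' b' => by
    rw [T_mul, map_zero, add_zero]; congr 1 <;> ring
  have hVT : ∀ b t x y : F, T hK 0 0 b * T hK t x y = T hK t x (b + y) := fun b t x y => by
    rw [T_mul, zero_add]; congr 1 <;> ring
  have hTV : ∀ b t x y : F, T hK t x y * T hK 0 0 b = T hK t x (b + y) := fun b t x y => by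
    rw [T_mul, map_zero, add_zero]; congr 1 <;> ring
  -- lifts commuting up to central values
  have cen : ∀ x y : X, ξ x * ξ y = ξ y * ξ x → ⁅x, y⁆ ∈ Subgroup.center X := fun x y h => hc (by
    rw [MonoidHom.mem_ker, map_commutatorElement, commutatorElement_eq_one_iff_mul_comm]; exact h)
  let A : F → F → X := fun a b => L (T hK 0 a b)
  have hA : ∀ a b, ξ (A a b) = T hK 0 a b := fun a b => hL _
  let Ta : F → X := fun t => L (T hK t 0 0)
  have hTa : ∀ t, ξ (Ta t) = T hK t 0 0 := fun t => hL _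
  have base : ∀ (f g : F → X) (wf wg : F),
      (∀ a a', ξ (f (a + a')) = ξ (f a) * ξ (f a')) → (∀ b b', ξ (g (b + b')) = ξ (g b) * ξ (g b')) →
      (∀ a b, ξ (f a) * ξ (g b) = ξ (g b) * ξ (f a)) →
      (∀ a, ξ (u * f a * u⁻¹) = ξ (f (wf * a))) → (∀ b, ξ (u * g b * u⁻¹) = ξ (g (wg * b))) →
      wf ≠ 0 → (∀ j < 2 * m + 1, wf * wg ^ 3 ^ j ≠ 1) → ∀ a b, ⁅f a, g b⁆ = 1 := by
    intro f g wf wg hf hg hcm huf hug h0 hn a b
    have hkz : ∀ a b, ⁅f a, g b⁆ ∈ Subgroup.center X := fun a b => cen _ _ (hcm a b)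
    let φ : F → F → Subgroup.center X := fun a b => ⟨⁅f a, g b⁆, hkz a b⟩
    refine congrArg Subtype.val (vanish (p := 3) hK φ ?_ ?_ wg wf ?_ hn h0 a b : φ a b = 1)
    · intro a a' b
      refine Subtype.ext ?_
      show ⁅f (a + a'), g b⁆ = ⁅f a, g b⁆ * ⁅f a', g b⁆
      rw [comm_congr ξ hc (x' := f a * f a') (y' := g b) (by rw [map_mul, hf]) rfl,
        comm_mul_left (Subgroup.mem_center_iff.1 (hkz a' b) _), ← Subgroup.mem_center_iff.1 (hkz a' b)]
    · intro a b b'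
      refine Subtype.ext ?_
      show ⁅f a, g (b + b')⁆ = ⁅f a, g b⁆ * ⁅f a, g b'⁆
      rw [comm_congr ξ hc (x' := f a) (y' := g b * g b') rfl (by rw [map_mul, hg]),
        comm_mul_right (Subgroup.mem_center_iff.1 (hkz a b') _)]
    · intro a b
      refine Subtype.ext ?_
      show ⁅f (wf * a), g (wg * b)⁆ = ⁅f a, g b⁆
      rw [comm_congr ξ hc (x' := u * f a * u⁻¹) (y' := u * g b * u⁻¹) (huf a).symm (hug b).symm,
        ← comm_conj, Subgroup.mem_center_iff.1 (hkz a b) u, mul_inv_cancel_right]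
  have hU : ∀ a, ξ (u * A a 0 * u⁻¹) = ξ (A (wu * a) 0) := fun a => by rw [cu _ a (hA a 0), hA]
  have hV : ∀ a, ξ (u * A 0 a * u⁻¹) = ξ (A 0 (wv * a)) := fun a => by rw [cv _ a (hA 0 a), hA]
  have hAu : ∀ a a', ξ (A (a + a') 0) = ξ (A a 0) * ξ (A a' 0) := fun a a' => by rw [hA, hA, hA, hBB, add_zero]
  have hAv : ∀ a a', ξ (A 0 (a + a')) = ξ (A 0 a) * ξ (A 0 a') := fun a a' => by rw [hA, hA, hA, hBB, add_zero]
  have hBcomm : ∀ a b a' b', ξ (A a b) * ξ (A a' b') = ξ (A a' b') * ξ (A a b) := fun a b a' b' => by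
    rw [hA, hA, hBB, hBB, add_comm a, add_comm b]
  have hwu0 : wu ≠ 0 := mul_ne_zero hk0 hτ0
  have hwv0 : wv ≠ 0 := mul_ne_zero (mul_ne_zero hk0 hk0) hτ0
  have uu : ∀ a b, ⁅A a 0, A b 0⁆ = 1 := base _ _ _ _ hAu hAu (fun a b => hBcomm _ _ _ _) hU hU hwu0
    fun j hj => hne ((3 * 3 ^ m + 1) * 3 ^ j + (3 * 3 ^ m + 1)) _ (by rw [hwu, hτ]; ring) (hexp j hj _ (by simp))
  have vv : ∀ a b, ⁅A 0 a, A 0 b⁆ = 1 := base _ _ _ _ hAv hAv (fun a b => hBcomm _ _ _ _) hV hV hwv0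
    fun j hj => hne ((3 * 3 ^ m + 2) * 3 ^ j + (3 * 3 ^ m + 2)) _ (by rw [hwv, hτ]; ring) (hexp j hj _ (by simp))
  have vu : ∀ a b, ⁅A 0 a, A b 0⁆ = 1 := base _ _ _ _ hAv hAu (fun a b => hBcomm _ _ _ _) hV hU hwv0
    fun j hj => hne ((3 * 3 ^ m + 1) * 3 ^ j + (3 * 3 ^ m + 2)) _ (by rw [hwu, hwv, hτ]; ring) (hexp j hj _ (by simp))
  -- the preimage of the middle term
  let BG : Subgroup (Gr F m) :=
    { carrier := {g | ∃ a b, g = T hK 0 a b}
      one_mem' := ⟨0, 0, (T_zero hK).symm⟩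
      mul_mem' := by
        rintro _ _ ⟨a, b, rfl⟩ ⟨a', b', rfl⟩
        exact ⟨a + a', b + b', hBB _ _ _ _⟩
      inv_mem' := by
        rintro _ ⟨a, b, rfl⟩
        exact ⟨-a, -b, inv_eq_of_mul_eq_one_right (by rw [hBB, add_neg_cancel, add_neg_cancel, T_zero])⟩ }
  let Bc : Subgroup X := BG.comap ξ
  have splitB : ∀ a b, T hK 0 a b = ξ (A a 0 * A 0 b) := fun a b => by
    rw [map_mul, hA, hA, hBB, add_zero, zero_add]
  have comm1 : ∀ {p q : X}, ⁅p, q⁆ = 1 → p * q = q * p := fun h => commutatorElement_eq_one_iff_mul_comm.1 h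
  have hBab : ∀ x ∈ Bc, ∀ y ∈ Bc, x * y = y * x := by
    rintro x ⟨a, b, hx⟩ y ⟨a', b', hy⟩
    refine comm1 ?_
    rw [comm_congr ξ hc (hx.trans (splitB a b)) (hy.trans (splitB a' b')),
      commutatorElement_eq_one_iff_mul_comm]
    have e : ∀ a b, Commute (A 0 b) (A a 0) := fun a b => comm1 (vu b a)
    exact Commute.mul_left (Commute.mul_right (comm1 (uu a a')) (e a b').symm)
      (Commute.mul_right (e a' b) (comm1 (vv b b')))
  -- the lifts of the centre commute with the lifts of the root group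
  have hvT : ∀ b t, ⁅A 0 b, Ta t⁆ = 1 := by
    intro b t
    have hkz : ∀ b t, ⁅A 0 b, Ta t⁆ ∈ Subgroup.center X := fun b t => cen _ _ (by rw [hA, hTa, hVT, hTV])
    let φ : F → F → Subgroup.center X := fun b t => ⟨⁅A 0 b, Ta t⁆, hkz b t⟩
    refine congrArg Subtype.val (vanish (p := 3) hK φ ?_ ?_ (k : F) wv ?_
      (fun j hj => hne (3 ^ j + (3 * 3 ^ m + 2)) _ (by rw [hwv, hτ]; ring) (hexp j hj _ (by simp))) hwv0 b t :
        φ b t = 1)
    · intro b b' t
      refine Subtype.ext ?_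
      show ⁅A 0 (b + b'), Ta t⁆ = _
      rw [comm_congr ξ hc (x' := A 0 b * A 0 b') (y' := Ta t) (by rw [map_mul, hAv]) rfl,
        comm_mul_left (Subgroup.mem_center_iff.1 (hkz b' t) _), ← Subgroup.mem_center_iff.1 (hkz b' t)]
      rfl
    · intro b t t'
      refine Subtype.ext ?_
      show ⁅A 0 b, Ta (t + t')⁆ = _
      obtain ⟨p, q, hpq⟩ : ∃ p q, ξ (Ta (t + t')) = T hK 0 p q * (T hK t 0 0 * T hK t' 0 0) := by
        refine ⟨tau m t' * t, 2 * (tau m t' * t ^ 2), ?_⟩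
        rw [hTa, T_mul hK t 0 0, T_mul hK 0, zero_add]
        congr 1 <;> ring
      rw [comm_congr ξ hc (x' := A 0 b) (y' := A p q * (Ta t * Ta t')) rfl
        (by rw [hpq, map_mul, map_mul, hA, hTa, hTa])]
      have h0 : ⁅A 0 b, A p q⁆ = 1 :=
        commutatorElement_eq_one_iff_mul_comm.2 (hBab _ ⟨0, b, hA 0 b⟩ _ ⟨p, q, hA p q⟩)
      have h12 : ⁅A 0 b, Ta t * Ta t'⁆ = ⁅A 0 b, Ta t⁆ * ⁅A 0 b, Ta t'⁆ :=
        comm_mul_right (Subgroup.mem_center_iff.1 (hkz b t') _)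
      rw [comm_mul_right (Subgroup.mem_center_iff.1 (h12 ▸ mul_mem (hkz b t) (hkz b t')) _), h0, one_mul, h12]
      rfl
    · intro b t
      refine Subtype.ext ?_
      show ⁅A 0 (wv * b), Ta ((k : F) * t)⁆ = ⁅A 0 b, Ta t⁆
      rw [comm_congr ξ hc (x' := u * A 0 b * u⁻¹) (y' := u * Ta t * u⁻¹) (hV b).symm
        (by rw [ct _ t (hTa t), hTa]), ← comm_conj, Subgroup.mem_center_iff.1 (hkz b t) u, mul_inv_cancel_right]
  let P := (UG F m).comap ξ
  have splitP : ∀ x ∈ P, ∃ t, ∃ d ∈ Bc, ξ x = ξ (d * Ta t) := by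
    intro x hx
    obtain ⟨t, a, b, e⟩ := exists_T hK hx
    refine ⟨t, A a (b + t * a), ⟨_, _, hA _ _⟩, ?_⟩
    rw [map_mul, hA, hTa, T_mul hK 0, e, zero_add]
    congr 1 <;> ring
  have hVcen : ∀ z, ξ z ∈ Set.range (T hK 0 0) → ∀ x ∈ P, z * x = x * z := by
    rintro z ⟨b, hb⟩ x hx
    obtain ⟨t, d, hd, e⟩ := splitP x hx
    refine comm1 ?_
    rw [comm_congr ξ hc (x' := A 0 b) (hb.symm.trans (hA 0 b).symm) e, commutatorElement_eq_one_iff_mul_comm]
    exact Commute.mul_right (hBab _ ⟨0, b, hA 0 b⟩ _ hd) (comm1 (hvT b t))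
  have hBP : Bc ≤ P := by
    rintro x ⟨a, b, hx⟩
    show ξ x ∈ UG F m
    rw [hx]; exact T_mem hK _ _ _
  have hTP : ∀ t, Ta t ∈ P := fun t => by show ξ (Ta t) ∈ UG F m; rw [hTa]; exact T_mem hK _ _ _
  have huB : ∀ (i : ℕ), ∀ x ∈ Bc, u ^ i * x * (u ^ i)⁻¹ ∈ Bc := by
    intro i
    induction i with
    | zero => intro x hx; simpa using hx
    | succ i ih =>
      intro x hx
      obtain ⟨a, b, h⟩ := ih x hx
      rw [show u ^ (i + 1) * x * (u ^ (i + 1))⁻¹ = u * (u ^ i * x * (u ^ i)⁻¹) * u⁻¹ by group]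
      exact ⟨wu * a, wv * b, by rw [map_mul, map_mul, map_inv, hL, h, tw'_conj, mul_zero]⟩
  let : CommGroup Bc :=
    { (inferInstance : Group Bc) with mul_comm := fun x y => Subtype.ext (hBab _ x.2 _ y.2) }
  let σ : ℕ → Bc →* Bc := fun i =>
    { toFun := fun d => ⟨u ^ i * d.1 * (u ^ i)⁻¹, huB i _ d.2⟩
      map_one' := Subtype.ext (by simp)
      map_mul' := fun a b => Subtype.ext (by simp only [Subgroup.coe_mul]; group) }
  let n := 3 ^ (2 * m + 1) - 1
  let N : Bc →* Bc := ∏ i ∈ Finset.range n, σ i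
  have hNapp : ∀ d, N d = ∏ i ∈ Finset.range n, σ i d := fun d => MonoidHom.finsetProd_apply _ _ _
  have hun : ξ (u ^ n) = 1 := by
    rw [map_pow, hL, tw', ← map_pow, show (k * k * k ^ (3 * 3 ^ m)) ^ n = 1 by
      simp only [n, ← hord, mul_pow, ← pow_mul, mul_comm _ (orderOf k), pow_mul _ (orderOf k), pow_orderOf_eq_one,
        one_pow, mul_one], map_one]
  have hn0 : ∃ i, n = i + 1 := ⟨n - 1, by
    have := Nat.one_lt_pow (show 2 * m + 1 ≠ 0 by omega) (show 1 < 3 by norm_num)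
    omega⟩
  have hshift : ∀ d, N (σ 1 d) = N d := by
    intro d
    rw [hNapp, hNapp]
    have e : ∀ i, σ i (σ 1 d) = σ (i + 1) d := fun i =>
      Subtype.ext (by simp only [σ, MonoidHom.coe_mk, OneHom.coe_mk]; group)
    simp only [e]
    have e0 : σ n d = σ 0 d := Subtype.ext (by
      simp only [σ, MonoidHom.coe_mk, OneHom.coe_mk, pow_zero, one_mul, inv_one, mul_one]
      rw [central_of_map_eq_one ξ hc hun, mul_inv_cancel_right])
    obtain ⟨i, hi⟩ := hn0
    rw [hi] at e0 ⊢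
    rw [Finset.prod_range_succ, Finset.prod_range_succ' (fun i => σ i d), e0]
  let M : X → Bc := fun x => if h : x ∈ Bc then N ⟨x, h⟩ else 1
  have hM : ∀ {x} (h : x ∈ Bc), M x = N ⟨x, h⟩ := fun h => dif_pos h
  have hMmul : ∀ {x y}, x ∈ Bc → y ∈ Bc → M (x * y) = M x * M y := fun hx hy => by
    rw [hM hx, hM hy, hM (mul_mem hx hy), ← map_mul]; rfl
  have hMshift : ∀ {x}, x ∈ Bc → M (u * x * u⁻¹) = M x := fun {x} hx => by
    have h : u * x * u⁻¹ ∈ Bc := by simpa using huB 1 x hx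
    rw [hM h, hM hx, ← hshift ⟨x, hx⟩]
    exact congrArg N (Subtype.ext (by simp [σ]))
  have hmem : ∀ x ∈ P, ∀ y ∈ P, ⁅x, y⁆ ∈ Bc := by
    intro x hx y hy
    obtain ⟨t, a, b, hx'⟩ := exists_T hK hx
    obtain ⟨t', a', b', hy'⟩ := exists_T hK hy
    obtain ⟨t'', a'', b'', hz⟩ := exists_T hK (show ξ ⁅x, y⁆ ∈ UG F m from
      P.mul_mem (P.mul_mem (P.mul_mem hx hy) (P.inv_mem hx)) (P.inv_mem hy))
    have e : ξ ⁅x, y⁆ * ξ y * ξ x = ξ x * ξ y := by
      rw [map_commutatorElement, commutatorElement_def]; group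
    rw [hz, hx', hy', T_mul, T_mul, T_mul] at e
    have := (T_inj hK e).1
    exact ⟨a'', b'', by rw [hz, show t'' = 0 by linear_combination this]⟩
  -- the middle term against everything
  have hmemV : ∀ d ∈ Bc, ∀ x ∈ P, ∀ y ∈ P, ⁅d, x⁆ * y = y * ⁅d, x⁆ := by
    rintro d ⟨a, b, hd⟩ x hx y hy
    obtain ⟨t', a', b', hx'⟩ := exists_T hK hx
    obtain ⟨p, q, hz⟩ := hmem d (hBP ⟨a, b, hd⟩) x hx
    have e : ξ ⁅d, x⁆ * ξ x * ξ d = ξ d * ξ x := by
      rw [map_commutatorElement, commutatorElement_def]; group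
    rw [hz, hd, hx', T_mul, T_mul, T_mul] at e
    have := (T_inj hK e).2.1
    simp only [map_zero, zero_mul, mul_zero, sub_zero, add_zero, zero_add] at this
    refine hVcen _ ⟨q, ?_⟩ y hy
    rw [hz, show p = 0 by linear_combination this]
  have hBx : ∀ d ∈ Bc, ∀ x ∈ P, M ⁅d, x⁆ = 1 := by
    have hut : ∀ a t, M ⁅A a 0, Ta t⁆ = 1 := by
      have hAm : ∀ a, A a 0 ∈ Bc := fun a => ⟨a, 0, hA a 0⟩
      have hmb : ∀ a t, ⁅A a 0, Ta t⁆ ∈ Bc := fun a t => hmem _ (hBP (hAm a)) _ (hTP t)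
      intro a t
      refine vanish (p := 3) hK (fun a t => M ⁅A a 0, Ta t⁆) ?_ ?_ (k : F) wu ?_
        (fun j hj => hne (3 ^ j + (3 * 3 ^ m + 1)) _ (by rw [hwu, hτ]; ring) (hexp j hj _ (by simp))) hwu0 a t
      · intro a a' t
        show M ⁅A (a + a') 0, Ta t⁆ = _
        rw [comm_congr ξ hc (x' := A a 0 * A a' 0) (y' := Ta t) (by rw [map_mul, hAu]) rfl,
          comm_mul_left (hmemV _ (hAm a') _ (hTP t) _ (hBP (hAm a))).symm, hMmul (hmb a' t) (hmb a t), mul_comm]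
      · intro a t t'
        show M ⁅A a 0, Ta (t + t')⁆ = _
        obtain ⟨s, d, hd, e⟩ := splitP (Ta t * Ta t') (mul_mem (hTP t) (hTP t'))
        have hs' : s = t + t' := by
          obtain ⟨p, q, hd'⟩ := id hd
          rw [map_mul, map_mul, hTa, hTa, hd', hTa, T_mul, T_mul] at e
          have := (T_inj hK e).1
          linear_combination -this
        subst hs'
        have hd0 : ⁅A a 0, d⁆ = 1 := commutatorElement_eq_one_iff_mul_comm.2 (hBab _ (hAm a) _ hd)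
        have e2 : ⁅A a 0, Ta t * Ta t'⁆ = ⁅A a 0, Ta (t + t')⁆ := by
          rw [comm_congr ξ hc (x' := A a 0) (y' := d * Ta (t + t')) rfl e,
            comm_mul_right (hmemV _ (hAm a) _ (hTP _) _ (hBP hd)).symm, hd0, one_mul]
        rw [← e2, comm_mul_right (hmemV _ (hAm a) _ (hTP t') _ (hTP t)).symm, hMmul (hmb a t) (hmb a t')]
      · intro a t
        show M ⁅A (wu * a) 0, Ta ((k : F) * t)⁆ = M ⁅A a 0, Ta t⁆
        rw [comm_congr ξ hc (x' := u * A a 0 * u⁻¹) (y' := u * Ta t * u⁻¹) (hU a).symm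
          (by rw [ct _ t (hTa t), hTa]), ← comm_conj, hMshift (hmb a t)]
    intro d hd x hx
    obtain ⟨a, b, hd'⟩ := id hd
    obtain ⟨t, e', he', hxe⟩ := splitP x hx
    have hAm : A a 0 ∈ Bc := ⟨a, 0, hA a 0⟩
    have hv : ∀ y ∈ P, A 0 b * y = y * A 0 b := hVcen _ ⟨b, (hA 0 b).symm⟩
    have hyP : e' * Ta t ∈ P := mul_mem (hBP he') (hTP t)
    rw [comm_congr ξ hc (hd'.trans (splitB a b)) hxe,
      comm_mul_left (by rw [commutatorElement_eq_one_iff_mul_comm.2 (hv _ hyP), mul_one, one_mul]),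
      commutatorElement_eq_one_iff_mul_comm.2 (hv _ hyP), one_mul,
      comm_mul_right (hmemV _ hAm _ (hTP t) _ (hBP he')).symm,
      commutatorElement_eq_one_iff_mul_comm.2 (hBab _ hAm _ he'), one_mul]
    exact hut a t
  have hxd : ∀ x ∈ P, ∀ d ∈ Bc, M ⁅x, d⁆ = 1 := fun x hx d hd => by
    have h := hMmul (hmem x hx d (hBP hd)) (hmem d (hBP hd) x hx)
    rw [show ⁅x, d⁆ * ⁅d, x⁆ = 1 by rw [← commutatorElement_inv x d, mul_inv_cancel], hBx d hd x hx, mul_one] at h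
    rw [← h, hM (one_mem _)]
    exact map_one N
  have hleft : ∀ x ∈ P, ∀ x' ∈ P, ∀ y ∈ P, M ⁅x * x', y⁆ = M ⁅x, y⁆ * M ⁅x', y⁆ := by
    intro x hx x' hx' y hy
    have hd := hmem x' hx' y hy
    rw [show ⁅x * x', y⁆ = ⁅x, ⁅x', y⁆⁆ * ⁅x', y⁆ * ⁅x, y⁆ by simp only [commutatorElement_def]; group,
      hMmul (mul_mem (hmem x hx _ (hBP hd)) hd) (hmem x hx y hy), hMmul (hmem x hx _ (hBP hd)) hd,
      hxd x hx _ hd, one_mul, mul_comm]
  have hswap : ∀ x ∈ P, ∀ y ∈ P, M ⁅y, x⁆ = (M ⁅x, y⁆)⁻¹ := fun x hx y hy => by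
    rw [eq_inv_iff_mul_eq_one, ← hMmul (hmem y hy x hx) (hmem x hx y hy), ← commutatorElement_inv x y,
      inv_mul_cancel, hM (one_mem _)]
    exact map_one N
  have hright : ∀ x ∈ P, ∀ y ∈ P, ∀ y' ∈ P, M ⁅x, y * y'⁆ = M ⁅x, y⁆ * M ⁅x, y'⁆ := by
    intro x hx y hy y' hy'
    rw [hswap (y * y') (mul_mem hy hy') x hx, hleft y hy y' hy' x hx, mul_inv, ← hswap y hy x hx,
      ← hswap y' hy' x hx]
  have htt : ∀ t t', M ⁅Ta t, Ta t'⁆ = 1 := by
    have hmb : ∀ t t', ⁅Ta t, Ta t'⁆ ∈ Bc := fun t t' => hmem _ (hTP t) _ (hTP t')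
    have hadd : ∀ t t' y, y ∈ P → M ⁅Ta (t + t'), y⁆ = M ⁅Ta t, y⁆ * M ⁅Ta t', y⁆ := by
      intro t t' y hy
      obtain ⟨s, d, hd, e⟩ := splitP (Ta t * Ta t') (mul_mem (hTP t) (hTP t'))
      have hs' : s = t + t' := by
        obtain ⟨p, q, hd'⟩ := id hd
        rw [map_mul, map_mul, hTa, hTa, hd', hTa, T_mul, T_mul] at e
        have := (T_inj hK e).1
        linear_combination -this
      subst hs'
      rw [← hleft _ (hTP t) _ (hTP t') y hy, comm_congr ξ hc (x := Ta t * Ta t') (x' := d * Ta (t + t'))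
        (y := y) (y' := y) e rfl, hleft _ (hBP hd) _ (hTP _) y hy, hBx d hd y hy, one_mul]
    intro t t'
    refine vanish (p := 3) hK (fun t t' => M ⁅Ta t, Ta t'⁆) (fun a a' b => hadd a a' _ (hTP b)) ?_ (k : F)
      (k : F) ?_ (fun j hj => hne (3 ^ j + 1) _ (by ring) (hexp j hj _ (by simp))) hk0 t t'
    · intro a b b'
      show M ⁅Ta a, Ta (b + b')⁆ = _
      rw [hswap _ (hTP (b + b')) _ (hTP a), hadd b b' _ (hTP a), mul_inv, ← hswap _ (hTP b) _ (hTP a),
        ← hswap _ (hTP b') _ (hTP a)]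
    · intro a b
      show M ⁅Ta ((k : F) * a), Ta ((k : F) * b)⁆ = M ⁅Ta a, Ta b⁆
      rw [comm_congr ξ hc (x' := u * Ta a * u⁻¹) (y' := u * Ta b * u⁻¹)
        (by rw [ct _ a (hTa a), hTa]) (by rw [ct _ b (hTa b), hTa]), ← comm_conj, hMshift (hmb a b)]
  let D : Subgroup P :=
    { carrier := {d | ∃ hd : (d : X) ∈ Bc, N ⟨_, hd⟩ = 1}
      one_mem' := ⟨Bc.one_mem, N.map_one⟩
      mul_mem' := by
        rintro a b ⟨ha, ha'⟩ ⟨hb, hb'⟩
        exact ⟨Bc.mul_mem ha hb, (N.map_mul ⟨_, ha⟩ ⟨_, hb⟩).trans (by rw [ha', hb', one_mul])⟩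
      inv_mem' := by
        rintro a ⟨ha, ha'⟩
        exact ⟨Bc.inv_mem ha, (N.map_inv ⟨_, ha⟩).trans (by rw [ha', inv_one])⟩ }
  have hD : commutator P ≤ D := by
    rw [commutator_def, Subgroup.commutator_le]
    rintro ⟨x, hx⟩ - ⟨y, hy⟩ -
    refine ⟨hmem x hx y hy, (hM (hmem x hx y hy)).symm.trans ?_⟩
    obtain ⟨t, d, hd, ex⟩ := splitP x hx
    obtain ⟨t', d', hd', ey⟩ := splitP y hy
    rw [comm_congr ξ hc ex ey, hleft _ (hBP hd) _ (hTP t) _ (mul_mem (hBP hd') (hTP t')),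
      hBx d hd _ (mul_mem (hBP hd') (hTP t')), one_mul, hright _ (hTP t) _ (hBP hd') _ (hTP t'),
      hxd _ (hTP t) d' hd', one_mul, htt]
  obtain ⟨hwz, hwN⟩ := hD hw
  have hfix : ∀ i, σ i ⟨(w : X), hwz⟩ = ⟨(w : X), hwz⟩ := fun i => Subtype.ext (by
    simp only [σ, MonoidHom.coe_mk, OneHom.coe_mk]
    rw [← central_of_map_eq_one ξ hc h1 (u ^ i), mul_inv_cancel_right])
  rw [hNapp, Finset.prod_congr rfl (fun i _ => hfix i), Finset.prod_const, Finset.card_range] at hwN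
  have hwn : (w : X) ^ n = 1 := congrArg Subtype.val hwN
  have hco : Nat.Coprime n 3 := by
    refine (Nat.Prime.coprime_iff_not_dvd Nat.prime_three).2 ?_ |>.symm
    have h3' : 3 ∣ 3 ^ (2 * m + 1) := dvd_pow_self 3 (by omega)
    obtain ⟨i, hi⟩ := hn0
    simp only [n] at hi ⊢
    omega
  have := (pow_gcd_eq_one (m := n) (n := 3)).2 ⟨hwn, h3⟩
  rwa [hco.gcd_eq_one, pow_one] at this

theorem inf_commutator (hm : 1 ≤ m) : ξ.ker ⊓ commutator X = ⊥ := by
  classical
  haveI : Finite (Gr F m) := inferInstance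
  refine inf_commutator_eq_bot ξ hc hs fun p hp => ?_
  haveI : Fact p.Prime := ⟨hp⟩
  by_cases h2 : p = 2
  · subst h2
    obtain ⟨S⟩ := Sylow.nonempty (p := 2) (G := Gr F m)
    obtain ⟨hC, hN⟩ := sylow_two_main hK hm S
    have h8 : Nat.card S = 8 := by
      rw [Sylow.card_eq_multiplicity, card_two_part hK]; norm_num
    have hsq : ∀ x ∈ (S : Subgroup (Gr F m)), x * x = 1 := by
      intro x hx
      obtain ⟨c, hc'⟩ := MulAction.exists_smul_eq (Gr F m) S (S0s hK)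
      have : c * x * c⁻¹ ∈ S0 hK := by
        have h : MulAut.conj c x ∈ ((c • S : Sylow 2 (Gr F m)) : Subgroup (Gr F m)) := ⟨x, hx, rfl⟩
        rw [hc'] at h
        exact h
      exact conj_eq_one_iff.1 ((show c * (x * x) * c⁻¹ = (c * x * c⁻¹) * (c * x * c⁻¹) by group).trans
        (sq_S0 hK this))
    haveI : Fact (Nat.Prime 7) := ⟨by norm_num⟩
    obtain ⟨g, hg⟩ := exists_prime_orderOf_dvd_card'
      (G := Subgroup.normalizer ((S : Subgroup (Gr F m)) : Set (Gr F m))) 7 (by rw [hN]; norm_num)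
    rw [← Subgroup.orderOf_coe] at hg
    have hgS : ∀ x ∈ (S : Subgroup (Gr F m)), (g : Gr F m) * x * (g : Gr F m)⁻¹ ∈ (S : Subgroup (Gr F m)) :=
      fun x hx => (Subgroup.mem_normalizer_iff.1 g.2 x).1 hx
    refine ⟨S, S.not_dvd_index, fun w hw _ _ => ?_⟩
    have hfree : ∀ x ∈ (S : Subgroup (Gr F m)), (g : Gr F m) * x * (g : Gr F m)⁻¹ = x → x = 1 := by
      intro x hx hgx
      by_contra hx1
      have hpow : ∀ j : ℕ, ∀ y : Gr F m, y ∈ (S : Subgroup (Gr F m)) →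
          (g : Gr F m) ^ j * y * ((g : Gr F m) ^ j)⁻¹ ∈ (S : Subgroup (Gr F m)) := by
        intro j
        induction j with
        | zero => intro y hy; simpa using hy
        | succ j ih =>
          intro y hy
          have h := hgS _ (ih y hy)
          rwa [show (g : Gr F m) * ((g : Gr F m) ^ j * y * ((g : Gr F m) ^ j)⁻¹) * (g : Gr F m)⁻¹ =
            (g : Gr F m) ^ (j + 1) * y * ((g : Gr F m) ^ (j + 1))⁻¹ by group] at h
      refine absurd (?_ : (g : Gr F m) ∈ (S : Subgroup (Gr F m))) fun h => ?_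
      · refine hC.le ?_
        rw [Subgroup.mem_centralizer_iff]
        intro y hy
        by_contra hne
        -- the orbit of `y` would have seven elements avoiding `1` and `x`
        let O : Finset (Gr F m) := (Finset.range 7).image fun j => (g : Gr F m) ^ j * y * ((g : Gr F m) ^ j)⁻¹
        have hxj : ∀ j : ℕ, (g : Gr F m) ^ j * x * ((g : Gr F m) ^ j)⁻¹ = x := by
          intro j
          induction j with
          | zero => simp
          | succ j ih =>
            rw [show (g : Gr F m) ^ (j + 1) * x * ((g : Gr F m) ^ (j + 1))⁻¹ =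
              (g : Gr F m) * ((g : Gr F m) ^ j * x * ((g : Gr F m) ^ j)⁻¹) * (g : Gr F m)⁻¹ by group, ih, hgx]
        have hinj : ∀ a < 7, ∀ b < 7, (g : Gr F m) ^ a * y * ((g : Gr F m) ^ a)⁻¹ =
            (g : Gr F m) ^ b * y * ((g : Gr F m) ^ b)⁻¹ → a = b := by
          have key : ∀ a b, a ≤ b → b < 7 → (g : Gr F m) ^ a * y * ((g : Gr F m) ^ a)⁻¹ =
              (g : Gr F m) ^ b * y * ((g : Gr F m) ^ b)⁻¹ → a = b := by
            intro a b hab hb e
            by_contra hne'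
            refine hne ?_
            have hcom : Commute ((g : Gr F m) ^ (b - a)) y := by
              have e' : (g : Gr F m) ^ (b - a) * y * ((g : Gr F m) ^ (b - a))⁻¹ = y := by
                refine mul_left_cancel (a := (g : Gr F m) ^ a) (mul_right_cancel (b := ((g : Gr F m) ^ a)⁻¹) ?_)
                rw [e]
                obtain ⟨c, rfl⟩ := Nat.exists_eq_add_of_le hab
                rw [Nat.add_sub_cancel_left, pow_add]
                group
              exact mul_inv_eq_iff_eq_mul.1 e'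
            have hco : Nat.Coprime (b - a) (orderOf (g : Gr F m)) := by
              rw [hg]; exact Nat.Coprime.symm ((Nat.Prime.coprime_iff_not_dvd (by norm_num)).2 fun hd =>
                absurd (Nat.le_of_dvd (by omega) hd) (by omega))
            obtain ⟨c, hc'⟩ := exists_pow_eq_self_of_coprime hco
            rw [← hc']
            exact ((hcom.pow_left c).eq).symm
          intro a ha b hb e
          rcases le_total a b with h | h
          · exact key a b h hb e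
          · exact (key b a h ha e.symm).symm
        have hOc : O.card = 7 := by
          rw [Finset.card_image_of_injOn (fun a ha b hb e => hinj a (Finset.mem_range.1 ha) b (Finset.mem_range.1 hb) e),
            Finset.card_range]
        haveI : Fintype (S : Subgroup (Gr F m)) := Fintype.ofFinite _
        have hsub : insert 1 (insert x O) ⊆ (Finset.univ : Finset (S : Subgroup (Gr F m))).image Subtype.val := by
          intro z hz
          rw [Finset.mem_image]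
          simp only [O, Finset.mem_insert, Finset.mem_image, Finset.mem_range] at hz
          rcases hz with rfl | rfl | ⟨j, -, rfl⟩
          · exact ⟨1, Finset.mem_univ _, rfl⟩
          · exact ⟨⟨_, hx⟩, Finset.mem_univ _, rfl⟩
          · exact ⟨⟨_, hpow j y hy⟩, Finset.mem_univ _, rfl⟩
        have hcard := (Finset.card_le_card hsub).trans Finset.card_image_le
        have hy1 : y ≠ 1 := fun h => hne (by rw [h, one_mul, mul_one])
        rw [Finset.card_insert_of_notMem, Finset.card_insert_of_notMem, hOc, Finset.card_univ,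
          ← Nat.card_eq_fintype_card, h8] at hcard
        · omega
        · simp only [O, Finset.mem_image, Finset.mem_range, not_exists, not_and]
          intro j _ e
          have hyx : y = x :=
            mul_left_cancel (a := (g : Gr F m) ^ j) (mul_right_cancel (b := ((g : Gr F m) ^ j)⁻¹)
              (e.trans (hxj j).symm))
          exact hne (hyx ▸ (mul_inv_eq_iff_eq_mul.1 hgx).symm)
        · simp only [O, Finset.mem_insert, Finset.mem_image, Finset.mem_range, not_or, not_exists, not_and]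
          exact ⟨Ne.symm hx1, fun j _ e => hy1 (conj_eq_one_iff.1 e)⟩
      · have := orderOf_dvd_natCard (⟨g, h⟩ : (S : Subgroup (Gr F m)))
        rw [← Subgroup.orderOf_coe, hg, h8] at this
        norm_num at this
    have hbot := commutator_eight ξ hc hs (S : Subgroup (Gr F m)) h8 hsq g (hg ▸ pow_orderOf_eq_one _) hgS hfree
    rw [hbot, Subgroup.mem_bot] at hw
    rw [hw]; rfl
  by_cases h3 : p = 3
  · subst h3
    obtain ⟨S, hS⟩ := sylow_three (F := F) (m := m) hK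
    refine ⟨UG F m, ?_, three_part hK ξ hs hc hm⟩
    have h := S.not_dvd_index
    rw [hS] at h
    exact h
  · obtain ⟨S⟩ := Sylow.nonempty (p := p) (G := Gr F m)
    refine ⟨S, S.not_dvd_index, fun w hw _ _ => ?_⟩
    haveI := sylow_cyclic hK hm (by have := hp.two_le; omega : 3 < p) S
    rw [commutator_cyclic ξ hc, Subgroup.mem_bot] at hw
    rw [hw]; rfl

end three

end Cfsg.Agent.Chev.Ree
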