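import Cfsg.Agent.Lib.Lie.ChevBN
import Cfsg.Agent.Lib.Lie.GoodA
import Cfsg.Prelude.Def_ChevAutomorphisms

/-! The monomial subgroup and few root subgroups generate the Chevalley group. -/

set_option autoImplicit false
set_option maxRecDepth 8000

namespace Cfsg.Agent.Chev

open Cfsg.Lie

namespace Tab

/-- the class `cls` of a root is invariant under the fundamental reflections -/
def checkCls (T : Tab) (cls : ℕ → Bool) : Bool :=
  allBelow (fun i => allBelow (fun s => cls (T.ref i s) == cls s) T.n) T.l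

/-- fundamental roots of one class are connected by `k ↦ j = s_k s_j k` -/
def checkEdge (T : Tab) (cls : ℕ → Bool) : Bool :=
  allBelow (fun m => !anyBelow (fun i => Nat.testBit m i) T.l ||
    !anyBelow (fun i => !Nat.testBit m i && anyBelow (fun j => Nat.testBit m j &&
      cls (T.smp i) == cls (T.smp j)) T.l) T.l ||
    anyBelow (fun i => anyBelow (fun j =>
      Nat.testBit m i && !Nat.testBit m j && Nat.beq (T.ref i (T.ref j (T.smp i))) (T.smp j)) T.l) T.l)
    (2 ^ T.l)

/-- long fundamental roots are commutator terms of short roots -/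
def checkLongComm (T : Tab) (cls : ℕ → Bool) (good : List ℕ) : Bool :=
  allBelow (fun k => !cls (T.smp k) || anyBelow (fun r => !cls r && (T.rowL r).any fun e =>
    !cls e.1 && (Nat.blt e.1 T.n && !Nat.beq e.1 r && !Nat.beq e.1 (T.neg r)) &&
    (T.cTerms r e.1).any (fun c => Nat.beq c.1 (T.smp k) && good.any (Nat.beq c.2.1.natAbs) &&
      (Nat.beq c.2.2.1 1 || Nat.beq c.2.2.2 1) &&
      ((T.cTerms r e.1).erase c).all fun d => !cls d.1)) T.n) T.l

variable {T : Tab} {F : Type*} [Field F]

section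

variable {M : Subgroup (GL T.D.Idx F)}

theorem class_mem (g : T.Good) (hn : ∀ i < T.l, nG g F i ∈ M) {cls : ℕ → Bool}
    (hcls : T.checkCls cls = true) (hedge : T.checkEdge cls = true) {i : ℕ} (hi : i < T.l)
    (hx : ∀ t : F, xg g (T.smp i) t ∈ M) :
    ∀ s < T.n, cls s = cls (T.smp i) → ∀ t : F, xg g s t ∈ M := by
  classical
  have hstep : ∀ j < T.l, ∀ s < T.n, (∀ t : F, xg g s t ∈ M) → ∀ t : F, xg g (T.ref j s) t ∈ M := by
    intro j hj s hs h t
    have hc := nG_conj g hj hs ((T.eta j s : F) * t)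
    rw [← mul_assoc, eta_sq, one_mul] at hc
    rw [← hc]
    exact mul_mem (mul_mem (hn j hj) (h _)) (inv_mem (hn j hj))
  let ind : ℕ → Prop := fun k => ∀ t : F, xg g (T.smp k) t ∈ M
  have hsimple : ∀ k < T.l, cls (T.smp k) = cls (T.smp i) → ind k := by
    intro k hk hck
    by_contra hind
    let s₀ : Finset ℕ := (Finset.range T.l).filter fun k => ind k ∧ cls (T.smp k) = cls (T.smp i)
    let m : ℕ := ∑ x ∈ s₀, 2 ^ x
    have hbit : ∀ x < T.l, (Nat.testBit m x = true ↔ ind x ∧ cls (T.smp x) = cls (T.smp i)) := by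
      intro x hx
      rw [← Nat.mem_bitIndices, ← List.mem_toFinset, Finset.toFinset_bitIndices_sum_two_pow]
      simp [s₀, hx]
    have hm : m < 2 ^ T.l := Nat.geomSum_lt le_rfl fun x hx => by
      simp only [s₀, Finset.mem_filter, Finset.mem_range] at hx; exact hx.1
    have hmk : Nat.testBit m k = false := by
      rw [← Bool.not_eq_true, hbit k hk]; exact fun h => hind h.1
    have h := allBelow_eq_true.1 hedge m hm
    simp only [Bool.or_eq_true, Bool.not_eq_true', Bool.and_eq_true, anyBelow_eq_true,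
      nat_beq] at h
    rcases h with (h | h) | ⟨a, ha, b, hb, ⟨hta, htb⟩, he⟩
    · rw [← Bool.not_eq_true, anyBelow_eq_true] at h
      exact h ⟨i, hi, (hbit i hi).2 ⟨hx, rfl⟩⟩
    · rw [← Bool.not_eq_true, anyBelow_eq_true] at h
      refine h ⟨k, hk, ?_⟩
      rw [Bool.and_eq_true, Bool.not_eq_true', anyBelow_eq_true]
      exact ⟨hmk, i, hi, by rw [Bool.and_eq_true, beq_iff_eq]; exact ⟨(hbit i hi).2 ⟨hx, rfl⟩, hck⟩⟩
    · obtain ⟨h1, h2⟩ := (hbit a ha).1 hta
      have hb' : ind b := by
        have := hstep a ha _ (g.ref_lt hb (g.smp_lt ha)) (hstep b hb _ (g.smp_lt ha) h1)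
        rwa [he] at this
      have e1 := allBelow_eq_true.1 (allBelow_eq_true.1 hcls a ha) _ (g.ref_lt hb (g.smp_lt ha))
      have e2 := allBelow_eq_true.1 (allBelow_eq_true.1 hcls b hb) _ (g.smp_lt ha)
      rw [beq_iff_eq, he] at e1
      rw [beq_iff_eq] at e2
      have : Nat.testBit m b = true := (hbit b hb).2 ⟨hb', (e1.trans e2).trans h2⟩
      rw [htb] at this
      exact Bool.false_ne_true this
  refine root_induction g (P := fun s => cls s = cls (T.smp i) → ∀ t : F, xg g s t ∈ M) hsimple ?_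
  intro j hj s hs ih hc
  have e := allBelow_eq_true.1 (allBelow_eq_true.1 hcls j hj) s hs
  rw [beq_iff_eq] at e
  exact hstep j hj s hs (ih (e.symm.trans hc))

end

theorem group_le_of_short (g : T.GoodA) {M : Subgroup (GL T.D.Idx F)}
    (hn : ∀ i < T.l, nG g.toGood F i ∈ M) {cls : ℕ → Bool}
    (hcls : T.checkCls cls = true) (hedge : T.checkEdge cls = true) {good : List ℕ}
    (hgood : ∀ k ∈ good, (k : F) ≠ 0) (hlc : T.checkLongComm cls good = true) {i : ℕ} (hi : i < T.l)
    (hshort : cls (T.smp i) = false) (hx : ∀ t : F, xg g.toGood (T.smp i) t ∈ M) :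
    T.D.group F ≤ M := by
  have hg := g.toGood
  have hS : ∀ s < T.n, cls s = false → ∀ t : F, xg hg s t ∈ M := fun s hs hc =>
    class_mem hg hn hcls hedge hi hx s hs (hc.trans hshort.symm)
  refine group_le_of_simple hg (fun k hk z => ?_) hn
  cases hck : cls (T.smp k)
  · exact hS _ (g.smp_lt hk) hck z
  have h := allBelow_eq_true.1 hlc k hk
  rw [hck, Bool.not_true, Bool.false_or, anyBelow_eq_true] at h
  obtain ⟨r, hr, h⟩ := h
  simp only [List.any_eq_true, Bool.and_eq_true, Bool.or_eq_true, Bool.not_eq_true',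
    nat_beq_false, nat_blt, nat_beq, List.all_eq_true] at h
  obtain ⟨hcr, e, -, ⟨hce, ⟨hs, hne⟩, hne'⟩, c, hc, ⟨⟨hca, k', hk', hkc⟩, hij⟩, hall⟩ := h
  have hC0 : (c.2.1 : F) ≠ 0 := by
    rcases Int.natAbs_eq c.2.1 with he | he <;> rw [he, hkc] <;> simp [hgood k' hk']
  obtain ⟨t, u, htu⟩ : ∃ t u : F, (c.2.1 : F) * (-t) ^ c.2.2.1 * u ^ c.2.2.2 = z := by
    rcases hij with h | h
    · exact ⟨-(z / (c.2.1 : F)), 1, by
        rw [h, one_pow, _root_.neg_neg, pow_one, mul_one]; field_simp⟩
    · exact ⟨-1, z / (c.2.1 : F), by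
        rw [h, _root_.neg_neg, one_pow, mul_one, pow_one]; field_simp⟩
  have hxc := xg_comm g hr hs hne hne' t u
  have hprod : ((cVal T F r e.1 t u).map fun e => xg hg e.1 e.2).prod ∈ M := by
    rw [show ((cVal T F r e.1 t u).map fun e => xg hg e.1 e.2).prod =
      (xg hg r t * xg hg e.1 u)⁻¹ * (xg hg e.1 u * xg hg r t) by rw [hxc]; group]
    exact mul_mem (inv_mem (mul_mem (hS r hr hcr _) (hS _ hs hce _)))
      (mul_mem (hS _ hs hce _) (hS r hr hcr _))
  obtain ⟨A, B, -, hL, herase⟩ := List.exists_erase_eq hc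
  have hAB : ∀ L : List (ℕ × ℤ × ℕ × ℕ), (∀ d ∈ L, d ∈ A ++ B) →
      (((L.map fun c => (c.1, (c.2.1 : F) * (-t) ^ c.2.2.1 * u ^ c.2.2.2))).map
        fun e => xg hg e.1 e.2).prod ∈ M := by
    intro L hL'
    refine Subgroup.list_prod_mem _ fun y hy => ?_
    simp only [List.mem_map] at hy
    obtain ⟨_, ⟨d, hd, rfl⟩, rfl⟩ := hy
    have hd' : d ∈ (T.cTerms r e.1).erase c := herase ▸ hL' d hd
    exact hS d.1 (cTerms_mem hg hr hs (List.mem_of_mem_erase hd')).1 (hall d hd') _
  rw [cVal, hL, List.map_append, List.map_append, List.map_cons, List.map_cons, List.prod_append,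
    List.prod_cons, htu, hca] at hprod
  exact (M.mul_mem_cancel_right (hAB B fun d hd => List.mem_append_right A hd)).1
    ((M.mul_mem_cancel_left (hAB A fun d hd => List.mem_append_left B hd)).1 hprod)

theorem xg_mem_rootSubgroup (g : T.Good) (r : ℕ) (t : F) : xg g r t ∈ T.D.rootSubgroup F r :=
  Subgroup.subset_closure ⟨t, xg_val g r t⟩

theorem group_le_monomial_sup_short (g : T.GoodA) {cls : ℕ → Bool} (hcls : T.checkCls cls = true)
    (hedge : T.checkEdge cls = true) {good : List ℕ} (hgood : ∀ k ∈ good, (k : F) ≠ 0)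
    (hlc : T.checkLongComm cls good = true)
    (hagree : ∀ s, T.D.isLong s = false → cls s = false)
    {i : ℕ} (hi : i < T.D.rank) (hshort : T.D.isLong (T.D.simple i) = false) :
    T.D.group F ≤ T.D.monomialSubgroup F ⊔ T.D.rootSubgroup F (T.D.simple i) := by
  rw [g.rank_eq] at hi
  rw [g.toGood.simple_eq hi] at hshort ⊢
  exact group_le_of_short g (fun j hj => Subgroup.mem_sup_left (nG_mem_monomial g.toGood hj)) hcls
    hedge hgood hlc hi (hagree _ hshort)
    (fun t => Subgroup.mem_sup_right (xg_mem_rootSubgroup g.toGood _ t))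

theorem group_le_monomial_sup_pair (g : T.GoodA) (hcls : T.checkCls T.D.isLong = true)
    (hedge : T.checkEdge T.D.isLong = true)
    {i j : ℕ} (hi : i < T.D.rank) (hj : j < T.D.rank)
    (hshort : T.D.isLong (T.D.simple i) = false) (hlong : T.D.isLong (T.D.simple j) = true) :
    T.D.group F ≤ T.D.monomialSubgroup F ⊔ T.D.rootSubgroup F (T.D.simple i) ⊔
      T.D.rootSubgroup F (T.D.simple j) := by
  rw [g.rank_eq] at hi hj
  rw [g.toGood.simple_eq hi] at hshort ⊢
  rw [g.toGood.simple_eq hj] at hlong ⊢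
  set M := T.D.monomialSubgroup F ⊔ T.D.rootSubgroup F (T.smp i) ⊔ T.D.rootSubgroup F (T.smp j)
  have hn : ∀ k < T.l, nG g.toGood F k ∈ M := fun k hk =>
    Subgroup.mem_sup_left (Subgroup.mem_sup_left (nG_mem_monomial g.toGood hk))
  refine group_le_of_simple g.toGood (fun k hk z => ?_) hn
  cases hck : T.D.isLong (T.smp k)
  · exact class_mem g.toGood hn hcls hedge hi (fun t => Subgroup.mem_sup_left
      (Subgroup.mem_sup_right (xg_mem_rootSubgroup g.toGood _ t))) _ (g.smp_lt hk)
      (hck.trans hshort.symm) z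
  · exact class_mem g.toGood hn hcls hedge hj
      (fun t => Subgroup.mem_sup_right (xg_mem_rootSubgroup g.toGood _ t)) _ (g.smp_lt hk)
      (hck.trans hlong.symm) z

end Tab

theorem exists_checkShortGen {D : ChevalleyDatum}
    (hD : D ∈ [chevG2, chevB2, chevD4, chevF4, chevE6, chevE7, chevE8]) :
    ∃ T : Tab, ∃ cls : ℕ → Bool, ∃ good : List ℕ, T.GoodA ∧ T.D = D ∧ T.checkCls cls = true ∧
      T.checkEdge cls = true ∧ T.checkLongComm cls good = true ∧
      (∀ s, T.D.isLong s = false → cls s = false) ∧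
      ∀ k ∈ good, k = 1 ∨ (k = 2 ∧ D ∈ [chevB2, chevF4]) ∨ (k = 3 ∧ D = chevG2) := by
  simp only [List.mem_cons, List.not_mem_nil, or_false] at hD
  rcases hD with rfl | rfl | rfl | rfl | rfl | rfl | rfl
  · exact ⟨_, chevG2.isLong, [1, 3], ⟨G2Data.good, by decide +kernel⟩, rfl, by decide +kernel,
      by decide +kernel, by decide +kernel, fun _ h => h, by simp⟩
  · exact ⟨_, chevB2.isLong, [1, 2], ⟨B2Data.good, by decide +kernel⟩, rfl, by decide +kernel,
      by decide +kernel, by decide +kernel, fun _ h => h, by simp⟩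
  · exact ⟨_, fun _ => false, [1], ⟨D4Data.good, by decide +kernel⟩, rfl, by decide +kernel,
      by decide +kernel, by decide +kernel, fun _ _ => rfl, by simp⟩
  · exact ⟨_, chevF4.isLong, [1, 2], ⟨F4Data.good, by decide +kernel⟩, rfl, by decide +kernel,
      by decide +kernel, by decide +kernel, fun _ h => h, by simp⟩
  · exact ⟨_, fun _ => false, [1], ⟨E6Data.good, by decide +kernel⟩, rfl, by decide +kernel,
      by decide +kernel, by decide +kernel, fun _ _ => rfl, by simp⟩
  · exact ⟨_, fun _ => false, [1], ⟨E7Data.good, by decide +kernel⟩, rfl, by decide +kernel,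
      by decide +kernel, by decide +kernel, fun _ _ => rfl, by simp⟩
  · exact ⟨_, fun _ => false, [1], ⟨E8Data.good, by decide +kernel⟩, rfl, by decide +kernel,
      by decide +kernel, by decide +kernel, fun _ _ => rfl, by simp⟩

theorem exists_checkPairGen {D : ChevalleyDatum} (hD : D ∈ [chevG2, chevB2, chevF4]) :
    ∃ T : Tab, T.GoodA ∧ T.D = D ∧ T.checkCls T.D.isLong = true ∧ T.checkEdge T.D.isLong = true := by
  simp only [List.mem_cons, List.not_mem_nil, or_false] at hD
  rcases hD with rfl | rfl | rfl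
  · exact ⟨G2Data.tab, ⟨G2Data.good, by decide +kernel⟩, rfl, by decide +kernel, by decide +kernel⟩
  · exact ⟨B2Data.tab, ⟨B2Data.good, by decide +kernel⟩, rfl, by decide +kernel, by decide +kernel⟩
  · exact ⟨F4Data.tab, ⟨F4Data.good, by decide +kernel⟩, rfl, by decide +kernel, by decide +kernel⟩

end Cfsg.Agent.Chev
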