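import Cfsg.Agent.Lib.Lie.ChevTab
import Cfsg.Prelude.Def_ChevB2

/-! Packed tables for type B2 (generated from the tables of the datum). -/

set_option autoImplicit false
set_option maxRecDepth 20000

namespace Cfsg.Agent.Chev.B2Data

open Cfsg.Lie

/-- rows of the chain table -/
def row (r : ℕ) : Array (ℕ × Array (ℕ × ℤ)) :=
  (bif Nat.blt r 4 then (bif Nat.blt r 2 then (bif Nat.blt r 1 then chevB2Chain0 else chevB2Chain1) else (bif Nat.blt r 3 then chevB2Chain2 else chevB2Chain3)) else (bif Nat.blt r 6 then (bif Nat.blt r 5 then chevB2Chain4 else chevB2Chain5) else (bif Nat.blt r 7 then chevB2Chain6 else chevB2Chain7)))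

/-- packed chains -/
def pk0 : ℕ := 0x13000034000000000000000000000000000
/-- packed chains -/
def pk1 : ℕ := 0x3a0ac00000000068028150000000000600000000000
/-- packed chains -/
def pk2 : ℕ := 0x460d400022000000000000060340000000000800000
/-- packed chains -/
def pk3 : ℕ := 0x2d000000000000000000000b00000000000
/-- packed chains -/
def pk4 : ℕ := 0xd4000000000000000000004c00000
/-- packed chains -/
def pk5 : ℕ := 0x3e0000001d833000000000000000780d80b
/-- packed chains -/
def pk6 : ℕ := 0xe80000007a0ac0002600000012815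
/-- packed chains -/
def pk7 : ℕ := 0x330000b400000

/-- packed chains -/
def chPk (r : ℕ) : ℕ :=
  (bif Nat.blt r 4 then (bif Nat.blt r 2 then (bif Nat.blt r 1 then pk0 else pk1) else (bif Nat.blt r 3 then pk2 else pk3)) else (bif Nat.blt r 6 then (bif Nat.blt r 5 then pk4 else pk5) else (bif Nat.blt r 7 then pk6 else pk7)))

/-- packed Cartan integers -/
def cartanPk (r : ℕ) : ℕ :=
  (bif Nat.blt r 1 then 0xa8a6a686 else 0x897a6978)

/-- packed coroots -/
def corootPk (r : ℕ) : ℕ :=
  (bif Nat.blt r 4 then (bif Nat.blt r 2 then (bif Nat.blt r 1 then 0x77 else 0x67) else (bif Nat.blt r 3 then 0x87 else 0x78)) else (bif Nat.blt r 6 then (bif Nat.blt r 5 then 0x98 else 0x89) else (bif Nat.blt r 7 then 0xa9 else 0x99)))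

/-- packed reflections -/
def refPk (r : ℕ) : ℕ :=
  (bif Nat.blt r 1 then 0x48340a0f0082c0607 else 0x702c1807048080a00)

/-- The packed tables of type B2. -/
def tab : Tab where
  D := chevB2
  l := 2
  N := 4
  w := 22
  rowA := row
  chPk := chPk
  cartanPk := cartanPk
  corootPk := corootPk
  refPk := refPk
  smpPk := 0x405
  reps := [(6, 0), (6, 2), (6, 4), (7, 1), (7, 3), (7, 5)]

end Cfsg.Agent.Chev.B2Data
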