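import Cfsg.Agent.Lib.Lie.ChevTab
import Cfsg.Prelude.Def_ChevG2

/-! Packed tables for type G2 (generated from the tables of the datum). -/

set_option autoImplicit false
set_option maxRecDepth 20000

namespace Cfsg.Agent.Chev.G2Data

open Cfsg.Lie

/-- rows of the chain table -/
def row (r : ℕ) : Array (ℕ × Array (ℕ × ℤ)) :=
  (bif Nat.blt r 6 then (bif Nat.blt r 3 then (bif Nat.blt r 1 then chevG2Chain0 else (bif Nat.blt r 2 then chevG2Chain1 else chevG2Chain2)) else (bif Nat.blt r 4 then chevG2Chain3 else (bif Nat.blt r 5 then chevG2Chain4 else chevG2Chain5))) else (bif Nat.blt r 9 then (bif Nat.blt r 7 then chevG2Chain6 else (bif Nat.blt r 8 then chevG2Chain7 else chevG2Chain8)) else (bif Nat.blt r 10 then chevG2Chain9 else (bif Nat.blt r 11 then chevG2Chain10 else chevG2Chain11))))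

/-- packed chains -/
def pk0 : ℕ := 0xac0000003600000015000000000000000340000000000000000000000000000000000000000000000000
/-- packed chains -/
def pk1 : ℕ := 0x1980000000000000046000000000000000a8000000000000000a00000000000000000000000000000000000000000
/-- packed chains -/
def pk2 : ℕ := 0x1608c2180503a0ec00000000000078260000040d000000000000000000000000f000000038000000000000000000000000
/-- packed chains -/
def pk3 : ℕ := 0x560f4268000000000002907c00000000000000148050260940000000000003812000000000000000040000000000000000
/-- packed chains -/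
def pk4 : ℕ := 0x350861340003708400000031000000000000000000581503a000000000000240b0000000240000000000000000
/-- packed chains -/
def pk5 : ℕ := 0x2a800000000000000000000003d00000000000000000000000000000001b000000000000000000000000600000000
/-- packed chains -/
def pk6 : ℕ := 0x174000000000000000000000022800000000000000000000000000000011800000000000000000000000b
/-- packed chains -/
def pk7 : ℕ := 0xae0002884a0000000005509a10c00000000000000000000001780005e0781581b02600000000
/-- packed chains -/
def pk8 : ℕ := 0xbe0000000000017c270000000002d84b0760000003700000000000062088000000000d412813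
/-- packed chains -/
def pk9 : ℕ := 0x5900000028800000000000000000002c84600015c1d0000000002d84504a1541d81d
/-- packed chains -/
def pk10 : ℕ := 0x16c000000000000004b000000000000000f4000000000000002d
/-- packed chains -/
def pk11 : ℕ := 0xa600000000000000258000001140000006a00000000

/-- packed chains -/
def chPk (r : ℕ) : ℕ :=
  (bif Nat.blt r 6 then (bif Nat.blt r 3 then (bif Nat.blt r 1 then pk0 else (bif Nat.blt r 2 then pk1 else pk2)) else (bif Nat.blt r 4 then pk3 else (bif Nat.blt r 5 then pk4 else pk5))) else (bif Nat.blt r 9 then (bif Nat.blt r 7 then pk6 else (bif Nat.blt r 8 then pk7 else pk8)) else (bif Nat.blt r 10 then pk9 else (bif Nat.blt r 11 then pk10 else pk11))))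

/-- packed Cartan integers -/
def cartanPk (r : ℕ) : ℕ :=
  (bif Nat.blt r 1 then 0x8b97a5b69758 else 0x97897a697897)

/-- packed coroots -/
def corootPk (r : ℕ) : ℕ :=
  (bif Nat.blt r 6 then (bif Nat.blt r 3 then (bif Nat.blt r 1 then 0x67 else (bif Nat.blt r 2 then 0x77 else 0x56)) else (bif Nat.blt r 4 then 0x57 else (bif Nat.blt r 5 then 0x87 else 0x78))) else (bif Nat.blt r 9 then (bif Nat.blt r 7 then 0x98 else (bif Nat.blt r 8 then 0x89 else 0xb9)) else (bif Nat.blt r 10 then 0xba else (bif Nat.blt r 11 then 0x99 else 0xa9))))

/-- packed reflections -/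
def refPk (r : ℕ) : ℕ :=
  (bif Nat.blt r 1 then 0xb034221204850040f0201c1600 else 0xa858240f0802c1a06048100003)

/-- The packed tables of type G2. -/
def tab : Tab where
  D := chevG2
  l := 2
  N := 6
  w := 33
  rowA := row
  chPk := chPk
  cartanPk := cartanPk
  corootPk := corootPk
  refPk := refPk
  smpPk := 0x607
  reps := [(9, 0), (9, 3), (9, 5), (9, 7), (9, 10), (11, 1), (11, 2), (11, 4), (11, 6), (11, 8)]

end Cfsg.Agent.Chev.G2Data
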