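import Cfsg.Agent.Lib.Schur.Tails
import Cfsg.Agent.Lib.Lie.TitsSyl
import Cfsg.Agent.Lib.Lie.TitsMultData
import Cfsg.Agent.Lib.TitsTrans.Data

/-! The Schur multiplier of the Tits group is trivial. -/

set_option autoImplicit false
set_option maxRecDepth 100000

namespace Cfsg.Agent.Chev.TitsMult

open Cfsg.Lie Tab Tits
open TitsData (appN)
open Cfsg.Agent.PermSchur (SchurData coll val_cons val_append rowsOK)

/-- an element of a list of words -/
noncomputable def el (W : List (List (Fin 5))) (i : ℕ) : ↥TW := valW (W.getD i [])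

/-- the columns of a list of words -/
def colsEq (W : List (List (Fin 5))) (C : List (List ℕ)) (k : ℕ) : Bool :=
  allBelow (fun i => evW (W.getD i []) && ((C.getD i []).length == 52 &&
    allBelow (fun j => Nat.beq (fW (W.getD i []) (2 ^ j)) ((C.getD i []).getD j 0)) 52)) k

/-- a product of columns -/
def fC (C : List (List ℕ)) (u : List ℕ) (v : ℕ) : ℕ := u.foldr (fun i x => appN (C.getD i []) x 0) v

/-- equal columns -/
def eqC (f f' : ℕ → ℕ) : Bool := allBelow (fun j => Nat.beq (f (2 ^ j)) (f' (2 ^ j))) 52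

/-- the equations of the rules -/
def factsOK (d : SchurData) (C FC : List (List ℕ)) : Bool :=
  allBelow (fun i => eqC (fC C (List.replicate d.p i)) (fC C (d.pow.getD i [])) &&
    allBelow (fun j => eqC (fC C [i, j]) (fC C ((d.comm.getD i []).getD j []))) i) d.a.length &&
  allBelow (fun t => allBelow (fun i =>
      eqC (fun v => appN (FC.getD t []) (fC C ((d.fus.getD t ⟨(0, 0), [], []⟩).src.getD i []) v) 0)
        (fun v => fC C ((d.fus.getD t ⟨(0, 0), [], []⟩).img.getD i []) (appN (FC.getD t []) v 0)))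
    (d.fus.getD t ⟨(0, 0), [], []⟩).src.length) d.fus.length

/-- each listed generator of the derived group is separated from the span of the earlier ones -/
def sepChainOK (d : SchurData) (C : List (List ℕ)) (S : List ℕ) : Bool :=
  (allBelow (fun i =>
    Nat.blt (fC C (d.gs.getD i ([], [])).1 (S.getD i 0)) (2 ^ 52) &&
    (Tails.formsOf d i).all (fun f => f.all (fun q => Nat.blt q d.a.length) &&
      !Nat.beq (fC C f (S.getD i 0)) (fC C (d.gs.getD i ([], [])).1 (S.getD i 0)) &&
        Nat.blt (fC C f (S.getD i 0)) (2 ^ 52))) d.gs.length) &&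
  d.gs.all (fun s => s.1.all fun q => Nat.blt q d.a.length)

/-- the listed forms exhaust the subgroup and are distinct -/
def formsOK (d : SchurData) (C : List (List ℕ)) (F : List (List ℕ)) (v : ℕ) : Bool :=
  F.contains [] && (F.all fun f => f.all (fun q => Nat.blt q d.a.length) && Nat.blt (fC C f v) (2 ^ 52) &&
    allBelow (fun i => F.contains (coll d (f ++ [i])).1) d.a.length) &&
  allBelow (fun i => allBelow (fun j => !Nat.beq (fC C (F.getD i []) v) (fC C (F.getD j []) v)) i) F.length

variable {d : SchurData} {W FW : List (List (Fin 5))} {C FC : List (List ℕ)}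

theorem act_el {k : ℕ} (hW : colsEq W C k = true) {i : ℕ} (hi : i < k) :
    el W i ∈ commutator ↥TW ∧
      Act (el W i : GL F4Data.tab.D.Idx K2) (fun v => appN (C.getD i []) v 0) := by
  have h := allBelow_eq_true.1 hW i hi
  simp only [Bool.and_eq_true, beq_iff_eq, allBelow_eq_true, nat_beq] at h
  obtain ⟨he, hl, hj⟩ := h
  refine ⟨(valW_mem _).2 (nat_beq.1 he), act_cols hl fun j hj' => ?_⟩
  rw [← vecN_two_pow, el, act_valW, hj j hj']

theorem act_val {k : ℕ} (hW : colsEq W C k = true) :
    ∀ u : List ℕ, (∀ i ∈ u, i < k) →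
      Act ((PermSchur.val (el W) u : ↥TW) : GL F4Data.tab.D.Idx K2) (fC C u)
  | [], _ => act_one
  | i :: u, h => by
    rw [PermSchur.val_cons, Subgroup.coe_mul]
    exact act_mul (act_el hW (h i List.mem_cons_self)).2
      (act_val hW u fun j hj => h j (List.mem_cons_of_mem _ hj))

attribute [local irreducible] el fC

theorem facts (hwf : Tails.wfOK d = true) (hW : colsEq W C d.a.length = true)
    (hF : colsEq FW FC d.fus.length = true) (h : factsOK d C FC = true) :
    Tails.Facts d (el W) (el FW) := by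
  simp only [Tails.wfOK, factsOK, eqC, Bool.and_eq_true, allBelow_eq_true] at hwf h
  have hwf1 : ∀ i < d.a.length, (d.pow.getD i []).all (fun q => Nat.blt q d.a.length) = true ∧
      ∀ j < i, ((d.comm.getD i []).getD j []).all (fun q => Nat.blt q d.a.length) = true := fun i hi => by
    have h' := PermCert.allBelow_spec _ _ hwf.1.2 i hi
    simp only [Bool.and_eq_true] at h'
    exact ⟨h'.1.1.1, PermCert.allBelow_spec _ _ h'.1.1.2⟩
  have hwf2 : ∀ t < d.fus.length, ∀ i < (d.fus.getD t ⟨(0, 0), [], []⟩).src.length,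
      ((d.fus.getD t ⟨(0, 0), [], []⟩).src.getD i []).all (fun q => Nat.blt q d.a.length) = true ∧
      ((d.fus.getD t ⟨(0, 0), [], []⟩).img.getD i []).all (fun q => Nat.blt q d.a.length) = true := fun t ht i hi => by
    have h' := PermCert.allBelow_spec _ _ (PermCert.allBelow_spec _ _ hwf.2 t ht) i hi
    rwa [Bool.and_eq_true] at h'
  have key : ∀ {x y : ↥TW} {f f' : ℕ → ℕ}, Act (x : GL F4Data.tab.D.Idx K2) f →
      Act (y : GL F4Data.tab.D.Idx K2) f' → (∀ j < 52, Nat.beq (f (2 ^ j)) (f' (2 ^ j)) = true) → x = y :=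
    fun hx hy e => Subtype.ext (act_ext hx hy fun j hj => nat_beq.1 (e j hj))
  have hlt : ∀ {u : List ℕ}, u.all (fun q => Nat.blt q d.a.length) = true → ∀ q ∈ u, q < d.a.length :=
    fun hu q hq => nat_blt.1 (List.all_eq_true.1 hu q hq)
  refine ⟨fun i hi => ?_, fun i hi j hj => ?_, fun t ht i hi => ?_⟩
  · have e : PermSchur.val (el W) (List.replicate d.p i) = el W i ^ d.p := by simp [PermSchur.val]
    rw [← e]
    exact key (act_val hW _ fun q hq => by rw [List.eq_of_mem_replicate hq]; exact hi)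
      (act_val hW _ (hlt (hwf1 i hi).1)) (h.1 i hi).1
  · rw [show el W i * el W j = PermSchur.val (el W) [i, j] by simp [PermSchur.val]]
    exact key (act_val hW _ (by intro q hq; simp at hq; omega))
      (act_val hW _ (hlt ((hwf1 i hi).2 j hj))) ((h.1 i hi).2 j hj)
  · rw [mul_inv_eq_iff_eq_mul]
    refine key (f := fun v => appN (FC.getD t []) (fC C _ v) 0)
      (f' := fun v => fC C _ (appN (FC.getD t []) v 0)) ?_ ?_ (h.2 t ht i hi)
    · rw [Subgroup.coe_mul]
      exact act_mul (act_el hF ht).2 (act_val hW _ (hlt (hwf2 t ht i hi).1))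
    · rw [Subgroup.coe_mul]
      exact act_mul (act_val hW _ (hlt (hwf2 t ht i hi).2)) (act_el hF ht).2

theorem chain_ne (hW : colsEq W C d.a.length = true) {S : List ℕ} (h : sepChainOK d C S = true) :
    ∀ i < d.gs.length, ∀ f ∈ Tails.formsOf d i,
      PermSchur.val (el W) (d.gs.getD i ([], [])).1 ≠ PermSchur.val (el W) f := by
  simp only [sepChainOK, Bool.and_eq_true, allBelow_eq_true, List.all_eq_true, nat_blt, Bool.not_eq_true'] at h
  obtain ⟨hsep, hgs⟩ := h
  intro i hi f hf e
  obtain ⟨hb, hall⟩ := hsep i hi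
  obtain ⟨⟨hlt, hne⟩, hb'⟩ := hall f hf
  have hm : d.gs.getD i ([], []) ∈ d.gs := by rw [List.getD_eq_getElem _ _ hi]; exact List.getElem_mem hi
  have h1 := act_val hW _ (hgs _ hm) (S.getD i 0)
  rw [e, act_val hW _ hlt (S.getD i 0)] at h1
  exact nat_beq_false.1 hne (vecN_inj hb' hb h1)

/-- the subgroup of the sequence -/
noncomputable def gensU (d : SchurData) (W : List (List (Fin 5))) : Subgroup ↥TW :=
  Subgroup.closure {x | ∃ q < d.a.length, x = el W q}

theorem gensU_le (hW : colsEq W C d.a.length = true) : gensU d W ≤ commutator ↥TW := by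
  refine (Subgroup.closure_le _).2 ?_
  rintro _ ⟨q, hq, rfl⟩
  exact (act_el hW hq).1

theorem card_gensU (hwf : Tails.wfOK d = true) (hW : colsEq W C d.a.length = true)
    (hFacts : Tails.Facts d (el W) (el FW)) {F : List (List ℕ)} {v : ℕ} (h : formsOK d C F v = true) :
    Nat.card (gensU d W) = F.length := by
  simp only [formsOK, Bool.and_eq_true, allBelow_eq_true, List.all_eq_true, nat_blt,
    List.contains_iff_mem, Bool.not_eq_true'] at h
  obtain ⟨⟨h0, hF⟩, hd⟩ := h
  have hker : (MonoidHom.id ↥TW).ker ≤ Subgroup.center ↥TW := fun x hx => by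
    rw [MonoidHom.mem_ker, MonoidHom.id_apply] at hx
    rw [hx]; exact one_mem _
  have hL : Tails.Lifts d (MonoidHom.id ↥TW) (el W) (el FW) (el W) (el FW) := ⟨fun _ _ => rfl, fun _ _ => rfl⟩
  have hcoll : ∀ u : List ℕ, (∀ q ∈ u, q < d.a.length) → PermSchur.val (el W) u = PermSchur.val (el W) (coll d u).1 := by
    intro u hu
    have e := congrArg (MonoidHom.id ↥TW) (Tails.coll_sound hker hL hwf hFacts hu).2
    rw [map_mul, Tails.ev_tail_ker, mul_one] at e
    exact e
  have hmem : ∀ x ∈ gensU d W, ∃ f ∈ F, x = PermSchur.val (el W) f := by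
    intro x hx
    rw [gensU, ← Subgroup.mem_toSubmonoid, Subgroup.closure_toSubmonoid_of_finite] at hx
    induction hx using Submonoid.closure_induction_right with
    | one => exact ⟨[], h0, by simp [PermSchur.val]⟩
    | mul_right x _ y hy ih =>
      obtain ⟨f, hf, rfl⟩ := ih
      obtain ⟨q, hq, rfl⟩ := hy
      refine ⟨_, (hF f hf).2 q hq, ?_⟩
      rw [← hcoll (f ++ [q]) fun a ha => (List.mem_append.1 ha).elim ((hF f hf).1.1 a)
        (fun h => List.mem_singleton.1 h ▸ hq), PermSchur.val_append]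
      simp [PermSchur.val]
  have hval : ∀ f ∈ F, PermSchur.val (el W) f ∈ gensU d W := fun f hf =>
    Subgroup.list_prod_mem _ fun y hy => by
      obtain ⟨i, hi, rfl⟩ := List.mem_map.1 hy
      exact Subgroup.subset_closure ⟨i, (hF f hf).1.1 i hi, rfl⟩
  let φ : Fin F.length → gensU d W := fun i => ⟨PermSchur.val (el W) F[i], hval _ (List.getElem_mem _)⟩
  have key : ∀ i j : Fin F.length, (j : ℕ) < i → φ i ≠ φ j := by
    intro i j hij e
    have hne := hd i i.2 j hij
    rw [List.getD_eq_getElem _ _ i.2, List.getD_eq_getElem _ _ j.2] at hne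
    have hi := hF _ (List.getElem_mem i.2)
    have hj := hF _ (List.getElem_mem j.2)
    have vi := act_val hW _ hi.1.1 v
    rw [show PermSchur.val (el W) F[(i : ℕ)] = PermSchur.val (el W) F[(j : ℕ)] from congrArg Subtype.val e,
      act_val hW _ hj.1.1 v] at vi
    exact nat_beq_false.1 hne (vecN_inj hi.1.2 hj.1.2 vi.symm)
  have hbij : Function.Bijective φ := by
    refine ⟨fun i j e => ?_, fun x => ?_⟩
    · rcases lt_trichotomy (i : ℕ) j with h | h | h
      · exact absurd e.symm (key j i h)
      · exact Fin.ext h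
      · exact absurd e (key i j h)
    · obtain ⟨f, hf, e⟩ := hmem x x.2
      obtain ⟨i, hi, rfl⟩ := List.getElem_of_mem hf
      exact ⟨⟨i, hi⟩, Subtype.ext e.symm⟩
  rw [← Nat.card_eq_of_bijective φ hbij, Nat.card_fin]

/-- one prime -/
theorem kill {X : Type*} [Group X] (ξ : X →* TT) (hs : Function.Surjective ξ)
    (hc : ξ.ker ≤ Subgroup.center X) {d : SchurData} {W FW : List (List (Fin 5))} {C FC : List (List ℕ)}
    (hwf : Tails.wfOK d = true) (hW : colsEq W C d.a.length = true) (hF : colsEq FW FC d.fus.length = true)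
    (hfacts : factsOK d C FC = true) (hr : rowsOK d = true)
    (hrel : d.rels.all (fun r => match r with
      | .assoc a b c => (a ++ b ++ c).all (fun q => Nat.blt q d.a.length) | .fuse .. => true) = true)
    (hd : Tails.derivedOK d = true) (hcl : Tails.Chain d) (hdp : d.p.Prime) {S : List ℕ}
    (he : sepChainOK d C S = true) {p n : ℕ} (hp : p.Prime)
    (hcard : Nat.card (gensU d W) = n) (hdiv : ¬ p ∣ 17971200 / n) :
    ∃ U : Subgroup TT, ¬ p ∣ U.index ∧ ∀ w : U.comap ξ,
      w ∈ commutator (U.comap ξ) → ξ w = 1 → (w : X) ^ p = 1 → (w : X) = 1 := by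
  refine ⟨(gensU d W).subgroupOf _, ?_, fun w hw hw1 _ => ?_⟩
  · have h := ((gensU d W).subgroupOf (commutator ↥TW)).card_mul_index
    rw [Nat.card_congr (Subgroup.subgroupOfEquivOfLe (gensU_le hW)).toEquiv, hcard, card_T] at h
    have hn : 0 < n := hcard ▸ Nat.card_pos
    rwa [show (17971200 : ℕ) = 2 ^ 11 * 3 ^ 3 * 5 ^ 2 * 13 by norm_num, ← h,
      Nat.mul_div_cancel_left _ hn] at hdiv
  · set ξ' : X →* ↥TW := (commutator ↥TW).subtype.comp ξ with hξ'
    have hrange : ξ'.range = commutator ↥TW := by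
      rw [hξ', MonoidHom.range_comp, MonoidHom.range_eq_top.2 hs, ← MonoidHom.range_eq_map, Subgroup.range_subtype]
    have hker : ξ'.ker ≤ Subgroup.center X := fun x hx => hc (Subtype.ext hx)
    exact Tails.kill hwf (facts hwf hW hF hfacts) hr hrel hd hcl hdp (chain_ne hW he) ξ' hker
      (fun q hq => hrange ▸ (act_el hW hq).1) (fun t ht => hrange ▸ (act_el hF ht).1) (U := gensU d W) le_rfl
      w hw (congrArg Subtype.val hw1)

theorem card_two : Nat.card (gensU twoData twoW) = 2 ^ 11 := by
  have e : allBelow (fun i => twoW.getD i [] == sw i) 11 = true := by decide +kernel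
  have e' : ∀ i < 11, el twoW i = se i := fun i hi => by
    rw [el, beq_iff_eq.1 (allBelow_eq_true.1 e i hi), se]
  have : gensU twoData twoW = Hk 11 := by
    refine congrArg Subgroup.closure (Set.ext fun x => ?_)
    show (∃ q < twoData.a.length, x = el twoW q) ↔ ∃ i < 11, x = se i
    rw [show twoData.a.length = 11 from List.length_replicate]
    exact ⟨fun ⟨q, hq, hx⟩ => ⟨q, hq, hx.trans (e' q hq)⟩, fun ⟨q, hq, hx⟩ => ⟨q, hq, hx.trans (e' q hq).symm⟩⟩
  rw [this, card_forms 11 (by norm_num)]

end Cfsg.Agent.Chev.TitsMult
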