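import Cfsg.Agent.Lib.Lie.TitsMult

/-! Kernel checks for the Tits group tail certificates. -/

set_option autoImplicit false
set_option maxRecDepth 100000

namespace Cfsg.Agent.Chev.TitsMult

open Cfsg.Agent.Chev.Tits
open Cfsg.Agent.PermSchur (rowsOK)
open Cfsg.Lie Tab

theorem two_wf : Tails.wfOK twoData = true := by decide +kernel
theorem two_W : colsEq twoW twoC twoData.a.length = true := by decide +kernel
theorem two_FW : colsEq twoFW twoFC twoData.fus.length = true := by decide +kernel
theorem two_facts : factsOK twoData twoC twoFC = true := by decide +kernel
theorem two_rows : rowsOK twoData = true := by decide +kernel
theorem two_rels : twoData.rels.all (fun r => match r with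
    | .assoc a b c => (a ++ b ++ c).all (fun q => Nat.blt q twoData.a.length) | .fuse .. => true) = true := by
  decide +kernel
theorem two_derived : Tails.derivedOK twoData = true := by decide +kernel
theorem two_sep : sepChainOK twoData twoC twoSeps = true := by decide +kernel
theorem two_chainOK : allBelow (Tails.chainAt twoData twoChainP twoChainC) twoData.gs.length = true := by
  decide +kernel
theorem two_chain : Tails.Chain twoData :=
  Tails.chain_of _ _ _ (allBelow_eq_true.1 two_chainOK)

theorem three_wf : Tails.wfOK threeData = true := by decide +kernel
theorem three_W : colsEq threeW threeC threeData.a.length = true := by decide +kernel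
theorem three_FW : colsEq threeFW threeFC threeData.fus.length = true := by decide +kernel
theorem three_facts : factsOK threeData threeC threeFC = true := by decide +kernel
theorem three_rows : rowsOK threeData = true := by decide +kernel
theorem three_rels : threeData.rels.all (fun r => match r with
    | .assoc a b c => (a ++ b ++ c).all (fun q => Nat.blt q threeData.a.length) | .fuse .. => true) = true := by
  decide +kernel
theorem three_derived : Tails.derivedOK threeData = true := by decide +kernel
theorem three_sep : sepChainOK threeData threeC threeSeps = true := by decide +kernel
theorem three_chainOK : allBelow (Tails.chainAt threeData threeChainP threeChainC) threeData.gs.length = true := by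
  decide +kernel
theorem three_chain : Tails.Chain threeData :=
  Tails.chain_of _ _ _ (allBelow_eq_true.1 three_chainOK)
theorem three_forms : formsOK threeData threeC threeForms threeSep = true := by decide +kernel
theorem card_three : Nat.card (gensU threeData threeW) = threeForms.length :=
  card_gensU three_wf three_W (facts three_wf three_W three_FW three_facts) three_forms

theorem five_wf : Tails.wfOK fiveData = true := by decide +kernel
theorem five_W : colsEq fiveW fiveC fiveData.a.length = true := by decide +kernel
theorem five_FW : colsEq fiveFW fiveFC fiveData.fus.length = true := by decide +kernel
theorem five_facts : factsOK fiveData fiveC fiveFC = true := by decide +kernel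
theorem five_rows : rowsOK fiveData = true := by decide +kernel
theorem five_rels : fiveData.rels.all (fun r => match r with
    | .assoc a b c => (a ++ b ++ c).all (fun q => Nat.blt q fiveData.a.length) | .fuse .. => true) = true := by
  decide +kernel
theorem five_derived : Tails.derivedOK fiveData = true := by decide +kernel
theorem five_sep : sepChainOK fiveData fiveC fiveSeps = true := by decide +kernel
theorem five_chainOK : allBelow (Tails.chainAt fiveData fiveChainP fiveChainC) fiveData.gs.length = true := by
  decide +kernel
theorem five_chain : Tails.Chain fiveData :=
  Tails.chain_of _ _ _ (allBelow_eq_true.1 five_chainOK)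
theorem five_forms : formsOK fiveData fiveC fiveForms fiveSep = true := by decide +kernel
theorem card_five : Nat.card (gensU fiveData fiveW) = fiveForms.length :=
  card_gensU five_wf five_W (facts five_wf five_W five_FW five_facts) five_forms

theorem thirteen_wf : Tails.wfOK thirteenData = true := by decide +kernel
theorem thirteen_W : colsEq thirteenW thirteenC thirteenData.a.length = true := by decide +kernel
theorem thirteen_FW : colsEq thirteenFW thirteenFC thirteenData.fus.length = true := by decide +kernel
theorem thirteen_facts : factsOK thirteenData thirteenC thirteenFC = true := by decide +kernel
theorem thirteen_rows : rowsOK thirteenData = true := by decide +kernel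
theorem thirteen_rels : thirteenData.rels.all (fun r => match r with
    | .assoc a b c => (a ++ b ++ c).all (fun q => Nat.blt q thirteenData.a.length) | .fuse .. => true) = true := by
  decide +kernel
theorem thirteen_derived : Tails.derivedOK thirteenData = true := by decide +kernel
theorem thirteen_sep : sepChainOK thirteenData thirteenC thirteenSeps = true := by decide +kernel
theorem thirteen_chainOK : allBelow (Tails.chainAt thirteenData thirteenChainP thirteenChainC) thirteenData.gs.length = true := by
  decide +kernel
theorem thirteen_chain : Tails.Chain thirteenData :=
  Tails.chain_of _ _ _ (allBelow_eq_true.1 thirteen_chainOK)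
theorem thirteen_forms : formsOK thirteenData thirteenC thirteenForms thirteenSep = true := by decide +kernel
theorem card_thirteen : Nat.card (gensU thirteenData thirteenW) = thirteenForms.length :=
  card_gensU thirteen_wf thirteen_W (facts thirteen_wf thirteen_W thirteen_FW thirteen_facts) thirteen_forms

end Cfsg.Agent.Chev.TitsMult
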