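import Cfsg.Agent.Lib.Lie.TitsMultChecks

/-! The Schur multiplier of the Tits group is trivial. -/

set_option autoImplicit false
set_option maxRecDepth 100000

namespace Cfsg.Agent.Chev.TitsMult

open Cfsg.Agent.Chev.Tits
open Cfsg.Agent.PermSchur (rowsOK)

/-- The Schur multiplier of the Tits group is trivial. -/
theorem inf_commutator {X : Type*} [Group X] (ξ : X →* TT) (hs : Function.Surjective ξ)
    (hc : ξ.ker ≤ Subgroup.center X) : ξ.ker ⊓ commutator X = ⊥ := by
  refine SylowKill.inf_commutator_eq_bot ξ hc hs fun p hp => ?_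
  by_cases hd : p ∣ 2 ^ 11 * 3 ^ 3 * 5 ^ 2 * 13
  · have : p = 2 ∨ p = 3 ∨ p = 5 ∨ p = 13 := by
      rcases (Nat.Prime.dvd_mul hp).1 hd with h | h
      · rcases (Nat.Prime.dvd_mul hp).1 h with h | h
        · rcases (Nat.Prime.dvd_mul hp).1 h with h | h
          · exact Or.inl ((Nat.prime_dvd_prime_iff_eq hp Nat.prime_two).1 (hp.dvd_of_dvd_pow h))
          · exact Or.inr (Or.inl ((Nat.prime_dvd_prime_iff_eq hp Nat.prime_three).1 (hp.dvd_of_dvd_pow h)))
        · exact Or.inr (Or.inr (Or.inl ((Nat.prime_dvd_prime_iff_eq hp (by norm_num)).1 (hp.dvd_of_dvd_pow h))))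
      · exact Or.inr (Or.inr (Or.inr ((Nat.prime_dvd_prime_iff_eq hp (by norm_num)).1 h)))
    rcases this with rfl | rfl | rfl | rfl
    · exact kill ξ hs hc two_wf two_W two_FW two_facts two_rows two_rels two_derived two_chain Nat.prime_two
        two_sep hp card_two
        (by decide +kernel)
    · exact kill ξ hs hc three_wf three_W three_FW three_facts three_rows three_rels three_derived three_chain Nat.prime_three
        three_sep hp
        card_three (by decide +kernel)
    · exact kill ξ hs hc five_wf five_W five_FW five_facts five_rows five_rels five_derived five_chain hp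
        five_sep hp
        card_five (by decide +kernel)
    · exact kill ξ hs hc thirteen_wf thirteen_W thirteen_FW thirteen_facts thirteen_rows thirteen_rels
        thirteen_derived thirteen_chain hp
        thirteen_sep hp card_thirteen (by decide +kernel)
  · refine ⟨⊤, by simpa using hp.one_lt.ne', fun w hw hw1 hwp => ?_⟩
    obtain ⟨hm, hmem⟩ := SylowKill.transfer_step ξ hs (⊥ : Subgroup TT) (z := (w : X))
      (hc (MonoidHom.mem_ker.2 hw1)) hw1 (by
        have := Subgroup.mem_map_of_mem (Subgroup.subtype _) hw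
        rw [Subgroup.map_subtype_commutator] at this
        exact Subgroup.commutator_mono le_top le_top this)
    have h1 := SylowKill.commutator_cyclic ξ hc (⊥ : Subgroup TT)
    rw [h1, Subgroup.mem_bot] at hmem
    have h2 : (w : X) ^ (2 ^ 11 * 3 ^ 3 * 5 ^ 2 * 13) = 1 := by
      have := congrArg Subtype.val hmem
      simp only [Subgroup.coe_one] at this
      rwa [Subgroup.index_bot, card_T] at this
    have h3 := pow_gcd_eq_one.2 ⟨h2, hwp⟩
    rwa [Nat.Coprime.gcd_eq_one (Nat.coprime_comm.1 ((Nat.Prime.coprime_iff_not_dvd hp).2 hd)), pow_one] at h3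

end Cfsg.Agent.Chev.TitsMult
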