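import Cfsg.Agent.Lib.Lie.TwTwoGen
import Cfsg.Agent.Lib.Lie.TwD4

/-! Two generation of `³D₄(q)`. -/

set_option autoImplicit false
set_option maxRecDepth 20000

namespace Cfsg.Agent.Chev.TwD4

open Cfsg.Lie
open Tab

/-- images of the two basic orbits under the Coxeter word -/
def genSteps : List (List ℕ × List ℕ × List ℕ) :=
  [([1, 0, 2, 3], [23], [22]), ([1, 0, 2, 3], [12, 13, 18], [4, 7, 8]), ([1, 0, 2, 3], [22], [9]),
      ([1, 0, 2, 3], [4, 7, 8], [2, 3, 6]), ([1, 0, 2, 3], [9], [0]), ([1, 0, 2, 3], [2, 3, 6],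
      [5, 10, 11]), ([1, 0, 2, 3], [0], [1]), ([1, 0, 2, 3], [5, 10, 11], [15, 16, 19]), ([1, 0,
      2, 3], [1], [14]), ([1, 0, 2, 3], [15, 16, 19], [17, 20, 21])]

theorem genStepsOK : D4Data.tab.checkOrbDer [[1, 0, 2, 3]]
    [[14], [9], [12, 13, 18], [5, 10, 11]] genSteps [[23], [12, 13, 18]] = true := by decide +kernel

variable {F : Type*} [Field F] [Fintype F] {q : ℕ}

theorem orderOf_generator (hK : Fintype.card F = q ^ 3) {θ : Fˣ}
    (hθ : ∀ x : Fˣ, x ∈ Subgroup.zpowers θ) : (orderOf θ : ℤ) = (q : ℤ) ^ 3 - 1 := by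
  rw [orderOf_eq_card_of_forall_mem_zpowers hθ, TwField.card_units hK,
    Nat.cast_sub (by rw [← hK]; exact Fintype.card_pos)]
  simp

theorem exp_coprime (q : ℕ) :
    IsCoprime (3 - (q : ℤ) - (q : ℤ) ^ 2) ((q : ℤ) ^ 3 - 1) := by
  have h1 : IsCoprime (3 - (q : ℤ) - (q : ℤ) ^ 2) ((q : ℤ) - 1) := ⟨1, (q : ℤ) + 2, by ring⟩
  have h2 : IsCoprime (3 - (q : ℤ) - (q : ℤ) ^ 2) ((q : ℤ) ^ 2 + q + 1) := by
    obtain ⟨k, hk⟩ := Nat.even_mul_succ_self q
    have hk' : (q : ℤ) ^ 2 + q + 1 = 2 * k + 1 := by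
      have := congrArg (fun x : ℕ => (x : ℤ)) hk
      push_cast at this
      linear_combination this
    have h4 : IsCoprime (4 : ℤ) (2 * (k : ℤ) + 1) :=
      IsCoprime.mul_left (x := (2 : ℤ)) (y := 2) ⟨-(k : ℤ), 1, by ring⟩ ⟨-(k : ℤ), 1, by ring⟩
    rw [show 3 - (q : ℤ) - (q : ℤ) ^ 2 = 4 + ((q : ℤ) ^ 2 + q + 1) * (-1) by ring]
    rw [hk']
    exact h4.add_mul_left_left _
  rw [show (q : ℤ) ^ 3 - 1 = ((q : ℤ) - 1) * ((q : ℤ) ^ 2 + q + 1) by ring]
  exact h1.mul_right h2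

theorem exists_two_generators (hq : IsPrimePow q) (hK : Fintype.card F = q ^ 3) :
    ∃ a b : GL D4Data.tab.D.Idx F, a ∈ tw F q ∧ b ∈ tw F q ∧
      tw F q ≤ Subgroup.closure {a, b} := by
  obtain ⟨θ, hθ⟩ := IsCyclic.exists_generator (α := Fˣ)
  have hq2 : (2 : ℤ) ≤ q := by exact_mod_cast hq.two_le
  have hord := orderOf_generator hK hθ
  set Q : ℤ := (q : ℤ) ^ 2 + q + 1 with hQ
  set N : Fˣ := θ ^ Q with hN
  have hNq : (N : F) ^ q = N := by
    rw [← Units.val_pow_eq_pow_val, Units.val_inj, hN, ← zpow_natCast, ← _root_.zpow_mul,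
      zpow_eq_zpow_iff_modEq, Int.modEq_iff_dvd, hord, hQ]
    exact ⟨-1, by ring⟩
  set c : ℕ → Fˣ := par q (θ ^ (2 : ℤ), ⟨N, hNq⟩) with hc
  have hcmem : tor D4Data.tab F c ∈ tw F q := par_mem hq hK _
  have hwt : ∀ s, wt D4Data.tab F c s = θ ^ (2 * (D4Data.tab.A 0 s + q * D4Data.tab.A 2 s +
      (q : ℤ) ^ 2 * D4Data.tab.A 3 s) + Q * D4Data.tab.A 1 s) := by
    intro s
    simp only [wt, show D4Data.tab.l = 4 from rfl, Finset.prod_range_succ, Finset.prod_range_zero,
      one_mul, hc, par, hN, ← zpow_natCast, ← _root_.zpow_mul, ← _root_.zpow_add]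
    congr 1
    ring
  have hA : ([14, 23, 18, 17].map fun s => (List.range 4).map fun i => D4Data.tab.A i s) =
      [[-1, 2, -1, -1], [0, 1, 0, 0], [2, -1, 0, 0], [-1, 0, 1, 1]] := by decide +kernel
  simp only [List.range_succ, List.range_zero, List.nil_append, List.cons_append, List.map_cons,
    List.map_nil, List.cons.injEq, and_true] at hA
  obtain ⟨⟨a0, a1, a2, a3⟩, ⟨b0, b1, b2, b3⟩, ⟨c0, c1, c2, c3⟩, ⟨d0, d1, d2, d3⟩⟩ := hA
  have hL : wt D4Data.tab F c 14 = 1 := by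
    rw [hwt, a0, a1, a2, a3, show 2 * (-1 + (q : ℤ) * -1 + (q : ℤ) ^ 2 * -1) + Q * 2 = 0 by
      rw [hQ]; ring, _root_.zpow_zero]
  have hLong : wt D4Data.tab F c 23 = N := by
    rw [hwt, b0, b1, b2, b3, hN]; congr 1; ring
  have hS : wt D4Data.tab F c 18 = θ ^ (3 - (q : ℤ) - (q : ℤ) ^ 2) := by
    rw [hwt, c0, c1, c2, c3]; congr 1; rw [hQ]; ring
  obtain ⟨u₀, v₀, huv⟩ := exp_coprime q
  have hgen : ∀ x : Fˣ, ∃ j : ℤ, (θ ^ (3 - (q : ℤ) - (q : ℤ) ^ 2)) ^ j = x := fun x => by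
    obtain ⟨i, rfl⟩ := Subgroup.mem_zpowers_iff.1 (hθ x)
    refine ⟨u₀ * i, ?_⟩
    rw [← _root_.zpow_mul, zpow_eq_zpow_iff_modEq, Int.modEq_iff_dvd, hord]
    exact ⟨v₀ * i, by linear_combination -i * huv⟩
  have hS1 : wt D4Data.tab F c 18 ≠ 1 := by
    intro h
    obtain ⟨j, hj⟩ := hgen θ
    rw [← hS, h, one_zpow] at hj
    have : orderOf θ = 1 := orderOf_eq_one_iff.2 hj.symm
    rw [this] at hord
    have h8 : (2 : ℤ) ^ 3 ≤ (q : ℤ) ^ 3 := pow_le_pow_left₀ (by norm_num) hq2 3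
    norm_num at hord h8
    omega
  have hS' : wt D4Data.tab F c 17 ≠ 1 := by
    rw [hwt, d0, d1, d2, d3]
    intro h
    rw [← orderOf_dvd_iff_zpow_eq_one, hord] at h
    obtain ⟨k, hk⟩ := h
    have hk0 : 0 < k := by
      by_contra hle
      nlinarith
    by_cases h2 : q = 2
    · subst h2; norm_num at hk; omega
    · have h3 : (3 : ℤ) ≤ q := by have := hq.two_le; omega
      nlinarith [mul_le_mul_of_nonneg_left h3 (sq_nonneg (q : ℤ))]
  let W : List ℕ := [1, 0, 2, 3]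
  have hW : D4Data.tab.Wd W := checkWd_iff.1 (by decide +kernel)
  have hn : nWd g0 F W ∈ tw F q := by
    rw [show W = wd 0 ++ wd 1 from rfl, nWd_append]
    exact mul_mem (n_mem hq hK 0 (by omega)) (n_mem hq hK 1 (by omega))
  have hx : xg g0 14 (1 : F) ∈ tw F q := mid_mem (r := 14) (Or.inl rfl) (one_pow q)
  have hE : sProd g0 [12, 13, 18] (coord q (1 : F)) ∈ tw F q := eP_mem 1
  set a := tor D4Data.tab F c * xg g0 14 (1 : F) with ha
  set b := sProd g0 [12, 13, 18] (coord q (1 : F)) * nWd g0 F W with hb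
  refine ⟨a, b, mul_mem hcmem hx, mul_mem hE hn, ?_⟩
  set M := Subgroup.closure ({a, b} : Set (GL D4Data.tab.D.Idx F))
  have hMle : M ≤ tw F q := (Subgroup.closure_le _).2 (by
    simp [Set.insert_subset_iff, a, b, mul_mem hcmem hx, mul_mem hE hn])
  have hfix : ∀ x ∈ M, sigma hq hK x = x := fun x hx => (twisted_fixed hq hK x (hMle hx)).2
  have haM : tor D4Data.tab F c * xg g0 14 (1 : F) ∈ M := Subgroup.subset_closure (Or.inl rfl)
  have hbM : sProd g0 [12, 13, 18] (coord q (1 : F)) * nWd g0 F W ∈ M :=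
    Subgroup.subset_closure (Or.inr rfl)
  obtain ⟨hcM, hxM⟩ := split_torus_root g0 c (by decide +kernel) hL haM
  have hd := orbit_tor_comm gA c hW (R := [12, 13, 18]) (by decide +kernel) _ hcM hbM
  have hdet := fun u v => fixed_orbit_det gA D4Data.symA_ok (psi hq hK) orbit1 (r := 18)
    (by simp) (fun s hs => by
      simp only [List.mem_cons, List.not_mem_nil, or_false] at hs
      rcases hs with rfl | rfl | rfl
      exacts [⟨2, by decide +kernel⟩, ⟨1, by decide +kernel⟩, ⟨0, rfl⟩]) u v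
  have hSfull : OFull g0 (sigma hq hK) M [12, 13, 18] := by
    refine ofull_of_scaling gA (r := 18) (by decide +kernel) hfix c hcM hd hdet ?_
    intro u _ hu
    rw [show D4Data.tab.rw' W.reverse 18 = 17 by decide +kernel]
    simp only [coord, true_or, if_true, mul_one]
    have hne : (1 - (wt D4Data.tab F c 17 : F)) * (1 - (wt D4Data.tab F c 18 : F)) ≠ 0 :=
      mul_ne_zero (sub_ne_zero.2 fun e => hS' (Units.ext e.symm))
        (sub_ne_zero.2 fun e => hS1 (Units.ext e.symm))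
    rw [hS] at hne ⊢
    obtain ⟨j, hj⟩ := hgen (Units.mk0 _ (div_ne_zero hu hne))
    refine ⟨j, ?_⟩
    rw [← Units.val_zpow_eq_zpow_val, hj, Units.val_mk0, div_mul_cancel₀ _ hne]
  have hnM : nWd g0 F W ∈ M := by
    have := mul_mem (inv_mem (hSfull _ ((twisted_fixed hq hK _ hE).2))) hbM
    rwa [inv_mul_cancel_left] at this
  obtain ⟨ε, hε, hconj⟩ := nWd_conj (F := F) g0 hW (show 14 < D4Data.tab.n by decide +kernel)
  have hlong : sProd g0 [23] (fun _ => (ε : F)) ∈ M := by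
    have := mul_mem (mul_mem hnM hxM) (inv_mem hnM)
    rw [(hconj 1).1, show D4Data.tab.rw' W 14 = 23 by decide +kernel, mul_one] at this
    simpa [sProd] using this
  have hLfull : OFull g0 (sigma hq hK) M [23] := by
    refine ofull_of_scaling gA (r := 23) (by decide +kernel) hfix c hcM hlong
      (fun u v _ _ e => by simp [sProd, e]) ?_
    intro u hu h0
    have hq0 : u 23 ^ q = u 23 := by
      simp only [sProd, List.map_cons, List.map_nil, List.prod_cons, List.prod_nil, mul_one] at hu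
      rw [sigma, graphσ_xg g0 _ _ (by decide +kernel), psi_apply,
        show D4Data.symA.π.getD 23 0 = 23 by decide +kernel,
        show D4Data.symA.ζ.getD 23 1 = 1 by decide +kernel, Int.cast_one, one_mul] at hu
      exact xg_injective g0 (show 23 < D4Data.tab.n by decide +kernel) hu
    have he : ((ε : F)) ^ q = ε := by
      have h1 : ((ε : F) - 1) * ((ε : F) + 1) = 0 := by
        have : (ε : F) * ε = 1 := by rw [← Units.val_mul, hε, Units.val_one]
        linear_combination this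
      rcases mul_eq_zero.1 h1 with h | h
      · rw [sub_eq_zero.1 h, one_pow]
      · rw [eq_neg_of_add_eq_zero_left h, neg_one_pow hq hK]
    set v : Fˣ := Units.mk0 (u 23 / (ε : F)) (div_ne_zero h0 ε.ne_zero) with hv
    obtain ⟨i, hi⟩ := Subgroup.mem_zpowers_iff.1 (hθ v)
    have hvq : v ^ q = v := Units.ext (by simp [hv, div_pow, hq0, he])
    rw [← hi, ← zpow_natCast, ← _root_.zpow_mul, zpow_eq_zpow_iff_modEq, Int.modEq_iff_dvd,
      hord] at hvq
    obtain ⟨k, hk⟩ := hvq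
    refine ⟨-k, ?_⟩
    have hik : i = Q * -k := by
      have hne : (q : ℤ) - 1 ≠ 0 := by omega
      apply mul_left_cancel₀ hne
      rw [hQ]
      linear_combination -hk
    have hNv : N ^ (-k) = v := by rw [hN, ← _root_.zpow_mul, ← hik, hi]
    rw [hLong, ← Units.val_zpow_eq_zpow_val, hNv, hv, Units.val_mk0, div_mul_cancel₀ _ ε.ne_zero]
  have hall := ofull_of_der gA (σ := sigma hq hK) (M := M) (Ws := [[1, 0, 2, 3]])
    (fun V hV => by rw [List.mem_singleton.1 hV]; exact ⟨hnM, hfix _ hnM⟩)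
    genSteps [[23], [12, 13, 18]] (fun R hR => by
      simp only [List.mem_cons, List.not_mem_nil, or_false] at hR
      rcases hR with rfl | rfl
      exacts [hLfull, hSfull]) genStepsOK
  unfold tw
  rw [genSubgroup_eq g0, Subgroup.closure_le]
  rintro _ ⟨w, ⟨t, ht, r, hr, rfl⟩ | ⟨t, rs, hrs, rfl⟩, rfl⟩
  · have hw : xg g0 r t ∈ tw F q := mid_mem (by simpa using hr) ht
    have key : sProd g0 [r] (fun _ => t) = xg g0 r t := by simp [sProd]
    have hR : [r] ∈ ([[14], [9], [12, 13, 18], [5, 10, 11]] : List (List ℕ)) := by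
      simp only [List.mem_cons, List.not_mem_nil, or_false] at hr ⊢
      rcases hr with rfl | rfl <;> simp [d4p2, d4m2]
    have := hall _ hR (fun _ => t) (by rw [key]; exact (twisted_fixed hq hK _ hw).2)
    simpa [key] using this
  · simp only [List.mem_cons, List.not_mem_nil, or_false] at hrs
    rcases hrs with rfl | rfl
    · rw [SetLike.mem_coe, ← eP_word]
      exact hall _ (by simp) _ (twisted_fixed hq hK _ (eP_mem t)).2
    · rw [SetLike.mem_coe, ← eN_word]
      exact hall _ (by simp) _ (twisted_fixed hq hK _ (eN_mem t)).2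

end Cfsg.Agent.Chev.TwD4
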