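import Cfsg.Agent.Lib.Lie.TwTwoGen
import Cfsg.Agent.Lib.Lie.TwE6

/-! Two generation of `²E₆(q)`. -/

set_option autoImplicit false
set_option maxRecDepth 20000

namespace Cfsg.Agent.Chev.TwE6

open Cfsg.Lie
open Tab

/-- images under the Coxeter word -/
def genSteps1 : List (List ℕ × List ℕ × List ℕ) :=
  [([1, 3, 2, 4, 0, 5], [51], [65]), ([1, 3, 2, 4, 0, 5], [37, 42], [36, 56]), ([1, 3, 2, 4, 0,
    5], [65], [44]), ([1, 3, 2, 4, 0, 5], [36, 56], [10, 22]), ([1, 3, 2, 4, 0, 5], [44], [63]),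
    ([1, 3, 2, 4, 0, 5], [10, 22], [28, 31]), ([1, 3, 2, 4, 0, 5], [63], [25]), ([1, 3, 2, 4, 0,
    5], [28, 31], [9, 19]), ([1, 3, 2, 4, 0, 5], [25], [32]), ([1, 3, 2, 4, 0, 5], [9, 19], [13,
    30]), ([1, 3, 2, 4, 0, 5], [32], [20]), ([1, 3, 2, 4, 0, 5], [13, 30], [29, 34]), ([1, 3, 2,
    4, 0, 5], [20], [6]), ([1, 3, 2, 4, 0, 5], [29, 34], [15, 35]), ([1, 3, 2, 4, 0, 5], [6],
    [27]), ([1, 3, 2, 4, 0, 5], [15, 35], [49, 61]), ([1, 3, 2, 4, 0, 5], [27], [8]), ([1, 3, 2,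
    4, 0, 5], [49, 61], [40, 43]), ([1, 3, 2, 4, 0, 5], [8], [46]), ([1, 3, 2, 4, 0, 5], [40,
    43], [52, 62]), ([1, 3, 2, 4, 0, 5], [46], [39]), ([1, 3, 2, 4, 0, 5], [52, 62], [41, 58])]

/-- the orbits reached by the first phase -/
def genKnown : List (List ℕ) :=
  [[51], [37, 42], [65], [36, 56], [44], [10, 22], [63], [28, 31], [25], [9, 19], [32], [13,
    30], [20], [29, 34], [6], [15, 35], [27], [49, 61], [8], [40, 43], [46], [52, 62], [39],
    [41, 58]]

/-- images under the Coxeter word and the long simple reflections -/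
def genSteps2 : List (List ℕ × List ℕ × List ℕ) :=
  [([3], [51], [53]), ([1], [63], [60]), ([1], [28, 31], [21, 23]), ([3], [25], [24]), ([1], [9,
    19], [12, 26]), ([3], [9, 19], [7, 17]), ([3], [13, 30], [14, 33]), ([3], [20], [18]), ([1],
    [8], [11]), ([1], [40, 43], [48, 50]), ([3], [46], [47]), ([1], [52, 62], [45, 59]), ([3],
    [52, 62], [54, 64]), ([3], [41, 58], [38, 57]), ([1, 3, 2, 4, 0, 5], [53], [71]), ([1, 3, 2,
    4, 0, 5], [7, 17], [4, 16]), ([1, 3, 2, 4, 0, 5], [18], [0]), ([1, 3, 2, 4, 0, 5], [54, 64],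
    [55, 67]), ([1, 3, 2, 4, 0, 5], [71], [70]), ([1, 3, 2, 4, 0, 5], [4, 16], [3, 5]), ([1, 3,
    2, 4, 0, 5], [0], [1]), ([1, 3, 2, 4, 0, 5], [55, 67], [66, 68]), ([1, 3, 2, 4, 0, 5], [70],
    [69]), ([1, 3, 2, 4, 0, 5], [1], [2])]

theorem genStepsOK1 : E6Data.tab.checkOrbDer [[1, 3, 2, 4, 0, 5]] genKnown genSteps1
    [[51], [37, 42]] = true := by decide +kernel

theorem genStepsOK2 : E6Data.tab.checkOrbDer [[1, 3, 2, 4, 0, 5], [1], [3]]
    [[46], [39], [25], [32], [37, 42], [36, 56], [29, 34], [15, 35]] genSteps2 genKnown = true := by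
  decide +kernel

variable {F : Type*} [Field F]

/-- coordinates of a pair -/
def pairCoord (q i : ℕ) (t : F) (r : ℕ) : F := if r = i then t else t ^ q

theorem sProd_pair {r s : ℕ} (hrs : s ≠ r) (q : ℕ) (t : F)
    (h : Commute (xg g0 r t) (xg g0 s (t ^ q))) :
    sProd g0 [s, r] (pairCoord q r t) = xg g0 r t * xg g0 s (t ^ q) := by
  simp [sProd, pairCoord, hrs, h.eq]

theorem single_mem {σ : GL E6Data.tab.D.Idx F →* GL E6Data.tab.D.Idx F}
    {M : Subgroup (GL E6Data.tab.D.Idx F)} {r : ℕ} (h : OFull g0 σ M [r]) {t : F}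
    (ht : σ (xg g0 r t) = xg g0 r t) : xg g0 r t ∈ M := by
  have key : sProd g0 [r] (fun _ => t) = xg g0 r t := by simp [sProd]
  rw [← key] at ht ⊢
  exact h _ ht

variable [Fintype F] {q : ℕ}

theorem exists_two_generators (hq : IsPrimePow q) (hK : Fintype.card F = q ^ 2) :
    ∃ a b : GL E6Data.tab.D.Idx F, a ∈ tw F q ∧ b ∈ tw F q ∧
      tw F q ≤ Subgroup.closure {a, b} := by
  obtain ⟨θ, hθ⟩ := IsCyclic.exists_generator (α := Fˣ)
  have hq2 : (2 : ℤ) ≤ q := by exact_mod_cast hq.two_le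
  have hord : (orderOf θ : ℤ) = (q : ℤ) ^ 2 - 1 := by
    rw [orderOf_eq_card_of_forall_mem_zpowers hθ, TwField.card_units hK,
      Nat.cast_sub (by rw [← hK]; exact Fintype.card_pos)]
    simp
  have h05 : IsPair 0 5 := Or.inr ⟨rfl, rfl⟩
  have h24 : IsPair 2 4 := Or.inl ⟨rfl, rfl⟩
  set c : ℕ → Fˣ := Pi.mulSingle 0 θ * Pi.mulSingle 5 (θ ^ q) with hc
  have hcmem : tor E6Data.tab F c ∈ tw F q := fix_mem hq hK (single_pair_fix hK h05 θ)
  have hwt : ∀ s, wt E6Data.tab F c s =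
      θ ^ (E6Data.tab.A 0 s + q * E6Data.tab.A 5 s) := by
    intro s
    rw [hc, wt_mul, wt_single g0 (by decide), wt_single g0 (by decide), ← zpow_natCast,
      ← _root_.zpow_mul, ← _root_.zpow_add]
  have hA : ([46, 51, 42, 41].map fun s => [0, 5].map fun i => E6Data.tab.A i s) =
      [[0, 0], [-1, -1], [-1, 0], [0, 1]] := by decide +kernel
  simp only [List.map_cons, List.map_nil, List.cons.injEq, and_true] at hA
  obtain ⟨⟨a0, a5⟩, ⟨b0, b5⟩, ⟨c0, c5⟩, ⟨d0, d5⟩⟩ := hA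
  have hL : wt E6Data.tab F c 46 = 1 := by
    rw [hwt, a0, a5, mul_zero, add_zero, _root_.zpow_zero]
  have hLong : wt E6Data.tab F c 51 = θ ^ (-((q : ℤ) + 1)) := by
    rw [hwt, b0, b5]; congr 1; ring
  have hS : wt E6Data.tab F c 42 = θ⁻¹ := by rw [hwt, c0, c5, mul_zero, add_zero, zpow_neg_one]
  have hS' : wt E6Data.tab F c 41 = θ ^ q := by
    rw [hwt, d0, d5, mul_one, zero_add, zpow_natCast]
  have hθ1 : θ ≠ 1 := fun h => by
    rw [h, orderOf_one] at hord
    have : (2 : ℤ) ^ 2 ≤ (q : ℤ) ^ 2 := pow_le_pow_left₀ (by norm_num) hq2 2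
    norm_num at hord this
    omega
  have hθq : θ ^ q ≠ 1 := fun h => by
    apply hθ1
    have h2 : (θ ^ q) ^ q = θ := Units.ext (by
      simp only [Units.val_pow_eq_pow_val]; exact pow_two_q hK _)
    rw [h, one_pow] at h2
    exact h2.symm
  let W : List ℕ := [1, 3, 2, 4, 0, 5]
  have hW : E6Data.tab.Wd W := checkWd_iff.1 (by decide +kernel)
  have hn : nWd g0 F W ∈ tw F q := by
    rw [show W = wd 0 ++ wd 1 ++ wd 2 ++ wd 3 from rfl, nWd_append, nWd_append, nWd_append]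
    exact mul_mem (mul_mem (mul_mem (n_mem hq hK 0 (by omega)) (n_mem hq hK 1 (by omega)))
      (n_mem hq hK 2 (by omega))) (n_mem hq hK 3 (by omega))
  have es : E6Data.tab.smp 1 = 46 ∧ E6Data.tab.smp 3 = 39 ∧ E6Data.tab.neg 46 = 25 ∧
      E6Data.tab.neg 39 = 32 ∧ E6Data.tab.smp 2 = 42 ∧ E6Data.tab.smp 4 = 37 ∧
      E6Data.tab.smp 0 = 56 ∧ E6Data.tab.smp 5 = 36 ∧ E6Data.tab.neg 42 = 29 ∧
      E6Data.tab.neg 37 = 34 ∧ E6Data.tab.neg 56 = 15 ∧ E6Data.tab.neg 36 = 35 := by decide +kernel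
  obtain ⟨s1, s3, n1, n3, s2, s4, s0, s5, m2, m4, m0, m5⟩ := es
  have hx : xg g0 46 (1 : F) ∈ tw F q := s1 ▸ (mid_mem (Or.inl rfl) (one_pow q)).1
  have hP : ∀ t : F, sProd g0 [37, 42] (pairCoord q 42 t) = eP F q 2 4 t := fun t => by
    rw [sProd_pair (by omega) q t
      (s2 ▸ s4 ▸ pair_commute h24 (xg_node 2 t) (xg_node 4 (t ^ q))), eP, s2, s4]
  have hE : sProd g0 [37, 42] (pairCoord q 42 (1 : F)) ∈ tw F q := hP 1 ▸ eP_mem h24 1
  refine ⟨tor E6Data.tab F c * xg g0 46 (1 : F),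
    sProd g0 [37, 42] (pairCoord q 42 (1 : F)) * nWd g0 F W, mul_mem hcmem hx, mul_mem hE hn, ?_⟩
  set M := Subgroup.closure ({tor E6Data.tab F c * xg g0 46 (1 : F),
    sProd g0 [37, 42] (pairCoord q 42 (1 : F)) * nWd g0 F W} : Set (GL E6Data.tab.D.Idx F))
  have hMle : M ≤ tw F q := (Subgroup.closure_le _).2 (by
    simp [Set.insert_subset_iff, mul_mem hcmem hx, mul_mem hE hn])
  have hfix : ∀ x ∈ M, sigma hq hK x = x := fun x hx => (twisted_fixed hq hK x (hMle hx)).2
  obtain ⟨hcM, hxM⟩ := split_torus_root g0 c (show 46 < E6Data.tab.n by decide +kernel) hL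
    (M := M) (Subgroup.subset_closure (Or.inl rfl))
  have hd := orbit_tor_comm gA c hW (R := [37, 42]) (by decide +kernel) (pairCoord q 42 (1 : F)) hcM
    (Subgroup.subset_closure (Or.inr rfl))
  have horb : E6Data.tab.checkOrbit E6Data.sym [37, 42] = true := by decide +kernel
  have hdet := fun u v => fixed_orbit_det gA E6Data.sym_ok (psi hq hK) horb (r := 42)
    (by simp) (fun s hs => by
      simp only [List.mem_cons, List.not_mem_nil, or_false] at hs
      rcases hs with rfl | rfl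
      exacts [⟨1, by decide +kernel⟩, ⟨0, rfl⟩]) u v
  have hSfull : OFull g0 (sigma hq hK) M [37, 42] := by
    refine ofull_of_scaling gA (r := 42) (by decide +kernel) hfix c hcM hd hdet ?_
    intro u _ hu
    rw [show E6Data.tab.rw' W.reverse 42 = 41 by decide +kernel]
    simp only [pairCoord, if_true, mul_one]
    have hne : (1 - (wt E6Data.tab F c 41 : F)) * (1 - (wt E6Data.tab F c 42 : F)) ≠ 0 :=
      mul_ne_zero (sub_ne_zero.2 fun e => hθq (hS' ▸ Units.ext e.symm))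
        (sub_ne_zero.2 fun e => inv_ne_one.2 hθ1 (hS ▸ Units.ext e.symm))
    rw [hS] at hne ⊢
    obtain ⟨i, hi⟩ := Subgroup.mem_zpowers_iff.1 (hθ (Units.mk0 _ (div_ne_zero hu hne)))
    refine ⟨-i, ?_⟩
    rw [← Units.val_zpow_eq_zpow_val, inv_zpow', _root_.neg_neg, hi, Units.val_mk0,
      div_mul_cancel₀ _ hne]
  have hnM : nWd g0 F W ∈ M := by
    have := mul_mem (inv_mem (hSfull _ ((twisted_fixed hq hK _ hE).2)))
      (show sProd g0 [37, 42] (pairCoord q 42 (1 : F)) * nWd g0 F W ∈ M from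
        Subgroup.subset_closure (Or.inr rfl))
    rwa [inv_mul_cancel_left] at this
  have hW2 : E6Data.tab.Wd (W ++ W) := Wd.append_iff.2 ⟨hW, hW⟩
  obtain ⟨ε, hε, hconj⟩ := nWd_conj (F := F) g0 hW2 (show 46 < E6Data.tab.n by decide +kernel)
  have hlong : sProd g0 [51] (fun _ => (ε : F)) ∈ M := by
    have hnn : nWd g0 F (W ++ W) ∈ M := by rw [nWd_append]; exact mul_mem hnM hnM
    have := mul_mem (mul_mem hnn hxM) (inv_mem hnn)
    rw [(hconj 1).1, show E6Data.tab.rw' (W ++ W) 46 = 51 by decide +kernel, mul_one] at this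
    simpa [sProd] using this
  have hLfull : OFull g0 (sigma hq hK) M [51] := by
    refine ofull_of_scaling gA (r := 51) (by decide +kernel) hfix c hcM hlong
      (fun u v _ _ e => by simp [sProd, e]) ?_
    intro u hu h0
    have hq0 : u 51 ^ q = u 51 := by
      simp only [sProd, List.map_cons, List.map_nil, List.prod_cons, List.prod_nil, mul_one] at hu
      rw [sigma_xg hq hK (by decide +kernel) (by decide +kernel),
        show E6Data.sym.π.getD 51 0 = 51 by decide +kernel] at hu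
      exact xg_injective g0 (show 51 < E6Data.tab.n by decide +kernel) hu
    have he : ((ε : F)) ^ q = ε := by
      have h1 : ((ε : F) - 1) * ((ε : F) + 1) = 0 := by
        have : (ε : F) * ε = 1 := by rw [← Units.val_mul, hε, Units.val_one]
        linear_combination this
      rcases mul_eq_zero.1 h1 with h | h
      · rw [sub_eq_zero.1 h, one_pow]
      · rw [eq_neg_of_add_eq_zero_left h, neg_one_pow hq hK]
    set v : Fˣ := Units.mk0 (u 51 / (ε : F)) (div_ne_zero h0 ε.ne_zero) with hv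
    obtain ⟨i, hi⟩ := Subgroup.mem_zpowers_iff.1 (hθ v)
    have hvq : v ^ q = v := Units.ext (by simp [hv, div_pow, hq0, he])
    rw [← hi, ← zpow_natCast, ← _root_.zpow_mul, zpow_eq_zpow_iff_modEq, Int.modEq_iff_dvd,
      hord] at hvq
    obtain ⟨k, hk⟩ := hvq
    refine ⟨k, ?_⟩
    have hik : i = -((q : ℤ) + 1) * k := by
      have hne : (q : ℤ) - 1 ≠ 0 := by omega
      apply mul_left_cancel₀ hne
      linear_combination -hk
    rw [hLong, ← Units.val_zpow_eq_zpow_val, ← _root_.zpow_mul, ← hik, hi, hv, Units.val_mk0,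
      div_mul_cancel₀ _ ε.ne_zero]
  have hknown := ofull_of_der gA (σ := sigma hq hK) (M := M) (Ws := [[1, 3, 2, 4, 0, 5]])
    (fun V hV => by rw [List.mem_singleton.1 hV]; exact ⟨hnM, hfix _ hnM⟩)
    genSteps1 [[51], [37, 42]] (fun R hR => by
      simp only [List.mem_cons, List.not_mem_nil, or_false] at hR
      rcases hR with rfl | rfl
      exacts [hLfull, hSfull]) genStepsOK1
  have hmid : ∀ i, IsMid i → [E6Data.tab.smp i] ∈ genKnown ∧
      [E6Data.tab.neg (E6Data.tab.smp i)] ∈ genKnown := by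
    rintro i (rfl | rfl) <;> decide +kernel
  have hxmid : ∀ i, IsMid i → ∀ t : F, t ^ q = t → xg g0 (E6Data.tab.smp i) t ∈ M ∧
      xg g0 (E6Data.tab.neg (E6Data.tab.smp i)) t ∈ M := fun i hi t ht =>
    ⟨single_mem (hknown _ (hmid i hi).1) (twisted_fixed hq hK _ (mid_mem hi ht).1).2,
      single_mem (hknown _ (hmid i hi).2) (twisted_fixed hq hK _ (mid_mem hi ht).2).2⟩
  have hnG : ∀ i, IsMid i → nG g0 F i ∈ M := fun i hi =>
    mul_mem (mul_mem (hxmid i hi 1 (one_pow q)).1 (hxmid i hi (-1) (neg_one_pow hq hK)).2)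
      (hxmid i hi 1 (one_pow q)).1
  have hall := ofull_of_der gA (σ := sigma hq hK) (M := M)
    (Ws := [[1, 3, 2, 4, 0, 5], [1], [3]])
    (fun V hV => by
      simp only [List.mem_cons, List.not_mem_nil, or_false] at hV
      rcases hV with rfl | rfl | rfl
      · exact ⟨hnM, hfix _ hnM⟩
      · have := hnG 1 (Or.inl rfl)
        exact ⟨by simpa [nWd] using this, by simpa [nWd] using hfix _ this⟩
      · have := hnG 3 (Or.inr rfl)
        exact ⟨by simpa [nWd] using this, by simpa [nWd] using hfix _ this⟩)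
    genSteps2 genKnown hknown genStepsOK2
  unfold tw
  rw [genSubgroup_eq g0, Subgroup.closure_le]
  have hpairP : ∀ (i j r s : ℕ), IsPair i j → E6Data.tab.smp i = r → E6Data.tab.smp j = s → s ≠ r →
      [s, r] ∈ ([[46], [39], [25], [32], [37, 42], [36, 56], [29, 34], [15, 35]] : List (List ℕ)) →
      ∀ t : F, eP F q i j t ∈ M := by
    intro i j r s hp hr hs hne hmem t
    have key : sProd g0 [s, r] (pairCoord q r t) = eP F q i j t := by
      rw [sProd_pair hne q t (hr ▸ hs ▸ pair_commute hp (xg_node i t) (xg_node j (t ^ q))), eP, hr,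
        hs]
    rw [← key]
    exact hall _ hmem _ (key ▸ (sigma_pair hq hK hp t).1)
  rintro _ ⟨w, ⟨t, ht, r, hr, rfl⟩ | ⟨t, rs, hrs, rfl⟩, rfl⟩
  · simp only [List.map_cons, List.map_nil, List.prod_cons, List.prod_nil, mul_one, SetLike.mem_coe]
    have h1 := hxmid 1 (Or.inl rfl) t ht
    have h3 := hxmid 3 (Or.inr rfl) t ht
    rw [s1, n1] at h1
    rw [s3, n3] at h3
    simp only [List.mem_cons, List.not_mem_nil, or_false] at hr
    rcases hr with rfl | rfl | rfl | rfl
    exacts [h1.1, h1.2, h3.1, h3.2]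
  · simp only [List.map_cons, List.map_nil, List.prod_cons, List.prod_nil, mul_one, SetLike.mem_coe]
    simp only [List.mem_cons, List.not_mem_nil, or_false] at hrs
    rcases hrs with rfl | rfl | rfl | rfl
    · have := hpairP 0 5 56 36 h05 s0 s5 (by omega) (by simp) t
      rwa [eP, s0, s5] at this
    · have key : eN F q 0 5 t = xg g0 15 t * xg g0 35 (t ^ q) := by rw [eN, s0, s5, m0, m5]
      have hfx := (sigma_pair hq hK h05 t).2
      rw [key] at hfx
      have key2 : sProd g0 [15, 35] (pairCoord q 15 t) = xg g0 15 t * xg g0 35 (t ^ q) := by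
        simp [sProd, pairCoord]
      rw [← key2] at hfx
      have := hall _ (by simp) _ hfx
      rwa [key2] at this
    · have := hpairP 2 4 42 37 h24 s2 s4 (by omega) (by simp) t
      rwa [eP, s2, s4] at this
    · have key : eN F q 2 4 t = xg g0 29 t * xg g0 34 (t ^ q) := by rw [eN, s2, s4, m2, m4]
      have hfx := (sigma_pair hq hK h24 t).2
      rw [key] at hfx
      have key2 : sProd g0 [29, 34] (pairCoord q 29 t) = xg g0 29 t * xg g0 34 (t ^ q) := by
        simp [sProd, pairCoord]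
      rw [← key2] at hfx
      have := hall _ (by simp) _ hfx
      rwa [key2] at this

end Cfsg.Agent.Chev.TwE6
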