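import Cfsg.Agent.Lib.Lie.TwTwoGen
import Cfsg.Agent.Lib.Lie.TwF4

/-! Two generation of `²F₄(2^(2m+1))`. -/

set_option autoImplicit false
set_option maxRecDepth 20000

namespace Cfsg.Agent.Chev.TwF4

open Cfsg.Lie
open Tab

variable {F : Type*} [Field F] [CharP F 2]

/-- conjugation by `n⁻¹ h n` -/
theorem conjTor_xg (c : ℕ → Fˣ) {W : List ℕ} (hW : F4Data.tab.Wd W) {s : ℕ}
    (hs : s < F4Data.tab.n) (t : F) :
    ((nWd g0 F W)⁻¹ * tor F4Data.tab F c * nWd g0 F W) * xg g0 s t *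
        ((nWd g0 F W)⁻¹ * tor F4Data.tab F c * nWd g0 F W)⁻¹ =
      xg g0 s ((wt F4Data.tab F c (F4Data.tab.rw' W s) : F) * t) := by
  obtain ⟨ε, hε, hconj⟩ := nWd_conj (F := F) g0 hW hs
  have hεF : (ε : F) * ε = 1 := by rw [← Units.val_mul, hε, Units.val_one]
  set n := nWd g0 F W
  set h := tor F4Data.tab F c
  rw [show n⁻¹ * h * n * xg g0 s t * (n⁻¹ * h * n)⁻¹ = n⁻¹ * (h * (n * xg g0 s t * n⁻¹) * h⁻¹) * n
    by group, (hconj t).1, tor_xg g0 c (rw'_lt g0 hW hs), mul_left_comm, ← (hconj _).1]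
  group

/-- conjugation by `n⁻¹ h n` on a product -/
theorem conjTor_sProd (c : ℕ → Fˣ) {W : List ℕ} (hW : F4Data.tab.Wd W) {R : List ℕ}
    (hR : ∀ r ∈ R, r < F4Data.tab.n) (a : ℕ → F) :
    ((nWd g0 F W)⁻¹ * tor F4Data.tab F c * nWd g0 F W) * sProd g0 R a *
        ((nWd g0 F W)⁻¹ * tor F4Data.tab F c * nWd g0 F W)⁻¹ =
      sProd g0 R fun s => (wt F4Data.tab F c (F4Data.tab.rw' W s) : F) * a s :=
  sProd_conjMap g0 _ id a (fun s => (wt F4Data.tab F c (F4Data.tab.rw' W s) : F) * a s) R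
    fun s hs => conjTor_xg c hW (hR s hs) (a s)

theorem bP_mul_top (A B C D C' D' : F) :
    bP A B C D * bP 0 0 C' D' = bP A B (C + C') (D + D') := by
  have hc : Commute (xg g0 30 D) (xg g0 28 C') :=
    commute_of_commOK gA 2 (by decide +kernel) (by decide +kernel) (by decide +kernel) _ _
  simp only [bP, xg_zero, one_mul]
  rw [show xg g0 25 A * xg g0 27 B * xg g0 28 C * xg g0 30 D * (xg g0 28 C' * xg g0 30 D') =
    xg g0 25 A * xg g0 27 B * xg g0 28 C * (xg g0 30 D * xg g0 28 C') * xg g0 30 D' by group,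
    hc.eq, ← xg_add, ← xg_add]
  group

variable [Fintype F] {m : ℕ}

theorem bP_sq : bP (1 : F) 1 0 1 * bP 1 1 0 1 = bP 0 0 1 1 := by
  have h : ∀ r : ℕ, xg g0 r (1 : F) * xg g0 r 1 = 1 := fun r => by
    rw [xg_add, CharTwo.add_self_eq_zero, xg_zero]
  have c1 : Commute (xg g0 30 (1 : F)) (xg g0 25 1) :=
    comm2 (by decide +kernel) (by decide +kernel) (by decide +kernel) _ _
  have c2 : Commute (xg g0 30 (1 : F)) (xg g0 27 1) :=
    comm2 (by decide +kernel) (by decide +kernel) (by decide +kernel) _ _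
  have c3 : Commute (xg g0 28 (1 : F)) (xg g0 27 1) :=
    comm2 (by decide +kernel) (by decide +kernel) (by decide +kernel) _ _
  have e : xg g0 27 (1 : F) * xg g0 25 1 =
      xg g0 25 1 * xg g0 27 1 * (xg g0 28 1 * xg g0 30 1) := by
    simpa using swap25 (1 : F) 1
  simp only [bP, xg_zero, one_mul, mul_one]
  calc xg g0 25 (1 : F) * xg g0 27 1 * xg g0 30 1 * (xg g0 25 1 * xg g0 27 1 * xg g0 30 1)
      = xg g0 25 1 * xg g0 27 1 * (xg g0 30 1 * xg g0 25 1) * xg g0 27 1 * xg g0 30 1 := by group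
    _ = xg g0 25 1 * (xg g0 27 1 * xg g0 25 1) * (xg g0 30 1 * xg g0 27 1) * xg g0 30 1 := by
        rw [c1.eq]; group
    _ = xg g0 25 1 * (xg g0 25 1 * xg g0 27 1 * (xg g0 28 1 * xg g0 30 1)) *
          (xg g0 27 1 * xg g0 30 1) * xg g0 30 1 := by rw [e, c2.eq]
    _ = (xg g0 25 1 * xg g0 25 1) * xg g0 27 1 * xg g0 28 1 * (xg g0 30 1 * xg g0 27 1) *
          (xg g0 30 1 * xg g0 30 1) := by group
    _ = xg g0 27 1 * (xg g0 28 1 * xg g0 27 1) * xg g0 30 1 := by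
        rw [h, h, c2.eq]; group
    _ = (xg g0 27 1 * xg g0 27 1) * xg g0 28 1 * xg g0 30 1 := by rw [c3.eq]; group
    _ = _ := by rw [h, one_mul]

theorem bP_four : bP (1 : F) 1 0 1 ^ 4 = 1 := by
  rw [show 4 = 2 + 2 from rfl, pow_add, pow_two, bP_sq, bP_mul_top,
    CharTwo.add_self_eq_zero]
  simp [bP, xg_zero]

theorem xg_conj_pos {W : List ℕ} (hW : F4Data.tab.Wd W) {r s : ℕ} (hr : r < F4Data.tab.n)
    (h : F4Data.tab.rw' W r = s) (t : F) :
    nWd g0 F W * xg g0 r t * (nWd g0 F W)⁻¹ = xg g0 s t := by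
  obtain ⟨ε, hε, hc⟩ := nWd_conj (F := F) g0 hW hr
  have e1 : (ε : F) = 1 := by
    have : (ε : F) * ε = 1 := by rw [← Units.val_mul, hε, Units.val_one]
    rcases mul_self_eq_one_iff.1 this with h | h <;> simp [h, CharTwo.neg_eq]
  rw [(hc t).1, e1, one_mul, h]

theorem exists_two_generators (hm : 1 ≤ m) (hK : Fintype.card F = 2 ^ (2 * m + 1)) :
    ∃ a b : GL F4Data.tab.D.Idx F, a ∈ tw F (2 ^ m) ∧ b ∈ tw F (2 ^ m) ∧
      tw F (2 ^ m) ≤ Subgroup.closure {a, b} := by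
  classical
  obtain ⟨θ, hθ⟩ := IsCyclic.exists_generator (α := Fˣ)
  set e : ℤ := ((2 ^ m : ℕ) : ℤ) with he
  have he2 : (2 : ℤ) ≤ e := by
    rw [he]
    exact_mod_cast (calc (2 : ℕ) = 2 ^ 1 := rfl
      _ ≤ 2 ^ m := Nat.pow_le_pow_right two_pos hm)
  have hord : (orderOf θ : ℤ) = 2 * e ^ 2 - 1 := by
    rw [orderOf_eq_card_of_forall_mem_zpowers hθ,
      TwField.card_units (q := 2 ^ (2 * m + 1)) (k := 1) (by rw [hK, pow_one]), pow_one,
      Nat.cast_sub Nat.one_le_two_pow, he]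
    push_cast
    ring
  have hgen : ∀ k : ℤ, IsCoprime k (2 * e ^ 2 - 1) → ∀ x : Fˣ, ∃ j : ℤ, (θ ^ k) ^ j = x := by
    rintro k ⟨a, b, hab⟩ x
    obtain ⟨i, rfl⟩ := Subgroup.mem_zpowers_iff.1 (hθ x)
    refine ⟨a * i, ?_⟩
    rw [← _root_.zpow_mul, zpow_eq_zpow_iff_modEq, Int.modEq_iff_dvd, hord]
    exact ⟨b * i, by linear_combination -i * hab⟩
  have hne1 : ∀ k : ℤ, IsCoprime k (2 * e ^ 2 - 1) → θ ^ k ≠ 1 := by
    intro k hk h
    obtain ⟨j, hj⟩ := hgen k hk θ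
    rw [h, one_zpow] at hj
    rw [orderOf_eq_one_iff.2 hj.symm] at hord
    simp only [Nat.cast_one] at hord
    have h4 : (2 : ℤ) ^ 2 ≤ e ^ 2 := pow_le_pow_left₀ (by norm_num) he2 2
    norm_num at h4
    omega
  set c : ℕ → Fˣ := par m (θ ^ (2 - 2 * e), θ) with hc
  have hcmem : tor F4Data.tab F c ∈ tw F (2 ^ m) := par_mem hK _
  have hwt : ∀ s, wt F4Data.tab F c s = θ ^ ((2 - 2 * e) * e * F4Data.tab.A 0 s +
      e * F4Data.tab.A 1 s + F4Data.tab.A 2 s + (2 - 2 * e) * F4Data.tab.A 3 s) := by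
    intro s
    simp only [wt, show F4Data.tab.l = 4 from rfl, Finset.prod_range_succ, Finset.prod_range_zero,
      one_mul, hc, par, ← zpow_natCast, ← _root_.zpow_mul, ← _root_.zpow_add, ← he]
  have hA : ([25, 27, 28, 30, 24, 15, 21, 11].map fun s =>
      (List.range 4).map fun i => F4Data.tab.A i s) =
      [[0, -2, 2, -1], [-1, 2, -1, 0], [-1, 0, 1, -1], [-2, 2, 0, -1], [0, 0, -1, 2], [2, 0, -1, 0],
        [0, 2, -1, -1], [-1, 1, 0, -1]] := by decide +kernel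
  simp only [List.range_succ, List.range_zero, List.nil_append, List.cons_append, List.map_cons,
    List.map_nil, List.cons.injEq, and_true] at hA
  obtain ⟨⟨a0, a1, a2, a3⟩, ⟨b0, b1, b2, b3⟩, ⟨c0, c1, c2, c3⟩, ⟨d0, d1, d2, d3⟩,
    ⟨e0, e1, e2, e3⟩, ⟨f0, f1, f2, f3⟩, ⟨g'0, g'1, g'2, g'3⟩, ⟨h0, h1, h2, h3⟩⟩ := hA
  have hred : ∀ k l : ℤ, (2 * e ^ 2 - 1) ∣ l - k → θ ^ k = θ ^ l := fun k l h => by
    rw [zpow_eq_zpow_iff_modEq, Int.modEq_iff_dvd, hord]; exact h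
  have hz : ∀ s ∈ [25, 27, 28, 30], wt F4Data.tab F c s = 1 := by
    intro s hs
    rw [hwt, ← zpow_zero θ]
    apply hred
    simp only [List.mem_cons, List.not_mem_nil, or_false] at hs
    rcases hs with rfl | rfl | rfl | rfl
    · rw [a0, a1, a2, a3]; exact ⟨0, by ring⟩
    · rw [b0, b1, b2, b3]; exact ⟨-1, by ring⟩
    · rw [c0, c1, c2, c3]; exact ⟨-1, by ring⟩
    · rw [d0, d1, d2, d3]; exact ⟨-2, by ring⟩
  let W : List ℕ := [0, 3, 1, 2, 1, 2]
  have hW : F4Data.tab.Wd W := checkWd_iff.1 (by decide +kernel)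
  have hn : nWd g0 F W ∈ tw F (2 ^ m) := by
    rw [show W = wd 0 ++ wd 1 from rfl, nWd_append]
    exact mul_mem (n_mem 0 (by omega)) (n_mem 1 (by omega))
  have hU : ∀ t u : F, bP t (t ^ 2 ^ m) u (t * (t ^ 2 ^ m) ^ 2 + u ^ (2 * 2 ^ m)) ∈ tw F (2 ^ m) :=
    fun t u => by rw [← bU_word]; exact (bU_mem t u).2
  set z : GL F4Data.tab.D.Idx F := bP 1 1 0 1 with hzdef
  have hzmem : z ∈ tw F (2 ^ m) := by simpa [z, zero_pow] using hU 1 0
  have hE : eP m (1 : F) ∈ tw F (2 ^ m) := (eP_mem 1).2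
  refine ⟨tor F4Data.tab F c * z, eP m 1 * nWd g0 F W, mul_mem hcmem hzmem, mul_mem hE hn, ?_⟩
  set M := Subgroup.closure ({tor F4Data.tab F c * z, eP m 1 * nWd g0 F W} :
    Set (GL F4Data.tab.D.Idx F))
  have hMle : M ≤ tw F (2 ^ m) := (Subgroup.closure_le _).2 (by
    simp [Set.insert_subset_iff, mul_mem hcmem hzmem, mul_mem hE hn])
  have hfix : ∀ x ∈ M, sigma m x = x := fun x hx => (twisted_fixed hK x (hMle hx)).2
  have hR1 : ∀ r ∈ [25, 27, 28, 30], r < F4Data.tab.n := by decide +kernel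
  have hcom : Commute (tor F4Data.tab F c) z := by
    have h := tor_conj_sProd g0 c (crd (1 : F) 1 0 1) hR1
    rw [show (sProd g0 [25, 27, 28, 30] fun r => (wt F4Data.tab F c r : F) * crd (1 : F) 1 0 1 r) =
      sProd g0 [25, 27, 28, 30] (crd (1 : F) 1 0 1) from
        sProd_congr g0 fun r hr => by rw [hz r hr, Units.val_one, one_mul],
      ← bP_eq, mul_inv_eq_iff_eq_mul] at h
    exact h
  have ha : tor F4Data.tab F c * z ∈ M := Subgroup.subset_closure (Or.inl rfl)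
  have hzM : z ∈ M := by
    have h := pow_mem ha (Fintype.card Fˣ)
    have hc1 : c ^ Fintype.card Fˣ = 1 := funext fun j => by simp [pow_card_eq_one]
    have hq4 : ∃ k, 2 ^ (2 * m + 1) - 1 = 4 * k + 3 := by
      obtain ⟨k, rfl⟩ : ∃ k, m = k + 1 := ⟨m - 1, by omega⟩
      refine ⟨2 * 2 ^ (2 * k) - 1, ?_⟩
      have : 2 ^ (2 * (k + 1) + 1) = 8 * 2 ^ (2 * k) := by ring
      have := Nat.one_le_two_pow (n := 2 * k)
      omega
    obtain ⟨k, hk⟩ := hq4
    rw [hcom.mul_pow, ← map_pow, hc1, map_one, one_mul, Fintype.card_units, hK, hk, pow_add,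
      pow_mul, bP_four, one_pow, one_mul] at h
    have : z = (z ^ 3)⁻¹ := eq_inv_of_mul_eq_one_left (by rw [← pow_succ']; exact bP_four)
    rw [this]
    exact inv_mem h
  have hcM : tor F4Data.tab F c ∈ M := by
    have := mul_mem ha (inv_mem hzM)
    rwa [mul_inv_cancel_right] at this
  -- the orbit of type `A₁ × A₁`
  have hP : ∀ r ∈ [24, 33], r ∈ {r | F4Data.tab.N ≤ r ∧ r < F4Data.tab.n ∧
      F4Data.tab.rw' (wd 0) r < F4Data.tab.N} := by
    show ∀ r ∈ [24, 33], _ ∧ _ ∧ _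
    decide +kernel
  have hrep : ∀ a : ℕ → F, sProd g0 [24, 33] a ∈ M → sProd g0 [24, 33] a = eP m (a 24) := by
    intro a ha'
    obtain ⟨t, ht⟩ := fixed0 hK (sProd_mem g0 hP a) (hfix _ ha')
    rw [← eP_word] at ht
    have hs : ∀ r ∈ ([24, 33] : List ℕ), F4Data.tab.N ≤ r ∧ r < F4Data.tab.n := by decide +kernel
    have := sProd_unique g0 (by decide : ([24, 33] : List ℕ).Pairwise (· < ·)) hs ht 24 (by simp)
    simp only [if_true] at this
    rw [ht, this]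
  have hd := orbit_tor_comm gA c hW (R := [24, 33]) (by decide +kernel) _ hcM
    (show eP m (1 : F) * nWd g0 F W ∈ M from Subgroup.subset_closure (Or.inr rfl))
  have co1 : IsCoprime (3 - 4 * e) (2 * e ^ 2 - 1) := ⟨4 * e + 3, 8, by ring⟩
  have hw24 : wt F4Data.tab F c 24 = θ ^ (3 - 4 * e) := by
    rw [hwt, e0, e1, e2, e3]; congr 1; ring
  have hw15 : wt F4Data.tab F c 15 = θ ^ (4 * e - 3) := by
    rw [hwt, f0, f1, f2, f3]; apply hred; exact ⟨2, by ring⟩
  have hEP : ∀ t : F, eP m t ∈ M := by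
    intro t
    by_cases ht : t = 0
    · subst ht
      simp [eP, sProd, xg_zero, zero_pow]
    have hne : (1 - (wt F4Data.tab F c 15 : F)) * (1 - (wt F4Data.tab F c 24 : F)) ≠ 0 := by
      refine mul_ne_zero (sub_ne_zero.2 fun e' => hne1 (4 * e - 3) ?_ (hw15 ▸ Units.ext e'.symm))
        (sub_ne_zero.2 fun e' => hne1 _ co1 (hw24 ▸ Units.ext e'.symm))
      exact ⟨-(4 * e + 3), 8, by ring⟩
    obtain ⟨j, hj⟩ := hgen _ co1 (Units.mk0 _ (div_ne_zero ht hne))
    have h1 := mul_mem (mul_mem (zpow_mem hcM j) hd) (inv_mem (zpow_mem hcM j))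
    have hR : ∀ r ∈ [24, 33], r < F4Data.tab.n := by decide +kernel
    rw [← map_zpow, tor_conj_sProd g0 _ _ hR] at h1
    have hwj : wt F4Data.tab F (c ^ j) 24 = wt F4Data.tab F c 24 ^ j := by
      rw [wt, wt, ← Finset.prod_zpow]
      exact Finset.prod_congr rfl fun k _ => by
        rw [Pi.pow_apply, ← _root_.zpow_mul, ← _root_.zpow_mul, mul_comm]
    rw [hrep _ h1] at h1
    rw [hwj, hw24, hj, show F4Data.tab.rw' W.reverse 24 = 15 by decide +kernel, ← hw24] at h1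
    simp only [Units.val_mk0, if_true, mul_one, div_mul_cancel₀ _ hne] at h1
    exact h1
  have hnM : nWd g0 F W ∈ M := by
    have := mul_mem (inv_mem (hEP 1))
      (show eP m (1 : F) * nWd g0 F W ∈ M from Subgroup.subset_closure (Or.inr rfl))
    rwa [inv_mul_cancel_left] at this
  -- the orbit of type `B₂`
  set y := (nWd g0 F W)⁻¹ * tor F4Data.tab F c * nWd g0 F W with hy
  have hyM : y ∈ M := mul_mem (mul_mem (inv_mem hnM) hcM) hnM
  have hrw : F4Data.tab.rw' W 25 = 21 ∧ F4Data.tab.rw' W 28 = 11 := by decide +kernel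
  have hconjy : ∀ (j : ℤ) (A B C D : F), bP A B C D ∈ M → ∃ B' D', bP
      (((wt F4Data.tab F c 21 ^ j : Fˣ) : F) * A) B'
      (((wt F4Data.tab F c 11 ^ j : Fˣ) : F) * C) D' ∈ M := by
    intro j A B C D h
    have h1 := mul_mem (mul_mem (zpow_mem hyM j) h) (inv_mem (zpow_mem hyM j))
    have hyj : y ^ j = (nWd g0 F W)⁻¹ * tor F4Data.tab F (c ^ j) * nWd g0 F W := by
      rw [hy, map_zpow]
      conv_lhs => rw [show (nWd g0 F W)⁻¹ * tor F4Data.tab F c * nWd g0 F W =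
        (nWd g0 F W)⁻¹ * tor F4Data.tab F c * ((nWd g0 F W)⁻¹)⁻¹ by rw [inv_inv], conj_zpow,
        inv_inv]
    have hwj : ∀ s, wt F4Data.tab F (c ^ j) s = wt F4Data.tab F c s ^ j := fun s => by
      rw [wt, wt, ← Finset.prod_zpow]
      exact Finset.prod_congr rfl fun k _ => by
        rw [Pi.pow_apply, ← _root_.zpow_mul, ← _root_.zpow_mul, mul_comm]
    rw [hyj, bP_eq, conjTor_sProd _ hW hR1, sProd_bP] at h1
    simp only [hwj, hrw.1, hrw.2] at h1
    simp [crd] at h1 ⊢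
    exact ⟨_, _, h1⟩
  have hform : ∀ A B C D : F, bP A B C D ∈ M → bP A B C D =
      bP A (A ^ 2 ^ m) C (A * (A ^ 2 ^ m) ^ 2 + C ^ (2 * 2 ^ m)) := fun A B C D h => by
    obtain ⟨rfl, rfl⟩ := (sigma_bP_iff hK A B C D).1 (hfix _ h)
    rfl
  have co2 : IsCoprime (4 * e - 3) (2 * e ^ 2 - 1) := ⟨-(4 * e + 3), 8, by ring⟩
  have hw21 : wt F4Data.tab F c 21 = θ ^ (4 * e - 3) := by
    rw [hwt, g'0, g'1, g'2, g'3]; congr 1; ring
  have co3 : IsCoprime ((4 * e - 3) * (e + 1)) (2 * e ^ 2 - 1) :=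
    co2.mul_left ⟨2 - 2 * e, 1, by ring⟩
  have hw11 : wt F4Data.tab F c 11 = θ ^ ((4 * e - 3) * (e + 1)) := by
    rw [hwt, h0, h1, h2, h3]; apply hred; exact ⟨1, by ring⟩
  have hT : ∀ t : F, bP t (t ^ 2 ^ m) 0 (t * (t ^ 2 ^ m) ^ 2) ∈ M := by
    intro t
    by_cases ht : t = 0
    · subst ht
      simp [bP, xg_zero, zero_pow]
    obtain ⟨j, hj⟩ := hgen _ co2 (Units.mk0 t ht)
    obtain ⟨B', D', h⟩ := hconjy j 1 1 0 1 hzM
    rw [hw21, hj, Units.val_mk0, mul_one, mul_zero] at h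
    rw [hform _ _ _ _ h, zero_pow (by positivity), add_zero] at h
    exact h
  have hC : ∀ u : F, bP 0 0 u (u ^ (2 * 2 ^ m)) ∈ M := by
    intro u
    by_cases hu : u = 0
    · subst hu
      simp [bP, xg_zero, zero_pow]
    obtain ⟨j, hj⟩ := hgen _ co3 (Units.mk0 u hu)
    obtain ⟨B', D', h⟩ := hconjy j 0 0 1 1 (bP_sq (F := F) ▸ mul_mem hzM hzM)
    rw [hw11, hj, Units.val_mk0, mul_one, mul_zero] at h
    rw [hform _ _ _ _ h, zero_pow (by positivity), zero_mul, zero_add] at h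
    exact h
  have hBU : ∀ t u : F, bP t (t ^ 2 ^ m) u (t * (t ^ 2 ^ m) ^ 2 + u ^ (2 * 2 ^ m)) ∈ M :=
    fun t u => by
      have := mul_mem (hT t) (hC u)
      rwa [bP_mul_top, zero_add] at this
  -- the negative orbits
  have hW4 : F4Data.tab.Wd (List.replicate 4 W).flatten := wd_replicate hW 4
  have hn4 : nWd g0 F (List.replicate 4 W).flatten ∈ M := by
    rw [nWd_replicate]; exact pow_mem hnM 4
  have hneg : ∀ r s : ℕ, r < F4Data.tab.n →
      F4Data.tab.rw' (List.replicate 4 W).flatten r = s → ∀ t : F,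
      nWd g0 F (List.replicate 4 W).flatten * xg g0 r t *
        (nWd g0 F (List.replicate 4 W).flatten)⁻¹ = xg g0 s t := fun r s hr h t =>
    xg_conj_pos hW4 hr h t
  unfold tw
  rw [genSubgroup_eq g0, Subgroup.closure_le]
  rintro _ ⟨w, ⟨t, rfl | rfl⟩ | ⟨t, u, rfl | rfl⟩, rfl⟩
  · have := hEP t
    rw [eP_word] at this
    simpa [f4PairWord, f4p1, f4p4] using this
  · have := mul_mem (mul_mem hn4 (hEP t)) (inv_mem hn4)
    rw [eP_word, ← MulAut.conj_apply, map_mul, MulAut.conj_apply, MulAut.conj_apply,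
      hneg 33 14 (by decide +kernel) (by decide +kernel),
      hneg 24 23 (by decide +kernel) (by decide +kernel)] at this
    simpa [f4PairWord, f4m1, f4m4] using this
  · rw [SetLike.mem_coe, bU_word]
    exact hBU t u
  · have h := hBU t u
    rw [← bU_word] at h
    have := mul_mem (mul_mem hn4 h) (inv_mem hn4)
    simp only [b2ClassWord, f4a, f4b, f4ab, f4aab, List.map_cons, List.map_nil, List.prod_cons,
      List.prod_nil, mul_one] at this
    rw [← MulAut.conj_apply, map_mul, map_mul, map_mul, MulAut.conj_apply, MulAut.conj_apply,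
      MulAut.conj_apply, MulAut.conj_apply, hneg 27 20 (by decide +kernel) (by decide +kernel),
      hneg 25 22 (by decide +kernel) (by decide +kernel),
      hneg 28 19 (by decide +kernel) (by decide +kernel),
      hneg 30 17 (by decide +kernel) (by decide +kernel)] at this
    simpa [b2ClassWord, f4ma, f4mb, f4mab, f4maab] using this

end Cfsg.Agent.Chev.TwF4
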