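import Cfsg.Agent.Lib.Lie.InvCell
import Cfsg.Agent.Lib.Lie.TwBN

/-!
# Involutions of a twisted group in characteristic two

An involution of the twisted group is conjugate inside it to `n_w`, where `w² = 1` commutes with `π`
and sends each orbit system of nodes to itself or to negative roots.
-/

set_option autoImplicit false

namespace Cfsg.Agent.Chev

open Cfsg.Lie
open Matrix hiding zpow_mul inv_zpow mul_inv_rev zpow_add zpow_neg

namespace Tab

namespace Twist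

open BTi InvC

variable {T : Tab} {K : List (List ℕ)} {F : Type*} [Field F] {g : T.GoodK K} (X : Twist g F)

/-- the lifts are the products of the `n_p` -/
def Plain : Prop := ∀ b < X.nb, X.n b = nWd g.toGood F (X.w b)

/-- the word of a list of orbits -/
abbrev flatB (Ls : List ℕ) : List ℕ := flatW X.w Ls

theorem w_sq (hB : X.Blocks) {b : ℕ} (hb : b < X.nb) {s : ℕ} (hs : s < T.n) :
    T.rw' (X.w b) (T.rw' (X.w b) s) = s := by
  have h := (pL_eq_iff g.toGood (Wd.append_iff.2 ⟨X.w_wd hb, X.w_wd hb⟩) (by simp [Wd])).1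
    ((hB.sq b hb).trans (pL_nil g.toGood).symm) s hs
  rwa [rw'_append] at h

theorem w_rev (hB : X.Blocks) {b : ℕ} (hb : b < X.nb) {s : ℕ} (hs : s < T.n) :
    T.rw' (X.w b).reverse s = T.rw' (X.w b) s := by
  conv_lhs => rw [← X.w_sq hB hb hs]
  rw [rw'_rev g.toGood (X.w_wd hb) (rw'_lt g.toGood (X.w_wd hb) hs)]

theorem mem_blk_iff {b : ℕ} {s : ℕ} :
    s ∈ T.invSet (X.w b) ↔ (T.N ≤ s ∧ s < T.n) ∧ T.rw' (X.w b) s < T.N := by
  simp [invSet]

theorem blk_neg (hB : X.Blocks) {b : ℕ} (hb : b < X.nb) {s : ℕ} (hs : s ∈ T.invSet (X.w b)) :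
    T.neg (T.rw' (X.w b) s) ∈ T.invSet (X.w b) := by
  obtain ⟨⟨h1, h2⟩, h3⟩ := X.mem_blk_iff.1 hs
  have hv := rw'_lt g.toGood (X.w_wd hb) h2
  refine X.mem_blk_iff.2 ⟨⟨(N_le_neg_iff hv).2 h3, neg_lt hv⟩, ?_⟩
  rw [rw'_neg g.toGood (X.w_wd hb) hv, X.w_sq hB hb h2]
  exact (neg_lt_N_iff h2).2 h1

theorem out_blk_pos {b : ℕ} {s : ℕ} (h1 : T.N ≤ s) (h2 : s < T.n) (h : s ∉ T.invSet (X.w b)) :
    T.N ≤ T.rw' (X.w b) s :=
  not_lt.1 fun hh => h (X.mem_blk_iff.2 ⟨⟨h1, h2⟩, hh⟩)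

theorem out_blk (hB : X.Blocks) {b : ℕ} (hb : b < X.nb) {s : ℕ} (h1 : T.N ≤ s) (h2 : s < T.n)
    (h : s ∉ T.invSet (X.w b)) : T.rw' (X.w b) s ∉ T.invSet (X.w b) := fun hh => by
  have h3 := (X.mem_blk_iff.1 hh).2
  rw [X.w_sq hB hb h2] at h3
  omega

theorem blk_π {b : ℕ} (hb : b < X.nb) {s : ℕ} (hs : s < T.n) :
    X.π s ∈ T.invSet (X.w b) ↔ s ∈ T.invSet (X.w b) := by
  rw [X.mem_blk_iff, X.mem_blk_iff, X.w_comm hb s hs]
  have h1 := X.π_pos s hs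
  have h2 := X.π_pos _ (rw'_lt g.toGood (X.w_wd hb) hs)
  constructor
  · rintro ⟨⟨a, -⟩, c⟩
    exact ⟨⟨h1.1 a, hs⟩, not_le.1 fun h => absurd (h2.2 h) (not_le.2 c)⟩
  · rintro ⟨⟨a, -⟩, c⟩
    exact ⟨⟨h1.2 a, X.π_lt s hs⟩, not_le.1 fun h => absurd (h2.1 h) (not_le.2 c)⟩

theorem smp_mem_blk {b : ℕ} (hb : b < X.nb) {j : ℕ} (hj : j ∈ X.J b) :
    T.smp j ∈ T.invSet (X.w b) := by
  have hjl := X.J_lt b hb j hj
  exact (X.mem_invSet_w hb).2 ⟨g.toGood.smp_ge hjl, g.toGood.smp_lt hjl, smp_mem_inJ g.toGood hjl hj⟩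

/-! ### Growing inversion sets -/

theorem grow_right (hB : X.Blocks) {b : ℕ} (hb : b < X.nb) {A : List ℕ} (hA : T.Wd A)
    (hpos : ∀ r ∈ T.invSet (X.w b), T.N ≤ T.rw' A r) :
    (T.invSet A).card < (T.invSet (A ++ X.w b)).card := by
  have hg := g.toGood
  have hw := X.w_wd hb
  have hnot : ∀ s ∈ T.invSet A, s ∉ T.invSet (X.w b) := fun s hs h => by
    simp only [invSet, Finset.mem_filter] at hs
    have := hpos s h
    omega
  refine lt_of_eq_of_lt (Finset.card_image_of_injOn (f := T.rw' (X.w b)) fun s hs s' hs' e => ?_).symm ?_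
  · simp only [invSet, Finset.coe_filter, Finset.mem_Ico, Set.mem_ofPred_eq] at hs hs'
    have := congrArg (T.rw' (X.w b)) e
    rwa [X.w_sq hB hb hs.1.2, X.w_sq hB hb hs'.1.2] at this
  refine Finset.card_lt_card ((Finset.ssubset_iff_of_subset ?_).2 ?_)
  · intro x hx
    obtain ⟨s, hs, rfl⟩ := Finset.mem_image.1 hx
    have h := hnot s hs
    simp only [invSet, Finset.mem_filter, Finset.mem_Ico] at hs ⊢
    obtain ⟨⟨h1, h2⟩, h3⟩ := hs
    refine ⟨⟨X.out_blk_pos h1 h2 h, rw'_lt hg hw h2⟩, ?_⟩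
    rwa [rw'_append, X.w_sq hB hb h2]
  · obtain ⟨r, hr⟩ := hB.pos b hb
    obtain ⟨⟨h1, h2⟩, h3⟩ := X.mem_blk_iff.1 hr
    refine ⟨r, ?_, fun hx => ?_⟩
    · simp only [invSet, Finset.mem_filter, Finset.mem_Ico]
      refine ⟨⟨h1, h2⟩, ?_⟩
      have hv := rw'_lt hg hw h2
      have := hpos _ (X.blk_neg hB hb hr)
      rw [rw'_neg hg hA hv] at this
      rw [rw'_append]
      exact (N_le_neg_iff (rw'_lt hg hA hv)).1 this
    · obtain ⟨s, hs, rfl⟩ := Finset.mem_image.1 hx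
      have hns := hnot s hs
      simp only [invSet, Finset.mem_filter, Finset.mem_Ico] at hs
      exact X.out_blk hB hb hs.1.1 hs.1.2 hns hr

theorem grow_left (hB : X.Blocks) {b : ℕ} (hb : b < X.nb) {L : List ℕ} (hL : T.Wd L)
    (hnot : ∀ s ∈ T.invSet L, T.neg (T.rw' L s) ∉ T.invSet (X.w b))
    {r : ℕ} (hr : T.N ≤ r ∧ r < T.n) (hrL : T.rw' L r ∈ T.invSet (X.w b)) :
    (T.invSet L).card < (T.invSet (X.w b ++ L)).card := by
  have hg := g.toGood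
  have hw := X.w_wd hb
  refine Finset.card_lt_card ((Finset.ssubset_iff_of_subset ?_).2 ⟨r, ?_, ?_⟩)
  · intro s hs
    have h := hnot s hs
    simp only [invSet, Finset.mem_filter, Finset.mem_Ico] at hs ⊢
    obtain ⟨⟨h1, h2⟩, h3⟩ := hs
    refine ⟨⟨h1, h2⟩, ?_⟩
    have hv := rw'_lt hg hL h2
    have hh := X.out_blk_pos ((N_le_neg_iff hv).2 h3) (neg_lt hv) h
    rw [rw'_neg hg hw hv] at hh
    rw [rw'_append]
    exact (N_le_neg_iff (rw'_lt hg hw hv)).1 hh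
  · simp only [invSet, Finset.mem_filter, Finset.mem_Ico]
    rw [rw'_append]
    exact ⟨hr, (X.mem_blk_iff.1 hrL).2⟩
  · simp only [invSet, Finset.mem_filter, not_and, not_lt]
    exact fun _ => (X.mem_blk_iff.1 hrL).1.1

/-! ### The two kinds of orbits -/

/-- the orbit system is mapped to itself -/
def Fx (L : List ℕ) (b : ℕ) : Prop := ∀ j ∈ X.J b, T.rw' L (T.smp j) ∈ T.invSet (X.w b)

/-- each orbit system is mapped to itself or to negative roots -/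
def Bal2 (L : List ℕ) : Prop :=
  ∀ b < X.nb, X.Fx L b ∨ ∀ j ∈ X.J b, T.rw' L (T.smp j) < T.N

/-- the nodes of the orbits mapped to themselves -/
def fixI (L : List ℕ) : Set ℕ := {i | ∃ b < X.nb, X.Fx L b ∧ i ∈ X.J b}

theorem fixI_lt {L : List ℕ} {i : ℕ} (h : i ∈ X.fixI L) : i < T.l := by
  obtain ⟨b, hb, -, hj⟩ := h
  exact X.J_lt b hb i hj

/-- a word mapping the fundamental roots of `J` into `Φ_J^+` maps `Φ_J^+` into itself -/
theorem inP_image (g : T.GoodK K) {J : Set ℕ} {L : List ℕ} (hL : T.Wd L)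
    (h : ∀ i < T.l, i ∈ J → T.rw' L (T.smp i) ∈ inP T J) {r : ℕ} (hr : r ∈ inP T J) :
    T.rw' L r ∈ inP T J := by
  have hg := g.toGood
  have hlev : ∀ i < T.l, 0 < (T.lev K J (T.smp i) : ℝ) ∨
      (i ∈ J ∧ (T.lev K J (T.smp i) : ℝ) = 0) := fun i hi => by
    by_cases hiJ : i ∈ J
    · exact Or.inr ⟨hiJ, by rw [lev_inJ g (smp_mem_inJ hg hi hiJ)]; norm_num⟩
    · have h := lev_outJ g (J := J) (r := T.smp i) ⟨hg.smp_ge hi, hg.smp_lt hi, i, hi, hiJ,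
        by rw [c_smp hg hi hi, if_pos rfl]; exact one_ne_zero⟩
      exact Or.inl (by exact_mod_cast h)
  have hr0 : (T.lev K J r : ℝ) = 0 := by rw [lev_inJ g hr.2]; norm_num
  have hq := rw'_lt hg hL hr.2.1
  have key : ∀ φ : ℕ → ℝ, IsLin T φ → (∀ i < T.l, i ∈ J → 0 ≤ φ (T.smp i)) → 0 ≤ φ r := by
    intro φ hφ hpos
    obtain ⟨M, hM⟩ := exists_bound hg hφ (lev_isLin T K J)
      (fun i hi => (hlev i hi).imp id fun h' => ⟨hpos i hi h'.1, h'.2⟩)
    have := hM r hr.1 hr.2.1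
    rwa [hr0, mul_zero, add_zero] at this
  have h1 := key _ ((phi0_lin T K).comp_rw' hg hL)
    (fun i hi hiJ => (phi0_pos g (h i hi hiJ).1 (h i hi hiJ).2.1).le)
  have hpos : T.N ≤ T.rw' L r := by
    by_contra hc
    have := phi0_neg g (not_le.1 hc)
    linarith
  refine ⟨hpos, (outJ_or_inJ hpos hq).resolve_left fun ho => ?_⟩
  have h2 := key _ (((lev_isLin T K J).comp_rw' hg hL).smul (-1)) (fun i hi hiJ => by
    rw [lev_inJ g (h i hi hiJ).2]; norm_num)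
  have h3 : (0 : ℝ) < (T.lev K J (T.rw' L r) : ℝ) := by exact_mod_cast lev_outJ g ho
  linarith

theorem blk_inP {b : ℕ} (hb : b < X.nb) {s : ℕ} :
    s ∈ T.invSet (X.w b) ↔ s ∈ inP T {i | i ∈ X.J b} := by
  rw [X.mem_invSet_w hb]
  exact ⟨fun h => ⟨h.1, h.2.2⟩, fun h => ⟨h.1, h.2.1, h.2⟩⟩

theorem fx_blk {L : List ℕ} (hL : T.Wd L) {b : ℕ} (hb : b < X.nb) (h : X.Fx L b) {r : ℕ}
    (hr : r ∈ T.invSet (X.w b)) : T.rw' L r ∈ T.invSet (X.w b) :=
  (X.blk_inP hb).2 (inP_image g hL (fun i _ hi => (X.blk_inP hb).1 (h i hi))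
    ((X.blk_inP hb).1 hr))

/-- an orbit of neither kind maps its system outside itself into the positive roots -/
theorem mixed {L : List ℕ} (hL : T.Wd L) (hc : X.Comm L) {b : ℕ} (hb : b < X.nb)
    (hF : ¬ X.Fx L b) {j₁ : ℕ} (hj₁ : j₁ ∈ X.J b) (hN : T.N ≤ T.rw' L (T.smp j₁)) :
    ∀ r ∈ T.invSet (X.w b), T.N ≤ T.rw' L r ∧ T.rw' L r ∉ T.invSet (X.w b) := by
  have hg := g.toGood
  have hjl := fun j (hj : j ∈ X.J b) => X.J_lt b hb j hj
  have hpos : ∀ r ∈ T.invSet (X.w b), T.N ≤ T.rw' L r := fun r hr => by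
    obtain ⟨h1, h2, h3⟩ := (X.mem_invSet_w hb).1 hr
    exact X.block_pos hL hc hb hj₁ hN r h1 h2 h3
  have hout : ∀ j ∈ X.J b, T.rw' L (T.smp j) ∉ T.invSet (X.w b) := by
    intro j hj hmem
    apply hF
    intro j' hj'
    obtain ⟨k, hk⟩ := X.J_orbit b hb j hj j' hj'
    rw [← hk]
    clear hk
    have hs := hg.smp_lt (hjl j hj)
    suffices h : T.rw' L (X.π^[k] (T.smp j)) ∈ T.invSet (X.w b) from h
    induction k with
    | zero => exact hmem
    | succ k ih =>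
      have hk := (X.neg_iterate hL hc hs k).1
      rw [Function.iterate_succ_apply', hc _ hk, X.blk_π hb (rw'_lt hg hL hk)]
      exact ih
  set J : Set ℕ := {i | i ∈ X.J b} with hJ
  intro r hr
  refine ⟨hpos r hr, fun hmem => ?_⟩
  obtain ⟨C, hC⟩ : ∃ C : ℝ, ∀ j < T.l, |phi0 T K (T.smp j)| ≤ C :=
    ⟨∑ j ∈ Finset.range T.l, |phi0 T K (T.smp j)|, fun j hj => Finset.single_le_sum
      (f := fun j => |phi0 T K (T.smp j)|) (fun j _ => abs_nonneg _) (Finset.mem_range.2 hj)⟩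
  have hlin : IsLin T fun s => C * (T.lev K J (T.rw' L s) : ℝ) + (-1) * phi0 T K s :=
    (((lev_isLin T K J).comp_rw' hg hL).smul C).add ((phi0_lin T K).smul (-1))
  obtain ⟨M, hM⟩ := exists_bound hg hlin (lev_isLin T K J) (fun i hi => by
    by_cases hiJ : i ∈ J
    · refine Or.inr ⟨?_, by rw [lev_inJ g (smp_mem_inJ hg hi hiJ)]; norm_num⟩
      have h1 := hpos _ (X.smp_mem_blk hb hiJ)
      have h2 := hout i hiJ
      have hq := rw'_lt hg hL (hg.smp_lt hi)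
      have h3 : T.rw' L (T.smp i) ∈ T.outJ J := (outJ_or_inJ h1 hq).resolve_right
        fun h4 => h2 ((X.blk_inP hb).2 ⟨h1, h4⟩)
      have h5 : (1 : ℝ) ≤ (T.lev K J (T.rw' L (T.smp i)) : ℝ) := by
        exact_mod_cast (lev_outJ g h3 : 0 < T.lev K J (T.rw' L (T.smp i)))
      have h6 := hC i hi
      have h7 := abs_nonneg (phi0 T K (T.smp i))
      have h8 := le_abs_self (phi0 T K (T.smp i))
      nlinarith
    · refine Or.inl ?_
      have h := lev_outJ g (J := J) (r := T.smp i) ⟨hg.smp_ge hi, hg.smp_lt hi, i, hi, hiJ,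
        by rw [c_smp hg hi hi, if_pos rfl]; exact one_ne_zero⟩
      exact_mod_cast h)
  have hr' := (X.blk_inP hb).1 hr
  have h1 := hM r hr'.1 hr'.2.1
  rw [lev_inJ g hr'.2, lev_inJ g ((X.blk_inP hb).1 hmem).2] at h1
  have := phi0_pos g hr'.1 hr'.2.1
  push_cast at h1
  linarith

variable {L : List ℕ}

theorem fix_pos (hL : T.Wd L) {r : ℕ} (hr : r ∈ inP T (X.fixI L)) :
    T.rw' L r ∈ inP T (X.fixI L) := by
  refine inP_image g hL ?_ hr
  rintro i - ⟨b, hb, hF, hj⟩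
  obtain ⟨h1, h2, h3⟩ := (X.mem_invSet_w hb).1 (hF i hj)
  exact ⟨h1, h2, fun k hk hkI => h3.2 k hk fun hkJ => hkI ⟨b, hb, hF, hkJ⟩⟩

theorem out_neg2 (hL : T.Wd L) (hinv : ∀ s < T.n, T.rw' L.reverse s = T.rw' L s) (hb2 : X.Bal2 L)
    {s : ℕ} (hs : s ∈ T.outJ (X.fixI L)) : T.rw' L s < T.N := by
  have hg := g.toGood
  set J := X.fixI L with hJ
  have hLL : ∀ s < T.n, T.rw' L (T.rw' L s) = s := fun s hs => by
    rw [← hinv _ (rw'_lt hg hL hs), rw'_rev hg hL hs]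
  have hneg := fun {r : ℕ} (hr : r < T.n) => (lev_isLin T K J).neg hg hr
  have hsimple : ∀ i < T.l, i ∉ J → (T.lev K J (T.rw' L (T.smp i)) : ℝ) < 0 := fun i hi hiJ => by
    obtain ⟨b, hb, hj⟩ := X.J_cover i hi
    have hlt := (hb2 b hb).resolve_left (fun hF => hiJ ⟨b, hb, hF, hj⟩) i hj
    have hp := rw'_lt hg hL (hg.smp_lt hi)
    rcases outJ_or_inJ (J := J) ((N_le_neg_iff hp).2 hlt) (neg_lt hp) with h | h
    · have h1 : (0 : ℝ) < (T.lev K J (T.neg (T.rw' L (T.smp i))) : ℝ) := by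
        exact_mod_cast lev_outJ g h
      have h2 := hneg hp
      linarith
    · exfalso
      have h1 := X.fix_pos hL (r := T.neg (T.rw' L (T.smp i))) ⟨(N_le_neg_iff hp).2 hlt, h⟩
      rw [rw'_neg hg hL hp, hLL _ (hg.smp_lt hi)] at h1
      have := h1.1
      have := (neg_lt_N_iff (hg.smp_lt hi)).2 (hg.smp_ge hi)
      omega
  by_contra hc
  have h3 : (0 : ℝ) ≤ (T.lev K J (T.rw' L s) : ℝ) := by
    exact_mod_cast lev_nonneg g J (not_lt.1 hc) (rw'_lt hg hL hs.2.1)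
  have h2 : (0 : ℝ) < (T.lev K J s : ℝ) := by exact_mod_cast lev_outJ g hs
  have hzero : ∀ i < T.l, i ∈ J → (T.lev K J (T.rw' L (T.smp i)) : ℝ) = 0 := fun i hi hiJ => by
    rw [lev_inJ g (X.fix_pos hL ⟨hg.smp_ge hi, smp_mem_inJ hg hi hiJ⟩).2]; norm_num
  have hψ : IsLin T fun r => (-1 : ℝ) * (T.lev K J (T.rw' L r) : ℝ) :=
    ((lev_isLin T K J).comp_rw' hg hL).smul _
  obtain ⟨M, hM⟩ := exists_bound hg ((lev_isLin T K J).smul (-1)) hψ (fun i hi => by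
    by_cases hiJ : i ∈ J
    · refine Or.inr ⟨?_, by rw [hzero i hi hiJ, mul_zero]⟩
      rw [lev_inJ g (smp_mem_inJ hg hi hiJ)]
      norm_num
    · exact Or.inl (by have := hsimple i hi hiJ; linarith))
  have h1 := hM s hs.1 hs.2.1
  have h4 : (0 : ℝ) ≤ (-1 : ℝ) * (T.lev K J (T.rw' L s) : ℝ) :=
    dom_of_simple hg hψ (fun i hi => by
      by_cases hiJ : i ∈ J
      · rw [hzero i hi hiJ, mul_zero]
      · have := hsimple i hi hiJ; linarith) s hs.1 hs.2.1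
  have h5 : (T.lev K J (T.rw' L s) : ℝ) = 0 := by linarith
  rw [h5] at h1
  linarith

theorem blk_sub_fix {b : ℕ} (hb : b < X.nb) (hF : X.Fx L b) {r : ℕ}
    (hr : r ∈ T.invSet (X.w b)) : r ∈ inP T (X.fixI L) := by
  obtain ⟨h1, h2, h3⟩ := (X.mem_invSet_w hb).1 hr
  exact ⟨h1, h2, fun k hk hkI => h3.2 k hk fun hkJ => hkI ⟨b, hb, hF, hkJ⟩⟩

theorem w_letters {b : ℕ} (hb : b < X.nb) (hF : X.Fx L b) :
    ∀ i ∈ X.w b, i < T.l ∧ i ∈ X.fixI L :=
  fun i hi => ⟨X.w_wd hb i hi, b, hb, hF, X.w_mem b hb i hi⟩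

/-- the word of a fixed orbit commutes with `L` -/
theorem fx_comm (hB : X.Blocks) (hL : T.Wd L) (hinv : ∀ s < T.n, T.rw' L.reverse s = T.rw' L s)
    (hb2 : X.Bal2 L) {b : ℕ} (hb : b < X.nb) (hF : X.Fx L b) {s : ℕ} (hs : s < T.n) :
    T.rw' L (T.rw' (X.w b) s) = T.rw' (X.w b) (T.rw' L s) := by
  have hg := g.toGood
  have hw := X.w_wd hb
  have hlet := X.w_letters hb hF
  have hLL : ∀ s < T.n, T.rw' L (T.rw' L s) = s := fun s hs => by
    rw [← hinv _ (rw'_lt hg hL hs), rw'_rev hg hL hs]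
  have hM : T.Wd (L ++ X.w b ++ L ++ X.w b) :=
    Wd.append_iff.2 ⟨Wd.append_iff.2 ⟨Wd.append_iff.2 ⟨hL, hw⟩, hL⟩, hw⟩
  have hpos : ∀ r, T.N ≤ r → r < T.n → T.N ≤ T.rw' (L ++ X.w b ++ L ++ X.w b) r := by
    intro r h1 h2
    simp only [rw'_append]
    by_cases hrb : r ∈ T.invSet (X.w b)
    · have hv := rw'_lt hg hw h2
      have h3 := X.fx_blk hL hb hF (X.blk_neg hB hb hrb)
      have h4 := X.blk_neg hB hb h3
      rw [rw'_neg hg hL hv, rw'_neg hg hw (rw'_lt hg hL hv),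
        Tab.neg_neg (rw'_lt hg hw (rw'_lt hg hL hv))] at h4
      exact (X.mem_blk_iff.1 (X.fx_blk hL hb hF h4)).1.1
    rcases outJ_or_inJ (J := X.fixI L) h1 h2 with ho | hi
    · have h3 := wd_outJ g hlet ho
      have h4 := X.out_neg2 hL hinv hb2 h3
      have hv := rw'_lt hg hL h3.2.1
      rcases outJ_or_inJ (J := X.fixI L) ((N_le_neg_iff hv).2 h4) (neg_lt hv) with h5 | h5
      · have h6 := X.out_neg2 hL hinv hb2 (wd_outJ g hlet h5)
        rw [rw'_neg hg hw hv, rw'_neg hg hL (rw'_lt hg hw hv),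
          neg_lt_N_iff (rw'_lt hg hL (rw'_lt hg hw hv))] at h6
        exact h6
      · exfalso
        have h6 := (X.fix_pos hL ⟨(N_le_neg_iff hv).2 h4, h5⟩).1
        rw [rw'_neg hg hL hv, hLL _ h3.2.1, N_le_neg_iff h3.2.1] at h6
        have := h3.1
        omega
    · have h3 : T.rw' (X.w b) r ∈ inP T (X.fixI L) :=
        ⟨X.out_blk_pos h1 h2 hrb, wd_inP g hlet hi⟩
      have h4 := X.fix_pos hL h3
      have hnb : T.rw' L (T.rw' (X.w b) r) ∉ T.invSet (X.w b) := fun h => by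
        have := X.fx_blk hL hb hF h
        rw [hLL _ h3.2.1] at this
        exact X.out_blk hB hb h1 h2 hrb this
      exact (X.fix_pos hL ⟨X.out_blk_pos h4.1 h4.2.1 hnb, wd_inP g hlet h4.2⟩).1
  have h := (nWd_torus_of_pos (F := F) hg _ le_rfl hM hpos).2 s hs
  simp only [rw'_append] at h
  have h2 := congrArg (T.rw' L) h
  rw [hLL _ (rw'_lt hg hw (rw'_lt hg hL (rw'_lt hg hw hs)))] at h2
  have h3 := congrArg (T.rw' (X.w b)) h2
  rwa [X.w_sq hB hb (rw'_lt hg hL (rw'_lt hg hw hs))] at h3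

theorem flat_fx_comm (hB : X.Blocks) (hL : T.Wd L)
    (hinv : ∀ s < T.n, T.rw' L.reverse s = T.rw' L s) (hb2 : X.Bal2 L) :
    ∀ {A : List ℕ}, (∀ b ∈ A, b < X.nb ∧ X.Fx L b) → ∀ s < T.n,
      T.rw' L (T.rw' (X.flatB A) s) = T.rw' (X.flatB A) (T.rw' L s)
  | [], _, s, _ => by simp [flatW_nil]
  | b :: A, h, s, hs => by
    obtain ⟨hb, hF⟩ := h b List.mem_cons_self
    have hA : T.Wd (X.flatB A) := X.flat_wd fun c hc => (h c (List.mem_cons_of_mem _ hc)).1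
    simp only [flatB, flatW_cons, rw'_append]
    rw [X.fx_comm hB hL hinv hb2 hb hF (rw'_lt g.toGood hA hs)]
    exact congrArg _ (flat_fx_comm hB hL hinv hb2 (fun c hc => h c (List.mem_cons_of_mem _ hc)) s hs)

theorem flat_letters {A : List ℕ} (h : ∀ b ∈ A, b < X.nb ∧ X.Fx L b) :
    ∀ i ∈ X.flatB A, i < T.l ∧ i ∈ X.fixI L := fun i hi => by
  obtain ⟨b, hb, hib⟩ := List.mem_flatMap.1 hi
  exact X.w_letters (h b hb).1 (h b hb).2 i hib

theorem exists_inv_flat (hB : X.Blocks) (L : List ℕ) :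
    ∃ A : List ℕ, (∀ b ∈ A, b < X.nb ∧ X.Fx L b) ∧
      ∀ i < T.l, i ∈ X.fixI L → T.rw' (X.flatB A) (T.smp i) < T.N := by
  have key : ∀ k (A : List ℕ), (∀ b ∈ A, b < X.nb ∧ X.Fx L b) →
      T.n - (T.invSet (X.flatB A)).card ≤ k → ∃ A : List ℕ, (∀ b ∈ A, b < X.nb ∧ X.Fx L b) ∧
      ∀ i < T.l, i ∈ X.fixI L → T.rw' (X.flatB A) (T.smp i) < T.N := by
    intro k
    induction k with
    | zero =>
      intro A hA hk
      refine ⟨A, hA, fun i hi hiJ => ?_⟩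
      obtain ⟨b, hb, hF, hj⟩ := hiJ
      by_contra h
      have hwd := X.flat_wd fun c hc => (hA c hc).1
      have h1 := X.grow_right hB hb hwd (fun r hr => by
        obtain ⟨a, a', a''⟩ := (X.mem_invSet_w hb).1 hr
        exact X.block_pos hwd (X.flat_comm fun c hc => (hA c hc).1) hb hj (not_lt.1 h) r a a' a'')
      have h2 := invSet_card_le T (X.flatB A ++ X.w b)
      simp only [flatB] at h1 h2 hk
      omega
    | succ k ih =>
      intro A hA hk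
      by_cases h : ∀ i < T.l, i ∈ X.fixI L → T.rw' (X.flatB A) (T.smp i) < T.N
      · exact ⟨A, hA, h⟩
      push Not at h
      obtain ⟨i, hi, ⟨b, hb, hF, hj⟩, h⟩ := h
      have hwd := X.flat_wd fun c hc => (hA c hc).1
      have h1 := X.grow_right hB hb hwd (fun r hr => by
        obtain ⟨a, a', a''⟩ := (X.mem_invSet_w hb).1 hr
        exact X.block_pos hwd (X.flat_comm fun c hc => (hA c hc).1) hb hj h r a a' a'')
      refine ih (A ++ [b]) (fun c hc => ?_) ?_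
      · rcases List.mem_append.1 hc with hc | hc
        · exact hA c hc
        · rw [List.mem_singleton.1 hc]; exact ⟨hb, hF⟩
      · simp only [flatB, flatW_append, flatW_singleton] at h1 hk ⊢
        omega
  exact key T.n [] (by simp) (Nat.sub_le _ _)

/-! ### The theorem -/

section Main

variable [CharP F 2] (hB : X.Blocks) (hP : X.Plain)

include hP in
theorem flat_mem : ∀ {A : List ℕ}, (∀ b ∈ A, b < X.nb) → nWd g.toGood F (X.flatB A) ∈ X.G1
  | [], _ => by simp [flatW_nil]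
  | b :: A, h => by
    have hb := h b List.mem_cons_self
    simp only [flatB, flatW_cons, nWd_append]
    rw [← hP b hb]
    exact mul_mem (X.n_mem b hb) (flat_mem fun c hc => h c (List.mem_cons_of_mem _ hc))

include hP in
theorem nWd_mem_of_comm (hL : T.Wd L) (hc : X.Comm L) : nWd g.toGood F L ∈ X.G1 := by
  obtain ⟨Ls, hLs, e⟩ := X.exists_flat _ hL hc le_rfl
  rw [nWd_congr (F := F) g.toGood hL (X.flat_wd hLs)
    ((pL_eq_iff g.toGood hL (X.flat_wd hLs)).1 e)]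
  exact X.flat_mem hP hLs

include hB hP in
theorem step_up2 {b : ℕ} (hb : b < X.nb) (hL : T.Wd L)
    (hinv : ∀ s < T.n, T.rw' L.reverse s = T.rw' L s)
    (hall : ∀ r ∈ T.invSet (X.w b), T.N ≤ T.rw' L r ∧ T.rw' L r ∉ T.invSet (X.w b))
    (c : ℕ → Fˣ) {β : GL T.D.Idx F} (hβ : β ∈ genS g.toGood F (Set.Ico T.N T.n)) :
    InCell g.toGood F (X.n b * (tor T F c * nWd g.toGood F L * β) * (X.n b)⁻¹)
        (X.w b ++ L ++ X.w b) ∧
      (T.invSet L).card < (T.invSet (X.w b ++ L ++ X.w b)).card := by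
  have hg := g.toGood
  have hw := X.w_wd hb
  constructor
  · obtain ⟨v, hv, hvw, z, hz, e⟩ := (pos_decomp g.toGoodA _ hw le_rfl).1 _ (inv_mem hβ)
    have eβ : β = z⁻¹ * v⁻¹ := by rw [← inv_inv β, e, _root_.mul_inv_rev]
    set ω := nWd hg F (X.w b) with hω
    set n₀ := nWd hg F L with hn₀
    obtain ⟨d, hd⟩ := torus_pass hg (nWd_mem_wSub (F := F) hg hw) c
    rw [← hω] at hd
    have hS : ∀ r ∈ T.rw' L '' {r | T.N ≤ r ∧ r < T.n ∧ T.rw' (X.w b) r < T.N}, r < T.n := by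
      rintro _ ⟨r, hr, rfl⟩
      exact rw'_lt hg hL hr.2.1
    have h1 : n₀ * z⁻¹ * n₀⁻¹ ∈
        genS hg F (T.rw' L '' {r | T.N ≤ r ∧ r < T.n ∧ T.rw' (X.w b) r < T.N}) := by
      rw [← genS_map_nWd hg hL fun r hr => hr.2.1]
      exact ⟨z⁻¹, inv_mem hz, rfl⟩
    have h2 : ω * (n₀ * z⁻¹ * n₀⁻¹) * ω⁻¹ ∈ T.D.borelSubgroup F := by
      have h3 : ω * (n₀ * z⁻¹ * n₀⁻¹) * ω⁻¹ ∈ genS hg F (T.rw' (X.w b) ''
          (T.rw' L '' {r | T.N ≤ r ∧ r < T.n ∧ T.rw' (X.w b) r < T.N})) := by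
        rw [← genS_map_nWd hg hw hS]
        exact ⟨_, h1, rfl⟩
      refine genS_pos_le_borel hg ?_ h3
      rintro _ ⟨_, ⟨r, ⟨a, a', a''⟩, rfl⟩, rfl⟩
      obtain ⟨p1, p2⟩ := hall r (X.mem_blk_iff.2 ⟨⟨a, a'⟩, a''⟩)
      exact ⟨X.out_blk_pos p1 (rw'_lt hg hL a') p2, rw'_lt hg hw (rw'_lt hg hL a')⟩
    have hωinv : ω⁻¹ = ω := by
      rw [hω, nWd_rev hg hw]
      exact nWd_congr hg hw.reverse hw fun s hs => X.w_rev hB hb hs
    refine ⟨tor T F d * (ω * (n₀ * z⁻¹ * n₀⁻¹) * ω⁻¹), mul_mem (torus_le_borel hg d) h2,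
      ω * v⁻¹ * ω⁻¹, ?_, ?_⟩
    · have h4 := genS_pos_le_borel hg (S := Set.Ico T.N T.n) (fun r hr => hr) (inv_mem hvw)
      convert h4 using 1
      group
    · rw [hP b hb, eβ, ← hω, nWd_append, nWd_append, ← hω, ← hn₀,
        show ω * n₀ * ω = ω * n₀ * ω⁻¹ by rw [hωinv]]
      calc ω * (tor T F c * n₀ * (z⁻¹ * v⁻¹)) * ω⁻¹
          = (ω * tor T F c) * ω⁻¹ * (ω * (n₀ * z⁻¹ * n₀⁻¹) * ω⁻¹) * (ω * n₀ * ω⁻¹) *
              (ω * v⁻¹ * ω⁻¹) := by group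
        _ = _ := by rw [hd]; group
  · refine lt_trans (X.grow_right hB hb hL fun r hr => (hall r hr).1) ?_
    obtain ⟨r, hr⟩ := hB.pos b hb
    have hr' := X.mem_blk_iff.1 hr
    have hLL : ∀ s < T.n, T.rw' L (T.rw' L s) = s := fun s hs => by
      rw [← hinv _ (rw'_lt hg hL hs), rw'_rev hg hL hs]
    have hLr := rw'_lt hg hL hr'.1.2
    rw [List.append_assoc]
    refine X.grow_left hB hb (Wd.append_iff.2 ⟨hL, hw⟩) (fun s hs hmem => ?_)
      (r := T.rw' (X.w b) (T.rw' L r))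
      ⟨X.out_blk_pos (hall r hr).1 hLr (hall r hr).2, rw'_lt hg hw hLr⟩ ?_
    · simp only [invSet, Finset.mem_filter, Finset.mem_Ico, rw'_append] at hs
      obtain ⟨⟨h1, h2⟩, h3⟩ := hs
      rw [rw'_append] at hmem
      have hv := rw'_lt hg hw h2
      have hLv := rw'_lt hg hL hv
      obtain ⟨p1, p2⟩ := hall _ hmem
      rw [rw'_neg hg hL hLv, hLL _ hv] at p1 p2
      by_cases hsb : s ∈ T.invSet (X.w b)
      · exact p2 (X.blk_neg hB hb hsb)
      · have := X.out_blk_pos h1 h2 hsb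
        rw [N_le_neg_iff hv] at p1
        omega
    · rwa [rw'_append, X.w_sq hB hb hLr, hLL _ hr'.1.2]

include hB in
theorem fixed_part2 (hL : T.Wd L) (hinv : ∀ s < T.n, T.rw' L.reverse s = T.rw' L s)
    (hb2 : X.Bal2 L) {v : GL T.D.Idx F} {c : ℕ → Fˣ}
    (hv : v ∈ genS g.toGood F (Set.Ico T.N T.n))
    (hsq : v * (tor T F c * nWd g.toGood F L) * (v * (tor T F c * nWd g.toGood F L)) = 1) :
    v ∈ genS g.toGood F (inP T (X.fixI L)) ∧
      (tor T F c * nWd g.toGood F L) * (tor T F c * nWd g.toGood F L) = 1 := by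
  have hg := g.toGood
  set J := X.fixI L with hJ
  set n := tor T F c * nWd hg F L with hn
  have hv' : v ∈ genS hg F (Set.Ico T.N T.n ∩ Set.Ico T.N T.n) := by rwa [Set.inter_self]
  obtain ⟨v₁, h₁, v₂, h₂, rfl⟩ := split_two g.toGoodA (S := Set.Ico T.N T.n) (A := inP T J)
    (B := T.outJ J) (cl_pos hg) (fun r hr => (outJ_or_inJ (J := J) hr.1 hr.2).symm.imp
      (fun h => ⟨hr.1, h⟩) id) T.n T.N (by omega) v hv'
  have hconj : ∀ {S S' : Set ℕ}, (∀ r ∈ S, r < T.n) → (∀ r ∈ S, T.rw' L r ∈ S') →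
      ∀ x ∈ genS hg F S, n * x * n⁻¹ ∈ genS hg F S' := by
    intro S S' hS hSS x hx
    refine genS_induction hg (p := fun x => n * x * n⁻¹ ∈ genS hg F S') (by simp) ?_ hx
    intro r hr t y hy
    obtain ⟨w, hw⟩ := mono_conj (F := F) hg hL c (hS r hr)
    rw [show n * (xg hg r t * y) * n⁻¹ = (n * xg hg r t * n⁻¹) * (n * y * n⁻¹) by group]
    exact mul_mem (hn ▸ (hw t).symm ▸ xg_mem_genS hg (hSS r hr) _) hy
  have h1' : n * v₁ * n⁻¹ ∈ genS hg F (inP T J) :=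
    hconj (fun r hr => hr.2.1) (fun r hr => X.fix_pos hL hr) v₁ h₁
  have h2' : n * v₂ * n⁻¹ ∈ genS hg F (Set.Iio T.N) :=
    hconj (fun r hr => hr.2.1) (fun r hr => X.out_neg2 hL hinv hb2 hr) v₂ h₂
  obtain ⟨d, hd⟩ : ∃ d, n * n = tor T F d := by
    obtain ⟨e, he⟩ := wSub_conj_torus hg (nWd_mem_wSub (F := F) hg hL) c
    refine ⟨c * e, ?_⟩
    have h0 : nWd hg F L * nWd hg F L = 1 := by
      nth_rewrite 1 [nWd_congr hg hL hL.reverse fun s hs => (hinv s hs).symm]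
      rw [← nWd_rev hg hL, inv_mul_cancel]
    calc n * n = tor T F c * (nWd hg F L * tor T F c * (nWd hg F L)⁻¹) *
          (nWd hg F L * nWd hg F L) := by rw [hn]; group
      _ = _ := by rw [he, h0, mul_one, map_mul]
  have hiP : inP T J ⊆ Set.Ico T.N T.n := fun r hr => ⟨hr.1, hr.2.1⟩
  have hB' : n * v₂ * n⁻¹ ∈ T.D.borelSubgroup F := by
    have e : n * v₂ * n⁻¹ = (n * v₁ * n⁻¹)⁻¹ * (v₁ * v₂)⁻¹ * (n * n)⁻¹ := by
      calc n * v₂ * n⁻¹ = (n * v₁ * n⁻¹)⁻¹ * (v₁ * v₂)⁻¹ *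
            ((v₁ * v₂) * n * ((v₁ * v₂) * n)) * (n * n)⁻¹ := by group
        _ = _ := by rw [hsq, mul_one]
    rw [e, hd]
    exact mul_mem (mul_mem (inv_mem (genS_pos_le_borel hg (fun r hr => hiP hr) h1'))
      (inv_mem (genS_pos_le_borel hg (fun r hr => hr) hv))) (inv_mem (torus_le_borel hg d))
  have hv2 : v₂ = 1 := conj_eq_one_iff.1 (borel_inf_neg hg hB' h2')
  subst hv2
  rw [mul_one] at hsq ⊢
  refine ⟨h₁, ?_⟩
  have hd1 : n * n = (n * v₁ * n⁻¹)⁻¹ * v₁⁻¹ := by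
    calc n * n = (n * v₁ * n⁻¹)⁻¹ * v₁⁻¹ * (v₁ * n * (v₁ * n)) := by group
      _ = _ := by rw [hsq, mul_one]
  refine pos_inf_torus hg ?_ (by rw [hd, diagonalSubgroup_eq hg]; exact ⟨d, rfl⟩)
  rw [hd1]
  exact genS_mono hg hiP (mul_mem (inv_mem h1') (inv_mem h₁))

include hB hP in
theorem walk2 {v : GL T.D.Idx F} (hv : v ∈ genS g.toGood F (inP T (X.fixI L))) (hv1 : v ∈ X.G1) :
    ∀ A : List ℕ, (∀ b ∈ A, b < X.nb ∧ X.Fx L b) →
      nWd g.toGood F (X.flatB A) * v * (nWd g.toGood F (X.flatB A))⁻¹ ∈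
          genS g.toGood F (inP T (X.fixI L)) ∨
      ∃ b < X.nb, X.Fx L b ∧ ∃ A' : List ℕ, (∀ c ∈ A', c < X.nb ∧ X.Fx L c) ∧
        ∃ v₂, X.n b * v₂ * (X.n b)⁻¹ ∈ genS g.toGood F (Set.Ico T.N T.n) ∧
          ∃ z ∈ uMinus g.toGood F (X.w b), z ∈ X.G1 ∧ z ≠ 1 ∧
            nWd g.toGood F (X.flatB A') * v * (nWd g.toGood F (X.flatB A'))⁻¹ = v₂ * z
  | [], _ => Or.inl (by simpa [flatW_nil] using hv)
  | b :: A, hA => by
    have hg := g.toGood
    obtain ⟨hb, hF⟩ := hA b List.mem_cons_self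
    have hA' : ∀ c ∈ A, c < X.nb ∧ X.Fx L c := fun c hc => hA c (List.mem_cons_of_mem _ hc)
    rcases walk2 hv hv1 A hA' with h | h
    swap
    · exact Or.inr h
    set v' := nWd hg F (X.flatB A) * v * (nWd hg F (X.flatB A))⁻¹ with hv'
    have hwd := X.w_wd hb
    have hm : nWd hg F (X.flatB A) ∈ X.G1 := X.flat_mem hP fun c hc => (hA' c hc).1
    have hv'1 : v' ∈ X.G1 := mul_mem (mul_mem hm hv1) (inv_mem hm)
    obtain ⟨v₂, hv₂, hv₂w, z, hz, e⟩ := (pos_decomp g.toGoodA _ hwd le_rfl).1 v'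
      (genS_mono hg (S' := Set.Ico T.N T.n) (fun r hr => ⟨hr.1, hr.2.1⟩) h)
    have hv₂G : v₂ ∈ T.D.group F := genS_le_group hg hv₂
    have hzG : z ∈ T.D.group F := genS_le_group hg hz
    obtain ⟨hnG, hnσ⟩ := X.G1_le _ (X.n_mem b hb)
    have hnw := hP b hb
    by_cases hz1 : z = 1
    · left
      rw [hz1, mul_one] at e
      have h' : nWd hg F (X.w b).reverse * (nWd hg F (X.w b) * v₂ * (nWd hg F (X.w b))⁻¹) *
          (nWd hg F (X.w b).reverse)⁻¹ ∈ genS hg F (inP T (X.fixI L)) := by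
        rw [← nWd_rev hg hwd, ← e] at *
        convert h using 1
        group
      have h2 := inter_conj g hwd.reverse (cl_inP g _) hv₂w h'
      simp only [flatB, flatW_cons, nWd_append]
      rw [show ∀ a x y : GL T.D.Idx F, a * x * y * (a * x)⁻¹ = a * (x * y * x⁻¹) * a⁻¹
        from fun a x y => by group, ← hv', e]
      refine genS_mono hg ?_ h2
      rintro s ⟨⟨a, a'⟩, a''⟩
      refine ⟨a, ?_⟩
      have := wd_inP g (X.w_letters hb hF) a''.2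
      rwa [rw'_rev' hg hwd a'] at this
    · right
      refine ⟨b, hb, hF, A, hA', v₂, by rw [hnw]; exact hv₂w, z, hz, X.U_mem b hb z hz ?_, hz1, e⟩
      have hσv : nWd hg F (X.w b) * X.σ v₂ * (nWd hg F (X.w b))⁻¹ ∈
          genS hg F (Set.Ico T.N T.n) := by
        have h1 := X.σ_pos hv₂w
        rw [← hnw] at h1 ⊢
        rwa [X.σ_conj hnG hv₂G, hnσ] at h1
      exact (pos_decomp_unique hg hwd hσv hv₂w (X.σ_uMinus hwd (X.w_comm hb) hz) hz (by
        rw [← X.σ_mul _ hv₂G _ hzG, ← e, (X.G1_le _ hv'1).2])).2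

variable [Fintype F]

include hB hP in
theorem improve2 {y : GL T.D.Idx F} (hy1 : y ∈ X.G1) (hy : y * y = 1) :
    ∀ {L : List ℕ}, T.Wd L → InCell g.toGood F y L →
    ((∀ s < T.n, T.rw' L.reverse s = T.rw' L s) ∧ X.Comm L ∧ X.Bal2 L ∧
        ∃ h ∈ X.G1, h * y * h⁻¹ = nWd g.toGood F L) ∨
      ∃ h ∈ X.G1, ∃ L', T.Wd L' ∧ (T.invSet L).card < (T.invSet L').card ∧
        InCell g.toGood F (h * y * h⁻¹) L' := by
  intro L₀ hL₀ hc₀
  have hg := g.toGood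
  obtain ⟨v, hv, hv1, L, hL, hcm, c, hm, u, hu, hu1, e⟩ := X.g1_decomp hy1
  have hcell : InCell hg F y L := by
    refine ⟨v * tor T F c, mul_mem (genS_pos_le_borel hg (fun r hr => hr) hv) (torus_le_borel hg c),
      u, genS_pos_le_borel hg (fun r hr => hr) (uMinus_le_pos hg L hu), ?_⟩
    rw [e]; group
  have hsame := fun s (hs : s < T.n) => incell_unique g.toGoodA hL₀ hL hc₀ hcell hs
  have hcard : T.invSet L₀ = T.invSet L :=
    Finset.filter_congr fun s hs => by rw [hsame s (Finset.mem_Ico.1 hs).2]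
  have hinv0 := fun s (hs : s < T.n) => incell_invol g.toGoodA hL hy hcell hs
  set β := u * v with hβ
  have hβU : β ∈ genS hg F (Set.Ico T.N T.n) := mul_mem (uMinus_le_pos hg L hu) hv
  have hβ1 : β ∈ X.G1 := mul_mem hu1 hv1
  have e1 : v⁻¹ * y * v = tor T F c * nWd hg F L * β := by rw [e, hβ]; group
  rw [hcard]
  by_cases hb2 : X.Bal2 L
  swap
  · right
    simp only [Bal2, not_forall, not_or, not_lt] at hb2
    obtain ⟨b, hb, hF, j, hj, hN⟩ := hb2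
    have hall := X.mixed hL hcm hb hF hj hN
    obtain ⟨h1, h2⟩ := X.step_up2 hB hP hb hL hinv0 hall c hβU
    refine ⟨X.n b * v⁻¹, mul_mem (X.n_mem b hb) (inv_mem hv1), X.w b ++ L ++ X.w b,
      Wd.append_iff.2 ⟨Wd.append_iff.2 ⟨X.w_wd hb, hL⟩, X.w_wd hb⟩, h2, ?_⟩
    rw [← e1] at h1
    convert h1 using 1
    group
  set n₀ := nWd hg F L with hn₀
  set n := tor T F c * n₀ with hn
  have hy2 : β * v⁻¹ * y * (β * v⁻¹)⁻¹ = β * n := by
    calc β * v⁻¹ * y * (β * v⁻¹)⁻¹ = β * (v⁻¹ * y * v) * β⁻¹ := by group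
      _ = _ := by rw [e1, hn]; group
  have hsq : β * n * (β * n) = 1 := by
    calc β * n * (β * n) = β * v⁻¹ * (y * y) * (β * v⁻¹)⁻¹ := by rw [← hy2]; group
      _ = 1 := by rw [hy]; group
  obtain ⟨hβJ, hn1⟩ := X.fixed_part2 hB hL hinv0 hb2 hβU hsq
  obtain ⟨A, hA, hAinv⟩ := X.exists_inv_flat hB L
  rcases X.walk2 hB hP hβJ hβ1 A hA with h | ⟨b, hb, hF, A', hA', v₂, hv₂, z, hz, hz1, hzne, e'⟩
  · left
    have hAw := X.flat_wd fun c hc => (hA c hc).1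
    have h2 : nWd hg F (X.flatB A) * β * (nWd hg F (X.flatB A))⁻¹ ∈ genS hg F (Set.Iio T.N) := by
      refine genS_induction hg (p := fun x => nWd hg F (X.flatB A) * x * (nWd hg F (X.flatB A))⁻¹ ∈
        genS hg F (Set.Iio T.N)) (by simp) ?_ hβJ
      intro r hr t x hx
      rw [show nWd hg F (X.flatB A) * (xg hg r t * x) * (nWd hg F (X.flatB A))⁻¹ =
        (nWd hg F (X.flatB A) * xg hg r t * (nWd hg F (X.flatB A))⁻¹) *
          (nWd hg F (X.flatB A) * x * (nWd hg F (X.flatB A))⁻¹) by group,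
        nWd_conj_two hg hAw hr.2.1]
      exact mul_mem (xg_mem_genS hg (S := Set.Iio T.N)
        (inP_neg g (X.flat_letters hA) hAinv hr) t) hx
    have h3 : β = 1 := conj_eq_one_iff.1
      (borel_inf_neg hg (genS_pos_le_borel hg (fun r hr => ⟨hr.1, hr.2.1⟩) h) h2)
    refine ⟨fun s hs => ?_, fun s hs => ?_, ?_, ?_⟩
    · rw [incell_invol g.toGoodA hL₀ hy hc₀ hs]
    · rw [hsame _ (X.π_lt s hs), hsame s hs]; exact hcm s hs
    · intro b hb
      rcases hb2 b hb with hF | hN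
      · exact Or.inl fun j hj => by rw [hsame _ (hg.smp_lt (X.J_lt b hb j hj))]; exact hF j hj
      · exact Or.inr fun j hj => by rw [hsame _ (hg.smp_lt (X.J_lt b hb j hj))]; exact hN j hj
    · rw [nWd_congr hg hL₀ hL hsame]
      have hn0G : n₀ ∈ X.G1 := X.nWd_mem_of_comm hP hL hcm
      have hcG : tor T F c ∈ X.G1 := by
        have : tor T F c = n * n₀⁻¹ := by rw [hn]; group
        rw [this]; exact mul_mem hm (inv_mem hn0G)
      obtain ⟨k, hk⟩ : ∃ k, Fintype.card F = k + k := by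
        obtain ⟨⟨m, hmp⟩, -, hc⟩ := FiniteField.card F 2
        refine ⟨2 ^ (m - 1), ?_⟩
        rw [hc, ← two_mul, ← pow_succ', PNat.mk_coe]
        congr 1
        omega
      set s := tor T F c ^ k with hs
      have hc2 : tor T F c = s * s := by
        rw [hs, ← map_pow, ← map_mul, ← pow_add, ← hk]
        congr 1
        funext j
        rw [Pi.pow_apply]
        exact Units.ext (by rw [Units.val_pow_eq_pow_val, FiniteField.pow_card])
      have hn2 : n₀ * n₀ = 1 := by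
        nth_rewrite 1 [hn₀, nWd_congr hg hL hL.reverse fun s hs => (hinv0 s hs).symm]
        rw [← nWd_rev hg hL, hn₀, inv_mul_cancel]
      have ee : n₀ * tor T F c * n₀⁻¹ = (tor T F c)⁻¹ := by
        calc n₀ * tor T F c * n₀⁻¹ = (tor T F c)⁻¹ * (n * n) * (n₀ * n₀)⁻¹ := by rw [hn]; group
          _ = _ := by rw [hn1, hn2]; group
      have e2 : n₀ * s * n₀⁻¹ = s⁻¹ := by rw [hs, ← conj_pow, ee, inv_pow]
      refine ⟨s⁻¹ * (β * v⁻¹), mul_mem (inv_mem (pow_mem hcG k)) (mul_mem hβ1 (inv_mem hv1)), ?_⟩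
      calc s⁻¹ * (β * v⁻¹) * y * (s⁻¹ * (β * v⁻¹))⁻¹
          = s⁻¹ * (β * v⁻¹ * y * (β * v⁻¹)⁻¹) * s := by group
        _ = s⁻¹ * (s * s * n₀) * s := by rw [hy2, h3, one_mul, hn, hc2]
        _ = s * (n₀ * s * n₀⁻¹) * n₀ := by group
        _ = n₀ := by rw [e2]; group
  · right
    set m := nWd hg F (X.flatB A') with hmdef
    have hA'' : ∀ d ∈ b :: A', d < X.nb ∧ X.Fx L d := by
      intro d hd
      rcases List.mem_cons.1 hd with rfl | hd
      · exact ⟨hb, hF⟩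
      · exact hA' d hd
    have hBw := X.flat_wd fun d hd => (hA'' d hd).1
    set ω := nWd hg F (X.flatB (b :: A')) with hωdef
    have hω : ω = X.n b * m := by
      simp only [hωdef, flatB, flatW_cons, nWd_append, hP b hb, hmdef]
    obtain ⟨d, hd⟩ := wSub_conj_torus hg (nWd_mem_wSub (F := F) hg hBw) c
    have hcomm : ω * n₀ = n₀ * ω := by
      rw [hωdef, hn₀, ← nWd_append, ← nWd_append]
      refine nWd_congr hg (Wd.append_iff.2 ⟨hBw, hL⟩) (Wd.append_iff.2 ⟨hL, hBw⟩) fun s hs => ?_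
      rw [rw'_append, rw'_append]
      exact (X.flat_fx_comm hB hL hinv0 hb2 hA'' s hs).symm
    have eω : ω * n * ω⁻¹ = tor T F d * n₀ := by
      calc ω * n * ω⁻¹ = ω * tor T F c * ω⁻¹ * (ω * n₀ * ω⁻¹) := by rw [hn]; group
        _ = _ := by rw [hd, hcomm]; group
    refine ⟨ω * (β * v⁻¹), mul_mem (hω ▸ mul_mem (X.n_mem b hb)
      (X.flat_mem hP fun c hc => (hA' c hc).1)) (mul_mem hβ1 (inv_mem hv1)), X.w b ++ L,
      Wd.append_iff.2 ⟨X.w_wd hb, hL⟩, ?_, ?_⟩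
    · obtain ⟨r, hr⟩ := hB.pos b hb
      have hLr := X.fx_blk hL hb hF hr
      have hr' := X.mem_blk_iff.1 hr
      refine X.grow_left hB hb hL (fun s hs hmem => ?_) (r := T.rw' L r)
        (X.mem_blk_iff.1 hLr).1 ?_
      · simp only [invSet, Finset.mem_filter, Finset.mem_Ico] at hs
        have h2 := (X.mem_blk_iff.1 (X.fx_blk hL hb hF hmem)).1.1
        have hv := rw'_lt hg hL hs.1.2
        rw [rw'_neg hg hL hv, ← hinv0 _ hv, rw'_rev hg hL hs.1.2, N_le_neg_iff hs.1.2] at h2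
        omega
      · rw [← hinv0 _ (X.mem_blk_iff.1 hLr).1.2, rw'_rev hg hL hr'.1.2]
        exact hr
    have hnz : X.n b * z * (X.n b)⁻¹ ∉ T.D.borelSubgroup F := fun h => by
      rw [hP b hb] at h
      exact hzne (conj_eq_one_iff.1 (borel_inf_neg hg h (uMinus_conj_neg hg (X.w_wd hb) hz)))
    obtain ⟨b₁, hb₁, -, u', hu', -, er⟩ := (X.rank_one hb hz hz1).resolve_left hnz
    obtain ⟨f, hf⟩ := torus_pass hg (nWd_mem_wSub (F := F) hg (X.w_wd hb)) d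
    have hu'' : (tor T F d)⁻¹ * u' * tor T F d ∈ uMinus hg F (X.w b) := by
      have := (Subgroup.mem_normalizer_iff.1 (inv_mem (tor_normalizes (F := F) hg
        (S := {r | T.N ≤ r ∧ r < T.n ∧ T.rw' (X.w b) r < T.N}) (fun r hr => hr.2.1) d)) u').1 hu'
      rwa [inv_inv] at this
    have hu3 : n₀⁻¹ * ((tor T F d)⁻¹ * u' * tor T F d) * n₀ ∈ T.D.borelSubgroup F := by
      have hS : ∀ r ∈ {r | T.N ≤ r ∧ r < T.n ∧ T.rw' (X.w b) r < T.N}, r < T.n :=
        fun r hr => hr.2.1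
      have : n₀⁻¹ * ((tor T F d)⁻¹ * u' * tor T F d) * n₀ ∈
          genS hg F (T.rw' L '' {r | T.N ≤ r ∧ r < T.n ∧ T.rw' (X.w b) r < T.N}) := by
        rw [← genS_map_nWd hg hL hS]
        refine ⟨_, hu'', ?_⟩
        have hn2 : n₀⁻¹ = n₀ := by
          rw [hn₀, nWd_rev hg hL]
          exact nWd_congr hg hL.reverse hL hinv0
        rw [MulEquiv.coe_toMonoidHom, MulAut.conj_apply, ← hn₀, hn2]
      refine genS_pos_le_borel hg ?_ this
      rintro _ ⟨r, ⟨a, a', a''⟩, rfl⟩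
      exact (X.mem_blk_iff.1 (X.fx_blk hL hb hF (X.mem_blk_iff.2 ⟨⟨a, a'⟩, a''⟩))).1
    refine ⟨X.n b * v₂ * (X.n b)⁻¹ * b₁ * tor T F f,
      mul_mem (mul_mem (genS_pos_le_borel hg (fun r hr => hr) hv₂) hb₁) (torus_le_borel hg f),
      _, hu3, ?_⟩
    calc ω * (β * v⁻¹) * y * (ω * (β * v⁻¹))⁻¹ = ω * (β * v⁻¹ * y * (β * v⁻¹)⁻¹) * ω⁻¹ := by group
      _ = ω * β * ω⁻¹ * (ω * n * ω⁻¹) := by rw [hy2]; group
      _ = X.n b * (m * β * m⁻¹) * (X.n b)⁻¹ * (tor T F d * n₀) := by rw [eω, hω]; group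
      _ = X.n b * v₂ * (X.n b)⁻¹ * (X.n b * z * (X.n b)⁻¹) * (tor T F d * n₀) := by rw [e']; group
      _ = X.n b * v₂ * (X.n b)⁻¹ * b₁ * (X.n b * tor T F d) * ((tor T F d)⁻¹ * u' * tor T F d) *
          n₀ := by rw [er]; group
      _ = _ := by rw [hP b hb, hf, nWd_append, ← hn₀]; group

include hB hP in
/-- Each involution of the twisted group is conjugate in it to a balanced Weyl group element. -/
theorem exists_conj_nWd2 {x : GL T.D.Idx F} (hx : x ∈ X.G1) (hx2 : x * x = 1) :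
    ∃ L, T.Wd L ∧ (∀ s < T.n, T.rw' L.reverse s = T.rw' L s) ∧ X.Comm L ∧ X.Bal2 L ∧
      ∃ h ∈ X.G1, h * x * h⁻¹ = nWd g.toGood F L := by
  have key : ∀ k, ∀ h ∈ X.G1, ∀ L, T.Wd L → InCell g.toGood F (h * x * h⁻¹) L →
      T.n - (T.invSet L).card ≤ k →
      ∃ L, T.Wd L ∧ (∀ s < T.n, T.rw' L.reverse s = T.rw' L s) ∧ X.Comm L ∧ X.Bal2 L ∧
        ∃ h ∈ X.G1, h * x * h⁻¹ = nWd g.toGood F L := by
    intro k
    induction k with
    | zero =>
      intro h hh L hL hc hk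
      have hy : h * x * h⁻¹ * (h * x * h⁻¹) = 1 := by
        calc _ = h * (x * x) * h⁻¹ := by group
          _ = 1 := by rw [hx2]; group
      rcases X.improve2 hB hP (mul_mem (mul_mem hh hx) (inv_mem hh)) hy hL hc with
        ⟨h1, h2, h3, a, ha, h4⟩ | ⟨a, -, L', -, h1, -⟩
      · exact ⟨L, hL, h1, h2, h3, conj_trans _ ⟨h, hh, rfl⟩ ⟨a, ha, h4⟩⟩
      · have := invSet_card_le T L'
        omega
    | succ k ih =>
      intro h hh L hL hc hk
      have hy : h * x * h⁻¹ * (h * x * h⁻¹) = 1 := by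
        calc _ = h * (x * x) * h⁻¹ := by group
          _ = 1 := by rw [hx2]; group
      rcases X.improve2 hB hP (mul_mem (mul_mem hh hx) (inv_mem hh)) hy hL hc with
        ⟨h1, h2, h3, a, ha, h4⟩ | ⟨a, ha, L', hL', h1, h2⟩
      · exact ⟨L, hL, h1, h2, h3, conj_trans _ ⟨h, hh, rfl⟩ ⟨a, ha, h4⟩⟩
      · refine ih (a * h) (mul_mem ha hh) L' hL' ?_ (by omega)
        convert h2 using 1
        group
  obtain ⟨L, hL, hc⟩ := incell_exists g.toGoodA (X.G1_le_group hx)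
  exact key T.n 1 (one_mem _) L hL (by simpa using hc) (Nat.sub_le _ _)

include hB hP in
/-- The normal forms indexed by the sets of fixed orbits. -/
theorem exists_conj_mask2 {w₀ : List ℕ} (hw : T.Wd w₀)
    (hw₀ : ∀ i < T.l, T.rw' w₀.reverse (T.smp i) < T.N) (WI : ℕ → List ℕ)
    (hWI : ∀ m < 2 ^ X.nb, (∀ b ∈ WI m, b < X.nb ∧ m.testBit b = true) ∧
      ∀ b < X.nb, m.testBit b = true → ∀ j ∈ X.J b, T.rw' (X.flatB (WI m)) (T.smp j) < T.N)
    {x : GL T.D.Idx F} (hx : x ∈ X.G1) (hx2 : x * x = 1) :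
    ∃ m < 2 ^ X.nb, (∀ b < X.nb, m.testBit b = true → ∀ j ∈ X.J b,
        T.rw' (w₀ ++ (X.flatB (WI m)).reverse) (T.smp j) ∈ T.invSet (X.w b)) ∧
      ∃ h ∈ X.G1, h * x * h⁻¹ = nWd g.toGood F (w₀ ++ (X.flatB (WI m)).reverse) := by
  classical
  have hg := g.toGood
  obtain ⟨L, hL, hinv, -, hb2, hconj⟩ := X.exists_conj_nWd2 hB hP hx hx2
  set f : Fin X.nb → Bool := fun b => decide (X.Fx L b) with hf
  set m := Nat.ofBits f with hm
  have hm2 : m < 2 ^ X.nb := Nat.ofBits_lt_two_pow f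
  have hbit : ∀ b (hb : b < X.nb), m.testBit b = true ↔ X.Fx L b := fun b hb => by
    rw [hm, Nat.testBit_ofBits_lt f b hb, hf, decide_eq_true_eq]
  obtain ⟨hA, hAinv⟩ := hWI m hm2
  have hA' : ∀ b ∈ WI m, b < X.nb ∧ X.Fx L b := fun b hb =>
    ⟨(hA b hb).1, (hbit b (hA b hb).1).1 (hA b hb).2⟩
  set A := X.flatB (WI m)
  have hAl := X.flat_letters hA'
  have hAW : T.Wd A := fun i hi => (hAl i hi).1
  have hAI : ∀ i < T.l, i ∈ X.fixI L → T.rw' A (T.smp i) < T.N := by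
    rintro i - ⟨b, hb, hF, hj⟩
    exact hAinv b hb ((hbit b hb).2 hF) i hj
  have hM : T.Wd (w₀.reverse ++ (L ++ A)) :=
    Wd.append_iff.2 ⟨hw.reverse, Wd.append_iff.2 ⟨hL, hAW⟩⟩
  have hneg : ∀ s, T.N ≤ s → s < T.n → T.rw' L (T.rw' A s) < T.N := by
    intro s h1 h2
    rcases outJ_or_inJ (J := X.fixI L) h1 h2 with h | h
    · exact X.out_neg2 hL hinv hb2 (wd_outJ g hAl h)
    · have hq := rw'_lt hg hAW h2
      have h3 := inP_neg g hAl hAI (r := s) ⟨h1, h⟩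
      have h4 := (X.fix_pos hL ⟨(N_le_neg_iff hq).2 h3, inJ_neg hg (wd_inP g hAl h)⟩).1
      rw [rw'_neg hg hL hq, N_le_neg_iff (rw'_lt hg hL hq)] at h4
      exact h4
  have hpos : ∀ s, T.N ≤ s → s < T.n → T.N ≤ T.rw' (w₀.reverse ++ (L ++ A)) s := by
    intro s h1 h2
    have hq := rw'_lt hg hL (rw'_lt hg hAW h2)
    have h3 := inverts_all hg hw.reverse hw₀ _ ((N_le_neg_iff hq).2 (hneg s h1 h2)) (neg_lt hq)
    rw [rw'_neg hg hw.reverse hq, neg_lt_N_iff (rw'_lt hg hw.reverse hq)] at h3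
    rwa [rw'_append, rw'_append]
  have e : ∀ s < T.n, T.rw' (w₀ ++ A.reverse) s = T.rw' L s := by
    intro s hs
    have hs' := rw'_lt hg hAW.reverse hs
    have h := (nWd_torus_of_pos (F := F) hg _ le_rfl hM hpos).2 _ hs'
    rw [rw'_append, rw'_append, rw'_rev' hg hAW hs] at h
    have h2 := congrArg (T.rw' w₀) h
    rw [rw'_rev' hg hw (rw'_lt hg hL hs)] at h2
    rw [rw'_append, h2]
  refine ⟨m, hm2, fun b hb hbi j hj => ?_, ?_⟩
  · rw [e _ (hg.smp_lt (X.J_lt b hb j hj))]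
    exact (hbit b hb).1 hbi j hj
  · rwa [nWd_congr hg (Wd.append_iff.2 ⟨hw, hAW.reverse⟩) hL e]

end Main

end Twist

end Tab

end Cfsg.Agent.Chev
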