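import Cfsg.Agent.Lib.Lie.TwInvCell
import Cfsg.Agent.Lib.Lie.InvCert

/-!
# Certified involution classes of twisted groups in characteristic two
-/

set_option autoImplicit false

namespace Cfsg.Agent.Chev

open Cfsg.Lie Matrix

namespace Tab

namespace InvT

open InvR InvK InvC

variable {T : Tab} {K : List (List ℕ)} {F : Type*} [Field F]

/-! ### Words of root elements modulo two -/

/-- the image of a bit vector with at most `k` bits under one root element -/
def pstepAux (T : Tab) (r : ℕ) : ℕ → ℕ → ℕ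
  | 0, _ => 0
  | fuel + 1, b => if b = 0 then 0 else
      pstepAux T r fuel (b % 2 ^ b.log2) ^^^ par (T.wapply (oneWord [r]) [(b.log2, (1, 0, 0))])

/-- a word of root elements applied to a bit vector -/
def papply (T : Tab) : List ℕ → ℕ → ℕ
  | [], b => b
  | r :: w, b => pstepAux T r (T.l + T.n) (papply T w b % 2 ^ (T.l + T.n))

/-- two words give the same matrix -/
def checkEqW (T : Tab) (w w' : List ℕ) : Bool :=
  w.all (fun r => Nat.blt r T.n) && w'.all (fun r => Nat.blt r T.n) &&
    allBelow (fun j => papply T w (1 <<< j) == papply T w' (1 <<< j)) (T.l + T.n)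

/-- the roots spelling the product of the `n_p` -/
def nRoots (T : Tab) (L : List ℕ) : List ℕ :=
  L.flatMap fun i => [T.smp i, T.neg (T.smp i), T.smp i]

section CharTwo

variable [CharP F 2]

theorem bv_mod_succ (b k : ℕ) :
    bv T F (b % 2 ^ (k + 1)) = bv T F (b % 2 ^ k) + if b.testBit k then bas T F k else 0 := by
  funext a
  simp only [bv, Pi.add_apply, Nat.testBit_mod_two_pow]
  rcases lt_trichotomy (T.code a) k with h | h | h
  · by_cases hk : b.testBit k = true <;>
      simp [h, show T.code a < k + 1 by omega, hk, bas, show ¬ T.code a = k by omega]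
  · subst h
    by_cases hk : b.testBit (T.code a) = true <;> simp [hk, bas]
  · by_cases hk : b.testBit k = true <;>
      simp [show ¬ T.code a < k by omega, show ¬ T.code a < k + 1 by omega, hk, bas,
        show ¬ T.code a = k by omega]

theorem pstep_spec (g : T.Good) {r : ℕ} (hr : r < T.n) : ∀ k b : ℕ, b < 2 ^ k →
    (xg g r (1 : F) : Matrix T.D.Idx T.D.Idx F) *ᵥ bv T F b = bv T F (pstepAux T r k b)
  | 0, b, hb => by
    obtain rfl : b = 0 := by simpa using hb
    simp [bv_zero, pstepAux]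
  | k + 1, b, hb => by
    rw [pstepAux]
    by_cases h0 : b = 0
    · simp [h0, bv_zero]
    · rw [if_neg h0]
      have hlt : b.log2 < k + 1 := (Nat.log2_lt h0).2 hb
      have hsucc : b < 2 ^ (b.log2 + 1) := Nat.lt_log2_self
      have hbit : b.testBit b.log2 = true := Nat.testBit_log2 h0
      have hsplit : bv T F b = bv T F (b % 2 ^ b.log2) + bas T F b.log2 := by
        have := bv_mod_succ (T := T) (F := F) b b.log2
        rwa [Nat.mod_eq_of_lt hsucc, if_pos hbit] at this
      rw [hsplit, mulVec_add, pstep_spec g hr k (b % 2 ^ b.log2)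
        (lt_of_lt_of_le (Nat.mod_lt _ (Nat.two_pow_pos _))
          (Nat.pow_le_pow_right (by omega) (Nat.le_of_lt_succ hlt))), bv_xor]
      congr 1
      have h : ∀ e ∈ oneWord [r], e.1 < T.n := by simp [oneWord, hr]
      have hs := sem_wapply (T := T) (1 : Fˣ) (1 : Fˣ) g (oneWord [r]) [(b.log2, (1, 0, 0))] h
      rw [sem_one, sem_par] at hs
      rw [hs, xg_val]
      congr 1
      simp [oneWord, ChevalleyDatum.wordMat, pval, monVal]

theorem papply_spec (g : T.Good) : ∀ {w : List ℕ}, (∀ r ∈ w, r < T.n) → ∀ b : ℕ,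
    ((pv g F w : GL T.D.Idx F) : Matrix T.D.Idx T.D.Idx F) *ᵥ bv T F b = bv T F (papply T w b)
  | [], _, b => by simp [papply]
  | r :: w, h, b => by
    rw [pv_cons, Units.val_mul, ← mulVec_mulVec,
      papply_spec g (fun s hs => h s (List.mem_cons_of_mem _ hs)) b, papply,
      ← pstep_spec g (h r List.mem_cons_self) (T.l + T.n) _ (Nat.mod_lt _ (Nat.two_pow_pos _))]
    congr 1
    funext a
    simp [bv, Nat.testBit_mod_two_pow, code_lt g a]

theorem checkEqW_spec (g : T.Good) {w w' : List ℕ} (h : checkEqW T w w' = true) :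
    pv g F w = pv g F w' := by
  simp only [checkEqW, Bool.and_eq_true, List.all_eq_true, nat_blt, allBelow_eq_true,
    beq_iff_eq] at h
  obtain ⟨⟨hw, hw'⟩, he⟩ := h
  refine Units.ext (ext_col g fun j hj => ?_)
  rw [← bv_shift, papply_spec g hw, papply_spec g hw', he j hj]

theorem nWd_pv (g : T.Good) : ∀ L : List ℕ, nWd g F L = pv g F (nRoots T L)
  | [] => by simp [nRoots]
  | i :: L => by
    have h : nG g F i =
        xg g (T.smp i) 1 * xg g (T.neg (T.smp i)) (-1) * xg g (T.smp i) 1 := rfl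
    rw [nWd_cons, nWd_pv g L, h, CharTwo.neg_eq, nRoots, nRoots, List.flatMap_cons, pv_append,
      pv_cons, pv_cons, pv_cons, pv_nil, mul_one]
    group

end CharTwo

/-! ### The certificates -/

/-- the certificate of one set of orbits -/
inductive TCert where
  /-- the set does not occur: the orbit `b` is not mapped to itself at the node `j` -/
  | bad (b j : ℕ)
  /-- relabel by orbit words to the element of the word `V`, conjugate by fixed segments to a word,
  then a path -/
  | good (pre : List ℕ) (H : List (List ℕ)) (V z target : List ℕ) (path : List Step)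

/-- a word of positive or of negative roots fixed by `π` -/
def checkFix (T : Tab) (pi : List ℕ) (R : List ℕ) : Bool :=
  R.all (fun r => Nat.blt r T.n) &&
  (R.all (fun r => Nat.ble T.N r) || R.all (fun r => Nat.blt r T.N)) &&
  mEqB T (atoms (R.map fun r => pi.getD r 0)) (atoms R)

/-- a conjugation inside the twisted group -/
def checkStepT (T : Tab) (pi : List ℕ) (w : ℕ → List ℕ) (nb : ℕ) (v : List ℕ) (s : Step) : Bool :=
  v.all (fun r => Nat.blt r T.n) && s.rel.all (fun b => Nat.blt b nb) && checkFix T pi s.by' &&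
    mEqB T (atoms (s.by' ++ v.map (T.rw' (flatW w s.rel)) ++ s.by'.reverse)) (atoms s.res)

/-- a path inside the twisted group -/
def checkPathT (T : Tab) (pi : List ℕ) (w : ℕ → List ℕ) (nb : ℕ) (z : List ℕ) :
    List ℕ → List Step → Bool
  | v, [] => v == z
  | v, s :: p => checkStepT T pi w nb v s && checkPathT T pi w nb z s.res p

/-- the check of one set of orbits -/
def checkMaskT (T : Tab) (pi : List ℕ) (J w : ℕ → List ℕ) (nb : ℕ) (tg : List (List ℕ))
    (w₀ : List ℕ) (m : ℕ) (wI : List ℕ) : TCert → Bool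
  | .bad b j => Nat.blt b nb && m.testBit b && (J b).contains j &&
      !(let s := T.rw' (w₀ ++ (flatW w wI).reverse) (T.smp j)
        Nat.ble T.N s && Nat.blt s T.n && Nat.blt (T.rw' (w b) s) T.N)
  | .good pre H V z t p => pre.all (fun b => Nat.blt b nb) && H.all (checkFix T pi) &&
      V.all (fun i => Nat.blt i T.l) &&
      allBelow (fun s => T.rw' (flatW w pre ++ (w₀ ++ (flatW w wI).reverse) ++
        (flatW w pre).reverse) s == T.rw' V s) T.n &&
      checkEqW T (H.flatten ++ nRoots T V) (z ++ H.flatten) &&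
      (t.isEmpty || tg.contains t) && checkPathT T pi w nb t z p

/-- the check of one entry of the certificate -/
def checkEntryT (T : Tab) (pi : List ℕ) (J w : ℕ → List ℕ) (nb : ℕ) (tg : List (List ℕ))
    (w₀ : List ℕ) (m : ℕ) (e : List ℕ × TCert) : Bool :=
  e.1.all (fun b => Nat.blt b nb && m.testBit b) &&
    allBelow (fun b => !m.testBit b ||
      (J b).all (fun j => Nat.blt (T.rw' (flatW w e.1) (T.smp j)) T.N)) nb &&
    checkMaskT T pi J w nb tg w₀ m e.1 e.2

/-- the check of the longest word -/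
def checkLongT (T : Tab) (w₀ : List ℕ) : Bool :=
  w₀.all (fun i => Nat.blt i T.l) &&
  allBelow (fun i => Nat.blt (T.rw' w₀.reverse (T.smp i)) T.N) T.l

/-- the whole certificate -/
def checkClsT (T : Tab) (pi : List ℕ) (J w : ℕ → List ℕ) (nb : ℕ) (tg : List (List ℕ))
    (w₀ : List ℕ) (C : List (List ℕ × TCert)) : Bool :=
  checkLongT T w₀ &&
  allBelow (fun m => checkEntryT T pi J w nb tg w₀ m (C.getD m ([], .bad nb 0))) (2 ^ nb)

theorem checkClsT_intro (T : Tab) {pi : List ℕ} {J w : ℕ → List ℕ} {nb : ℕ} {tg : List (List ℕ)}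
    {w₀ : List ℕ} {C : List (List ℕ × TCert)} (h₀ : checkLongT T w₀ = true)
    (h : ∀ m < 2 ^ nb, checkEntryT T pi J w nb tg w₀ m (C.getD m ([], .bad nb 0)) = true) :
    checkClsT T pi J w nb tg w₀ C = true := by
  rw [checkClsT, h₀, Bool.true_and, allBelow_eq_true]
  exact h

/-- the representatives lie in the twisted group -/
def checkRepsT (T : Tab) (pi : List ℕ) (reps : List (List ℕ)) : Bool := reps.all (checkFix T pi)

variable {g : T.GoodK K} (X : Twist g F) (pi : List ℕ)

/-- the tables describe the endomorphism -/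
structure Tables : Prop where
  plain : X.Plain
  blocks : X.Blocks
  π_eq : ∀ r < T.n, X.π r = pi.getD r 0
  φ_one : ∀ r < T.n, X.φ r (1 : F) = 1

variable {X pi} [CharP F 2] (hT : Tables X pi)

include hT

theorem σ_pv : ∀ {R : List ℕ}, (∀ r ∈ R, r < T.n) →
    X.σ (pv g.toGood F R) = pv g.toGood F (R.map fun r => pi.getD r 0)
  | [], _ => by simp [X.σ_one]
  | r :: R, h => by
    have hr := h r List.mem_cons_self
    rw [pv_cons, X.σ_mul _ (xg_mem_group _ _ _) _ (pv_mem_group _ _), List.map_cons, pv_cons,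
      σ_pv fun s hs => h s (List.mem_cons_of_mem _ hs), X.σ_xg r hr, hT.φ_one r hr, hT.π_eq r hr]

theorem fix_mem {R : List ℕ} (h : checkFix T pi R = true) : pv g.toGood F R ∈ X.G1 := by
  simp only [checkFix, Bool.and_eq_true, Bool.or_eq_true, List.all_eq_true, nat_blt, nat_ble] at h
  obtain ⟨⟨hR, hsign⟩, he⟩ := h
  have hσ : X.σ (pv g.toGood F R) = pv g.toGood F R := by
    rw [σ_pv hT hR]
    have := mEqB_val g.toGoodA (1 : F) 1 he
    rwa [atoms_val, atoms_val] at this
  have hmem : ∀ {S : Set ℕ}, (∀ r ∈ R, r ∈ S) → pv g.toGood F R ∈ genS g.toGood F S := fun hS =>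
    Subgroup.list_prod_mem _ fun x hx => by
      obtain ⟨r, hr, rfl⟩ := List.mem_map.1 hx
      exact xg_mem_genS g.toGood (hS r hr) 1
  rcases hsign with h | h
  · exact X.pos_fixed_mem (hmem fun r hr => ⟨h r hr, hR r hr⟩) hσ
  · obtain ⟨L, hL, hc, hneg⟩ := X.exists_longest_comm
    obtain ⟨c, hn⟩ := X.exists_lift hL hc
    exact X.neg_fixed_mem (hmem fun r hr => h r hr) hσ hL hneg hn

theorem step_conjT {v : List ℕ} {s : Step} (h : checkStepT T pi X.w X.nb v s = true) :
    ∃ h ∈ X.G1, h * pv g.toGood F v * h⁻¹ = pv g.toGood F s.res := by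
  simp only [checkStepT, Bool.and_eq_true, List.all_eq_true, nat_blt] at h
  obtain ⟨⟨⟨hv, hM⟩, hR⟩, he⟩ := h
  refine ⟨pv g.toGood F s.by' * nWd g.toGood F (flatW X.w s.rel),
    mul_mem (fix_mem hT hR) (X.flat_mem hT.plain hM), ?_⟩
  have e := mEqB_val g.toGoodA (1 : F) 1 he
  rw [atoms_val, atoms_val, pv_append, pv_append, ← pv_inv,
    ← pv_rel g.toGood (X.flat_wd hM) v hv] at e
  rw [← e]
  group

theorem path_conjT {z : List ℕ} : ∀ (v : List ℕ) (p : List Step),
    checkPathT T pi X.w X.nb z v p = true →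
      ∃ h ∈ X.G1, h * pv g.toGood F v * h⁻¹ = pv g.toGood F z
  | v, [], h => by
    simp only [checkPathT, beq_iff_eq] at h
    subst h
    exact ⟨1, one_mem _, by simp⟩
  | v, s :: p, h => by
    simp only [checkPathT, Bool.and_eq_true] at h
    exact conj_trans _ (step_conjT hT h.1) (path_conjT s.res p h.2)

theorem segs_mem : ∀ {H : List (List ℕ)}, H.all (checkFix T pi) = true →
    pv g.toGood F H.flatten ∈ X.G1
  | [], _ => by simp
  | R :: H, h => by
    simp only [List.all_cons, Bool.and_eq_true] at h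
    rw [List.flatten_cons, pv_append]
    exact mul_mem (fix_mem hT h.1) (segs_mem h.2)

variable [Fintype F] {tg : List (List ℕ)} {w₀ : List ℕ} {C : List (List ℕ × TCert)}

theorem cls_coverT (h : checkClsT T pi X.J X.w X.nb tg w₀ C = true) {x : GL T.D.Idx F}
    (hx : x ∈ X.G1) (hx2 : x * x = 1) (hx1 : x ≠ 1) :
    ∃ t ∈ tg, ∃ h ∈ X.G1, h * x * h⁻¹ = pv g.toGood F t := by
  simp only [checkClsT, checkLongT, checkEntryT, Bool.and_eq_true, List.all_eq_true, nat_blt, allBelow_eq_true,
    Bool.or_eq_true, Bool.not_eq_true'] at h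
  obtain ⟨⟨hw, hw₀⟩, hC⟩ := h
  obtain ⟨m, hm, hfix, hconj⟩ := X.exists_conj_mask2 hT.blocks hT.plain (w₀ := w₀) hw hw₀
    (fun m => (C.getD m ([], .bad X.nb 0)).1) (fun m hm => ⟨(hC m hm).1.1, fun b hb hbit j hj => by
      rcases (hC m hm).1.2 b hb with h | h
      · rw [hbit] at h; exact Bool.noConfusion h
      · exact h j hj⟩) hx hx2
  have hW : ∀ b ∈ (C.getD m ([], TCert.bad X.nb 0)).1, b < X.nb := fun b hb => ((hC m hm).1.1 b hb).1
  have hmask := (hC m hm).2
  cases hc : (C.getD m ([], TCert.bad X.nb 0)).2 with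
  | bad b j =>
    rw [hc] at hmask
    simp only [checkMaskT, Bool.and_eq_true, nat_blt, List.contains_iff_mem, Bool.not_eq_true',
      Bool.and_eq_false_iff] at hmask
    obtain ⟨⟨⟨hb, hbit⟩, hj⟩, hnot⟩ := hmask
    exfalso
    obtain ⟨⟨h1, h2⟩, h3⟩ := X.mem_blk_iff.1 (hfix b hb hbit j hj)
    rcases hnot with (h | h) | h
    · rw [nat_ble.2 h1] at h; exact Bool.noConfusion h
    · rw [nat_blt.2 h2] at h; exact Bool.noConfusion h
    · rw [nat_blt.2 h3] at h; exact Bool.noConfusion h
  | good pre H V z t p =>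
    rw [hc] at hmask
    simp only [checkMaskT, Bool.and_eq_true, List.all_eq_true, nat_blt, Bool.or_eq_true,
      List.isEmpty_iff, List.contains_iff_mem, allBelow_eq_true, beq_iff_eq] at hmask
    obtain ⟨⟨⟨⟨⟨⟨hpre, hH⟩, hV⟩, hperm⟩, heq⟩, ht⟩, hp⟩ := hmask
    have hpw := X.flat_wd hpre
    have hconj2 : ∃ h ∈ X.G1, h * x * h⁻¹ = pv g.toGood F z := by
      refine conj_trans _ hconj ⟨pv g.toGood F H.flatten * nWd g.toGood F (flatW X.w pre),
        mul_mem (segs_mem hT (List.all_eq_true.2 hH)) (X.flat_mem hT.plain hpre), ?_⟩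
      have e := checkEqW_spec (F := F) g.toGood heq
      have hWI := X.flat_wd hW
      rw [pv_append, pv_append, ← nWd_pv, ← nWd_congr g.toGood
        (Wd.append_iff.2 ⟨Wd.append_iff.2 ⟨hpw, Wd.append_iff.2 ⟨hw, hWI.reverse⟩⟩, hpw.reverse⟩)
        hV hperm, nWd_append, nWd_append, ← nWd_rev g.toGood hpw] at e
      calc _ = pv g.toGood F H.flatten * (nWd g.toGood F (flatW X.w pre) *
            nWd g.toGood F (w₀ ++ (flatW X.w (C.getD m ([], TCert.bad X.nb 0)).1).reverse) *
            (nWd g.toGood F (flatW X.w pre))⁻¹) * (pv g.toGood F H.flatten)⁻¹ := by group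
        _ = _ := by rw [e]; group
    obtain ⟨h₂, hh₂, e₂⟩ := conj_trans _ hconj2 (path_conjT hT z p hp)
    rcases ht with rfl | ht
    · exfalso
      rw [pv_nil, conj_eq_one_iff] at e₂
      exact hx1 e₂
    · exact ⟨t, ht, h₂, hh₂, e₂⟩

/-- the number of involution classes of the twisted group -/
theorem countT {masks : List ℕ} {reps : List (List ℕ)} {R : List (List RkCert)}
    (hC : checkClsT T pi X.J X.w X.nb tg w₀ C = true)
    (hlink : ∀ t ∈ tg, ∃ w ∈ reps, ∃ h ∈ X.G1, h * pv g.toGood F t * h⁻¹ = pv g.toGood F w)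
    (hR : checkReps T masks reps R = true) (hR1 : checkRepsT T pi reps = true) :
    (ConjClasses.mk '' {x : ↥X.G1 | orderOf x = 2}).ncard = reps.length := by
  have hmem : ∀ k (hk : k < reps.length), pv g.toGood F (reps.getD k []) ∈ X.G1 := fun k hk => by
    refine fix_mem hT (List.all_eq_true.1 hR1 _ ?_)
    simp [List.getD, hk]
  let f : Fin reps.length → ConjClasses ↥X.G1 := fun k =>
    ConjClasses.mk ⟨pv g.toGood F (reps.getD k []), hmem k k.2⟩
  have he : ConjClasses.mk '' {x : ↥X.G1 | orderOf x = 2} = Set.range f := by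
    ext c
    constructor
    · rintro ⟨⟨x, hx⟩, hx2, rfl⟩
      rw [Set.mem_setOf_eq, Subgroup.orderOf_mk] at hx2
      have hxx : x * x = 1 := by rw [← pow_two, ← hx2, pow_orderOf_eq_one]
      have hne : x ≠ 1 := fun e => by rw [e, orderOf_one] at hx2; omega
      obtain ⟨t, ht, hconj⟩ := cls_coverT hT hC hx hxx hne
      obtain ⟨w, hw, hconj'⟩ := hlink t ht
      obtain ⟨h, hh, e⟩ := conj_trans _ hconj hconj'
      obtain ⟨k, hk, rfl⟩ := List.getElem_of_mem hw
      refine ⟨⟨k, hk⟩, (ConjClasses.mk_eq_mk_iff_isConj.2 (isConj_iff.2 ⟨⟨h, hh⟩, ?_⟩)).symm⟩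
      refine Subtype.ext ?_
      show h * x * h⁻¹ = _
      rw [e]
      simp [List.getD, hk]
    · rintro ⟨k, rfl⟩
      exact ⟨_, by rw [Set.mem_setOf_eq, Subgroup.orderOf_mk]; exact reps_order g.toGoodA hR k.2,
        rfl⟩
  have hinj : Function.Injective f := by
    intro a b hab
    obtain ⟨c, hc⟩ := isConj_iff.1 (ConjClasses.mk_eq_mk_iff_isConj.1 hab)
    have e : (c : GL T.D.Idx F) * pv g.toGood F (reps.getD a []) * (c : GL T.D.Idx F)⁻¹ =
        pv g.toGood F (reps.getD b []) := congrArg Subtype.val hc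
    have hcG := X.G1_le_group c.2
    rcases lt_trichotomy (a : ℕ) b with hlt | heq | hlt
    · refine absurd ?_ (reps_sep g.toGoodA hR b.2 hlt (inv_mem hcG))
      rw [← e]; group
    · exact Fin.ext heq
    · exact absurd e (reps_sep g.toGoodA hR a.2 hlt hcG)
  rw [he, Set.ncard_range_of_injective hinj, Nat.card_fin]

end InvT

end Tab

end Cfsg.Agent.Chev
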