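import Cfsg.Agent.Lib.Lie.TwInvCert
import Cfsg.Agent.Lib.Lie.TwF4

/-! Certificates for the involution classes of the twisted groups of type F4 in characteristic two. -/

set_option autoImplicit false
set_option maxRecDepth 20000
set_option maxHeartbeats 0
set_option Elab.async false

namespace Cfsg.Agent.Chev.TwInvF4

open Tab Tab.InvK Tab.InvR Tab.InvT

/-- mask 0 -/
def c0 : List ℕ × TCert :=
  ([], .good [] [[24, 33], [45, 39]] [3, 2, 1, 2, 0, 1, 2, 3, 2, 1, 2, 0, 1, 2, 3, 2, 1, 2, 0, 1, 2, 0, 1, 0] [23, 14, 2, 8] [39, 45]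
    [⟨[0, 1, 0, 1, 0, 1, 0, 1], [], [24, 33, 39, 45]⟩,
     ⟨[], [37, 32], [24, 33, 38, 43]⟩,
     ⟨[1], [], [32, 37, 39, 45]⟩,
     ⟨[0], [], [38, 39, 43, 45]⟩,
     ⟨[], [28, 27, 25], [38, 40, 43, 44, 46, 47]⟩,
     ⟨[], [33, 24], [38, 40, 43, 46]⟩,
     ⟨[], [30, 28], [38, 43]⟩,
     ⟨[1], [], [39, 45]⟩])

/-- mask 1 -/
def c1 : List ℕ × TCert :=
  ([0], .good [] [[39, 45]] [2, 1, 2, 0, 1, 2, 3, 2, 1, 2, 0, 1, 2, 3, 2, 1, 2, 0, 1, 2, 0, 1] [8, 2] [39, 45]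
    [⟨[0, 1, 0, 1, 0, 1, 0, 1], [], [39, 45]⟩])

/-- mask 2 -/
def c2 : List ℕ × TCert :=
  ([1], .good [0, 1, 0] [[19, 17], [28, 30]] [2, 1, 2, 1] [28, 30] [28, 30]
    [⟨[], [], [28, 30]⟩])

/-- mask 3 -/
def c3 : List ℕ × TCert :=
  ([0, 1, 0, 1, 0, 1, 0, 1], .good [] [] [] [] [] [])

/-- all masks -/
def cls : List (List ℕ × TCert) :=
  [c0, c1, c2, c3]

/-- the longest word -/
def w₀ : List ℕ := [0, 3, 1, 2, 1, 2, 0, 3, 1, 2, 1, 2, 0, 3, 1, 2, 1, 2, 0, 3, 1, 2, 1, 2]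

/-- the representatives -/
def reps : List (List ℕ) := [[28, 30], [39, 45]]

/-- the certified targets -/
def targets : List (List ℕ) := [[28, 30], [39, 45]]

/-- the coordinates -/
def masks : List ℕ := [0xfffffffffffff]

/-- rank certificate -/
def rk0 : RkCert where
  cols := [0x100000000, 0x0, 0x100000000, 0x500000000, 0x0, 0x380, 0x200, 0x0, 0x0, 0x0, 0x0, 0xa000, 0x8000, 0x0, 0x60000, 0x0, 0x40000, 0x0, 0x0, 0xa400000, 0x8000000, 0x521000006, 0x0, 0x180000002, 0x100000000, 0x0, 0x480000000, 0x0, 0x1a00000000, 0x0, 0x1000000000, 0x0, 0x0, 0x0, 0x0, 0x0, 0x0, 0x28000000000, 0x20000000000, 0x0, 0x180000000000, 0x0, 0x100000000000, 0x0, 0x0, 0x0, 0x7000000000000, 0x4000000000000, 0x0, 0x0, 0x0, 0x0]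
  basis := [(0x7000000000000, 50), (0x3000000000000, 49), (0x180000000000, 44), (0x80000000000, 43), (0x28000000000, 41), (0x8000000000, 39), (0x1a00000000, 36), (0xa00000000, 35), (0x500000000, 34), (0x100000000, 32), (0x80000002, 31), (0x21000006, 29), (0xa400000, 27), (0x2400000, 25), (0x60000, 18), (0x20000, 17), (0xa000, 15), (0x2000, 13), (0x380, 9), (0x180, 8), (0x2, 1)]
  colExp := [0x200, 0x0, 0x200, 0x100, 0x0, 0x40000, 0xc0000, 0x0, 0x0, 0x0, 0x0, 0x10000, 0x30000, 0x0, 0x4000, 0x0, 0xc000, 0x0, 0x0, 0x1000, 0x3000, 0x900, 0x0, 0x600, 0x200, 0x0, 0x100700, 0x0, 0x40, 0x0, 0xc0, 0x0, 0x0, 0x0, 0x0, 0x0, 0x0, 0x10, 0x30, 0x0, 0x4, 0x0, 0xc, 0x0, 0x0, 0x0, 0x1, 0x3, 0x0, 0x0, 0x0, 0x0]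
  basExp := [0x400000000000, 0xc00000000000, 0x10000000000, 0x50000000000, 0x2000000000, 0x6000000000, 0x10000000, 0x50000000, 0x8, 0x1, 0x800001, 0x200008, 0x80000, 0x180000, 0x4000, 0x14000, 0x800, 0x1800, 0x20, 0x60, 0x4800008]

/-- rank certificate -/
def rk1 : RkCert where
  cols := [0x0, 0x80000000000, 0x2080000000000, 0x0, 0x4020022002000, 0x8040044004000, 0x2000000000009, 0x100080020000, 0x1000040000, 0x400000000, 0x800000000, 0x1004001000000, 0x80000000001, 0x20000000000, 0x40000000000, 0x100000000, 0x200000000, 0x100000000000, 0x0, 0x802000000000, 0x200000000000, 0x400000000000, 0x8000000000, 0x10000000000, 0x1000000000000, 0x4020000000000, 0x8040000000000, 0x0, 0x0, 0x4000000000000, 0x8000000000000, 0x100000000000, 0x0, 0x0, 0x0, 0x0, 0x0, 0x0, 0x1000000000000, 0x0, 0x0, 0x0, 0x0, 0x0, 0x0, 0x0, 0x0, 0x0, 0x0, 0x0, 0x0, 0x0]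
  basis := [(0x8040044004000, 51), (0x4020022002000, 50), (0x2080000000000, 49), (0x1004001000000, 48), (0x802000000000, 47), (0x400000000000, 46), (0x200000000000, 45), (0x100080020000, 44), (0x80000000000, 43), (0x40000000000, 42), (0x20000000000, 41), (0x10000000000, 40), (0x8000000000, 39), (0x4001000000, 38), (0x1000040000, 36), (0x800000000, 35), (0x400000000, 34), (0x200000000, 33), (0x100000000, 32), (0x80020000, 31), (0x44004000, 30), (0x22002000, 29), (0x9, 3), (0x1, 0)]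
  colExp := [0x0, 0x100, 0x4, 0x0, 0x2, 0x1, 0x400104, 0x80, 0x4000, 0x10000, 0x8000, 0x8, 0x800100, 0x400, 0x200, 0x40000, 0x20000, 0x80080, 0x0, 0x10, 0x40, 0x20, 0x1000, 0x800, 0x2008, 0x200002, 0x100001, 0x0, 0x0, 0x200402, 0x100201, 0x80080, 0x0, 0x0, 0x0, 0x0, 0x0, 0x0, 0x2008, 0x0, 0x0, 0x0, 0x0, 0x0, 0x0, 0x0, 0x0, 0x0, 0x0, 0x0, 0x0, 0x0]
  basExp := [0x20, 0x10, 0x4, 0x800, 0x80000, 0x200000, 0x100000, 0x80, 0x2, 0x4000, 0x2000, 0x800000, 0x400000, 0x1000800, 0x100, 0x400, 0x200, 0x10000, 0x8000, 0x20080, 0x4000020, 0x2000010, 0x46, 0x1002]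

/-- all rank certificates -/
def rks : List (List RkCert) := [[rk0], [rk1]]

theorem repsOK : checkReps F4Data.tab masks reps rks = true := by decide +kernel

theorem repsFixOK : checkRepsT F4Data.tab F4Data.isog.π reps = true := by decide +kernel

theorem longOK : checkLongT F4Data.tab w₀ = true := by decide +kernel

theorem maskOK0 : checkEntryT F4Data.tab F4Data.isog.π TwF4.orb TwF4.wd 2 targets w₀ 0 c0 = true := by
  decide +kernel

theorem maskOK1 : checkEntryT F4Data.tab F4Data.isog.π TwF4.orb TwF4.wd 2 targets w₀ 1 c1 = true := by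
  decide +kernel

theorem maskOK2 : checkEntryT F4Data.tab F4Data.isog.π TwF4.orb TwF4.wd 2 targets w₀ 2 c2 = true := by
  decide +kernel

theorem maskOK3 : checkEntryT F4Data.tab F4Data.isog.π TwF4.orb TwF4.wd 2 targets w₀ 3 c3 = true := by
  decide +kernel

theorem clsOK : checkClsT F4Data.tab F4Data.isog.π TwF4.orb TwF4.wd 2 targets w₀ cls = true := by
  refine checkClsT_intro _ longOK fun m hm => ?_
  change m < 4 at hm
  interval_cases m
  · exact maskOK0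
  · exact maskOK1
  · exact maskOK2
  · exact maskOK3

end Cfsg.Agent.Chev.TwInvF4
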