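import Cfsg.Agent.Lib.Lie.TwInvDataD4
import Cfsg.Agent.Lib.Lie.TwInvDataE6
import Cfsg.Agent.Lib.Lie.TwInvDataF4
import Mathlib.FieldTheory.Finite.Basic

/-!
# The involution classes of `³D₄(q)`, `²E₆(q)` for even `q` and of `²F₄(q)`
-/

set_option autoImplicit false
set_option maxRecDepth 20000

namespace Cfsg.Agent.Chev

open Cfsg.Lie

namespace TwInvCount

open Tab Tab.InvK Tab.InvR Tab.InvT

variable {F : Type*} [Field F] [Fintype F] [CharP F 2]

omit [Fintype F] in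
theorem sign_one {z : ℤ} (hz : z * z = 1) : (z : F) = 1 := by
  rcases mul_self_eq_one_iff.1 hz with h | h <;> simp [h, CharTwo.neg_eq]

theorem two_pow_of_card {q k : ℕ} (hK : Fintype.card F = q ^ k) (hk : k ≠ 0) :
    IsPrimePow q := by
  obtain ⟨n, h2, hn⟩ := FiniteField.card F 2
  rw [hK] at hn
  have hd : q ∣ 2 ^ (n : ℕ) := hn ▸ dvd_pow_self q hk
  obtain ⟨j, -, rfl⟩ := (Nat.dvd_prime_pow h2).1 hd
  refine ⟨2, j, h2.prime, Nat.pos_of_ne_zero fun h0 => ?_, rfl⟩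
  have h1 : (2 : ℕ) ^ 1 ≤ 2 ^ (n : ℕ) := Nat.pow_le_pow_right (by norm_num) n.pos
  subst h0
  rw [← hn] at h1
  simp at h1

theorem countD4 {q : ℕ} (hK : Fintype.card F = q ^ 3) :
    (ConjClasses.mk '' {x : ↥(TwD4.tw F q) | orderOf x = 2}).ncard = 2 := by
  have hq := two_pow_of_card hK (by norm_num)
  have hT : Tables (TwD4.X hq hK) D4Data.symA.π :=
    ⟨fun b _ => rfl, TwD4.blocks hq hK, fun r _ => rfl, fun r hr => by
      show (D4Data.symA.ζ.getD r 1 : F) * TwD4.psi hq hK 1 = 1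
      rw [sign_one ((sym_facts _ _ D4Data.symA_ok).2.2 r hr).2.2.2.1, map_one, one_mul]⟩
  exact countT hT TwInvD4.clsOK (fun t ht => ⟨t, ht, 1, one_mem _, by simp⟩)
    TwInvD4.repsOK TwInvD4.repsFixOK

theorem countF4 {m : ℕ} (hK : Fintype.card F = 2 ^ (2 * m + 1)) :
    (ConjClasses.mk '' {x : ↥(TwF4.tw F (2 ^ m)) | orderOf x = 2}).ncard = 2 := by
  have hT : Tables (TwF4.X hK) F4Data.isog.π :=
    ⟨fun b _ => rfl, TwF4.blocks hK, fun r _ => rfl, fun r hr => by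
      show isoφ F4Data.isog (TwF4.psi m) r (1 : F) = 1
      rw [isoφ_eq TwF4.facts _ hr, sign_one (TwF4.facts.root r hr).2.2.2.2.1, map_one, one_pow,
        one_mul]⟩
  exact countT hT TwInvF4.clsOK (fun t ht => ⟨t, ht, 1, one_mem _, by simp⟩)
    TwInvF4.repsOK TwInvF4.repsFixOK

theorem exists_trace_one {q : ℕ} (hq : IsPrimePow q) (hK : Fintype.card F = q ^ 2) :
    ∃ t : F, t + t ^ q = 1 := by
  have hne : ∃ a : F, a ^ q ≠ a := by
    by_contra h
    simp only [not_exists, not_not] at h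
    have h1 := TwField.card_fixed hq.one_lt hK
    rw [Nat.card_congr (Equiv.subtypeUnivEquiv h), Nat.card_eq_fintype_card, hK] at h1
    nlinarith [hq.one_lt]
  obtain ⟨a, ha⟩ := hne
  have hs : a + a ^ q ≠ 0 := fun h => ha (by
    have := eq_neg_of_add_eq_zero_right h
    rwa [CharTwo.neg_eq] at this)
  have hfix : (a + a ^ q) ^ q = a + a ^ q := by
    have h := map_add (TwE6.psi hq hK) a (a ^ q)
    rw [TwE6.psi_apply, TwE6.psi_apply, TwE6.psi_apply, TwE6.pow_two_q hK] at h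
    rw [h, add_comm]
  exact ⟨a / (a + a ^ q), by rw [div_pow, hfix, ← add_div, div_self hs]⟩

theorem linkE6 {q : ℕ} (hK : Fintype.card F = q ^ 2) :
    ∃ h ∈ TwE6.tw F q,
      h * pv TwE6.g0 F [66, 68] * h⁻¹ = pv TwE6.g0 F [66, 68, 69] := by
  obtain ⟨t, ht⟩ := exists_trace_one (two_pow_of_card hK (by norm_num)) hK
  have hsmp : E6Data.tab.smp 2 = 42 ∧ E6Data.tab.smp 4 = 37 := by decide +kernel
  refine ⟨TwE6.eP F q 2 4 t, TwE6.eP_mem (Or.inl ⟨rfl, rfl⟩) t, ?_⟩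
  have hc : mEqB E6Data.tab [(42, 1, 0), (37, 0, 1), (66, 0, 0), (68, 0, 0), (37, 0, 1), (42, 1, 0)]
      [(66, 0, 0), (68, 0, 0), (69, 1, 0), (69, 0, 1)] = true := by decide +kernel
  have e := mEqB_val TwE6.gA t (t ^ q) hc
  simp only [mWord, mVal, List.map_cons, List.map_nil, List.prod_cons, List.prod_nil, pow_one,
    pow_zero, mul_one, one_mul] at e
  rw [TwE6.eP, hsmp.1, hsmp.2, _root_.mul_inv_rev, xg_inv, xg_inv, CharTwo.neg_eq, CharTwo.neg_eq]
  simp only [pv, List.map_cons, List.map_nil, List.prod_cons, List.prod_nil, mul_one]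
  have e69 : xg TwE6.g0 69 (1 : F) = xg TwE6.g0 69 t * xg TwE6.g0 69 (t ^ q) := by
    rw [← ht, xg_add]
  rw [e69]
  simp only [mul_assoc] at e ⊢
  exact e

theorem countE6 {q : ℕ} (hK : Fintype.card F = q ^ 2) :
    (ConjClasses.mk '' {x : ↥(TwE6.tw F q) | orderOf x = 2}).ncard = 3 := by
  have hq := two_pow_of_card hK (by norm_num)
  have hT : Tables (TwE6.X hq hK) E6Data.sym.π :=
    ⟨fun b _ => rfl, TwE6.blocks hq hK, fun r _ => rfl, fun r hr => by
      show (E6Data.sym.ζ.getD r 1 : F) * TwE6.psi hq hK 1 = 1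
      rw [sign_one ((sym_facts _ _ E6Data.sym_ok).2.2 r hr).2.2.2.1, map_one, one_mul]⟩
  refine countT hT TwInvE6.clsOK (fun t ht => ?_) TwInvE6.repsOK TwInvE6.repsFixOK
  rcases (by simpa [TwInvE6.targets] using ht :
    t = [71] ∨ t = [60, 71] ∨ t = [53, 65, 69] ∨ t = [66, 68]) with h | h | h | h
  · exact ⟨t, by simp [TwInvE6.reps, h], 1, one_mem _, by simp⟩
  · exact ⟨t, by simp [TwInvE6.reps, h], 1, one_mem _, by simp⟩
  · exact ⟨t, by simp [TwInvE6.reps, h], 1, one_mem _, by simp⟩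
  · subst h
    exact ⟨[60, 71], by simp [TwInvE6.reps], InvC.conj_trans _ (linkE6 hK)
      (path_conjT hT _ _ TwInvE6.linkOK)⟩

end TwInvCount

end Cfsg.Agent.Chev
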