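import Cfsg.Agent.Lib.Lie.TwInvCert
import Cfsg.Agent.Lib.Lie.TwD4

/-! Certificates for the involution classes of the twisted groups of type D4 in characteristic two. -/

set_option autoImplicit false
set_option maxRecDepth 20000
set_option maxHeartbeats 0
set_option Elab.async false

namespace Cfsg.Agent.Chev.TwInvD4

open Tab Tab.InvK Tab.InvR Tab.InvT

/-- mask 0 -/
def c0 : List ℕ × TCert :=
  ([], .good [] [[12, 13, 18, 23]] [3, 1, 2, 0, 1, 3, 0, 1, 2, 0, 1, 0] [11, 10, 5, 0] [17, 20, 21]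
    [⟨[0, 1, 0, 1, 0, 1], [], [12, 13, 18, 23]⟩,
     ⟨[], [19, 16, 15], [12, 13, 18, 22]⟩,
     ⟨[], [21, 20, 17], [12, 13, 18]⟩,
     ⟨[0], [], [15, 16, 19]⟩,
     ⟨[1], [], [17, 20, 21]⟩])

/-- mask 1 -/
def c1 : List ℕ × TCert :=
  ([0], .good [] [[17, 20, 21]] [3, 1, 2, 0, 1, 3, 0, 1, 2, 1, 0] [6, 3, 2] [17, 20, 21]
    [⟨[0, 1, 0, 1, 0, 1], [], [17, 20, 21]⟩])

/-- mask 2 -/
def c2 : List ℕ × TCert :=
  ([1], .good [] [[23]] [1, 2, 0, 1, 3, 1, 2, 0, 1] [0] [23]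
    [⟨[0, 1, 0, 1, 0, 1], [], [23]⟩])

/-- mask 3 -/
def c3 : List ℕ × TCert :=
  ([0, 1, 0, 1, 0, 1], .good [] [] [] [] [] [])

/-- all masks -/
def cls : List (List ℕ × TCert) :=
  [c0, c1, c2, c3]

/-- the longest word -/
def w₀ : List ℕ := [1, 0, 2, 3, 1, 0, 2, 3, 1, 0, 2, 3]

/-- the representatives -/
def reps : List (List ℕ) := [[23], [17, 20, 21]]

/-- the certified targets -/
def targets : List (List ℕ) := [[23], [17, 20, 21]]

/-- the coordinates -/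
def masks : List ℕ := [0xfffffff]

/-- rank certificate -/
def rk0 : RkCert where
  cols := [0x0, 0x8000000, 0x0, 0x0, 0x800000d, 0x40000, 0x80000, 0x100000, 0x200000, 0x0, 0x800000, 0x1000000, 0x2000000, 0x4000000, 0x0, 0x0, 0x0, 0x0, 0x0, 0x0, 0x0, 0x0, 0x0, 0x0, 0x0, 0x0, 0x0, 0x0]
  basis := [(0x8000000, 27), (0x4000000, 26), (0x2000000, 25), (0x1000000, 24), (0x800000, 23), (0x200000, 21), (0x100000, 20), (0x80000, 19), (0x40000, 18), (0xd, 3)]
  colExp := [0x0, 0x1, 0x0, 0x0, 0x201, 0x100, 0x80, 0x40, 0x20, 0x0, 0x10, 0x8, 0x4, 0x2, 0x0, 0x0, 0x0, 0x0, 0x0, 0x0, 0x0, 0x0, 0x0, 0x0, 0x0, 0x0, 0x0, 0x0]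
  basExp := [0x2, 0x2000, 0x1000, 0x800, 0x400, 0x100, 0x80, 0x40, 0x20, 0x12]

/-- rank certificate -/
def rk1 : RkCert where
  cols := [0x3200000, 0x0, 0x3200000, 0x3200000, 0x4431900, 0x898c200, 0x2000007, 0x100000b, 0x4030000, 0x8180000, 0x20000e, 0x4410000, 0x4420000, 0x0, 0x8880000, 0x8900000, 0x4000000, 0x4000000, 0x0, 0x8000000, 0x8000000, 0x0, 0x4000000, 0x8000000, 0x0, 0x0, 0x0, 0x0]
  basis := [(0x898c200, 27), (0x4431900, 26), (0x3200000, 25), (0x1200007, 24), (0x80c200, 23), (0x401900, 22), (0x20000c, 21), (0x10c200, 20), (0x8c200, 19), (0x21900, 17), (0x11900, 16), (0x2, 1)]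
  colExp := [0x4, 0x0, 0x4, 0x4, 0x2, 0x1, 0xc, 0x48, 0x22, 0x11, 0x840, 0x202, 0x402, 0x0, 0x81, 0x101, 0x622, 0x622, 0x0, 0x191, 0x191, 0x0, 0x622, 0x191, 0x0, 0x0, 0x0, 0x0]
  basExp := [0x20, 0x10, 0x1, 0x41, 0x220, 0x110, 0xc1, 0x4020, 0x8020, 0x810, 0x1010, 0x4c1]

/-- all rank certificates -/
def rks : List (List RkCert) := [[rk0], [rk1]]

theorem repsOK : checkReps D4Data.tab masks reps rks = true := by decide +kernel

theorem repsFixOK : checkRepsT D4Data.tab D4Data.symA.π reps = true := by decide +kernel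

theorem longOK : checkLongT D4Data.tab w₀ = true := by decide +kernel

theorem maskOK0 : checkEntryT D4Data.tab D4Data.symA.π TwD4.wd TwD4.wd 2 targets w₀ 0 c0 = true := by
  decide +kernel

theorem maskOK1 : checkEntryT D4Data.tab D4Data.symA.π TwD4.wd TwD4.wd 2 targets w₀ 1 c1 = true := by
  decide +kernel

theorem maskOK2 : checkEntryT D4Data.tab D4Data.symA.π TwD4.wd TwD4.wd 2 targets w₀ 2 c2 = true := by
  decide +kernel

theorem maskOK3 : checkEntryT D4Data.tab D4Data.symA.π TwD4.wd TwD4.wd 2 targets w₀ 3 c3 = true := by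
  decide +kernel

theorem clsOK : checkClsT D4Data.tab D4Data.symA.π TwD4.wd TwD4.wd 2 targets w₀ cls = true := by
  refine checkClsT_intro _ longOK fun m hm => ?_
  change m < 4 at hm
  interval_cases m
  · exact maskOK0
  · exact maskOK1
  · exact maskOK2
  · exact maskOK3

end Cfsg.Agent.Chev.TwInvD4
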