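import Cfsg.Agent.Lib.Lie.TwInvCount
import Cfsg.Agent.Lib.Lie.TitsSyl

/-!
# The involution classes of the Tits group

An involution of `²F₄(2)` commutes with an element outside the Tits group, so its class does not
split there.
-/

set_option autoImplicit false
set_option maxRecDepth 20000
set_option maxHeartbeats 400000

namespace Cfsg.Agent.Chev.TwInvTits

open Cfsg.Lie Tab Tab.InvK Tab.InvR Tab.InvT Tits

/-- the roots spelling a word in the five generators -/
def rootsOf (w : List (Fin 5)) : List ℕ := w.flatMap fun i => (gWord i).map Prod.fst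

theorem gWord_one : ∀ i, ∀ e ∈ gWord i, e.2 = 1 := by decide +kernel

theorem valW_pv : ∀ w : List (Fin 5),
    (valW w : GL F4Data.tab.D.Idx K2) = pv TwF4.g0 K2 (rootsOf w)
  | [] => by simp [valW, rootsOf]
  | i :: w => by
    rw [show valW (i :: w) = gen i * valW w by simp [valW], Subgroup.coe_mul, valW_pv w, rootsOf,
      rootsOf, List.flatMap_cons, pv_append]
    congr 1
    show cWordVal TwF4.g0 K2 (gWord i) = _
    rw [cWordVal, pv, List.map_map]
    congr 1
    refine List.map_congr_left fun e he => ?_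
    simp [gWord_one i e he]

theorem commOK0 : checkEqW F4Data.tab (rootsOf [4] ++ [28, 30]) ([28, 30] ++ rootsOf [4]) = true := by
  decide +kernel

theorem commOK1 : checkEqW F4Data.tab (rootsOf [3, 2, 4, 2, 3] ++ [39, 45])
    ([39, 45] ++ rootsOf [3, 2, 4, 2, 3]) = true := by decide +kernel

theorem exists_outside_rep : ∀ t ∈ TwInvF4.targets,
    ∃ c : ↥TW, c ∉ commutator ↥TW ∧
      (c : GL F4Data.tab.D.Idx K2) * pv TwF4.g0 K2 t = pv TwF4.g0 K2 t * c := by
  intro t ht
  simp only [TwInvF4.targets, List.mem_cons, List.not_mem_nil, or_false] at ht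
  rcases ht with rfl | rfl
  · refine ⟨valW [4], fun h => absurd ((valW_mem _).1 h) (by decide), ?_⟩
    have := checkEqW_spec (F := K2) TwF4.g0 commOK0
    rwa [pv_append, pv_append, ← valW_pv] at this
  · refine ⟨valW [3, 2, 4, 2, 3], fun h => absurd ((valW_mem _).1 h) (by decide), ?_⟩
    have := checkEqW_spec (F := K2) TwF4.g0 commOK1
    rwa [pv_append, pv_append, ← valW_pv] at this

theorem exists_outside {x : ↥TW} (hx : orderOf x = 2) :
    ∃ c : ↥TW, c ∉ commutator ↥TW ∧ c * x = x * c := by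
  have hT : Tables (TwF4.X (F := K2) Tits.cardK) F4Data.isog.π :=
    ⟨fun b _ => rfl, TwF4.blocks Tits.cardK, fun r _ => rfl, fun r hr => by
      show isoφ F4Data.isog (TwF4.psi 0) r (1 : K2) = 1
      rw [isoφ_eq TwF4.facts _ hr, TwInvCount.sign_one (TwF4.facts.root r hr).2.2.2.2.1, map_one,
        one_pow, one_mul]⟩
  have hxx : x * x = 1 := by
    have := pow_orderOf_eq_one x
    rwa [hx, pow_two] at this
  have hne : (x : GL F4Data.tab.D.Idx K2) ≠ 1 := fun e => by
    rw [show x = 1 from Subtype.ext e, orderOf_one] at hx; omega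
  have hxx' : (x : GL F4Data.tab.D.Idx K2) * (x : GL F4Data.tab.D.Idx K2) = 1 := by
    rw [← Subgroup.coe_mul, hxx, Subgroup.coe_one]
  have hmem : (x : GL F4Data.tab.D.Idx K2) ∈ TwF4.tw K2 (2 ^ 0) := x.2
  obtain ⟨t, ht, h, hh, e⟩ := cls_coverT (x := (x : GL F4Data.tab.D.Idx K2)) hT TwInvF4.clsOK
    hmem hxx' hne
  obtain ⟨c, hc, hcomm⟩ := exists_outside_rep t ht
  let k : ↥TW := ⟨h, hh⟩
  refine ⟨k⁻¹ * c * k, fun hm => hc ?_, Subtype.ext ?_⟩
  · have := Subgroup.Normal.conj_mem (inferInstance : (commutator ↥TW).Normal) _ hm k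
    simpa [mul_assoc] using this
  · show h⁻¹ * (c : GL F4Data.tab.D.Idx K2) * h * (x : GL F4Data.tab.D.Idx K2) =
      (x : GL F4Data.tab.D.Idx K2) * (h⁻¹ * (c : GL F4Data.tab.D.Idx K2) * h)
    calc _ = h⁻¹ * ((c : GL F4Data.tab.D.Idx K2) * (h * (x : GL F4Data.tab.D.Idx K2) * h⁻¹)) * h := by
          group
      _ = h⁻¹ * ((h * (x : GL F4Data.tab.D.Idx K2) * h⁻¹) * c) * h := by rw [e, hcomm]
      _ = _ := by group

/-- the Tits group has two classes of involutions -/
theorem countTits :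
    (ConjClasses.mk '' {x : ↥(commutator ↥TW) | orderOf x = 2}).ncard = 2 := by
  have hmap : Set.InjOn (ConjClasses.map (commutator ↥TW).subtype)
      (ConjClasses.mk '' {x : ↥(commutator ↥TW) | orderOf x = 2}) := by
    rintro _ ⟨x, hx, rfl⟩ _ ⟨y, -, rfl⟩ hxy
    have hxy' : IsConj (x : ↥TW) (y : ↥TW) := ConjClasses.mk_eq_mk_iff_isConj.1 hxy
    obtain ⟨h, e⟩ := isConj_iff.1 hxy'
    refine ConjClasses.mk_eq_mk_iff_isConj.2 (isConj_iff.2 ?_)
    by_cases hm : h ∈ commutator ↥TW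
    · exact ⟨⟨h, hm⟩, Subtype.ext e⟩
    · have hx' : orderOf (x : ↥TW) = 2 := by rwa [Subgroup.orderOf_coe]
      obtain ⟨c, hc, hcx⟩ := exists_outside hx'
      refine ⟨⟨h * c, (Subgroup.mul_mem_iff_of_index_two index_two).2 (by simp [hm, hc])⟩,
        Subtype.ext ?_⟩
      show h * c * (x : ↥TW) * (h * c)⁻¹ = (y : ↥TW)
      rw [← e, mul_assoc h c, hcx]
      group
  rw [← hmap.ncard_image]
  refine Eq.trans ?_ (TwInvCount.countF4 (F := K2) (m := 0) Tits.cardK)
  congr 1
  ext z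
  constructor
  · rintro ⟨_, ⟨x, hx, rfl⟩, rfl⟩
    exact ⟨(x : ↥TW), by rw [Set.mem_setOf_eq, Subgroup.orderOf_coe]; exact hx, rfl⟩
  · rintro ⟨x, hx, rfl⟩
    refine ⟨_, ⟨⟨x, involution_mem x hx⟩, ?_, rfl⟩, rfl⟩
    rw [Set.mem_setOf_eq, Subgroup.orderOf_mk]
    exact hx

end Cfsg.Agent.Chev.TwInvTits
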