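/-
The centre of the Weyl group of a tabulated datum.
-/
import Cfsg.Agent.Lib.Lie.ChevCoxeter

set_option autoImplicit false

namespace Cfsg.Agent.Chev

open Cfsg.Lie

namespace Tab

/-- `j` is linked to the first node in at most `k` steps -/
def reach (T : Tab) : ℕ → ℕ → Bool
  | 0, i => Nat.beq i 0
  | k + 1, i => T.reach k i ||
      anyBelow (fun j => T.reach k j && !(T.A i (T.smp j) == 0) && !(T.A j (T.smp i) == 0)) T.l

/-- the diagram is connected -/
def checkConnW (T : Tab) : Bool := allBelow (fun i => T.reach T.l i) T.l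

/-- the roots reversed by a simple reflection are plus or minus its own root -/
def checkFix (T : Tab) : Bool :=
  allBelow (fun i => allBelow (fun s =>
    !Nat.beq (T.ref i s) (T.neg s) || Nat.beq s (T.smp i) || Nat.beq s (T.neg (T.smp i))) T.n) T.l

/-- a word acting as `-1` and commuting with every simple reflection -/
def checkMinus (T : Tab) (L : List ℕ) : Bool :=
  L.all (fun i => Nat.blt i T.l) &&
    allBelow (fun i => Nat.beq (T.rw' L (T.smp i)) (T.neg (T.smp i)) &&
      listBeq (T.keyL (L ++ [i])) (T.keyL ([i] ++ L))) T.l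

/-- a longest word which does not act as `-1` -/
def checkNoMinus (T : Tab) (L : List ℕ) : Bool :=
  L.all (fun i => Nat.blt i T.l) &&
    allBelow (fun i => Nat.blt (T.rw' L (T.smp i)) T.N) T.l &&
    anyBelow (fun i => !Nat.beq (T.rw' L (T.smp i)) (T.neg (T.smp i))) T.l

variable {T : Tab}

theorem A_rw'_combW (g : T.Good) {L : List ℕ} (hL : T.Wd L) {a b c : ℕ} {x : ℤ} (ha : a < T.n)
    (hb : b < T.n) (hc : c < T.n) (h : ∀ k < T.l, T.A k c = T.A k b - x * T.A k a) :
    ∀ k < T.l, T.A k (T.rw' L c) = T.A k (T.rw' L b) - x * T.A k (T.rw' L a) := by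
  induction L with
  | nil => exact h
  | cons i L ih =>
    obtain ⟨hi, hL'⟩ := Wd.cons_iff.1 hL
    intro k hk
    rw [rw'_cons, rw'_cons, rw'_cons, A_ref g hi hk (rw'_lt g hL' hc), A_ref g hi hk (rw'_lt g hL' hb),
      A_ref g hi hk (rw'_lt g hL' ha), ih hL' k hk, ih hL' i hi]
    ring

theorem neg_smp_ne (g : T.Good) {i : ℕ} (hi : i < T.l) : T.neg (T.smp i) ≠ T.smp i := by
  have := (neg_lt_N_iff (g.smp_lt hi)).2 (g.smp_ge hi)
  have := g.smp_ge hi
  omega

section Central

variable (g : T.Good) {L : List ℕ} (hL : T.Wd L)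
  (hcomm : ∀ i < T.l, ∀ s < T.n, T.rw' L (T.ref i s) = T.ref i (T.rw' L s))

include g hL hcomm

theorem central_smp (hfix : T.checkFix = true) {i : ℕ} (hi : i < T.l) :
    T.rw' L (T.smp i) = T.smp i ∨ T.rw' L (T.smp i) = T.neg (T.smp i) := by
  have h := allBelow_eq_true.1 (allBelow_eq_true.1 hfix i hi) _ (rw'_lt g hL (g.smp_lt hi))
  have e := hcomm i hi _ (g.smp_lt hi)
  rw [g.ref_smp hi, rw'_neg g hL (g.smp_lt hi)] at e
  simp only [Bool.or_eq_true, Bool.not_eq_true', nat_beq, nat_beq_false] at h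
  rcases h with (h | h) | h
  · exact absurd e.symm h
  · exact Or.inl h
  · exact Or.inr h

theorem central_same (hfix : T.checkFix = true) {i j : ℕ} (hi : i < T.l) (hj : j < T.l)
    (hA : T.A i (T.smp j) ≠ 0) (h : T.rw' L (T.smp i) = T.smp i) : T.rw' L (T.smp j) = T.smp j := by
  rcases central_smp g hL hcomm hfix hj with h' | h'
  · exact h'
  exfalso
  have hc := g.ref_lt hi (g.smp_lt hj)
  have key := A_rw'_combW g hL (a := T.smp i) (b := T.smp j) (c := T.ref i (T.smp j))
    (x := T.A i (T.smp j)) (g.smp_lt hi) (g.smp_lt hj) hc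
    (fun k hk => by rw [A_ref g hi hk (g.smp_lt hj)]; ring) i hi
  rw [hcomm i hi _ (g.smp_lt hj), h', h, g.ref_neg hi (g.smp_lt hj),
    ((g.sign' hc).1 i hi).2.2.2, ((g.sign' (g.smp_lt hj)).1 i hi).2.2.2,
    A_ref_self g hi (g.smp_lt hj), A_smp_self g hi] at key
  omega

theorem central_cases (hfix : T.checkFix = true) (hconn : T.checkConnW = true) :
    (∀ i < T.l, T.rw' L (T.smp i) = T.smp i) ∨ ∀ i < T.l, T.rw' L (T.smp i) = T.neg (T.smp i) := by
  by_cases hl : 0 < T.l
  swap
  · exact Or.inl fun i hi => absurd hi (by omega)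
  have step : ∀ k i, i < T.l → T.reach k i = true →
      (T.rw' L (T.smp i) = T.smp i ↔ T.rw' L (T.smp 0) = T.smp 0) := by
    intro k
    induction k with
    | zero =>
      intro i _ h
      simp only [reach, nat_beq] at h
      rw [h]
    | succ k ih =>
      intro i hi h
      simp only [reach, Bool.or_eq_true] at h
      rcases h with h | h
      · exact ih i hi h
      obtain ⟨j, hj, h⟩ := anyBelow_eq_true.1 h
      simp only [Bool.and_eq_true, Bool.not_eq_true', beq_eq_false_iff_ne] at h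
      exact Iff.trans ⟨fun h1 => central_same g hL hcomm hfix hi hj h.1.2 h1,
        fun h1 => central_same g hL hcomm hfix hj hi h.2 h1⟩ (ih j hj h.1.1)
  by_cases h0 : T.rw' L (T.smp 0) = T.smp 0
  · exact Or.inl fun i hi => (step T.l i hi (allBelow_eq_true.1 hconn i hi)).2 h0
  · exact Or.inr fun i hi => (central_smp g hL hcomm hfix hi).resolve_left
      fun h => h0 ((step T.l i hi (allBelow_eq_true.1 hconn i hi)).1 h)

end Central

section Cox

variable (g : T.GoodA) {M : CoxeterMatrix (Fin T.l)}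

include g

/-- the faithful action of the Coxeter group on the roots -/
theorem exists_perm (hM : ∀ i j : Fin T.l, T.checkOrd [(i : ℕ), (j : ℕ)] (M i j) = true) :
    ∃ Φ : M.Group →* Equiv.Perm (Fin T.n), Function.Injective Φ ∧
      (∀ w : List (Fin T.l), Φ (w.map M.simple).prod = pL g.toGood (w.map fun i : Fin T.l => (i : ℕ))) ∧
      ∀ x, Φ x ∈ wG g.toGood := by
  refine ⟨(wToPerm g ℚ).comp (coxEquiv g ℚ hM).symm.toMonoidHom,
    (wToPerm_injective g ℚ).comp (coxEquiv g ℚ hM).symm.injective, fun w => ?_, fun x => ?_⟩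
  · induction w with
    | nil => rw [List.map_nil, List.prod_nil, map_one]; rfl
    | cons i L ih =>
      rw [List.map_cons, List.prod_cons, map_mul, ih, List.map_cons, pL_cons]
      congr 1
      show wToPerm g ℚ ((coxEquiv g ℚ hM).symm (M.simple i)) = _
      rw [coxEquiv_symm_simple, wToPerm_σ, pL_cons, pL_nil, mul_one]
  · rw [← wToPerm_range g ℚ]; exact ⟨_, rfl⟩

theorem center_cases (hM : ∀ i j : Fin T.l, T.checkOrd [(i : ℕ), (j : ℕ)] (M i j) = true)
    (hfix : T.checkFix = true) (hconn : T.checkConnW = true) {z : M.Group}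
    (hz : z ∈ Subgroup.center M.Group) :
    z = 1 ∨ ∃ Φ : M.Group →* Equiv.Perm (Fin T.n), Function.Injective Φ ∧
      (∀ w : List (Fin T.l), Φ (w.map M.simple).prod = pL g.toGood (w.map fun i : Fin T.l => (i : ℕ))) ∧
      ∃ L, T.Wd L ∧ Φ z = pL g.toGood L ∧ ∀ i < T.l, T.rw' L (T.smp i) = T.neg (T.smp i) := by
  obtain ⟨Φ, hinj, hw, hmem⟩ := exists_perm g hM
  obtain ⟨L, hL, hLz⟩ := hmem z
  have hcomm : ∀ i < T.l, ∀ s < T.n, T.rw' L (T.ref i s) = T.ref i (T.rw' L s) := by
    intro i hi s hs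
    have h1 := congrArg Φ (Subgroup.mem_center_iff.1 hz (([⟨i, hi⟩] : List (Fin T.l)).map M.simple).prod)
    rw [map_mul, map_mul, hw, ← hLz, ← pL_append, ← pL_append] at h1
    have h2 := (pL_eq_iff g.toGood (Wd.append_iff.2 ⟨by simp [Wd, hi], hL⟩)
      (Wd.append_iff.2 ⟨hL, by simp [Wd, hi]⟩)).1 h1 s hs
    rw [rw'_append, rw'_append] at h2
    exact h2.symm
  rcases central_cases g.toGood hL hcomm hfix hconn with h | h
  · left
    apply hinj
    rw [map_one, ← hLz, ← pL_nil g.toGood]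
    exact pL_eq_of_simple g.toGood hL (by simp [Wd]) h
  · exact Or.inr ⟨Φ, hinj, hw, L, hL, hLz.symm, h⟩

theorem center_minus (hM : ∀ i j : Fin T.l, T.checkOrd [(i : ℕ), (j : ℕ)] (M i j) = true)
    (hfix : T.checkFix = true) (hconn : T.checkConnW = true) (h : ℕ) (hl : 0 < T.l)
    (hminus : T.checkMinus (repW ((List.finRange T.l).map fun i : Fin T.l => (i : ℕ)) h) = true) :
    Nat.card (Subgroup.center M.Group) = 2 ∧
      Subgroup.center M.Group ≤ Subgroup.zpowers ((List.finRange T.l).map M.simple).prod := by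
  obtain ⟨c, hc⟩ : ∃ c, ((List.finRange T.l).map M.simple).prod = c := ⟨_, rfl⟩
  obtain ⟨W, hW⟩ : ∃ W, repW ((List.finRange T.l).map fun i : Fin T.l => (i : ℕ)) h = W := ⟨_, rfl⟩
  rw [hW] at hminus
  rw [hc]
  simp only [checkMinus, Bool.and_eq_true, List.all_eq_true, nat_blt, allBelow_eq_true, nat_beq] at hminus
  obtain ⟨hWd, hprop⟩ := hminus
  have hΦc : ∀ (Φ : M.Group →* Equiv.Perm (Fin T.n)),
      (∀ w : List (Fin T.l), Φ (w.map M.simple).prod = pL g.toGood (w.map fun i : Fin T.l => (i : ℕ))) →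
      Φ (c ^ h) = pL g.toGood W := fun Φ hw => by
    rw [map_pow, ← hc, hw, ← hW, pL_repW]
  obtain ⟨Φ, hinj, hw, -⟩ := exists_perm g hM
  have hne : c ^ h ≠ 1 := by
    intro he
    have h1 := hΦc Φ hw
    rw [he, map_one, ← pL_nil g.toGood] at h1
    have h2 := (pL_eq_iff g.toGood (by simp [Wd]) hWd).1 h1 _ (g.toGood.smp_lt hl)
    rw [(hprop 0 hl).1, rw'_nil] at h2
    exact neg_smp_ne g.toGood hl h2.symm
  have hcen : c ^ h ∈ Subgroup.center M.Group := by
    rw [Subgroup.mem_center_iff]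
    intro x
    have key : (Subgroup.centralizer {c ^ h} : Subgroup M.Group) = ⊤ := by
      rw [eq_top_iff, ← M.toCoxeterSystem.subgroup_closure_range_simple, Subgroup.closure_le]
      rintro _ ⟨i, rfl⟩
      rw [SetLike.mem_coe, Subgroup.mem_centralizer_singleton_iff, CoxeterMatrix.toCoxeterSystem_simple]
      apply hinj
      have hsimp : Φ (M.simple i) = pL g.toGood [(i : ℕ)] := by simpa using hw [i]
      rw [map_mul, map_mul, hΦc Φ hw, hsimp, ← pL_append, ← pL_append]
      exact pL_eq_of_simple g.toGood (Wd.append_iff.2 ⟨by simp [Wd], hWd⟩)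
        (Wd.append_iff.2 ⟨hWd, by simp [Wd]⟩)
        (keyL_eq.1 (listBeq_iff.1 (hprop i i.isLt).2).symm)
    exact Subgroup.mem_centralizer_singleton_iff.1 (key ▸ Subgroup.mem_top x)
  have hall : ∀ z ∈ Subgroup.center M.Group, z = 1 ∨ z = c ^ h := by
    intro z hz
    refine (center_cases g hM hfix hconn hz).imp_right ?_
    rintro ⟨Φ', hinj', hw', L, hL, hLz, hneg⟩
    apply hinj'
    rw [hLz, hΦc Φ' hw']
    exact pL_eq_of_simple g.toGood hL hWd fun i hi => (hneg i hi).trans (hprop i hi).1.symm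
  refine ⟨?_, fun z hz => ?_⟩
  · show Nat.card ↥(Subgroup.center M.Group : Set M.Group) = 2
    rw [Nat.card_coe_set_eq, show (Subgroup.center M.Group : Set M.Group) = {1, c ^ h} from Set.ext fun z =>
      ⟨fun hz => hall z hz, fun hz => by rcases hz with rfl | rfl <;> [exact one_mem _; exact hcen]⟩]
    exact Set.ncard_pair hne.symm
  · rcases hall z hz with rfl | rfl
    · exact one_mem _
    · exact Subgroup.pow_mem _ (Subgroup.mem_zpowers c) h

theorem center_trivial (hM : ∀ i j : Fin T.l, T.checkOrd [(i : ℕ), (j : ℕ)] (M i j) = true)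
    (hfix : T.checkFix = true) (hconn : T.checkConnW = true) (W : List ℕ)
    (hno : T.checkNoMinus W = true) (c : M.Group) :
    Nat.card (Subgroup.center M.Group) = 1 ∧ Subgroup.center M.Group ≤ Subgroup.zpowers c := by
  simp only [checkNoMinus, Bool.and_eq_true, List.all_eq_true, nat_blt, allBelow_eq_true,
    Bool.not_eq_true', nat_beq_false] at hno
  obtain ⟨⟨hWd, hneg⟩, hex⟩ := hno
  obtain ⟨i, hi, hne⟩ := anyBelow_eq_true.1 hex
  rw [Bool.not_eq_true', nat_beq_false] at hne
  have hbot : Subgroup.center M.Group = ⊥ := by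
    rw [eq_bot_iff]
    intro z hz
    rw [Subgroup.mem_bot]
    refine (center_cases g hM hfix hconn hz).resolve_right ?_
    rintro ⟨Φ, -, -, L, hL, -, hLneg⟩
    have hg := g.toGood
    have hWL : T.Wd (W ++ L) := Wd.append_iff.2 ⟨hWd, hL⟩
    have hpos : ∀ k < T.l, T.N ≤ T.rw' (W ++ L) (T.smp k) := fun k hk => by
      rw [rw'_append, hLneg k hk, rw'_neg hg hWd (hg.smp_lt hk), N_le_neg_iff (rw'_lt hg hWd (hg.smp_lt hk))]
      exact hneg k hk
    have hid := (nWd_torus_of_pos (F := ℚ) hg _ le_rfl hWL (rw'_id_of_simple hg hWL hpos)).2 _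
      (hg.smp_lt hi)
    rw [rw'_append, hLneg i hi, rw'_neg hg hWd (hg.smp_lt hi)] at hid
    exact hne (by rw [← neg_neg (rw'_lt hg hWd (hg.smp_lt hi)), hid])
  exact ⟨by rw [hbot, Subgroup.card_bot], hbot ▸ bot_le⟩

end Cox

end Tab

end Cfsg.Agent.Chev
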